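import Mathlib

set_option autoImplicit false

namespace CfsgLib.Known

variable {K : Type*} [Field K]

/-- A finite-dimensional space with a non-degenerate alternating form has even dimension. -/
theorem even_finrank_of_alt_nondeg :
    ∀ (n : ℕ) {V : Type*} [AddCommGroup V] [Module K V] [FiniteDimensional K V],
      Module.finrank K V = n → ∀ B : V →ₗ[K] V →ₗ[K] K, (∀ x, B x x = 0) →
      (∀ x, (∀ y, B x y = 0) → x = 0) → Even n := by
  intro n
  induction n using Nat.strong_induction_on with
  | _ n ih =>
    intro V _ _ _ hn B halt hnd
    rcases Nat.eq_zero_or_pos n with h0 | hpos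
    · simp [h0]
    have hskew : ∀ x y, B x y = - B y x := by
      intro x y
      have := halt (x + y)
      simp only [map_add, LinearMap.add_apply, halt, zero_add, add_zero] at this
      linear_combination this
    haveI : Nontrivial V := Module.nontrivial_of_finrank_pos (R := K) (by omega)
    obtain ⟨u, hu⟩ := exists_ne (0 : V)
    obtain ⟨v', hv'⟩ : ∃ v', B u v' ≠ 0 := by
      by_contra h
      exact hu (hnd u (by simpa using h))
    set v := (B u v')⁻¹ • v' with hv
    have huv : B u v = 1 := by simp [hv, hv']
    have hvu : B v u = -1 := by rw [hskew, huv]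
    let L : V →ₗ[K] K × K := (B u).prod (B v)
    have hL : Function.Surjective L := by
      intro ⟨a, b⟩
      refine ⟨a • v - b • u, ?_⟩
      simp [L, halt, huv, hvu]
    have hdim := LinearMap.finrank_range_add_finrank_ker L
    rw [LinearMap.range_eq_top.mpr hL, finrank_top, Module.finrank_prod, Module.finrank_self, hn] at hdim
    have := ih (Module.finrank K (LinearMap.ker L)) (by omega) (V := LinearMap.ker L) rfl
      (B.compl₁₂ (LinearMap.ker L).subtype (LinearMap.ker L).subtype)
      (fun x => halt _) ?_
    · obtain ⟨k, hk⟩ := this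
      exact ⟨k + 1, by omega⟩
    · intro x hx
      have hxu : B u (x : V) = 0 := congrArg Prod.fst (LinearMap.mem_ker.mp x.2)
      have hxv : B v (x : V) = 0 := congrArg Prod.snd (LinearMap.mem_ker.mp x.2)
      apply Subtype.ext
      apply hnd
      intro y
      obtain ⟨a, b⟩ := L y
      have key : y - ((B u y) • v - (B v y) • u) ∈ LinearMap.ker L := by
        simp [L, LinearMap.mem_ker, halt, huv, hvu]
      have h2 := hx ⟨_, key⟩
      have e1 : B (x : V) u = 0 := by rw [hskew, hxu, neg_zero]
      have e2 : B (x : V) v = 0 := by rw [hskew, hxv, neg_zero]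
      simpa [LinearMap.compl₁₂_apply, e1, e2] using h2

/-- The rank of a linear map `N` is even when `(x, y) ↦ B x (N y)` is alternating for a
non-degenerate skew form `B`. -/
theorem even_finrank_range_of_alt {V : Type*} [AddCommGroup V] [Module K V] [FiniteDimensional K V]
    (B : V →ₗ[K] V →ₗ[K] K) (halt : ∀ x, B x x = 0) (hnd : ∀ x, (∀ y, B x y = 0) → x = 0)
    (N : V →ₗ[K] V) (hN : ∀ x, B x (N x) = 0) : Even (Module.finrank K (LinearMap.range N)) := by
  set C := B.compl₂ N with hC
  have hCalt : ∀ x, C x x = 0 := fun x => hN x
  have hker : ∀ x, x ∈ LinearMap.ker N → C x = 0 := by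
    intro x hx
    ext y
    have h1 := hCalt (x + y)
    simp only [map_add, LinearMap.add_apply, hCalt, zero_add, add_zero] at h1
    have h2 : C y x = 0 := by simp [hC, LinearMap.mem_ker.mp hx]
    simpa [h2] using h1
  obtain ⟨W, hW⟩ := (LinearMap.ker N).exists_isCompl
  have h := even_finrank_of_alt_nondeg (Module.finrank K W) (V := W) rfl
    (C.compl₁₂ W.subtype W.subtype) (fun x => hCalt _) ?_
  · have e1 := Submodule.finrank_add_eq_of_isCompl hW
    have e2 := LinearMap.finrank_range_add_finrank_ker N
    have : Module.finrank K W = Module.finrank K (LinearMap.range N) := by omega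
    rwa [this] at h
  · intro x hx
    have hCx : ∀ y, C (x : V) y = 0 := by
      intro y
      obtain ⟨k, hk, w, hw, rfl⟩ := Submodule.mem_sup.mp
        (show y ∈ LinearMap.ker N ⊔ W by rw [hW.sup_eq_top]; trivial)
      have h1 := hCalt (k + (x : V))
      simp only [map_add, LinearMap.add_apply, hCalt, zero_add, add_zero, hker k hk,
        LinearMap.zero_apply] at h1
      have h2 : C (x : V) w = 0 := hx ⟨w, hw⟩
      rw [map_add, h2, add_zero]
      simpa using h1
    have hNx : N (x : V) = 0 := by
      apply hnd
      intro y
      have h1 : C y (x : V) = 0 := by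
        have h1 := hCalt (y + (x : V))
        simp only [map_add, LinearMap.add_apply, hCalt, zero_add, add_zero, hCx] at h1
        exact h1
      have h2 := halt (N (x : V) + y)
      simp only [map_add, LinearMap.add_apply, halt, zero_add, add_zero] at h2
      have h3 : B y (N (x : V)) = 0 := h1
      simpa [h3] using h2
    exact Subtype.ext (Submodule.disjoint_def.mp hW.disjoint _ (LinearMap.mem_ker.mpr hNx) x.2)

end CfsgLib.Known
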