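import Mathlib
import Cfsg.Prelude.Def_HallClasses

/-!
Pronormality of subgroups containing a Sylow normalizer, and of Sylow subgroups.
-/

set_option autoImplicit false

namespace CfsgLib.Known

open scoped Pointwise

variable {G : Type*} [Group G] [Finite G]

theorem map_conj_eq_of_mem {H : Subgroup G} {n : G} (hn : n ∈ Subgroup.normalizer (H : Set G)) :
    H.map (MulAut.conj n).toMonoidHom = H := by
  ext y
  rw [Subgroup.mem_map_equiv, MulAut.conj_symm_apply]
  have := Subgroup.mem_normalizer_iff.mp (Subgroup.inv_mem _ hn) y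
  simpa using this.symm

/-- If `S` is a Sylow subgroup of `G` inside `H` and `N_G(S)` normalizes `H`, then `H` is pronormal. -/
theorem isPronormal_of_normalizer_sylow_le {p : ℕ} [Fact p.Prime] (S : Sylow p G) (H : Subgroup G)
    (hS : (S : Subgroup G) ≤ H)
    (hN : Subgroup.normalizer ((S : Subgroup G) : Set G) ≤ Subgroup.normalizer (H : Set G)) :
    Cfsg.IsPronormal H := by
  intro g
  set K := H ⊔ H.map (MulAut.conj g).toMonoidHom with hK
  have h1 : (S : Subgroup G) ≤ K := hS.trans le_sup_left
  have h2 : ((g • S : Sylow p G) : Subgroup G) ≤ K := by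
    refine le_trans ?_ le_sup_right
    rintro x ⟨s, hs, rfl⟩
    exact ⟨s, hS hs, rfl⟩
  obtain ⟨k, hk⟩ := MulAction.exists_smul_eq K (S.subtype h1) ((g • S).subtype h2)
  simp_rw [Sylow.smul_subtype, Subgroup.smul_def] at hk
  have hk' : (k : G) • S = g • S := Sylow.subtype_injective hk
  have hn : (k : G)⁻¹ * g ∈ Subgroup.normalizer (H : Set G) := by
    apply hN
    apply Sylow.smul_eq_iff_mem_normalizer.mp
    rw [mul_smul, ← hk', inv_smul_smul]
  refine ⟨k, k.2, ?_⟩
  conv_lhs => rw [show g = (k : G) * ((k : G)⁻¹ * g) by group, map_mul]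
  rw [show ((MulAut.conj (k : G)) * (MulAut.conj ((k : G)⁻¹ * g))).toMonoidHom
      = (MulAut.conj (k : G)).toMonoidHom.comp (MulAut.conj ((k : G)⁻¹ * g)).toMonoidHom from rfl,
    ← Subgroup.map_map, map_conj_eq_of_mem hn]

end CfsgLib.Known
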