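import Cfsg.Agent.Lib.Known.TwAutFrame
import Cfsg.Agent.Lib.Chev.Twist.BN
import Cfsg.Agent.Lib.BNSteinberg.Chevalley

/-!
# The frame of a twisted group
-/

set_option autoImplicit false
set_option linter.unusedSectionVars false

namespace CfsgLib.Chev

open Cfsg.Lie

universe v

variable {D : ChevalleyDatum} {co : ℕ → ℕ → ℤ} {K : Type v} [Field K] {P : TwPar}

namespace Facts

variable (hF : Facts D co)
include hF

/-- Two words flipping all positive roots give the same permutation. -/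
theorem long_unique {a b : List (Fin D.rank)}
    (ha : ∀ r : Fin D.nroots, D.nroots / 2 ≤ r.val → (sW D a r).val < D.nroots / 2)
    (hb : ∀ r : Fin D.nroots, D.nroots / 2 ≤ r.val → (sW D b r).val < D.nroots / 2) :
    sW D a = sW D b := by
  have key : sW D (a.reverse ++ b) = 1 := by
    refine hF.eq_one_of_pos _ fun r hp => ?_
    rw [sW_append, hF.sW_reverse, Equiv.Perm.mul_apply]
    by_contra hc
    set s := (sW D a)⁻¹ (sW D b r) with hs
    have h1 := ha (hF.negFin s) ((hF.negFin_pos _).2 (not_le.1 hc))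
    rw [hF.sW_neg, hs, Equiv.Perm.coe_inv, Equiv.apply_symm_apply] at h1
    exact absurd ((hF.negFin_pos _).2 (hb r hp)) (not_le.2 h1)
  rw [sW_append, hF.sW_reverse, inv_mul_eq_one] at key
  exact key

end Facts

namespace TwSys

variable {f : K →+* K} {σ : ↥(D.group K) →* GL D.Idx K} {ι : Type} {O : ι → Orb D}
  {G : Subgroup (GL D.Idx K)} (T : TwSys D co P f σ O G)
include T

/-- A word for the longest element. -/
noncomputable def l0 : List (Fin D.rank) := T.exists_w0.choose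

theorem l0_fix : T.sig.WFix (sW D T.l0) := T.exists_w0.choose_spec.1

theorem l0_long : ∀ r : Fin D.nroots, D.nroots / 2 ≤ r.val → (sW D T.l0 r).val < D.nroots / 2 :=
  T.exists_w0.choose_spec.2

/-- The representative of the longest element. -/
noncomputable def nLong : GL D.Idx K := (T.exists_rep rfl T.l0_fix).choose

theorem nLong_mem : T.nLong ∈ G := (T.exists_rep rfl T.l0_fix).choose_spec.1
theorem nLong_monomial : T.nLong ∈ D.monomialSubgroup K :=
  (T.exists_rep rfl T.l0_fix).choose_spec.2.1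
theorem nLong_perm : PermAct T.nLong (sW D T.l0) := (T.exists_rep rfl T.l0_fix).choose_spec.2.2

/-- The unipotent subgroup of a twisted group. -/
noncomputable def uSub (_T : TwSys D co P f σ O G) : Subgroup ↥G :=
  (rootClosure D K (D.nroots / 2 ≤ ·)).subgroupOf G

theorem mem_uSub {g : ↥G} : g ∈ T.uSub ↔ (g : GL D.Idx K) ∈ rootClosure D K (D.nroots / 2 ≤ ·) :=
  Subgroup.mem_subgroupOf

/-- The representatives, as elements of the group. -/
noncomputable def nG (o : ι) : ↥G := ⟨T.nO o, T.nO_mem o⟩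

/-- The longest representative, as an element of the group. -/
noncomputable def n0G : ↥G := ⟨T.nLong, T.nLong_mem⟩

theorem mem_bnB {g : ↥G} : g ∈ T.bnPair.B ↔ (g : GL D.Idx K) ∈ D.borelSubgroup K := by
  show g ∈ (D.borelSubgroup K ⊓ G).subgroupOf G ↔ _
  rw [Subgroup.mem_subgroupOf]
  exact ⟨fun h => h.1, fun h => ⟨h, g.2⟩⟩

theorem mem_bnN {g : ↥G} :
    g ∈ T.bnPair.N ↔ (g : GL D.Idx K) ∈ D.monomialSubgroup K := by
  show g ∈ (D.monomialSubgroup K ⊓ G).subgroupOf G ↔ _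
  rw [Subgroup.mem_subgroupOf]
  exact ⟨fun h => h.1, fun h => ⟨h, g.2⟩⟩

theorem mem_bnH {g : ↥G} : g ∈ T.bnPair.B ⊓ T.bnPair.N ↔
    (g : GL D.Idx K) ∈ D.diagonalSubgroup K := by
  rw [Subgroup.mem_inf, T.mem_bnB, T.mem_bnN, ← T.sig.hF.borel_inf_monomial]
  rfl

theorem diag_normalizes {h u : GL D.Idx K} (hh : h ∈ D.diagonalSubgroup K)
    (hu : u ∈ rootClosure D K (D.nroots / 2 ≤ ·)) :
    h * u * h⁻¹ ∈ rootClosure D K (D.nroots / 2 ≤ ·) :=
  (Subgroup.mem_normalizer_iff.1 (T.sig.hF.diagonal_le_normalizer _ hh) u).1 hu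

theorem borel_normalizes' {b u : GL D.Idx K} (hb : b ∈ D.borelSubgroup K)
    (hu : u ∈ rootClosure D K (D.nroots / 2 ≤ ·)) :
    b * u * b⁻¹ ∈ rootClosure D K (D.nroots / 2 ≤ ·) := by
  obtain ⟨v, hv, h, hh, rfl⟩ := T.sig.hF.mem_borel_iff.1 hb
  rw [show v * h * u * (v * h)⁻¹ = v * (h * u * h⁻¹) * v⁻¹ by group]
  exact Subgroup.mul_mem _ (Subgroup.mul_mem _ hv (T.diag_normalizes hh hu))
    (Subgroup.inv_mem _ hv)

/-- A kept orbit gives an element of the unipotent group which stays there. -/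
theorem exists_kept {n : GL D.Idx K} (hn : n ∈ G) {w : Equiv.Perm (Fin D.nroots)}
    (hw : PermAct n w) (o : ι) (hk : ∀ r : Fin D.nroots, D.nroots / 2 ≤ r.val →
      (O o).InO co r.val → D.nroots / 2 ≤ (w r).val) :
    ∃ c : ↥G, c ∈ T.uSub ∧ c ≠ 1 ∧ n * (c : GL D.Idx K) * n⁻¹ ∈
      rootClosure D K (D.nroots / 2 ≤ ·) := by
  obtain ⟨c, hcG, hc, hc1⟩ := T.exists_posO_ne o
  exact ⟨⟨c, hcG⟩, T.mem_uSub.2 (rootClosure_mono (fun r _ h => h.1) hc),
    fun e => hc1 (congrArg Subtype.val e), (T.conj_posU hn hw o hk hcG hc).2⟩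

/-- An element whose Weyl element moves some positive root of every orbit is opposite. -/
theorem long_of_all {w : Equiv.Perm (Fin D.nroots)} {l : List (Fin D.rank)} (hl : w = sW D l)
    (h : ∀ o, ∀ r : Fin D.nroots, D.nroots / 2 ≤ r.val → (O o).InO co r.val →
      (w r).val < D.nroots / 2) : w = sW D T.l0 := by
  have hF := T.sig.hF
  rw [hl]
  refine hF.long_unique (fun r hr => ?_) T.l0_long
  refine hF.neg_of_sub (J := Set.univ) (fun i _ => ?_) hr fun q _ hqJ => absurd (Set.mem_univ _) hqJ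
  obtain ⟨o, ho⟩ := T.orb.cover i
  have := h o (hF.simpleFin i) (hF.simple_lt i.val i.isLt).1
    ((hF.inSub_simple i.isLt).2 ⟨i, ho, rfl⟩)
  rwa [hl] at this

variable [Finite K]

/-- The split Tits system of a twisted group in characteristic `p`. -/
theorem split (p : ℕ) [Fact p.Prime] [CharP K p] :
    BNSteinberg.Split T.bnPair p T.uSub := by
  have hF := T.sig.hF
  refine ⟨fun g hg => T.mem_bnB.2 (hF.pos_le_borel (T.mem_uSub.1 hg)), ?_, ?_, ?_, ?_, ?_, ?_⟩
  · intro b hb u hu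
    exact T.mem_uSub.2 (T.borel_normalizes' (T.mem_bnB.1 hb) (T.mem_uSub.1 hu))
  · haveI := Fintype.ofFinite K
    obtain ⟨e, -, hcard⟩ := FiniteField.card K p
    have hU : IsPGroup p ↥(rootClosure D K (D.nroots / 2 ≤ ·)) := by
      refine IsPGroup.of_card (n := e * (D.nroots / 2)) ?_
      rw [← Nat.card_congr (Equiv.ofBijective _ (hF.bijective_ordered T.sig.hC)),
        Nat.card_eq_fintype_card, Fintype.card_fun, Fintype.card_fin, hcard, ← pow_mul]
    exact hU.comap_of_injective G.subtype G.subtype_injective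
  · intro b hb
    obtain ⟨u, huG, hu, h, hhG, hh, e⟩ := T.mem_B b.2 (T.mem_bnB.1 hb)
    exact ⟨⟨u, huG⟩, T.mem_uSub.2 hu, ⟨h, hhG⟩, T.mem_bnH.2 hh, Subtype.ext e⟩
  · intro h hh k hk
    obtain ⟨c, hc'⟩ := hF.mem_diagonal_iff.1 (T.mem_bnH.1 hh)
    have hc : (h : GL D.Idx K) = hT D c := hc'
    have hk' : (h : GL D.Idx K) ^ p ^ k = 1 := by
      simpa using congrArg Subtype.val hk
    rw [hc, hT, BNSteinberg.dU_pow] at hk'
    refine Subtype.ext ?_
    rw [hc, hT, OneMemClass.coe_one, ← dU_one]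
    refine dU_congr fun r hr => Units.ext ?_
    have h1 := congrArg Units.val (BNSteinberg.dU_eq_one hk' hr)
    simp only [Units.val_pow_eq_pow_val, Units.val_one] at h1
    have h2 := sub_pow_char_pow (p := p) (n := k)
      (((∏ i ∈ Finset.range D.rank, c i ^ D.cartan i r : Kˣ) : K)) 1
    rw [one_pow, h1, sub_self] at h2
    exact sub_eq_zero.1 (pow_eq_zero_iff (pow_ne_zero _ (Fact.out : p.Prime).ne_zero) |>.1 h2)
  · intro s hs u hu d hd hds
    obtain ⟨o, rfl⟩ := hs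
    have hds' : (T.nO o)⁻¹ * (d : GL D.Idx K) * T.nO o ∈ D.borelSubgroup K :=
      T.mem_bnB.1 hds
    obtain ⟨a, haf, ha, c, hcf, hc, e⟩ := T.split_fix o (A := (D.nroots / 2 ≤ ·))
      (fun r _ h => h)
      (fun i hi hiO j hj hjp _ _ c hc =>
        le_of_lt (lt_of_le_of_lt hiO.1 (hF.commTerms_lt hi hj hiO.1 hjp hc).2.1))
      (fun r hr h => T.sig.ok.rho_pos r hr h) (T.mem_uSub.1 hd) (T.le_fix d.2)
    have hinv := hF.permAct_inv (T.nO_monomial o) (T.nO_perm o)
    rw [T.wO_inv o] at hinv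
    have hA : ∀ x ∈ rootClosure D K (fun r => D.nroots / 2 ≤ r ∧ ¬ (O o).InO co r),
        (T.nO o)⁻¹ * x * T.nO o ∈ D.borelSubgroup K := by
      intro x hx
      have := hF.conj_rootClosure hinv (Q := (D.nroots / 2 ≤ ·))
        (fun r hr => (T.wO_posO o hr.1 hr.2).1) hx
      rw [inv_inv] at this
      exact hF.pos_le_borel this
    have hc1 : c = 1 := by
      have h1 : (T.nO o)⁻¹ * c * T.nO o ∈ D.borelSubgroup K := by
        have := Subgroup.mul_mem _ (Subgroup.inv_mem _ (hA a ha)) hds'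
        rwa [e, show ((T.nO o)⁻¹ * a * T.nO o)⁻¹ * ((T.nO o)⁻¹ * (a * c) * T.nO o) =
          (T.nO o)⁻¹ * c * T.nO o by group] at this
      have h2 := hF.conj_rootClosure hinv (Q := (· < D.nroots / 2))
        (fun r hr => (T.wO_inO o hr.1 hr.2).1) hc
      rw [inv_inv, ← hF.negUnipotent_eq] at h2
      have : (T.nO o)⁻¹ * c * T.nO o ∈ D.borelSubgroup K ⊓ D.negUnipotent K := ⟨h1, h2⟩
      rw [hF.borel_inf_neg, Subgroup.mem_bot, mul_assoc, inv_mul_eq_one] at this
      exact mul_eq_right.1 this.symm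
    rw [hc1, mul_one] at e
    refine T.mem_bnB.2 (hA _ ?_)
    have hP : (u : GL D.Idx K) ∈ D.parabolicSubgroup K (O o).set :=
      Subgroup.mem_sup_left (hF.pos_le_borel (T.mem_uSub.1 hu))
    have h1 := hF.radical_eq (K := K) (O o).set
    have h2 := (Subgroup.mem_normalizer_iff.1 (hF.parabolic_le_normalizer T.sig.hC (O o).set hP) a)
    have h3 := h2.1 (by rw [h1]; exact ha)
    rw [h1] at h3
    simp only [Subgroup.coe_mul, Subgroup.coe_inv, e]
    exact h3
  · refine ⟨T.n0G, T.mem_bnN.2 T.nLong_monomial, fun u hu hB => ?_⟩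
    have h1 : T.nLong⁻¹ * (u : GL D.Idx K) * T.nLong ∈ D.borelSubgroup K := T.mem_bnB.1 hB
    have hinv := hF.permAct_inv T.nLong_monomial T.nLong_perm
    have h2 := hF.conj_rootClosure hinv (Q := (· < D.nroots / 2)) (fun r hr => by
      by_contra hc
      have h3 := T.l0_long _ (not_lt.1 hc)
      rw [Equiv.Perm.coe_inv, Equiv.apply_symm_apply] at h3
      exact absurd hr (not_le.2 h3)) (T.mem_uSub.1 hu)
    rw [inv_inv, ← hF.negUnipotent_eq] at h2
    have : T.nLong⁻¹ * (u : GL D.Idx K) * T.nLong ∈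
        D.borelSubgroup K ⊓ D.negUnipotent K := ⟨h1, h2⟩
    rw [hF.borel_inf_neg, Subgroup.mem_bot, mul_assoc, inv_mul_eq_one] at this
    exact Subtype.ext (mul_eq_right.1 this.symm)

/-- The frame of a twisted group. -/
theorem frame (p : ℕ) [Fact p.Prime] [CharP K p]
    (hsep : ∀ h ∈ D.diagonalSubgroup K,
      (∀ g, g ∈ G → g ∈ rootClosure D K (D.nroots / 2 ≤ ·) → h * g = g * h) → h = 1)
    (hcomm : ∀ o, sW D T.l0 * (O o).wO = (O o).wO * sW D T.l0) :
    TwAut.Frame T.bnPair T.uSub T.nG T.n0G := by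
  have hF := T.sig.hF
  have hS := T.split p
  have hflip' : ∀ r : Fin D.nroots, r.val < D.nroots / 2 →
      D.nroots / 2 ≤ (sW D T.l0 r).val := fun r hr => by
    have h1 := T.l0_long (hF.negFin r) ((hF.negFin_pos _).2 hr)
    rw [hF.sW_neg] at h1
    by_contra hc
    exact absurd ((hF.negFin_pos _).2 (not_le.1 hc)) (not_le.2 h1)
  have hinv0 := hF.permAct_inv T.nLong_monomial T.nLong_perm
  have hnl : ∀ x ∈ rootClosure D K (· < D.nroots / 2),
      T.nLong⁻¹ * x * T.nLong ∈ rootClosure D K (D.nroots / 2 ≤ ·) := by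
    intro x hx
    have := hF.conj_rootClosure hinv0 (Q := (D.nroots / 2 ≤ ·)) (fun r hr => by
      by_contra hc
      have h3 := hflip' _ (not_le.1 hc)
      rw [Equiv.Perm.coe_inv, Equiv.apply_symm_apply] at h3
      exact absurd hr (not_lt.2 h3)) hx
    rwa [inv_inv] at this
  refine ⟨hS.le, hS.normal, ?_, hS.decomp, T.mem_bnN.2 T.nLong_monomial, ?_, ?_, ?_, ?_, ?_, ?_,
    ?_, ?_, T.normalCore_eq_bot hsep, ?_⟩
  · intro g hg
    obtain ⟨b, hbG, hb, n, hnG, hn, w, hw, hwf, u, hu, e⟩ := T.bruhat g.2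
    obtain ⟨l, hl⟩ := T.perm_word hn hw
    by_cases h1 : w = 1
    · refine T.mem_bnB.2 ?_
      rw [e]
      exact Subgroup.mul_mem _ (Subgroup.mul_mem _ hb (hF.diagonal_le_borel
        (hF.mem_diagonal_of_permAct hn (h1 ▸ hw))))
        (hF.pos_le_borel (rootClosure_mono (fun r _ ⟨_, h, _⟩ => h) hu.2))
    exfalso
    obtain ⟨o, ho⟩ := T.exists_orbit hl hwf h1
    obtain ⟨c, hcG, hc, hc1⟩ := T.exists_posO_ne o
    have huG : u ∈ G := T.fixU_le hl hwf hu
    have hu' : u ∈ rootClosure D K (D.nroots / 2 ≤ ·) :=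
      rootClosure_mono (fun r _ ⟨_, h, _⟩ => h) hu.2
    have hxG : u⁻¹ * c * u ∈ G :=
      Subgroup.mul_mem _ (Subgroup.mul_mem _ (Subgroup.inv_mem _ huG) hcG) huG
    have h2 := T.mem_uSub.1 (hg ⟨_, hxG⟩ (T.mem_uSub.2 (Subgroup.mul_mem _ (Subgroup.mul_mem _
      (Subgroup.inv_mem _ hu') (rootClosure_mono (fun r _ h => h.1) hc)) hu')))
    simp only [Subgroup.coe_mul, Subgroup.coe_inv, e] at h2
    rw [show b * n * u * (u⁻¹ * c * u) * (b * n * u)⁻¹ = b * (n * c * n⁻¹) * b⁻¹ by group] at h2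
    have h3 := T.borel_normalizes' (Subgroup.inv_mem _ hb) h2
    rw [show b⁻¹ * (b * (n * c * n⁻¹) * b⁻¹) * b⁻¹⁻¹ = n * c * n⁻¹ by group] at h3
    have h4 : n * c * n⁻¹ ∈ D.borelSubgroup K ⊓ D.negUnipotent K := by
      refine ⟨hF.pos_le_borel h3, ?_⟩
      rw [hF.negUnipotent_eq]
      exact hF.conj_rootClosure hw (fun s hs => ho s hs.1 hs.2) hc
    rw [hF.borel_inf_neg, Subgroup.mem_bot, conj_eq_one_iff] at h4
    exact hc1 h4
  · refine T.mem_bnB.2 (hF.diagonal_le_borel (hF.mem_diagonal_of_permAct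
      (Subgroup.mul_mem _ T.nLong_monomial T.nLong_monomial) ?_))
    have := hF.permAct_mul T.nLong_perm T.nLong_perm
    have e : sW D T.l0 * sW D T.l0 = 1 := by
      rw [← sW_append]
      refine hF.eq_one_of_pos _ fun r hp => ?_
      rw [sW_append, Equiv.Perm.mul_apply]
      exact hflip' _ (T.l0_long r hp)
    rwa [e] at this
  · obtain ⟨n1, hn1, h1⟩ := hS.opp
    intro u hu hB
    have h1' : T.nLong⁻¹ * (u : GL D.Idx K) * T.nLong ∈ D.borelSubgroup K := T.mem_bnB.1 hB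
    have h2 := hF.conj_rootClosure hinv0 (Q := (· < D.nroots / 2)) (fun r hr => by
      by_contra hc
      have h3 := T.l0_long _ (not_lt.1 hc)
      rw [Equiv.Perm.coe_inv, Equiv.apply_symm_apply] at h3
      exact absurd hr (not_le.2 h3)) (T.mem_uSub.1 hu)
    rw [inv_inv, ← hF.negUnipotent_eq] at h2
    have : T.nLong⁻¹ * (u : GL D.Idx K) * T.nLong ∈
        D.borelSubgroup K ⊓ D.negUnipotent K := ⟨h1', h2⟩
    rw [hF.borel_inf_neg, Subgroup.mem_bot, mul_assoc, inv_mul_eq_one] at this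
    exact Subtype.ext (mul_eq_right.1 this.symm)
  · intro g hg
    obtain ⟨b, hbG, hb, n, hnG, hn, w, hw, hwf, u, hu, e⟩ := T.bruhat g.2
    obtain ⟨l, hl⟩ := T.perm_word hn hw
    have huG : u ∈ G := T.fixU_le hl hwf hu
    have hu' : u ∈ rootClosure D K (D.nroots / 2 ≤ ·) :=
      rootClosure_mono (fun r _ ⟨_, h, _⟩ => h) hu.2
    have hall : ∀ o, ∀ r : Fin D.nroots, D.nroots / 2 ≤ r.val → (O o).InO co r.val →
        (w r).val < D.nroots / 2 := by
      intro o
      refine (T.dichotomy hl hwf o).resolve_right fun hk => ?_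
      obtain ⟨c, hc, hc1, hnc⟩ := T.exists_kept hnG hw o hk
      have hxG : u⁻¹ * (c : GL D.Idx K) * u ∈ G :=
        Subgroup.mul_mem _ (Subgroup.mul_mem _ (Subgroup.inv_mem _ huG) c.2) huG
      refine hc1 (Subtype.ext ?_)
      have h1 := hg ⟨_, hxG⟩ (T.mem_uSub.2 (Subgroup.mul_mem _ (Subgroup.mul_mem _
        (Subgroup.inv_mem _ hu') (T.mem_uSub.1 hc)) hu')) (T.mem_uSub.2 (by
          simp only [Subgroup.coe_mul, Subgroup.coe_inv, e]
          rw [show b * n * u * (u⁻¹ * (c : GL D.Idx K) * u) * (b * n * u)⁻¹ =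
            b * (n * c * n⁻¹) * b⁻¹ by group]
          exact T.borel_normalizes' hb hnc))
      have h2 : u⁻¹ * (c : GL D.Idx K) * u = 1 := congrArg Subtype.val h1
      simpa using conj_eq_one_iff.1 (show u⁻¹ * (c : GL D.Idx K) * u⁻¹⁻¹ = 1 by rwa [inv_inv])
    have hw0 := T.long_of_all hl hall
    obtain ⟨u', hu'G, hu'', h, hhG, hh, rfl⟩ := T.mem_B hbG hb
    have hd : T.nLong⁻¹ * h * n ∈ D.diagonalSubgroup K := by
      refine hF.mem_diagonal_of_permAct (Subgroup.mul_mem _ (Subgroup.mul_mem _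
        (Subgroup.inv_mem _ T.nLong_monomial) (hF.diag_le_monomial hh)) hn) ?_
      have := hF.permAct_mul (hF.permAct_mul hinv0 (hF.permAct_diagonal hh)) hw
      rwa [hw0, mul_one, inv_mul_cancel] at this
    refine ⟨⟨u', hu'G⟩, T.mem_uSub.2 hu'', ⟨T.nLong⁻¹ * h * n * u, ?_⟩, T.mem_bnB.2 ?_,
      Subtype.ext ?_⟩
    · exact Subgroup.mul_mem _ (Subgroup.mul_mem _ (Subgroup.mul_mem _
        (Subgroup.inv_mem _ T.nLong_mem) hhG) hnG) huG
    · exact Subgroup.mul_mem _ (hF.diagonal_le_borel hd) (hF.pos_le_borel hu')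
    · show (g : GL D.Idx K) = u' * T.nLong * (T.nLong⁻¹ * h * n * u)
      rw [e]; group
  · rfl
  · exact fun o o' e => T.wO_injective
      (hF.permAct_unique (T.nO_perm o) (by rw [show T.nO o = T.nO o' from congrArg Subtype.val e]; exact T.nO_perm o'))
  · intro o
    refine T.mem_bnB.2 (hF.diagonal_le_borel (hF.mem_diagonal_of_permAct
      (Subgroup.mul_mem _ (Subgroup.inv_mem _ (T.nO_monomial o)) (Subgroup.mul_mem _
        (Subgroup.mul_mem _ T.nLong_monomial (T.nO_monomial o))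
        (Subgroup.inv_mem _ T.nLong_monomial))) ?_))
    have := hF.permAct_mul (hF.permAct_inv (T.nO_monomial o) (T.nO_perm o))
      (hF.permAct_mul (hF.permAct_mul T.nLong_perm (T.nO_perm o)) hinv0)
    rwa [T.wO_inv o, hcomm o, mul_assoc (O o).wO, mul_inv_cancel, mul_one, T.orb.sq o] at this
  · intro o u hu
    obtain ⟨a, haf, ha, c, hcf, hc, e⟩ := T.split_fix o (A := (D.nroots / 2 ≤ ·))
      (fun r _ h => h)
      (fun i hi hiO j hj hjp _ _ c hc =>
        le_of_lt (lt_of_le_of_lt hiO.1 (hF.commTerms_lt hi hj hiO.1 hjp hc).2.1))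
      (fun r hr h => T.sig.ok.rho_pos r hr h) (T.mem_uSub.1 hu) (T.le_fix u.2)
    have hcG : c ∈ G := T.posO_le o ⟨hcf, hc⟩
    have haG : a ∈ G := T.posU_le ⟨haf, rootClosure_mono (fun r _ h => h.1) ha⟩
    refine ⟨⟨a, haG⟩, T.mem_uSub.2 (rootClosure_mono (fun r _ h => h.1) ha), ⟨c, hcG⟩,
      T.mem_uSub.2 (rootClosure_mono (fun r _ h => h.1) hc), Subtype.ext e, T.mem_uSub.2 ?_,
      T.mem_uSub.2 ?_⟩
    · exact hF.conj_rootClosure (T.nO_perm o) (fun r hr => (T.wO_posO o hr.1 hr.2).1) ha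
    · exact hnl _ (rootClosure_mono (fun r _ h => h.1) (T.neg_of_conj o hc))
  · intro o
    obtain ⟨c, hcG, hc, hc1⟩ := T.exists_posO_ne o
    exact ⟨⟨c, hcG⟩, T.mem_uSub.2 (rootClosure_mono (fun r _ h => h.1) hc),
      fun e => hc1 (congrArg Subtype.val e),
      T.mem_uSub.2 (hnl _ (rootClosure_mono (fun r _ h => h.1) (T.neg_of_conj o hc)))⟩
  · intro θ
    obtain ⟨Q, hQ⟩ := hS.exists_sylow
    obtain ⟨R, hR⟩ := (hS.pgroup.map θ.toMonoidHom).exists_le_sylow
    obtain ⟨g, hg⟩ := MulAction.exists_smul_eq (↥G) R Q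
    refine ⟨g, fun u hu => ?_⟩
    rw [← hQ, ← hg, Sylow.coe_subgroup_smul, Subgroup.mem_pointwise_smul_iff_inv_smul_mem]
    refine hR ⟨u, hu, ?_⟩
    simp [MulAut.smul_def, mul_assoc]

/-- The root subgroup of an orbit consists of the fixed elements of that orbit. -/
theorem mem_rootU_iff (o : ι) {g : ↥G} :
    g ∈ TwAut.rootU T.uSub T.n0G (T.nG o) ↔
      (g : GL D.Idx K) ∈ rootClosure D K ((O o).posO co) := by
  have hF := T.sig.hF
  rw [TwAut.mem_rootU, T.mem_uSub, T.mem_uSub]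
  have hflip' : ∀ r : Fin D.nroots, r.val < D.nroots / 2 →
      D.nroots / 2 ≤ (sW D T.l0 r).val := fun r hr => by
    have h1 := T.l0_long (hF.negFin r) ((hF.negFin_pos _).2 hr)
    rw [hF.sW_neg] at h1
    by_contra hc
    exact absurd ((hF.negFin_pos _).2 (not_le.1 hc)) (not_le.2 h1)
  have hinv0 := hF.permAct_inv T.nLong_monomial T.nLong_perm
  constructor
  · rintro ⟨hg, hg'⟩
    change T.nLong⁻¹ * (T.nO o * (g : GL D.Idx K) * (T.nO o)⁻¹) * T.nLong ∈ _ at hg'
    obtain ⟨a, haf, ha, c, hcf, hc, e⟩ := T.split_fix o (A := (D.nroots / 2 ≤ ·))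
      (fun r _ h => h)
      (fun i hi hiO j hj hjp _ _ c hc =>
        le_of_lt (lt_of_le_of_lt hiO.1 (hF.commTerms_lt hi hj hiO.1 hjp hc).2.1))
      (fun r hr h => T.sig.ok.rho_pos r hr h) hg (T.le_fix g.2)
    have h1 : T.nO o * (g : GL D.Idx K) * (T.nO o)⁻¹ ∈ rootClosure D K (· < D.nroots / 2) := by
      have := hF.conj_rootClosure T.nLong_perm (Q := (· < D.nroots / 2))
        (fun r hr => T.l0_long r hr) hg'
      rwa [show T.nLong * (T.nLong⁻¹ * (T.nO o * (g : GL D.Idx K) * (T.nO o)⁻¹) * T.nLong) *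
        T.nLong⁻¹ = T.nO o * (g : GL D.Idx K) * (T.nO o)⁻¹ by group] at this
    have h2 : T.nO o * a * (T.nO o)⁻¹ ∈ D.borelSubgroup K ⊓ D.negUnipotent K := by
      refine ⟨hF.pos_le_borel
        (hF.conj_rootClosure (T.nO_perm o) (fun r hr => (T.wO_posO o hr.1 hr.2).1) ha), ?_⟩
      rw [hF.negUnipotent_eq]
      have := Subgroup.mul_mem _ h1
        (Subgroup.inv_mem _ (rootClosure_mono (fun r _ h => h.1) (T.neg_of_conj o hc)))
      rwa [e, show T.nO o * (a * c) * (T.nO o)⁻¹ * (T.nO o * c * (T.nO o)⁻¹)⁻¹ =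
        T.nO o * a * (T.nO o)⁻¹ by group] at this
    rw [hF.borel_inf_neg, Subgroup.mem_bot, conj_eq_one_iff] at h2
    rwa [e, h2, one_mul]
  · intro hg
    refine ⟨rootClosure_mono (fun r _ h => h.1) hg, ?_⟩
    show T.nLong⁻¹ * (T.nO o * (g : GL D.Idx K) * (T.nO o)⁻¹) * T.nLong ∈ _
    have := hF.conj_rootClosure hinv0 (Q := (D.nroots / 2 ≤ ·)) (fun r hr => by
      by_contra hc
      have h3 := hflip' _ (not_le.1 hc)
      rw [Equiv.Perm.coe_inv, Equiv.apply_symm_apply] at h3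
      exact absurd hr.1 (not_lt.2 h3)) (T.neg_of_conj o hg)
    rwa [inv_inv] at this

theorem card_rootU (o : ι) :
    Nat.card ↥(TwAut.rootU T.uSub T.n0G (T.nG o)) = Nat.card ↥(T.fixU (O o).wO) := by
  refine Nat.card_congr
    { toFun := fun g => ⟨(g.1 : GL D.Idx K), by
        rw [T.fixU_wO]; exact ⟨T.le_fix g.1.2, (T.mem_rootU_iff o).1 g.2⟩⟩
      invFun := fun g => ⟨⟨g.1, T.posO_le o ((le_of_eq (T.fixU_wO o)) g.2)⟩,
        (T.mem_rootU_iff o).2 ((le_of_eq (T.fixU_wO o)) g.2).2⟩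
      left_inv := fun g => rfl
      right_inv := fun g => rfl }

end TwSys

end CfsgLib.Chev
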