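import Cfsg.Agent.Lib.Chev.All
import Cfsg.Agent.Lib.Chev.Reflection
import Cfsg.Agent.Lib.Chev.Poincare

/-!
# Field endomorphisms and the centraliser of the root elements with parameter one

An element commuting with all `x_r(1)` is trivial, and the fixed points of a field endomorphism are products of
root elements with fixed parameters and a fixed diagonal element.
-/

set_option autoImplicit false

namespace CfsgLib.Chev.FixedPoints

open Cfsg.Lie

universe v

variable {D : ChevalleyDatum} {co : ℕ → ℕ → ℤ} (hF : Facts D co) {F : Type v} [Field F]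
include hF

/-- A nontrivial product of reflections makes some fundamental root negative. -/
theorem exists_simple_neg (l : List (Fin D.rank)) (h : sW D l ≠ 1) :
    ∃ i : Fin D.rank, (sW D l (hF.simpleFin i)).val < D.nroots / 2 := by
  obtain ⟨m, hm, hmp⟩ := Exch.exists_redW (g := sP D) l
  rcases List.eq_nil_or_concat m with rfl | ⟨m', i, rfl⟩
  · exact absurd (by rw [sW, ← hmp]; rfl) h
  refine ⟨i, ?_⟩
  rw [List.concat_eq_append] at hm hmp
  rw [sW, ← hmp, ← sW, sW_append, sW_cons, sW_nil, mul_one, Equiv.Perm.mul_apply, hF.sP_simple,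
    hF.sW_neg]
  by_contra hc
  obtain ⟨a, b, j, rfl, he⟩ := hF.weylHom_deletion m' i ((hF.negFin_pos _).1 (not_lt.1 hc))
  have := hm (a ++ b) he.symm
  simp only [List.length_append, List.length_cons, List.length_nil] at this
  omega

/-- The height. -/
def ht (D : ChevalleyDatum) (co : ℕ → ℕ → ℤ) (r : ℕ) : ℤ := ∑ j ∈ Finset.range D.rank, co r j

omit hF in
variable (D co) in
/-- The coordinate at the fundamental root `i` of a positive unipotent element. -/
def coord (i : Fin D.rank) (hn : D.neg (D.simple i.val) < D.nroots) (g : GL D.Idx F) : F :=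
  (g : Matrix D.Idx D.Idx F) (Sum.inl i) (Sum.inr ⟨D.neg (D.simple i.val), hn⟩)

theorem isWeight_ht : IsWeight D (ht D co) := by
  refine ⟨fun r hr => ?_, fun a ha b hb k h => ?_⟩
  · rw [ht, ht, ← Finset.sum_neg_distrib]
    exact Finset.sum_congr rfl fun j hj => hF.co_neg r hr j (Finset.mem_range.1 hj)
  · rw [ht, ht, ht, ← Finset.sum_add_distrib]
    exact Finset.sum_congr rfl fun j hj => hF.co_add a ha b hb k h j (Finset.mem_range.1 hj)

theorem one_le_ht {r : ℕ} (hr : r < D.nroots) (hp : D.nroots / 2 ≤ r) : 1 ≤ ht D co r := by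
  have h0 : ∀ j ∈ Finset.range D.rank, 0 ≤ co r j := fun j hj =>
    hF.co_nonneg r hr hp j (Finset.mem_range.1 hj)
  by_contra hc
  have hz : ∀ j ∈ Finset.range D.rank, co r j = 0 :=
    (Finset.sum_eq_zero_iff_of_nonneg h0).1 (by have := Finset.sum_nonneg h0; rw [ht] at hc; omega)
  have := hF.cor_pair r hr
  rw [Finset.sum_eq_zero fun j hj => by
    rw [(hF.cor_supp r hr j (Finset.mem_range.1 hj)).2 (hz j hj), zero_mul]] at this
  omega

theorem pos_ut_ht {g : GL D.Idx F} (hg : g ∈ rootClosure D F (D.nroots / 2 ≤ ·)) :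
    UT (wt D (ht D co)) 1 (g : Matrix D.Idx D.Idx F) := by
  refine ut_closure (by norm_num) ?_ hg
  rintro x ⟨r, t, hr, hp, rfl⟩
  have h1 := one_le_ht hF hr hp
  rw [hF.xU_inv hr]
  exact ⟨hF.xU_ut_gen (isWeight_ht hF) hr (by omega) h1 t, hF.xU_ut_gen (isWeight_ht hF) hr (by omega) h1 (-t)⟩

theorem ht_simple (i : Fin D.rank) : ht D co (D.simple i.val) = 1 := by
  rw [ht, Finset.sum_eq_single i.val (fun j hj hne => by
      rw [hF.co_simple i.val i.isLt j (Finset.mem_range.1 hj), if_neg (Ne.symm hne)])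
    (fun h => absurd (Finset.mem_range.2 i.isLt) h), hF.co_simple i.val i.isLt i.val i.isLt, if_pos rfl]

theorem coord_mul (i : Fin D.rank) {g h : GL D.Idx F} (hg : g ∈ rootClosure D F (D.nroots / 2 ≤ ·))
    (hh : h ∈ rootClosure D F (D.nroots / 2 ≤ ·)) :
    coord D i (hF.neg_lt (hF.simple_lt' i.isLt)) (g * h) =
      coord D i (hF.neg_lt (hF.simple_lt' i.isLt)) g + coord D i (hF.neg_lt (hF.simple_lt' i.isLt)) h := by
  set a : D.Idx := Sum.inl i
  set b : D.Idx := Sum.inr ⟨D.neg (D.simple i.val), hF.neg_lt (hF.simple_lt' i.isLt)⟩ with hb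
  have e : (((g * h : GL D.Idx F) : Matrix D.Idx D.Idx F) - 1) =
      ((g : Matrix D.Idx D.Idx F) - 1) + ((h : Matrix D.Idx D.Idx F) - 1) +
        ((g : Matrix D.Idx D.Idx F) - 1) * ((h : Matrix D.Idx D.Idx F) - 1) := by
    rw [Units.val_mul]; noncomm_ring
  have hz : (((g : Matrix D.Idx D.Idx F) - 1) * ((h : Matrix D.Idx D.Idx F) - 1)) a b = 0 := by
    rw [Matrix.mul_apply]
    refine Finset.sum_eq_zero fun c _ => ?_
    by_contra hc
    have h1 := pos_ut_ht hF hg a c (left_ne_zero_of_mul hc)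
    have h2 := pos_ut_ht hF hh c b (right_ne_zero_of_mul hc)
    have e1 : wt D (ht D co) a = 0 := rfl
    have e2 : wt D (ht D co) b = -1 := by
      show ht D co (D.neg (D.simple i.val)) = -1
      rw [(isWeight_ht hF).neg _ (hF.simple_lt' i.isLt), ht_simple hF]
    omega
  have := congrFun (congrFun e a) b
  simp only [Matrix.add_apply, Matrix.sub_apply, hz, add_zero] at this
  have hab : (1 : Matrix D.Idx D.Idx F) a b = 0 := Matrix.one_apply_ne (by simp [a, b])
  rw [hab, sub_zero, sub_zero, sub_zero] at this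
  exact this

theorem coord_xU (i : Fin D.rank) {r : ℕ} (hr : r < D.nroots) (t : F) :
    coord D i (hF.neg_lt (hF.simple_lt' i.isLt)) (xU D r t) = if r = D.simple i.val then t else 0 := by
  have hz : ∀ k : ℕ, divPow D r (k + 2) (Sum.inl i)
      (Sum.inr ⟨D.neg (D.simple i.val), hF.neg_lt (hF.simple_lt' i.isLt)⟩) = 0 :=
    fun k => divPow_ge_two_inl_row _ _ _ _
  rw [coord, hF.xU_val' hr]
  simp only [xR, Finset.sum_range_succ, Finset.sum_range_zero, zero_add, Matrix.add_apply,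
    Matrix.smul_apply]
  by_cases h : r = D.simple i.val
  · subst h
    simp [hz 0, hz 1, divPow, adRoot_inl_inr, hF.cor_simple i.isLt i.isLt]
  · have : D.neg (D.simple i.val) ≠ D.neg r := fun e =>
      h (by rw [← hF.neg_neg hr, ← e, hF.neg_neg (hF.simple_lt' i.isLt)])
    simp [hz 0, hz 1, divPow, adRoot_inl_inr, this, h]

theorem coord_eq_zero (i : Fin D.rank) {P : ℕ → Prop} (hP : ∀ r, P r → D.nroots / 2 ≤ r ∧ r ≠ D.simple i.val)
    {g : GL D.Idx F} (hg : g ∈ rootClosure D F P) :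
    coord D i (hF.neg_lt (hF.simple_lt' i.isLt)) g = 0 := by
  have hle : rootClosure D F P ≤ rootClosure D F (D.nroots / 2 ≤ ·) :=
    rootClosure_mono fun r _ h => (hP r h).1
  have h1 : coord D i (hF.neg_lt (hF.simple_lt' i.isLt)) (1 : GL D.Idx F) = 0 := by
    simp [coord]
  induction hg using Subgroup.closure_induction with
  | mem x hx =>
    obtain ⟨r, t, hr, hp, rfl⟩ := hx
    rw [coord_xU hF i hr, if_neg (hP r hp).2]
  | one => exact h1
  | mul x y hx hy ihx ihy => rw [coord_mul hF i (hle hx) (hle hy), ihx, ihy, add_zero]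
  | inv x hx ihx =>
    have := coord_mul hF i (Subgroup.inv_mem _ (hle hx)) (hle hx)
    rwa [inv_mul_cancel, h1, ihx, add_zero, eq_comm] at this

variable (hC : CommF.{v} D)
include hC

/-- An element commuting with the `x_i(1)` of the fundamental roots lies in the Borel subgroup. -/
theorem mem_borel_of_commute {g : GL D.Idx F} (hg : g ∈ D.group F)
    (hc : ∀ i : Fin D.rank, Commute g (xU D (D.simple i.val) (1 : F))) : g ∈ D.borelSubgroup F := by
  obtain ⟨b, hb, n, hn, σ, hσ, u, hu, rfl⟩ := hF.bruhat_exists hC hg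
  obtain ⟨u1, hu1, h, hh, rfl⟩ := hF.mem_borel_iff.1 hb
  obtain ⟨l, k, hk, hlk⟩ := hF.exists_nW hn
  have hσl : σ = sW D l := by
    have := hF.permAct_mul (hF.permAct_nW (F := F) l) (hF.permAct_diagonal hk)
    rw [mul_one, ← hlk] at this
    exact hF.permAct_unique hσ this
  by_cases he : σ = 1
  · have hnd : n ∈ D.diagonalSubgroup F := hF.mem_diagonal_of_permAct hn (he ▸ hσ)
    exact Subgroup.mul_mem _ (Subgroup.mul_mem _ hb (hF.diagonal_le_borel hnd))
      (hF.pos_le_borel (rootClosure_mono (fun _ _ h => h.2.1) hu))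
  exfalso
  obtain ⟨i, hi⟩ := exists_simple_neg hF l (hσl ▸ he)
  have hp := hF.simple_lt i.val i.isLt
  set x := xU D (D.simple i.val) (1 : F) with hx
  have hxU : x ∈ rootClosure D F (D.nroots / 2 ≤ ·) := xU_mem_rootClosure hp.2 hp.1 1
  have hu' : u ∈ rootClosure D F (D.nroots / 2 ≤ ·) := rootClosure_mono (fun _ _ h => h.2.1) hu
  have hyU : u * x * u⁻¹ ∈ rootClosure D F (D.nroots / 2 ≤ ·) :=
    Subgroup.mul_mem _ (Subgroup.mul_mem _ hu' hxU) (Subgroup.inv_mem _ hu')
  have hny : n * (u * x * u⁻¹) * n⁻¹ ∈ D.borelSubgroup F := by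
    have e : n * (u * x * u⁻¹) * n⁻¹ = (u1 * h)⁻¹ * (u1 * h * n * u * x * (u1 * h * n * u)⁻¹) * (u1 * h) := by
      group
    rw [e, (hc i).eq, mul_inv_cancel_right]
    exact Subgroup.mul_mem _ (Subgroup.mul_mem _ (Subgroup.inv_mem _ hb)
      (hF.pos_le_borel hxU)) hb
  obtain ⟨a, ha, c, hcc, e⟩ := hF.flip_decomp hC (σ := σ) (m := D.nroots / 2) (k := D.nroots / 2)
    (by have := hF.nroots_even; omega) le_rfl hyU
  have hna : n * a * n⁻¹ ∈ D.borelSubgroup F :=
    hF.pos_le_borel (hF.conj_rootClosure hσ (Q := (D.nroots / 2 ≤ ·)) (fun s hs => hs.2.2) ha)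
  have hnc : n * c * n⁻¹ ∈ D.borelSubgroup F ⊓ D.negUnipotent F := by
    refine ⟨?_, ?_⟩
    · rw [show n * c * n⁻¹ = (n * a * n⁻¹)⁻¹ * (n * (a * c) * n⁻¹) by group, ← e]
      exact Subgroup.mul_mem _ (Subgroup.inv_mem _ hna) hny
    · rw [hF.negUnipotent_eq]
      exact hF.conj_rootClosure hσ (fun s hs => hs.2.2) hcc
  rw [hF.borel_inf_neg, Subgroup.mem_bot, conj_eq_one_iff] at hnc
  rw [hnc, mul_one] at e
  have h0 : coord D i (hF.neg_lt (hF.simple_lt' i.isLt)) a = 0 := by
    refine coord_eq_zero hF i (fun r hr => ⟨hr.2.1, fun e' => ?_⟩) ha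
    obtain ⟨hr', -, hpos⟩ := hr
    subst e'
    rw [hσl] at hpos
    exact absurd hi (not_lt.2 hpos)
  have hu1' := Subgroup.inv_mem _ hu'
  have h1 : coord D i (hF.neg_lt (hF.simple_lt' i.isLt)) (1 : GL D.Idx F) = 0 := by simp [coord]
  have h2 := coord_mul hF i hu' hu1'
  rw [mul_inv_cancel, h1] at h2
  rw [← e, coord_mul hF i (Subgroup.mul_mem _ hu' hxU) hu1', coord_mul hF i hu' hxU, hx,
    coord_xU hF i hp.2, if_pos rfl, add_right_comm, ← h2, zero_add] at h0
  exact one_ne_zero h0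

/-- An element commuting with every `x_r(1)` is trivial. -/
theorem eq_one_of_commute {g : GL D.Idx F} (hg : g ∈ D.group F)
    (hc : ∀ r < D.nroots, Commute g (xU D r (1 : F))) : g = 1 := by
  have hc' : ∀ r < D.nroots, Commute g (xU D r (-1 : F)) := fun r hr => by
    rw [← hF.xU_inv hr]; exact (hc r hr).inv_right
  have hb := mem_borel_of_commute hF hC hg fun i => hc _ (hF.simple_lt' i.isLt)
  obtain ⟨u, hu, h, hh, rfl⟩ := hF.mem_borel_iff.1 hb
  obtain ⟨l, hl⟩ := hF.exists_longest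
  have hnc : Commute (u * h) (nW D F l) := by
    refine Commute.list_prod_right _ _ fun y hy => ?_
    obtain ⟨j, -, rfl⟩ := List.mem_map.1 hy
    have hp := hF.simple_lt' j.isLt
    rw [nS, nU, inv_one]
    exact ((hc _ hp).mul_right (hc' _ (hF.neg_lt hp))).mul_right (hc _ hp)
  have he : nW D F l * u * (nW D F l)⁻¹ * (nW D F l * h * (nW D F l)⁻¹) = u * h := by
    rw [show nW D F l * u * (nW D F l)⁻¹ * (nW D F l * h * (nW D F l)⁻¹) =
      nW D F l * (u * h) * (nW D F l)⁻¹ by group, ← hnc.eq, mul_inv_cancel_right]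
  have hnh : nW D F l * h * (nW D F l)⁻¹ ∈ D.borelSubgroup F :=
    hF.diagonal_le_borel (by
      obtain ⟨c, rfl⟩ := hF.mem_diagonal_iff.1 hh
      have := hF.permAct_mul (hF.permAct_mul (hF.permAct_nW (F := F) l) (hF.permAct_diagonal hh))
        (hF.permAct_inv (hF.nW_mem l) (hF.permAct_nW (F := F) l))
      rw [mul_one, mul_inv_cancel] at this
      exact hF.mem_diagonal_of_permAct (Subgroup.mul_mem _ (Subgroup.mul_mem _ (hF.nW_mem l)
        (Subgroup.mem_sup_left hh)) (Subgroup.inv_mem _ (hF.nW_mem l))) this)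
  have hu0 : nW D F l * u * (nW D F l)⁻¹ ∈ D.borelSubgroup F ⊓ D.negUnipotent F := by
    refine ⟨?_, ?_⟩
    · have := Subgroup.mul_mem _ hb (Subgroup.inv_mem _ hnh)
      rwa [← he, mul_inv_cancel_right] at this
    · rw [hF.negUnipotent_eq]
      exact hF.conj_rootClosure (hF.permAct_nW l) (fun s hs => hl s hs) hu
  rw [hF.borel_inf_neg, Subgroup.mem_bot, conj_eq_one_iff] at hu0
  subst hu0
  rw [one_mul] at hc ⊢
  obtain ⟨c, rfl⟩ := hF.mem_diagonal_iff.1 hh
  rw [hT, ← dU_one]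
  refine dU_congr fun r hr => Units.ext (hF.xU_left_inj hr ?_)
  have h1 := hF.hT_conj_xU c hr (1 : F)
  rw [(hc r hr).eq, mul_inv_cancel_right, mul_one] at h1
  simpa using h1.symm

omit hC

/-- The map induced by a field endomorphism. -/
noncomputable abbrev gMap (D : ChevalleyDatum) {F : Type v} [Field F] (φ : F →+* F) :
    GL D.Idx F →* GL D.Idx F :=
  Units.map φ.mapMatrix.toMonoidHom

variable (φ : F →+* F)

theorem gMap_xU {r : ℕ} (hr : r < D.nroots) (t : F) : gMap D φ (xU D r t) = xU D r (φ t) := by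
  refine Units.ext ?_
  show ((xU D r t : GL D.Idx F) : Matrix D.Idx D.Idx F).map φ = _
  rw [hF.xU_val' hr, hF.xU_val' hr, xR_map]

theorem gMap_nU {r : ℕ} (hr : r < D.nroots) (t : F) : gMap D φ (nU D r t) = nU D r (φ t) := by
  simp only [nU, map_mul, gMap_xU hF φ hr, gMap_xU hF φ (hF.neg_lt hr), map_neg, map_inv₀]

theorem gMap_nW (l : List (Fin D.rank)) : gMap D φ (nW D F l) = nW D F l := by
  induction l with
  | nil => rw [nW_nil, map_one]
  | cons j l ih => rw [nW_cons, map_mul, ih, nS, gMap_nU hF φ (hF.simple_lt' j.isLt), map_one]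

theorem gMap_hT (c : ℕ → Fˣ) :
    gMap D φ (hT D c) = hT D (fun i => Units.map φ.toMonoidHom (c i)) := by
  rw [hF.hT_eq_list, hF.hT_eq_list, map_list_prod, List.map_map]
  refine congrArg _ (List.map_congr_left fun i hi => ?_)
  rw [List.mem_range] at hi
  simp only [Function.comp, hU, map_mul, gMap_nU hF φ (hF.simple_lt' hi), map_neg, map_one, Units.coe_map]
  rfl

theorem gMap_mem {P : ℕ → Prop} {g : GL D.Idx F} (hg : g ∈ rootClosure D F P) :
    gMap D φ g ∈ rootClosure D F P := by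
  refine (Subgroup.closure_le (K := (rootClosure D F P).comap (gMap D φ))).2 ?_ hg
  rintro x ⟨r, t, hr, hp, rfl⟩
  rw [SetLike.mem_coe, Subgroup.mem_comap, gMap_xU hF φ hr]
  exact xU_mem_rootClosure hr hp _

theorem gMap_mem_group {g : GL D.Idx F} (hg : g ∈ D.group F) : gMap D φ g ∈ D.group F := by
  rw [hF.group_eq] at hg ⊢
  exact gMap_mem hF φ hg

/-- The root elements with fixed parameter. -/
def fixedGen (D : ChevalleyDatum) {F : Type v} [Field F] (φ : F →+* F) : Subgroup (GL D.Idx F) :=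
  Subgroup.closure {g | ∃ (r : ℕ) (t : F), r < D.nroots ∧ φ t = t ∧ g = xU D r t}

omit hF in
theorem xU_mem_fixedGen {r : ℕ} (hr : r < D.nroots) {t : F} (ht : φ t = t) :
    xU D r t ∈ fixedGen D φ := Subgroup.subset_closure ⟨r, t, hr, ht, rfl⟩

theorem fixed_diag_normalizes {h : GL D.Idx F} (hh : h ∈ D.diagonalSubgroup F) (hfix : gMap D φ h = h)
    {x : GL D.Idx F} (hx : x ∈ fixedGen D φ) : h * x * h⁻¹ ∈ fixedGen D φ := by
  refine conj_closure ?_ hx
  rintro y ⟨r, t, hr, ht, rfl⟩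
  obtain ⟨c, rfl⟩ := hF.mem_diagonal_iff.1 hh
  have e := hF.hT_conj_xU c hr t
  rw [e]
  refine xU_mem_fixedGen φ hr (hF.xU_left_inj hr ?_)
  rw [← gMap_xU hF φ hr, ← e, map_mul, map_mul, map_inv, hfix, gMap_xU hF φ hr, ht]

variable (hC : CommF.{v} D)
include hC

theorem fixed_pos {g : GL D.Idx F} (hg : g ∈ rootClosure D F (D.nroots / 2 ≤ ·))
    (hfix : gMap D φ g = g) : g ∈ fixedGen D φ := by
  have hev := hF.nroots_even
  obtain ⟨t, rfl⟩ := hF.exists_ordered hC (m := D.nroots / 2) (k := D.nroots / 2) (by omega) le_rfl hg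
  set L := List.range' (D.nroots / 2) (D.nroots / 2) with hL
  have hlt : ∀ r ∈ L, r < D.nroots := fun r hr => by
    rw [hL, List.mem_range'_1] at hr; omega
  have e : gMap D φ (wU D (L.map fun r => (r, t r))) = wU D (L.map fun r => (r, φ (t r))) := by
    rw [wU, wU, map_list_prod, List.map_map, List.map_map, List.map_map]
    exact congrArg _ (List.map_congr_left fun r hr => gMap_xU hF φ (hlt r hr) (t r))
  rw [e] at hfix
  have hu := hF.ordered_unique (m := D.nroots / 2) (k := D.nroots / 2) (by omega) le_rfl hfix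
  refine wU_mem fun p hp => ?_
  obtain ⟨r, hr, rfl⟩ := List.mem_map.1 hp
  have h1 := hr
  rw [hL, List.mem_range'_1] at h1
  exact xU_mem_fixedGen φ (hlt r hr) (hu r h1.1 (by omega))

/-- A fixed point is a product of a fixed diagonal element and root elements with fixed parameters. -/
theorem fixed_decomp {g : GL D.Idx F} (hg : g ∈ D.group F) (hfix : gMap D φ g = g) :
    ∃ e ∈ fixedGen D φ, ∃ h ∈ D.diagonalSubgroup F, gMap D φ h = h ∧ g = e * h := by
  obtain ⟨b, hb, n, hn, σ, hσ, u, hu, rfl⟩ := hF.bruhat_exists hC hg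
  obtain ⟨l, k, hk, hlk⟩ := hF.exists_nW hn
  have hσl : σ = sW D l := by
    have := hF.permAct_mul (hF.permAct_nW (F := F) l) (hF.permAct_diagonal hk)
    rw [mul_one, ← hlk] at this
    exact hF.permAct_unique hσ this
  subst hσl
  set b' := b * (nW D F l * k * (nW D F l)⁻¹) with hb'
  have hb'B : b' ∈ D.borelSubgroup F := by
    refine Subgroup.mul_mem _ hb (hF.diagonal_le_borel (hF.mem_diagonal_of_permAct
      (Subgroup.mul_mem _ (hlk ▸ hn) (Subgroup.inv_mem _ (hF.nW_mem l))) ?_))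
    have := hF.permAct_mul (hlk ▸ hσ) (hF.permAct_inv (hF.nW_mem l) (hF.permAct_nW (F := F) l))
    rwa [mul_inv_cancel] at this
  have hg' : b * n * u = b' * nW D F l * u := by rw [hb', hlk]; group
  obtain ⟨u1, hu1, h, hh, hb1⟩ := hF.mem_borel_iff.1 hb'B
  obtain ⟨c, hc⟩ := hF.mem_diagonal_iff.1 hh
  have hh' : gMap D φ h ∈ D.diagonalSubgroup F := by
    rw [hc, gMap_hT hF φ]; exact hF.mem_diagonal_iff.2 ⟨_, rfl⟩
  have hb'' : gMap D φ b' ∈ D.borelSubgroup F := by
    rw [hb1, map_mul]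
    exact hF.mem_borel_iff.2 ⟨_, gMap_mem hF φ hu1, _, hh', rfl⟩
  rw [hg', map_mul, map_mul, gMap_nW hF φ] at hfix
  obtain ⟨e1, e2⟩ := hF.bruhat_unique (hF.permAct_nW l) hb'' hb'B (gMap_mem hF φ hu) hu hfix
  rw [hb1, map_mul] at e1
  have e3 : (gMap D φ u1)⁻¹ * u1 = gMap D φ h * h⁻¹ := by
    rw [inv_mul_eq_iff_eq_mul, ← mul_assoc, e1, mul_inv_cancel_right]
  have e4 : (gMap D φ u1)⁻¹ * u1 ∈ rootClosure D F (D.nroots / 2 ≤ ·) ⊓ D.diagonalSubgroup F :=
    ⟨Subgroup.mul_mem _ (Subgroup.inv_mem _ (gMap_mem hF φ hu1)) hu1,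
      e3 ▸ Subgroup.mul_mem _ hh' (Subgroup.inv_mem _ hh)⟩
  rw [hF.pos_inf_diagonal, Subgroup.mem_bot] at e4
  have hu1f := inv_mul_eq_one.1 e4
  have hhf : gMap D φ h = h := mul_inv_eq_one.1 (e3.symm.trans e4)
  have hu1E := fixed_pos hF hC φ hu1 hu1f
  have huE := fixed_pos hF hC φ (rootClosure_mono (fun _ _ h => h.2.1) hu) e2
  have hnE : nW D F l ∈ fixedGen D φ := by
    refine Subgroup.list_prod_mem _ fun y hy => ?_
    obtain ⟨j, -, rfl⟩ := List.mem_map.1 hy
    have hp := hF.simple_lt' j.isLt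
    exact Subgroup.mul_mem _ (Subgroup.mul_mem _ (xU_mem_fixedGen φ hp (map_one φ))
      (xU_mem_fixedGen φ (hF.neg_lt hp) (by simp))) (xU_mem_fixedGen φ hp (map_one φ))
  refine ⟨u1 * (h * (nW D F l * u) * h⁻¹), Subgroup.mul_mem _ hu1E
    (fixed_diag_normalizes hF φ hh hhf (Subgroup.mul_mem _ hnE huE)), h, hh, hhf, ?_⟩
  rw [hg', hb1]
  group

end CfsgLib.Chev.FixedPoints
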