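import Cfsg.Agent.Lib.Known.SL2Lift
import Cfsg.Agent.Lib.Schur.Hopf
import Cfsg.Agent.Lib.Classical.GLOrder
import Cfsg.Agent.S3963
import Cfsg.Agent.S3979
import Mathlib.GroupTheory.SpecificGroups.Quaternion

/-!
# The Schur multipliers of `SL₂(q)` and `PSL₂(q)`
-/

set_option autoImplicit false

namespace CfsgLib.Known.SL2Mult

universe u

open Matrix

section general

variable {E : Type u} {G : Type*} [Group E] [Group G]

/-- A finite stem extension whose restriction to each Sylow subgroup is stem free is trivial. -/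
theorem ker_eq_one_of_sylow [Finite E] [Finite G] (σ : E →* G) (hσ : Cfsg.IsStemExtension σ)
    (h : ∀ (p : ℕ) [Fact p.Prime], p ∣ Nat.card G → ∃ P : Sylow p G,
      ∀ (Δ : Type u) [Group Δ] (τ : Δ →* (P : Subgroup G)), Function.Surjective τ →
        τ.ker ≤ Subgroup.center Δ → ∀ z ∈ commutator Δ, τ z = 1 → z = (1 : Δ)) :
    ∀ z ∈ σ.ker, z = 1 := by
  classical
  by_contra hne
  push Not at hne
  obtain ⟨z₀, hz₀, hz₀1⟩ := hne
  obtain ⟨p, hp, hdvd⟩ := Nat.exists_prime_and_dvd (mt orderOf_eq_one_iff.mp hz₀1)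
  haveI := Fact.mk hp
  set z := z₀ ^ (orderOf z₀ / p) with hz
  have hzo : orderOf z = p := by
    rw [hz, orderOf_pow_of_dvd (Nat.div_ne_zero_iff.mpr ⟨hp.ne_zero,
      Nat.le_of_dvd (orderOf_pos z₀) hdvd⟩) (Nat.div_dvd_of_dvd hdvd),
      Nat.div_div_self hdvd (orderOf_pos z₀).ne']
  have hzk : z ∈ σ.ker := pow_mem hz₀ _
  have hcase : ∀ (P : Subgroup G), ¬ p ∣ P.index →
      (∀ (Δ : Type u) [Group Δ] (τ : Δ →* P), Function.Surjective τ →
        τ.ker ≤ Subgroup.center Δ → ∀ w ∈ commutator Δ, τ w = 1 → w = (1 : Δ)) → False := by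
    intro P hP hPfree
    let R := P.comap σ
    have hidx : R.index = P.index := Subgroup.index_comap_of_surjective _ hσ.1
    let ϕ : R →* Abelianization R := Abelianization.of
    have hzc := hσ.2.1 hzk
    have key : ∀ (k : ℕ) (g₀ : E), g₀⁻¹ * z ^ k * g₀ ∈ R → g₀⁻¹ * z ^ k * g₀ = z ^ k := by
      intro k g₀ _
      rw [mul_assoc, ← Subgroup.mem_center_iff.mp (pow_mem hzc k) g₀, inv_mul_cancel_left]
    have h1 : MonoidHom.transfer ϕ z = 1 :=
      (Abelianization.commutator_subset_ker (MonoidHom.transfer ϕ)) (hσ.2.2 hzk)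
    rw [MonoidHom.transfer_eq_pow ϕ z key] at h1
    have hmem : (⟨z ^ R.index, MonoidHom.transfer_eq_pow_aux z key⟩ : R) ∈ commutator R :=
      (QuotientGroup.eq_one_iff _).mp h1
    let τ : R →* P := (σ.comp R.subtype).codRestrict P fun x => x.2
    have hτs : Function.Surjective τ := fun y => by
      obtain ⟨x, hx⟩ := hσ.1 y.1
      exact ⟨⟨x, show σ x ∈ P by rw [hx]; exact y.2⟩, Subtype.ext hx⟩
    have hτc : τ.ker ≤ Subgroup.center R := fun x hx => by
      refine Subgroup.mem_center_iff.mpr fun g => Subtype.ext ?_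
      exact Subgroup.mem_center_iff.mp (hσ.2.1 (show σ x.1 = 1 from congrArg Subtype.val hx)) g.1
    have hz1 : z ^ R.index = 1 := by
      have := hPfree R τ hτs hτc _ hmem (Subtype.ext (by
        show σ (z ^ R.index) = 1
        rw [map_pow, hzk, one_pow]))
      exact congrArg Subtype.val this
    rw [← orderOf_dvd_iff_pow_eq_one, hzo, hidx] at hz1
    exact hP hz1
  by_cases hpG : p ∣ Nat.card G
  · obtain ⟨P, hP⟩ := h p hpG
    exact hcase _ P.not_dvd_index hP
  · refine hcase ⊥ (by rwa [Subgroup.index_bot]) fun Δ _ τ _ hc w hw _ => ?_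
    have hall : ∀ a b : Δ, a * b = b * a := fun a b =>
      Subgroup.mem_center_iff.mp (hc (Subsingleton.elim (τ b) 1)) a
    have hbot : commutator Δ ≤ ⊥ := by
      rw [commutator_def, Subgroup.commutator_le]
      intro u _ v _
      exact Subgroup.mem_bot.mpr (commutatorElement_eq_one_iff_mul_comm.mpr (hall u v))
    exact Subgroup.mem_bot.mp (hbot hw)

/-- With trivial multiplier a central extension has commutator meeting the kernel trivially. -/
theorem free_of_trivial {P : Type} [Group P] [Finite P] (hP : Cfsg.HasCyclicSchurMultiplier P 1)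
    {Δ : Type*} [Group Δ] (τ : Δ →* P) (hs : Function.Surjective τ) (hc : τ.ker ≤ Subgroup.center Δ) :
    ∀ z ∈ commutator Δ, τ z = 1 → z = 1 := by
  classical
  open CfsgLib.Schur in
  intro z hz hz1
  have hπ := taut_surjective P
  obtain ⟨φ, hφ⟩ := exists_lift (taut P) τ hs hc
  obtain ⟨e⟩ := nonempty_mult_equiv hπ hP
  haveI : Subsingleton (mult (taut P)) := e.toEquiv.subsingleton
  have hsub : commutator Δ ≤ (commutator (Ext (taut P))).map φ := by
    rw [commutator_def, Subgroup.commutator_le]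
    intro a _ b _
    obtain ⟨x, hx⟩ := proj_surjective hπ (τ a)
    obtain ⟨y, hy⟩ := proj_surjective hπ (τ b)
    have hx' : τ a = τ (φ x) := by rw [← MonoidHom.comp_apply τ φ, hφ, hx]
    have hy' : τ b = τ (φ y) := by rw [← MonoidHom.comp_apply τ φ, hφ, hy]
    rw [CfsgLib.Known.SL2Lift.comm_central_left hc hx', CfsgLib.Known.SL2Lift.comm_central_right hc hy',
      ← map_commutatorElement]
    exact Subgroup.mem_map_of_mem _ (Subgroup.commutator_mem_commutator (Subgroup.mem_top x) (Subgroup.mem_top y))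
  obtain ⟨w, hw, rfl⟩ := hsub hz
  have hw1 : proj (taut P) w = 1 := by rw [← hφ]; exact hz1
  have : (⟨w, Subgroup.mem_inf.mpr ⟨hw1, hw⟩⟩ : mult (taut P)) = 1 := Subsingleton.elim _ _
  rw [show w = 1 from congrArg Subtype.val this, map_one]

/-- A central extension of a cyclic group is abelian. -/
theorem free_of_cyclic {P : Type*} [Group P] [IsCyclic P]
    {Δ : Type*} [Group Δ] (τ : Δ →* P) (hc : τ.ker ≤ Subgroup.center Δ) :
    ∀ z ∈ commutator Δ, τ z = 1 → z = 1 := by
  intro z hz _
  have hcomm := (τ.isMulCommutative_of_isCyclic_of_ker_le_center hc).is_comm.comm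
  have hbot : commutator Δ ≤ ⊥ := by
    rw [commutator_def, Subgroup.commutator_le]
    intro u _ v _
    exact Subgroup.mem_bot.mpr (commutatorElement_eq_one_iff_mul_comm.mpr (hcomm u v))
  exact Subgroup.mem_bot.mp (hbot hz)

/-- Trivial multiplier from vanishing of stem kernels. -/
theorem hasTrivial {G : Type u} [Group G] [Finite G]
    (h : ∀ (E : Type u) [Group E] [Finite E] (σ : E →* G), Cfsg.IsStemExtension σ → ∀ z ∈ σ.ker, z = 1) :
    Cfsg.HasCyclicSchurMultiplier G 1 := by
  refine ⟨⟨G, inferInstance, inferInstance, MonoidHom.id G, ⟨fun g => ⟨g, rfl⟩, ?_, ?_⟩, ?_⟩, fun Γ _ _ σ hσ => ?_⟩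
  · rw [MonoidHom.ker_id]; exact bot_le
  · rw [MonoidHom.ker_id]; exact bot_le
  · haveI : Subsingleton (MonoidHom.id G).ker := by rw [MonoidHom.ker_id]; infer_instance
    haveI : Nonempty (MonoidHom.id G).ker := ⟨1⟩
    exact ⟨{ toFun := fun _ => 1, invFun := fun _ => 1, left_inv := fun _ => Subsingleton.elim _ _,
             right_inv := fun _ => Subsingleton.elim _ _, map_mul' := fun _ _ => Subsingleton.elim _ _ }⟩
  · exact ⟨1, fun x => ⟨1, (Subtype.ext (h Γ σ hσ x.1 x.2)).symm⟩⟩

end general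

section sl2

variable {F : Type*} [Field F] [Fintype F]

local notation "SL2" => Matrix.SpecialLinearGroup (Fin 2) F

/-- In a stem extension of a quotient of `SL₂` the kernel consists of lifted central elements. -/
theorem ker_le_image (h4 : Fintype.card F ≠ 4) (h9 : Fintype.card F ≠ 9) (h5 : 4 < Fintype.card F)
    {E G : Type*} [Group E] [Group G] (σ : E →* G) (hσ : Cfsg.IsStemExtension σ) (ψ : SL2 →* G)
    (hψ : Function.Surjective ψ) :
    ∃ s : SL2 →* E, σ.comp s = ψ ∧ σ.ker ≤ ψ.ker.map s := by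
  obtain ⟨s, hs⟩ := CfsgLib.Known.SL2Lift.exists_lift h4 h9 h5 σ hσ.1 hσ.2.1 ψ
  refine ⟨s, hs, fun z hz => ?_⟩
  have hle : commutator E ≤ s.range := by
    rw [commutator_def, Subgroup.commutator_le]
    intro a _ b _
    obtain ⟨x, hx⟩ := hψ (σ a)
    obtain ⟨y, hy⟩ := hψ (σ b)
    have hx' : σ a = σ (s x) := by rw [← MonoidHom.comp_apply σ s, hs, hx]
    have hy' : σ b = σ (s y) := by rw [← MonoidHom.comp_apply σ s, hs, hy]
    rw [CfsgLib.Known.SL2Lift.comm_central_left hσ.2.1 hx',
      CfsgLib.Known.SL2Lift.comm_central_right hσ.2.1 hy', ← map_commutatorElement]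
    exact ⟨_, rfl⟩
  obtain ⟨x, rfl⟩ := hle (hσ.2.2 hz)
  refine Subgroup.mem_map_of_mem _ ?_
  rw [MonoidHom.mem_ker, ← hs]
  exact hz

/-- The quaternion subgroup of `SL₂(3)`. -/
def q8Fun : QuaternionGroup 2 → Matrix (Fin 2) (Fin 2) (ZMod 3)
  | .a i => !![0, -1; 1, 0] ^ i.val
  | .xa i => !![1, 1; 1, -1] * !![0, -1; 1, 0] ^ i.val

theorem q8Fun_spec : (∀ g, (q8Fun g).det = 1) ∧ q8Fun 1 = 1 ∧
    (∀ g h, q8Fun (g * h) = q8Fun g * q8Fun h) ∧ (∀ g h, q8Fun g = q8Fun h → g = h) := by
  refine ⟨?_, ?_, ?_, ?_⟩ <;> decide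

/-- The multiplier of `SL₂(q)` is trivial for `q ≠ 4, 9`. -/
theorem sl2_trivial (h4 : Fintype.card F ≠ 4) (h9 : Fintype.card F ≠ 9) :
    Cfsg.HasCyclicSchurMultiplier SL2 1 := by
  refine hasTrivial fun E _ _ σ hσ => ?_
  rcases Nat.lt_or_ge 4 (Fintype.card F) with h5 | h5
  · intro z hz
    obtain ⟨s, -, hle⟩ := ker_le_image h4 h9 h5 σ hσ (MonoidHom.id _) (fun g => ⟨g, rfl⟩)
    have := hle hz
    rwa [MonoidHom.ker_id, Subgroup.map_bot, Subgroup.mem_bot] at this
  have h23 : Fintype.card F = 2 ∨ Fintype.card F = 3 := by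
    have := Fintype.one_lt_card (α := F)
    omega
  have hcard : Nat.card SL2 * (Fintype.card F - 1) =
      (Fintype.card F ^ 2 - 1) * (Fintype.card F ^ 2 - Fintype.card F) := by
    have h := CfsgLib.Classical.card_SL_mul (F := F) rfl 2 (by norm_num)
    rw [mul_comm, h]
    simp [Fin.prod_univ_two]
  refine ker_eq_one_of_sylow σ hσ fun p _ hp => ?_
  obtain ⟨P⟩ : Nonempty (Sylow p SL2) := inferInstance
  refine ⟨P, fun Δ _ τ hτ hτc => ?_⟩
  have hPcard := P.card_eq_multiplicity
  rcases h23 with hq | hq <;> rw [hq] at hcard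
  · have h6 : Nat.card SL2 = 6 := by simpa using hcard
    rw [h6] at hp hPcard
    have : p = 2 ∨ p = 3 := by
      rw [show (6 : ℕ) = 2 * 3 from rfl] at hp
      rcases (Fact.out : p.Prime).dvd_mul.mp hp with h | h
      · exact Or.inl ((Nat.prime_dvd_prime_iff_eq Fact.out Nat.prime_two).mp h)
      · exact Or.inr ((Nat.prime_dvd_prime_iff_eq Fact.out Nat.prime_three).mp h)
    have hP1 : Nat.card (P : Subgroup SL2) = p := by
      rw [hPcard]
      rcases this with rfl | rfl
      · rw [show (6 : ℕ) = 2 * 3 from rfl, Nat.factorization_mul (by norm_num) (by norm_num),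
          Finsupp.add_apply, Nat.Prime.factorization_self Nat.prime_two,
          Nat.factorization_eq_zero_of_not_dvd (by norm_num : ¬ 2 ∣ 3), pow_one]
      · rw [show (6 : ℕ) = 2 * 3 from rfl, Nat.factorization_mul (by norm_num) (by norm_num),
          Finsupp.add_apply, Nat.Prime.factorization_self Nat.prime_three,
          Nat.factorization_eq_zero_of_not_dvd (by norm_num : ¬ 3 ∣ 2), zero_add, pow_one]
    haveI := isCyclic_of_prime_card hP1
    exact free_of_cyclic τ hτc
  · have h24 : Nat.card SL2 = 24 := by omega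
    rw [h24] at hp hPcard
    have : p = 2 ∨ p = 3 := by
      rw [show (24 : ℕ) = 2 ^ 3 * 3 from rfl] at hp
      rcases (Fact.out : p.Prime).dvd_mul.mp hp with h | h
      · exact Or.inl ((Nat.prime_dvd_prime_iff_eq Fact.out Nat.prime_two).mp ((Fact.out : p.Prime).dvd_of_dvd_pow h))
      · exact Or.inr ((Nat.prime_dvd_prime_iff_eq Fact.out Nat.prime_three).mp h)
    rw [show (24 : ℕ) = 2 ^ 3 * 3 from rfl, Nat.factorization_mul (by norm_num) (by norm_num),
      Finsupp.add_apply] at hPcard
    rcases this with rfl | rfl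
    · -- the quaternion group
      rw [Nat.factorization_pow_self Nat.prime_two,
        Nat.factorization_eq_zero_of_not_dvd (by norm_num : ¬ 2 ∣ 3), add_zero] at hPcard
      obtain ⟨p', hp'⟩ := CharP.exists F
      have h3 : p' = 3 := by
        obtain ⟨k, hpk, hk⟩ := FiniteField.card F p'
        rw [hq] at hk
        have := hk.symm ▸ dvd_pow_self p' k.pos.ne'
        exact (Nat.prime_dvd_prime_iff_eq hpk Nat.prime_three).mp this
      subst h3
      let c : ZMod 3 →+* F := ZMod.castHom dvd_rfl F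
      obtain ⟨hdet, hone, hmul, hinj⟩ := q8Fun_spec
      let f : QuaternionGroup 2 →* SL2 :=
        (Matrix.SpecialLinearGroup.map c).comp
          { toFun := fun g => (⟨q8Fun g, hdet g⟩ : Matrix.SpecialLinearGroup (Fin 2) (ZMod 3))
            map_one' := Subtype.ext hone
            map_mul' := fun g h => Subtype.ext (hmul g h) }
      have hf : Function.Injective f := fun g h e => hinj g h (by
        ext i j
        exact c.injective (congrFun (congrFun (congrArg Subtype.val e) i) j))
      have hfcard : Nat.card f.range = 2 ^ 3 := by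
        rw [← Nat.card_congr (MonoidHom.ofInjective hf).toEquiv, Nat.card_eq_fintype_card, QuaternionGroup.card]
        norm_num
      obtain ⟨g, hg⟩ : ∃ g : SL2, (f.range).map (MulAut.conj g).toMonoidHom = (P : Subgroup SL2) := by
        obtain ⟨Q, hQ⟩ := (IsPGroup.of_card hfcard).exists_le_sylow
        have hQeq : f.range = (Q : Subgroup SL2) := by
          refine Subgroup.eq_of_le_of_card_ge hQ ?_
          rw [hfcard, Q.card_eq_multiplicity, h24, show (24 : ℕ) = 2 ^ 3 * 3 from rfl,
            Nat.factorization_mul (by norm_num) (by norm_num), Finsupp.add_apply,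
            Nat.factorization_pow_self Nat.prime_two,
            Nat.factorization_eq_zero_of_not_dvd (by norm_num : ¬ 2 ∣ 3), add_zero]
        obtain ⟨g, hg⟩ := MulAction.exists_smul_eq SL2 Q P
        exact ⟨g, by rw [← hg, hQeq, Sylow.coe_subgroup_smul]; rfl⟩
      let e1 := (MonoidHom.ofInjective hf).trans
        ((Subgroup.equivMapOfInjective f.range _ (MulAut.conj g).injective).trans (MulEquiv.subgroupCongr hg))
      intro z hz hz1
      exact free_of_trivial (Cfsg.Agent.S3963.result 2) (e1.symm.toMonoidHom.comp τ)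
        (e1.symm.surjective.comp hτ) (fun x hx => hτc (e1.symm.injective (hx.trans (map_one _).symm)))
        z hz (by simp [hz1])
    · rw [Nat.factorization_eq_zero_of_not_dvd (by norm_num : ¬ 3 ∣ 2 ^ 3),
        Nat.Prime.factorization_self Nat.prime_three, zero_add, pow_one] at hPcard
      haveI := isCyclic_of_prime_card hPcard
      exact free_of_cyclic τ hτc

end sl2

end CfsgLib.Known.SL2Mult
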