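import Cfsg.Agent.S2426

/-!
# Central extensions of `SL₂` over a finite field split

Steinberg's argument: in a central extension the root elements lift canonically as commutators with a lift
of a torus element; the lifts are additive because an alternating biadditive form invariant under squares
vanishes when `q ≠ 4, 9`, and they satisfy the rank one Steinberg relations.
-/

set_option autoImplicit false

namespace CfsgLib.Known.SL2Lift

open Matrix CfsgLib.SL2Pres
open Cfsg.Agent.S2426 (root root_val)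

section form

variable {F : Type*} [Field F] [Fintype F] {A : Type*} [CommGroup A]

open Polynomial in
theorem card_le_ten (h : ∀ x : F, x = 0 ∨ x + 1 = 0 ∨ ∃ e1 e2 : F, (e1 = 1 ∨ e1 = -1) ∧ (e2 = 1 ∨ e2 = -1) ∧
    x * (x + 1) + e2 * (x + 1) - e1 * x = 0) : Fintype.card F ≤ 10 := by
  classical
  let q : F → F → F[X] := fun e1 e2 => X ^ 2 + C (1 + e2 - e1) * X + C e2
  have hq : ∀ e1 e2, (q e1 e2).natDegree = 2 ∧ q e1 e2 ≠ 0 := fun e1 e2 => by
    have hd : (q e1 e2).natDegree = 2 := by
      show (X ^ 2 + C (1 + e2 - e1) * X + C e2).natDegree = 2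
      compute_degree!
    exact ⟨hd, fun h0 => by rw [h0, natDegree_zero] at hd; omega⟩
  let P : F[X] := X * (X + C 1) * (q 1 1 * q 1 (-1) * (q (-1) 1 * q (-1) (-1)))
  have hX1 : (X + C (1 : F)) ≠ 0 := X_add_C_ne_zero 1
  have h1 := mul_ne_zero (hq 1 1).2 (hq 1 (-1)).2
  have h2 := mul_ne_zero (hq (-1) 1).2 (hq (-1) (-1)).2
  have hP0 : P ≠ 0 := mul_ne_zero (mul_ne_zero X_ne_zero hX1) (mul_ne_zero h1 h2)
  have hdeg : P.natDegree ≤ 10 := by
    refine natDegree_mul_le.trans ?_
    have a1 : (X * (X + C (1 : F))).natDegree ≤ 2 :=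
      natDegree_mul_le.trans (by rw [natDegree_X, natDegree_X_add_C])
    have a2 : (q 1 1 * q 1 (-1) * (q (-1) 1 * q (-1) (-1))).natDegree ≤ 8 := by
      refine natDegree_mul_le.trans ?_
      have b1 := natDegree_mul_le (p := q 1 1) (q := q 1 (-1))
      have b2 := natDegree_mul_le (p := q (-1) 1) (q := q (-1) (-1))
      rw [(hq _ _).1, (hq _ _).1] at b1 b2
      omega
    omega
  have hroots : (Finset.univ : Finset F).val ⊆ P.roots := by
    intro x _
    rw [mem_roots hP0, IsRoot]
    simp only [P, q, eval_mul, eval_add, eval_pow, eval_X, eval_C]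
    rcases h x with hx | hx | ⟨e1, e2, h1', h2', hx⟩
    · simp [hx]
    · simp [hx]
    · have he : x ^ 2 + (1 + e2 - e1) * x + e2 = 0 := by linear_combination hx
      rcases h1' with rfl | rfl <;> rcases h2' with rfl | rfl <;> simp only [he, mul_zero, zero_mul]
  exact (card_le_degree_of_subset_roots hroots).trans hdeg

/-- An alternating biadditive form invariant under the squares is trivial, `q ≠ 4, 9`. -/
theorem form_trivial (h4 : Fintype.card F ≠ 4) (h9 : Fintype.card F ≠ 9) (c : F → F → A)
    (hl : ∀ u u' v, c (u + u') v = c u v * c u' v) (hr : ∀ u v v', c u (v + v') = c u v * c u v')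
    (halt : ∀ u, c u u = 1) (hinv : ∀ s u v, s ≠ 0 → c (s ^ 2 * u) (s ^ 2 * v) = c u v) :
    ∀ u v, c u v = 1 := by
  classical
  obtain ⟨p, _hp⟩ := CharP.exists F
  haveI : Fact p.Prime := ⟨CharP.char_is_prime F p⟩
  obtain ⟨⟨k, hk0⟩, -, hk⟩ := FiniteField.card F p
  simp only [PNat.mk_coe] at hk
  have hc0 : ∀ v, c 0 v = 1 := fun v => by
    have := hl 0 0 v
    rw [add_zero] at this
    exact left_eq_mul.mp this
  have hc0' : ∀ u, c u 0 = 1 := fun u => by
    have := hr u 0 0
    rw [add_zero] at this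
    exact left_eq_mul.mp this
  by_contra hne
  push Not at hne
  obtain ⟨u₀, v₀, huv⟩ := hne
  -- the field is not prime
  have hk2 : 2 ≤ k := by
    by_contra hk2
    obtain rfl : k = 1 := by omega
    rw [pow_one] at hk
    apply huv
    have hnat : ∀ (m : ℕ) v, c (m : F) v = c 1 v ^ m := by
      intro m v
      induction m with
      | zero => simp [hc0]
      | succ m ih => rw [Nat.cast_succ, hl, ih, pow_succ]
    have hnat' : ∀ (m : ℕ), c 1 (m : F) = 1 := by
      intro m
      induction m with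
      | zero => simp [hc0']
      | succ m ih => rw [Nat.cast_succ, hr, ih, halt, one_mul]
    have hsurj : ∀ x : F, ∃ m : ℕ, (m : F) = x := fun x => by
      have hb : Function.Bijective (fun m : Fin p => ((m : ℕ) : F)) := by
        rw [Fintype.bijective_iff_injective_and_card, Fintype.card_fin, hk]
        refine ⟨fun a b hab => ?_, rfl⟩
        exact Fin.ext (Nat.ModEq.eq_of_lt_of_lt ((CharP.natCast_eq_natCast F p).mp hab) a.isLt b.isLt)
      obtain ⟨m, hm⟩ := hb.2 x
      exact ⟨_, hm⟩
    obtain ⟨a, rfl⟩ := hsurj u₀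
    obtain ⟨b, rfl⟩ := hsurj v₀
    rw [hnat, hnat', one_pow]
  -- the adjoint
  have hsum : ∀ r : F, ∃ r' : F, ∀ u v, c (r * u) v = c u (r' * v) := by
    have hsq : ∀ a : F, ∃ r' : F, ∀ u v, c (a ^ 2 * u) v = c u (r' * v) := fun a => by
      rcases eq_or_ne a 0 with rfl | ha
      · exact ⟨0, fun u v => by simp [hc0, hc0']⟩
      refine ⟨(a ^ 2)⁻¹, fun u v => ?_⟩
      have h := hinv a u ((a ^ 2)⁻¹ * v) ha
      rwa [mul_inv_cancel_left₀ (pow_ne_zero 2 ha)] at h
    intro r
    by_cases h2 : (2 : F) = 0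
    · haveI : CharP F 2 := CharTwo.of_one_ne_zero_of_two_eq_zero one_ne_zero h2
      obtain ⟨a, rfl⟩ := FiniteField.isSquare_of_char_two (ringChar.eq F 2) r
      rw [← pow_two]
      exact hsq a
    · obtain ⟨a', ha'⟩ := hsq ((r + 1) / 2)
      obtain ⟨b', hb'⟩ := hsq ((r - 1) / 2)
      refine ⟨a' - b', fun u v => ?_⟩
      have e : ((r + 1) / 2) ^ 2 * u = r * u + ((r - 1) / 2) ^ 2 * u := by field_simp; ring
      have h1 := ha' u v
      rw [e, hl, hb'] at h1
      have h3 : c u (a' * v) = c u ((a' - b') * v) * c u (b' * v) := by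
        rw [← hr, sub_mul, sub_add_cancel]
      rw [h3] at h1
      exact mul_right_cancel h1
  choose σ hσ using hsum
  have huniq : ∀ r r', (∀ u v, c (r * u) v = c u (r' * v)) → σ r = r' := by
    intro r r' h
    by_contra hd
    apply huv
    have h1 : c u₀ ((σ r - r') * ((σ r - r')⁻¹ * v₀)) = 1 := by
      have e := hr u₀ ((σ r - r') * ((σ r - r')⁻¹ * v₀)) (r' * ((σ r - r')⁻¹ * v₀))
      rw [← add_mul, sub_add_cancel, ← hσ, h] at e
      exact right_eq_mul.mp e
    rwa [mul_inv_cancel_left₀ (sub_ne_zero.mpr hd)] at h1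
  have hmul : ∀ a b, σ (a * b) = σ a * σ b := fun a b => huniq _ _ fun u v => by
    rw [mul_assoc, hσ, hσ, mul_comm (σ a) (σ b), mul_assoc]
  have hone : σ 1 = 1 := huniq _ _ fun u v => by rw [one_mul, one_mul]
  have hadd : ∀ a b, σ (a + b) = σ a + σ b := fun a b => huniq _ _ fun u v => by
    rw [add_mul, hl, hσ, hσ, ← hr, add_mul]
  have hsq : ∀ a, a ≠ 0 → σ (a ^ 2) = (a ^ 2)⁻¹ := fun a ha => huniq _ _ fun u v => by
    have h := hinv a u ((a ^ 2)⁻¹ * v) ha
    rwa [mul_inv_cancel_left₀ (pow_ne_zero 2 ha)] at h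
  have hsign : ∀ x : F, x ≠ 0 → ∃ e : F, (e = 1 ∨ e = -1) ∧ σ x * x = e := by
    intro x hx
    refine ⟨σ x * x, ?_, rfl⟩
    have h := hsq x hx
    rw [pow_two, hmul] at h
    have h' : (σ x * x) * (σ x * x) = 1 := by
      calc (σ x * x) * (σ x * x) = (σ x * σ x) * (x * x) := by ring
        _ = 1 := by rw [h, inv_mul_cancel₀ (mul_ne_zero hx hx)]
    exact mul_self_eq_one_iff.mp h'
  have h10 : Fintype.card F ≤ 10 := card_le_ten fun x => by
    by_cases hx : x = 0
    · exact Or.inl hx
    by_cases hx1 : x + 1 = 0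
    · exact Or.inr (Or.inl hx1)
    obtain ⟨e1, he1, h1⟩ := hsign (x + 1) hx1
    obtain ⟨e2, he2, h2⟩ := hsign x hx
    refine Or.inr (Or.inr ⟨e1, e2, he1, he2, ?_⟩)
    rw [hadd, hone] at h1
    linear_combination x * h1 - (x + 1) * h2
  have hp2 : 2 ≤ p := (Fact.out : p.Prime).two_le
  rw [hk] at h10 h4 h9
  by_cases h2 : p = 2
  · -- the inverse is not additive
    subst h2
    have h2' : (2 : F) = 0 := by exact_mod_cast CharP.cast_eq_zero F 2
    have hinv2 : ∀ x : F, x ≠ 0 → σ x * x = 1 := by
      intro x hx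
      obtain ⟨e, he, h⟩ := hsign x hx
      rcases he with rfl | rfl
      · exact h
      · rw [h]; linear_combination -h2'
    have hk3 : k = 3 := by
      rcases Nat.lt_or_ge k 3 with h | h
      · obtain rfl : k = 2 := by omega
        norm_num at h4
      rcases Nat.lt_or_ge k 4 with h' | h'
      · omega
      · have := Nat.pow_le_pow_right (show 0 < 2 by norm_num) h'
        norm_num at this
        omega
    subst hk3
    have hall : ∀ x : F, x ≠ 0 → x + 1 ≠ 0 → x ^ 2 + x + 1 = 0 := by
      intro x hx hx1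
      have h1 := hinv2 (x + 1) hx1
      have h3 := hinv2 x hx
      rw [hadd, hone] at h1
      linear_combination x * h1 - (x + 1) * h3 + (x + 1) * h2' * 0
    let S : Finset F := Finset.univ.filter fun x => x ≠ 0 ∧ x + 1 ≠ 0
    have hS : 6 ≤ S.card := by
      have hsub : (Finset.univ : Finset F) ⊆ S ∪ {0, -1} := by
        intro x _
        simp only [Finset.mem_union, S, Finset.mem_filter, Finset.mem_univ, true_and, Finset.mem_insert,
          Finset.mem_singleton]
        by_cases h1 : x = 0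
        · exact Or.inr (Or.inl h1)
        by_cases h3 : x + 1 = 0
        · exact Or.inr (Or.inr (eq_neg_of_add_eq_zero_left h3))
        · exact Or.inl ⟨h1, h3⟩
      have := (Finset.card_le_card hsub).trans (Finset.card_union_le _ _)
      have h3 : ({0, -1} : Finset F).card ≤ 2 := Finset.card_le_two
      rw [Finset.card_univ, hk] at this
      norm_num at this
      omega
    have hle : S.card ≤ 2 := by
      obtain ⟨y, hy⟩ : S.Nonempty := Finset.card_pos.mp (by omega)
      refine (Finset.card_le_card (t := {y, -1 - y}) fun x hx => ?_).trans Finset.card_le_two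
      simp only [S, Finset.mem_filter, Finset.mem_univ, true_and] at hx hy
      have e := hall x hx.1 hx.2
      have e' := hall y hy.1 hy.2
      have : (x - y) * (x + y + 1) = 0 := by linear_combination e - e'
      rcases mul_eq_zero.mp this with h | h
      · simp [sub_eq_zero.mp h]
      · exact Finset.mem_insert_of_mem (Finset.mem_singleton.mpr (by linear_combination h))
    omega
  · have h3 : 3 ≤ p := by omega
    have hk2' : k = 2 := by
      by_contra h
      have := Nat.pow_le_pow_right (show 0 < p by omega) (show 3 ≤ k by omega)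
      have := Nat.pow_le_pow_left h3 3
      omega
    subst hk2'
    rcases Nat.lt_or_ge p 4 with h | h
    · obtain rfl : p = 3 := by omega
      norm_num at h9
    · have := Nat.pow_le_pow_left h 2
      norm_num at this
      omega

end form

section lift

variable {F : Type*} [Field F] {E G : Type*} [Group E] [Group G]

open scoped commutatorElement

theorem comm_central_left {σ : E →* G} (hc : σ.ker ≤ Subgroup.center E) {a a' : E} (h : σ a = σ a') (b : E) :
    ⁅a, b⁆ = ⁅a', b⁆ := by
  obtain ⟨z, rfl⟩ : ∃ z, a = a' * z := ⟨a'⁻¹ * a, by group⟩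
  have hz : z ∈ σ.ker := by
    rw [MonoidHom.mem_ker]
    rw [map_mul] at h
    exact mul_eq_left.mp h
  have hz' : b * z⁻¹ = z⁻¹ * b := Subgroup.mem_center_iff.mp (Subgroup.inv_mem _ (hc hz)) b
  rw [commutatorElement_def, commutatorElement_def, _root_.mul_inv_rev]
  calc a' * z * b * (z⁻¹ * a'⁻¹) * b⁻¹ = a' * z * (b * z⁻¹) * a'⁻¹ * b⁻¹ := by group
    _ = a' * b * a'⁻¹ * b⁻¹ := by rw [hz']; group

theorem comm_central_right {σ : E →* G} (hc : σ.ker ≤ Subgroup.center E) {b b' : E} (h : σ b = σ b') (a : E) :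
    ⁅a, b⁆ = ⁅a, b'⁆ := by
  rw [← commutatorElement_inv b a, ← commutatorElement_inv b' a, comm_central_left hc h]

theorem comm_mul_right (h a b : E) : ⁅h, a * b⁆ = ⁅h, a⁆ * (a * ⁅h, b⁆ * a⁻¹) := by
  simp only [commutatorElement_def]; group

theorem comm_mul_left (a b c : E) : ⁅a * b, c⁆ = a * ⁅b, c⁆ * a⁻¹ * ⁅a, c⁆ := by
  simp only [commutatorElement_def]; group

/-- The torus element with parameter `t`. -/
def dia (t : Fˣ) : Matrix.SpecialLinearGroup (Fin 2) F := hDiag t

/-- The weight of the torus on a root subgroup. -/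
def wgt (b : Bool) (t : Fˣ) : F := if b then (t : F) ^ 2 else ((t⁻¹ : Fˣ) : F) ^ 2

theorem dia_conj (b : Bool) (t : Fˣ) (c : F) :
    dia t * root (b, c) * (dia t)⁻¹ = root (b, wgt b t * c) := by
  rw [mul_inv_eq_iff_eq_mul]
  refine Matrix.SpecialLinearGroup.ext _ _ fun i j => ?_
  simp only [Matrix.SpecialLinearGroup.coe_mul, root_val, dia, hDiag_val, wgt]
  cases b <;> fin_cases i <;> fin_cases j <;>
    simp [Matrix.mul_apply, Fin.sum_univ_two] <;> field_simp

theorem root_add (b : Bool) (u v : F) :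
    root (b, u) * root (b, v) = root (b, u + v) := by
  refine Matrix.SpecialLinearGroup.ext _ _ fun i j => ?_
  rw [Matrix.SpecialLinearGroup.coe_mul, root_val, root_val, root_val]
  cases b <;> fin_cases i <;> fin_cases j <;>
    simp [Matrix.mul_apply, Fin.sum_univ_two, add_comm]

theorem root_zero (b : Bool) : root (b, (0 : F)) = 1 := by
  have h := root_add b (0 : F) 0
  rw [add_zero] at h
  exact mul_eq_left.mp h

/-- The Weyl element. -/
def wroot (b : Bool) (t : F) : Matrix.SpecialLinearGroup (Fin 2) F :=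
  root (b, t) * root (!b, -t⁻¹) * root (b, t)

theorem wroot_conj (b : Bool) {t : F} (ht : t ≠ 0) (u : F) :
    wroot b t * root (b, u) * (wroot b t)⁻¹ = root (!b, -(t⁻¹ ^ 2 * u)) := by
  rw [mul_inv_eq_iff_eq_mul]
  refine Matrix.SpecialLinearGroup.ext _ _ fun i j => ?_
  simp only [wroot, Matrix.SpecialLinearGroup.coe_mul, root_val]
  cases b <;> fin_cases i <;> fin_cases j <;>
    simp [Matrix.mul_apply, Fin.sum_univ_two] <;> field_simp <;> ring_nf <;> simp [ht]

theorem wroot_dia (b : Bool) {t : F} (ht : t ≠ 0) (s : Fˣ) :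
    (wroot b t)⁻¹ * dia s * wroot b t = dia s⁻¹ := by
  rw [mul_assoc, inv_mul_eq_iff_eq_mul]
  refine Matrix.SpecialLinearGroup.ext _ _ fun i j => ?_
  simp only [wroot, dia, Matrix.SpecialLinearGroup.coe_mul, root_val, hDiag_val, inv_inv]
  cases b <;> fin_cases i <;> fin_cases j <;>
    simp [Matrix.mul_apply, Fin.sum_univ_two, ht] <;> ring

variable [Fintype F]

/-- A homomorphism from `SL₂` lifts through any central surjection. -/
theorem exists_lift (h4 : Fintype.card F ≠ 4) (h9 : Fintype.card F ≠ 9) (h3 : 4 < Fintype.card F)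
    (σ : E →* G) (hσ : Function.Surjective σ) (hc : σ.ker ≤ Subgroup.center E)
    (ψ : Matrix.SpecialLinearGroup (Fin 2) F →* G) :
    ∃ s : Matrix.SpecialLinearGroup (Fin 2) F →* E, σ.comp s = ψ := by
  classical
  choose sec hsec using hσ
  let L : Matrix.SpecialLinearGroup (Fin 2) F → E := fun g => sec (ψ g)
  have hL : ∀ g, σ (L g) = ψ g := fun g => hsec _
  have hker : ∀ z, σ z = 1 → ∀ g, g * z = z * g := fun z hz g =>
    Subgroup.mem_center_iff.mp (hc hz) g
  -- a torus element acting without fixed points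
  obtain ⟨t0, ht0⟩ : ∃ t0 : Fˣ, (t0 : F) ^ 2 ≠ 1 := by
    by_contra hall
    push Not at hall
    have hle : Fintype.card F ≤ 3 := by
      have hsub : (Finset.univ : Finset F) ⊆ {0, 1, -1} := by
        intro x _
        rcases eq_or_ne x 0 with rfl | hx
        · simp
        · have h := hall (Units.mk0 x hx)
          rw [Units.val_mk0, pow_two] at h
          rcases mul_self_eq_one_iff.mp h with rfl | rfl <;> simp
      exact (Finset.card_le_card hsub).trans Finset.card_le_three
    omega
  have hk : ∀ b, wgt b t0 - 1 ≠ 0 := by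
    intro b
    rw [sub_ne_zero]
    cases b
    · simp only [wgt, Units.val_inv_eq_inv_val, inv_pow]
      simpa using ht0
    · simpa [wgt] using ht0
  -- lifts of one root group commute
  have hcomm : ∀ (b : Bool) (u v : F) (x y : E), σ x = ψ (root (b, u)) → σ y = ψ (root (b, v)) →
      x * y = y * x := by
    intro b u v x y hx hy
    let c : F → F → σ.ker := fun u v => ⟨⁅L (root (b, u)), L (root (b, v))⁆, by
      rw [MonoidHom.mem_ker, map_commutatorElement, hL, hL, ← map_commutatorElement,
        commutatorElement_eq_one_iff_mul_comm.mpr (by rw [root_add, root_add, add_comm]), map_one]⟩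
    letI : CommGroup σ.ker :=
      { mul_comm := fun a b => Subtype.ext (hker b.1 b.2 a.1) }
    have hl : ∀ u u' v, c (u + u') v = c u v * c u' v := fun u u' v => Subtype.ext (by
      show ⁅L (root (b, u + u')), L (root (b, v))⁆ = _ * _
      rw [comm_central_left hc (a' := L (root (b, u)) * L (root (b, u'))) (by
        rw [map_mul, hL, hL, hL, ← map_mul, root_add]), comm_mul_left,
        hker _ (c u' v).2 (L (root (b, u))), mul_inv_cancel_right]
      exact hker _ (c u v).2 _)
    have hr : ∀ u v v', c u (v + v') = c u v * c u v' := fun u v v' => Subtype.ext (by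
      show ⁅L (root (b, u)), L (root (b, v + v'))⁆ = _ * _
      rw [comm_central_right hc (b' := L (root (b, v)) * L (root (b, v'))) (by
        rw [map_mul, hL, hL, hL, ← map_mul, root_add]), comm_mul_right,
        hker _ (c u v').2 (L (root (b, v))), mul_inv_cancel_right])
    have halt : ∀ u, c u u = 1 := fun u => Subtype.ext (commutatorElement_self _)
    have hinv : ∀ s u v, s ≠ 0 → c (s ^ 2 * u) (s ^ 2 * v) = c u v := by
      intro s u v hs
      obtain ⟨t, ht⟩ : ∃ t : Fˣ, wgt b t = s ^ 2 := by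
        cases b
        · exact ⟨(Units.mk0 s hs)⁻¹, by simp [wgt]⟩
        · exact ⟨Units.mk0 s hs, by simp [wgt]⟩
      refine Subtype.ext ?_
      show ⁅L (root (b, s ^ 2 * u)), L (root (b, s ^ 2 * v))⁆ = ⁅L (root (b, u)), L (root (b, v))⁆
      have e : ∀ w, σ (L (root (b, s ^ 2 * w))) = σ (L (dia t) * L (root (b, w)) * (L (dia t))⁻¹) := by
        intro w
        rw [map_mul, map_mul, map_inv, hL, hL, hL, ← map_inv, ← map_mul, ← map_mul, dia_conj, ht]
      rw [comm_central_left hc (e u), comm_central_right hc (e v), ← conjugate_commutatorElement,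
        hker _ (c u v).2 (L (dia t)), mul_inv_cancel_right]
    have h := congrArg Subtype.val (form_trivial h4 h9 c hl hr halt hinv u v)
    change ⁅L (root (b, u)), L (root (b, v))⁆ = 1 at h
    rw [← comm_central_left hc (hx.trans (hL _).symm), ← comm_central_right hc (hy.trans (hL _).symm),
      commutatorElement_eq_one_iff_mul_comm] at h
    exact h
  -- canonical lifts
  let H := L (dia t0)
  let e : Bool → F → E := fun b u => ⁅H, L (root (b, u / (wgt b t0 - 1)))⁆
  have he : ∀ b u, σ (e b u) = ψ (root (b, u)) := by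
    intro b u
    show σ ⁅L (dia t0), L _⁆ = _
    rw [map_commutatorElement, hL, hL, ← map_commutatorElement, commutatorElement_def, dia_conj]
    congr 1
    rw [mul_inv_eq_iff_eq_mul, root_add]
    congr 2
    field_simp [hk b]
    ring
  have hadd : ∀ b u v, e b (u + v) = e b u * e b v := by
    intro b u v
    show ⁅H, L (root (b, (u + v) / _))⁆ = _
    rw [comm_central_right hc (b' := L (root (b, u / (wgt b t0 - 1))) * L (root (b, v / (wgt b t0 - 1)))) (by
      rw [map_mul, hL, hL, hL, ← map_mul, root_add, add_div]), comm_mul_right,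
      hcomm b (u / (wgt b t0 - 1)) v _ _ (hL _) (he b v), mul_inv_cancel_right]
  have hzero : ∀ b, e b 0 = 1 := fun b => by
    have h := hadd b 0 0
    rw [add_zero] at h
    exact left_eq_mul.mp h
  have htorus : ∀ (s : Fˣ) (h : E), σ h = ψ (dia s) → ∀ b u, h * e b u * h⁻¹ = e b (wgt b s * u) := by
    intro s h hh b u
    show h * ⁅H, L _⁆ * h⁻¹ = ⁅H, L _⁆
    rw [conjugate_commutatorElement, comm_central_left hc (a' := H), comm_central_right hc]
    · rw [map_mul, map_mul, map_inv, hh, hL, hL, ← map_inv, ← map_mul, ← map_mul, dia_conj, mul_div_assoc]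
    · rw [map_mul, map_mul, map_inv, hh, hL, ← map_inv, ← map_mul, ← map_mul]
      congr 1
      refine Matrix.SpecialLinearGroup.ext _ _ fun i j => ?_
      rw [show dia s * dia t0 * (dia s)⁻¹ = dia t0 by
        rw [mul_inv_eq_iff_eq_mul]
        refine Matrix.SpecialLinearGroup.ext _ _ fun i j => ?_
        simp only [dia, Matrix.SpecialLinearGroup.coe_mul, hDiag_val]
        fin_cases i <;> fin_cases j <;> simp [Matrix.mul_apply, Fin.sum_univ_two, mul_comm]]
  -- the Steinberg relations
  have S : St2 e := by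
    refine ⟨hadd, fun b t u ht => ?_⟩
    set n := e b t * e (!b) (-t⁻¹) * e b t with hn
    have hσn : σ n = ψ (wroot b t) := by rw [hn, map_mul, map_mul, he, he, ← map_mul, ← map_mul, wroot]
    let δ : F → E := fun u => n * e b u * n⁻¹ * (e (!b) (-(t⁻¹ ^ 2 * u)))⁻¹
    have hδk : ∀ u, σ (δ u) = 1 := fun u => by
      show σ (n * e b u * n⁻¹ * (e (!b) (-(t⁻¹ ^ 2 * u)))⁻¹) = 1
      rw [map_mul, map_mul, map_mul, map_inv, map_inv, hσn, he, he, ← map_inv, ← map_inv, ← map_mul,
        ← map_mul, ← map_mul, wroot_conj b ht, mul_inv_cancel, map_one]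
    have hδval : ∀ u, n * e b u * n⁻¹ = δ u * e (!b) (-(t⁻¹ ^ 2 * u)) := fun u => by
      simp [δ, mul_assoc]
    have hδadd : ∀ u v, δ (u + v) = δ u * δ v := by
      intro u v
      have h1 : n * e b (u + v) * n⁻¹ = (n * e b u * n⁻¹) * (n * e b v * n⁻¹) := by rw [hadd]; group
      rw [hδval, hδval, hδval, mul_add, neg_add, hadd] at h1
      have h2 : δ u * e (!b) (-(t⁻¹ ^ 2 * u)) * (δ v * e (!b) (-(t⁻¹ ^ 2 * v))) =
          δ u * δ v * (e (!b) (-(t⁻¹ ^ 2 * u)) * e (!b) (-(t⁻¹ ^ 2 * v))) := by
        rw [← mul_assoc, mul_assoc (δ u), hker _ (hδk v)]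
        group
      exact mul_right_cancel (h1.trans h2)
    have hswap : wgt (!b) t0 = wgt b t0⁻¹ := by cases b <;> simp [wgt]
    have hμ : wgt b t0⁻¹ - 1 ≠ 0 := hswap ▸ hk (!b)
    have hδfix : ∀ u, δ (wgt b t0⁻¹ * u) = δ u := by
      intro u
      have hm : σ (n⁻¹ * H * n) = ψ (dia t0⁻¹) := by
        rw [map_mul, map_mul, map_inv, hσn, hL, ← map_inv, ← map_mul, ← map_mul, wroot_dia b ht]
      have h1 : H * (n * e b u * n⁻¹) * H⁻¹ = n * e b (wgt b t0⁻¹ * u) * n⁻¹ := by
        rw [← htorus t0⁻¹ _ hm b u]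
        group
      have h2 : H * (δ u * e (!b) (-(t⁻¹ ^ 2 * u))) * H⁻¹ =
          δ u * e (!b) (-(t⁻¹ ^ 2 * (wgt b t0⁻¹ * u))) := by
        rw [← mul_assoc, hker _ (hδk u) H, mul_assoc, mul_assoc, ← mul_assoc H,
          htorus t0 H (hL _), hswap]
        congr 2
        ring
      rw [hδval, h2, hδval] at h1
      exact (mul_right_cancel h1).symm
    have hδ1 : ∀ u, δ u = 1 := by
      intro u
      have h := hδfix (u / (wgt b t0⁻¹ - 1))
      have h' : wgt b t0⁻¹ * (u / (wgt b t0⁻¹ - 1)) = u + u / (wgt b t0⁻¹ - 1) := by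
        field_simp
        ring
      rw [h', hδadd] at h
      exact mul_eq_right.mp h
    rw [hδval, hδ1, one_mul]
  obtain ⟨f, hf, hf'⟩ := Cfsg.Agent.S2426.result (K := F)
  have hrel : ∀ r ∈ ({g : FreeGroup (Bool × F) | ∃ (b : Bool) (t u : F), g = FreeGroup.of (b, t) * FreeGroup.of (b, u) * (FreeGroup.of (b, t + u))⁻¹} ∪
          {g | ∃ (b : Bool) (t u : F), t ≠ 0 ∧
            g = (FreeGroup.of (b, t) * FreeGroup.of (!b, -t⁻¹) * FreeGroup.of (b, t)) * FreeGroup.of (b, u) *
                  (FreeGroup.of (b, t) * FreeGroup.of (!b, -t⁻¹) * FreeGroup.of (b, t))⁻¹ * (FreeGroup.of (!b, -(t⁻¹ ^ 2 * u)))⁻¹}),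
      FreeGroup.lift (fun p : Bool × F => e p.1 p.2) r = 1 := by
    rintro r (⟨b, t, u, rfl⟩ | ⟨b, t, u, ht, rfl⟩)
    · simp only [map_mul, map_inv, FreeGroup.lift_apply_of]
      rw [mul_inv_eq_one]
      exact (hadd b t u).symm
    · simp only [map_mul, map_inv, FreeGroup.lift_apply_of]
      rw [mul_inv_eq_one]
      exact S.rel b t u ht
  refine ⟨(PresentedGroup.toGroup hrel).comp f.symm.toMonoidHom, ?_⟩
  have key : σ.comp (PresentedGroup.toGroup hrel) = ψ.comp f.toMonoidHom := by
    refine PresentedGroup.ext fun ⟨b, c⟩ => ?_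
    have hfr : f (PresentedGroup.of (b, c)) = root (b, c) := by
      refine Subtype.ext ?_
      rw [root_val]
      cases b
      · exact hf' c
      · exact hf c
    rw [MonoidHom.comp_apply, MonoidHom.comp_apply, PresentedGroup.toGroup.of]
    show σ (e b c) = ψ (f (PresentedGroup.of (b, c)))
    rw [he, hfr]
  ext g
  obtain ⟨x, rfl⟩ := f.surjective g
  simpa using DFunLike.congr_fun key x

end lift

end CfsgLib.Known.SL2Lift
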