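import Cfsg.Agent.Lib.Known.ChevAutOut
import Cfsg.Agent.Lib.Chev.Twist.Graph

/-!
# The symmetries of the diagram induced by automorphisms
-/

set_option autoImplicit false
set_option linter.unusedSectionVars false
set_option linter.style.haveILetI false
set_option maxRecDepth 20000

namespace CfsgLib.Chev

open Cfsg.Lie

/-- The data of the graph automorphism of `chevD4` exchanging the nodes 0 and 2. -/
def parD4t : TwPar where
  rho := fun r => Table.slot 13828420558190238458515749863257921682046300735405498846667101957884240593960981118909682944962458448124255993856 r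
  pi := fun i => Table.slot 844424930197506 i
  eps := fun r => Int.ofNat (Table.slot 1202472150649098626023733473089456079359749431140947968640636093905617484831433357367142505243398144708720066562 r) - 1
  lam := fun _ => 1
  p := 0

theorem parD4t_ok : parD4t.OK chevD4 :=
  TwPar.ok_of_chk (by decide +kernel) (by decide +kernel) (by decide +kernel)

namespace AutThm

universe v

variable {F : Type v} [Field F] {D : ChevalleyDatum} {co : ℕ → ℕ → ℤ}

theorem norm_of_graph (hF : Facts D co) {P : TwPar} {α : ↥(D.group F) ≃* ↥(D.group F)}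
    (hα : IsGraph D P α) (π : Equiv.Perm (Fin D.rank)) (hπ : ∀ i : Fin D.rank, P.pi i = (π i).val) :
    Norm α π := by
  intro i t
  have hi := hF.simple_lt' i.isLt
  have hj := hF.simple_lt' (π i).isLt
  refine ⟨⟨t ^ P.lam (D.simple i), ?_⟩, ⟨t ^ P.lam (D.simple i), ?_⟩⟩
  · rw [app_eq _ (mem_x hF hi t)]
    have h := (hα ⟨_, mem_x hF hi t⟩ i.val t i.isLt).1 (hF.xU_val hi t)
    rw [hπ i, ← hF.xU_val hj] at h
    exact Units.ext h
  · rw [app_eq _ (mem_x hF (hF.neg_lt hi) t)]
    have h := (hα ⟨_, mem_x hF (hF.neg_lt hi) t⟩ i.val t i.isLt).2 (hF.xU_val (hF.neg_lt hi) t)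
    rw [hπ i, ← hF.xU_val (hF.neg_lt hj)] at h
    exact Units.ext h

theorem exists_pow_one {K : Type v} [Field K] (x : K) : ∃ y : K, y ^ 1 = x := ⟨x, pow_one x⟩

theorem exists_graph_D4t :
    ∃ α : ↥(chevD4.group F) ≃* ↥(chevD4.group F), IsGraph chevD4 parD4t α :=
  exists_graph (K := F) good_D4 (hasNbr_of_mem (by simp)) parD4t_ok parD4t_ok
    (e := 1) (Nat.cast_zero) (Nat.cast_zero) (fun _ _ => exists_pow_one) (fun _ _ => exists_pow_one)
    (by decide +kernel) (by decide +kernel) (MulEquiv.refl _) (fun r _ t _ => by simp)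

theorem exists_graph_E6 :
    ∃ α : ↥(chevE6.group F) ≃* ↥(chevE6.group F), IsGraph chevE6 parE6 α :=
  exists_graph (K := F) good_E6 (hasNbr_of_mem (by simp)) parE6_ok parE6_ok
    (e := 1) (Nat.cast_zero) (Nat.cast_zero) (fun _ _ => exists_pow_one) (fun _ _ => exists_pow_one)
    (by decide +kernel) (by decide +kernel) (MulEquiv.refl _) (fun r _ t _ => by simp)

theorem exists_graph_G2 [Finite F] [CharP F 3] :
    ∃ α : ↥(chevG2.group F) ≃* ↥(chevG2.group F), IsGraph chevG2 parG2 α := by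
  haveI := Fact.mk Nat.prime_three
  have hperf : ∀ x : F, ∃ y : F, y ^ 3 = x :=
    Finite.surjective_of_injective (frobenius F 3).injective
  have h3 : ((3 : ℕ) : F) = 0 := CharP.cast_eq_zero F 3
  have hl : ∀ r < chevG2.nroots, parG2.lam r = 1 ∨ parG2.lam r = 3 := by decide +kernel
  have hpow : ∀ n, n = 1 ∨ n = 3 → ∀ x : F, ∃ y : F, y ^ n = x := by
    rintro n (rfl | rfl) x
    exacts [⟨x, pow_one x⟩, hperf x]
  obtain ⟨β, hβ⟩ := exists_frobenius (K := F) (D := chevG2) (by simp) 3 hperf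
  exact exists_graph (K := F) good_G2 (hasNbr_of_mem (by simp)) parG2_ok parG2_ok
    (e := 3) h3 h3 (fun r hr => hpow _ (hl r hr)) (fun r hr => hpow _ (hl r hr))
    (by decide +kernel) (by decide +kernel) β hβ

theorem exists_graph_F4 [Finite F] [CharP F 2] :
    ∃ α : ↥(chevF4.group F) ≃* ↥(chevF4.group F), IsGraph chevF4 parF4 α := by
  haveI := Fact.mk Nat.prime_two
  have hperf : ∀ x : F, ∃ y : F, y ^ 2 = x :=
    Finite.surjective_of_injective (frobenius F 2).injective
  have h2 : ((2 : ℕ) : F) = 0 := CharP.cast_eq_zero F 2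
  have hl : ∀ r < chevF4.nroots, parF4.lam r = 1 ∨ parF4.lam r = 2 := by decide +kernel
  have hpow : ∀ n, n = 1 ∨ n = 2 → ∀ x : F, ∃ y : F, y ^ n = x := by
    rintro n (rfl | rfl) x
    exacts [⟨x, pow_one x⟩, hperf x]
  obtain ⟨β, hβ⟩ := exists_frobenius (K := F) (D := chevF4) (by simp) 2 hperf
  exact exists_graph (K := F) good_F4 (hasNbr_of_mem (by simp)) parF4_ok parF4_ok
    (e := 2) h2 h2 (fun r hr => hpow _ (hl r hr)) (fun r hr => hpow _ (hl r hr))
    (by decide +kernel) (by decide +kernel) β hβ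

/-- A set of at most two permutations. -/
theorem card_range_le_two {r : ℕ} {H : Subgroup (Equiv.Perm (Fin r))} (s : Equiv.Perm (Fin r))
    (h : ∀ π ∈ H, π = 1 ∨ π = s) :
    Nat.card ↥H = 1 ∨ Nat.card ↥H = 2 := by
  have h1 : Nat.card ↥H ≤ 2 := by
    have hsub : (H : Set (Equiv.Perm (Fin r))) ⊆ {1, s} := fun π hπ => h π hπ
    calc Nat.card ↥H = (H : Set (Equiv.Perm (Fin r))).ncard := Nat.card_coe_set_eq _
      _ ≤ ({1, s} : Set (Equiv.Perm (Fin r))).ncard := Set.ncard_le_ncard hsub
      _ ≤ 2 := (Set.ncard_insert_le _ _).trans (by rw [Set.ncard_singleton])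
  have h0 : 0 < Nat.card ↥H := Nat.card_pos
  omega

/-- Exactly two permutations. -/
theorem card_range_two {r : ℕ} {H : Subgroup (Equiv.Perm (Fin r))} (s : Equiv.Perm (Fin r))
    (h : ∀ π ∈ H, π = 1 ∨ π = s) (hs : s ∈ H) (hne : s ≠ 1) : Nat.card ↥H = 2 := by
  rcases card_range_le_two s h with e | e
  · rw [Subgroup.card_eq_one] at e
    exact absurd (Subgroup.mem_bot.1 (e ▸ hs)) hne
  · exact e

theorem eq_rev {r : ℕ} {π : Equiv.Perm (Fin r)} (h : ∀ i : Fin r, (π i).val = r - 1 - i.val) :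
    π = Fin.revPerm :=
  Equiv.ext fun i => Fin.ext (by rw [h i, Fin.revPerm_apply, Fin.val_rev]; omega)

theorem symTwo_cases {ok : Prop} {π : Equiv.Perm (Fin D.rank)} (h : SymTwo D F ok π) :
    π = 1 ∨ π = Fin.revPerm :=
  h.imp id fun h => eq_rev h.1

/-- The symmetry of the diagram of type E₆. -/
def e6Sym : Equiv.Perm (Fin chevE6.rank) :=
  Equiv.swap ⟨0, by decide +kernel⟩ ⟨5, by decide +kernel⟩ *
    Equiv.swap ⟨2, by decide +kernel⟩ ⟨4, by decide +kernel⟩

theorem adj_E6 {π : Equiv.Perm (Fin chevE6.rank)} (h : Adj chevE6 π) : π = 1 ∨ π = e6Sym := by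
  have hs : ∀ L ∈ symList chevE6,
      L = (List.finRange chevE6.rank).map (fun i => ((1 : Equiv.Perm (Fin chevE6.rank)) i).val) ∨
      L = (List.finRange chevE6.rank).map (fun i => (e6Sym i).val) := by decide +kernel
  exact (hs _ h.mem).imp (fun e => Adj.eq_of e rfl) (fun e => Adj.eq_of e rfl)

theorem adj_E7 {π : Equiv.Perm (Fin chevE7.rank)} (h : Adj chevE7 π) : π = 1 := by
  have hs : ∀ L ∈ symList chevE7,
      L = (List.finRange chevE7.rank).map (fun i => ((1 : Equiv.Perm (Fin chevE7.rank)) i).val) := by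
    decide +kernel
  exact Adj.eq_of (hs _ h.mem) rfl

theorem adj_E8 {π : Equiv.Perm (Fin chevE8.rank)} (h : Adj chevE8 π) : π = 1 := by
  have hs : ∀ L ∈ symList chevE8,
      L = (List.finRange chevE8.rank).map (fun i => ((1 : Equiv.Perm (Fin chevE8.rank)) i).val) := by
    decide +kernel
  exact Adj.eq_of (hs _ h.mem) rfl

theorem adj_D4 {π : Equiv.Perm (Fin chevD4.rank)} (h : Adj chevD4 π) :
    π ∈ MulAction.stabilizer (Equiv.Perm (Fin chevD4.rank)) (⟨1, by decide +kernel⟩ : Fin chevD4.rank) := by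
  have hs : ∀ L ∈ symList chevD4, L.getD 1 0 = 1 := by decide +kernel
  refine MulAction.mem_stabilizer_iff.2 (Fin.ext ?_)
  show (π ⟨1, _⟩).val = 1
  rw [Adj.get rfl ⟨1, by decide +kernel⟩]
  exact hs _ h.mem

theorem card_stab_D4 : Nat.card ↥(MulAction.stabilizer (Equiv.Perm (Fin chevD4.rank))
    (⟨1, by decide +kernel⟩ : Fin chevD4.rank)) = 6 := by
  set x0 : Fin chevD4.rank := ⟨1, by decide +kernel⟩
  have h := Subgroup.card_mul_index (MulAction.stabilizer (Equiv.Perm (Fin chevD4.rank)) x0)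
  have ho : MulAction.orbit (Equiv.Perm (Fin chevD4.rank)) x0 = Set.univ :=
    Set.eq_univ_of_forall fun i => ⟨Equiv.swap x0 i, Equiv.swap_apply_left x0 i⟩
  rw [MulAction.index_stabilizer, ho, Set.ncard_univ, Nat.card_perm, Nat.card_fin] at h
  have hr : chevD4.rank = 4 := by decide +kernel
  have hh : ∀ c r : ℕ, r = 4 → c * r = r.factorial → c = 6 := by
    rintro c r rfl e
    simp [Nat.factorial] at e
    omega
  exact hh _ _ hr h

/-- The number of field automorphisms. -/
theorem card_aut_field {K : Type v} [Field K] [Fintype K] {p f : ℕ} [Fact p.Prime] [CharP K p]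
    (hK : Fintype.card K = p ^ f) : Nat.card (K ≃+* K) = f := by
  letI : Algebra (ZMod p) K := ZMod.algebra K p
  have e : (K ≃+* K) ≃ (K ≃ₐ[ZMod p] K) :=
    { toFun := fun σ => AlgEquiv.ofRingEquiv (f := σ) (fun r => by
        have h : σ.toRingHom.comp (algebraMap (ZMod p) K) = algebraMap (ZMod p) K := RingHom.ext_zmod _ _
        exact RingHom.congr_fun h r)
      invFun := fun σ => σ.toRingEquiv
      left_inv := fun σ => RingEquiv.ext fun x => rfl
      right_inv := fun σ => AlgEquiv.ext fun x => rfl }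
  rw [Nat.card_congr e, IsGalois.card_aut_eq_finrank]
  have h := Module.natCard_eq_pow_finrank (K := ZMod p) (V := K)
  rw [Nat.card_zmod, Nat.card_eq_fintype_card, hK] at h
  exact (Nat.pow_right_injective (Fact.out : p.Prime).two_le h).symm

/-- The field automorphisms of a finite field form a cyclic group. -/
theorem isCyclic_aut_field {K : Type v} [Field K] [Finite K] : IsCyclic (K ≃+* K) := by
  obtain ⟨p, hp⟩ := CharP.exists K
  haveI := Fintype.ofFinite K
  haveI : Fact p.Prime := ⟨CharP.char_is_prime K p⟩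
  letI : Algebra (ZMod p) K := ZMod.algebra K p
  haveI : IsCyclic (K ≃ₐ[ZMod p] K) := inferInstance
  let e : (K ≃ₐ[ZMod p] K) →* (K ≃+* K) :=
    { toFun := fun σ => σ.toRingEquiv, map_one' := rfl, map_mul' := fun _ _ => rfl }
  refine isCyclic_of_surjective e fun σ => ⟨AlgEquiv.ofRingEquiv (f := σ) (fun r => ?_),
    RingEquiv.ext fun x => rfl⟩
  have h : σ.toRingHom.comp (algebraMap (ZMod p) K) = algebraMap (ZMod p) K := RingHom.ext_zmod _ _
  exact RingHom.congr_fun h r

end AutThm

end CfsgLib.Chev
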