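import Cfsg.Agent.Lib.Known.ChevAutForm
import Cfsg.Prelude.Def_KGroupFacts

/-!
# The outer automorphism group of a finite Chevalley group
-/

set_option autoImplicit false
set_option linter.unusedSectionVars false
set_option linter.style.haveILetI false

namespace CfsgLib.Chev.AutThm

open Cfsg Cfsg.Lie

universe v

variable {D : ChevalleyDatum} {co : ℕ → ℕ → ℤ} {F : Type v} [Field F]
variable (hF : Facts D co) (hC : CommF.{v} D)
include hF hC

omit hF hC in
theorem conj_mul_conj (θ ψ : MulAut ↥(D.group F)) (x y : ↥(D.group F)) :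
    MulAut.conj x * θ * (MulAut.conj y * ψ) = MulAut.conj (x * θ y) * (θ * ψ) := by
  refine MulEquiv.ext fun z => ?_
  simp [mul_assoc]

theorem existsUnique_perm [Finite F] (θ : MulAut ↥(D.group F)) :
    ∃! π : Equiv.Perm (Fin D.rank), ∃ x, Norm (MulAut.conj x * θ) π := by
  obtain ⟨x, π, h⟩ := exists_norm hF hC θ
  refine ⟨π, ⟨x, h⟩, fun π' ⟨y, h'⟩ => ?_⟩
  have e : MulAut.conj y * θ * (MulAut.conj x * θ)⁻¹ = MulAut.conj (y * x⁻¹) := by
    rw [map_mul, map_inv, mul_inv_rev, ← mul_assoc, mul_inv_cancel_right]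
  have h2 := Norm.mul hF h' (Norm.inv hF h)
  rw [e] at h2
  exact mul_inv_eq_one.1 (norm_unique hF hC h2).1

/-- The permutation of the nodes of an automorphism. -/
noncomputable def piOf [Finite F] (θ : MulAut ↥(D.group F)) : Equiv.Perm (Fin D.rank) :=
  (existsUnique_perm hF hC θ).choose

theorem piOf_spec [Finite F] (θ : MulAut ↥(D.group F)) :
    ∃ x, Norm (MulAut.conj x * θ) (piOf hF hC θ) :=
  (existsUnique_perm hF hC θ).choose_spec.1

theorem piOf_eq_of [Finite F] {θ : MulAut ↥(D.group F)} {π : Equiv.Perm (Fin D.rank)}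
    {x : ↥(D.group F)} (h : Norm (MulAut.conj x * θ) π) : piOf hF hC θ = π :=
  ((existsUnique_perm hF hC θ).choose_spec.2 π ⟨x, h⟩).symm

/-- The action on the nodes, as a homomorphism. -/
noncomputable def piHom [Finite F] : MulAut ↥(D.group F) →* Equiv.Perm (Fin D.rank) :=
  MonoidHom.mk' (piOf hF hC) fun θ ψ => by
    obtain ⟨x, hx⟩ := piOf_spec hF hC θ
    obtain ⟨y, hy⟩ := piOf_spec hF hC ψ
    have := Norm.mul hF hx hy
    rw [conj_mul_conj] at this
    exact piOf_eq_of hF hC this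

theorem piHom_of_norm [Finite F] {θ : MulAut ↥(D.group F)} {π : Equiv.Perm (Fin D.rank)}
    (h : Norm θ π) : piHom hF hC θ = π :=
  piOf_eq_of hF hC (x := 1) (by rwa [map_one, one_mul])

theorem piHom_conj [Finite F] (x : ↥(D.group F)) : piHom hF hC (MulAut.conj x) = 1 :=
  piOf_eq_of hF hC (x := x⁻¹) (by
    rw [← map_mul, inv_mul_cancel, map_one]
    exact Norm.one hF)

theorem norm_dHom (w : Fin D.rank → Fˣ) : Norm (dHom hF w) 1 := fun i t =>
  ⟨⟨_, (dHom_gen hF w i t).1⟩, ⟨_, (dHom_gen hF w i t).2⟩⟩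

theorem norm_fHom (σ : F ≃+* F) : Norm (fHom hF σ) 1 := fun i t =>
  ⟨⟨_, fHom_x hF σ (hF.simple_lt' i.isLt) t⟩, ⟨_, fHom_x hF σ (hF.neg_lt (hF.simple_lt' i.isLt)) t⟩⟩

omit hC in
theorem exists_dHom_conj {h : GL D.Idx F} (hh : h ∈ D.diagonalSubgroup F) :
    ∃ w : Fin D.rank → Fˣ,
      dHom hF w = MulAut.conj (⟨h, hF.diagonal_le_group hh⟩ : ↥(D.group F)) := by
  obtain ⟨c, hc⟩ := hF.mem_diagonal_iff.1 hh
  refine ⟨fun i => ∏ j ∈ Finset.range D.rank, c j ^ D.cartan j (D.simple i),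
    ext_gen hF fun i t => ?_⟩
  have hi := hF.simple_lt' i.isLt
  rw [app_conj _ (mem_x hF hi t), app_conj _ (mem_x hF (hF.neg_lt hi) t)]
  simp only [hc]
  rw [hF.hT_conj_xU c hi, hF.hT_conj_xU c (hF.neg_lt hi)]
  obtain ⟨e1, e2⟩ := dHom_gen hF (fun i => ∏ j ∈ Finset.range D.rank, c j ^ D.cartan j (D.simple i)) i t
  refine ⟨e1, e2.trans ?_⟩
  rw [← Units.val_inv_eq_inv_val, ← Finset.prod_inv_distrib]
  congr 3
  exact Finset.prod_congr rfl fun j hj => by
    rw [hF.cartan_neg _ hi j (Finset.mem_range.1 hj), zpow_neg]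

omit hC in
theorem dHom_injective : Function.Injective (dHom hF (F := F)) := by
  intro w w' e
  funext i
  have h := (dHom_gen hF w i 1).1
  rw [e, (dHom_gen hF w' i 1).1] at h
  refine Units.ext ?_
  simpa using (hF.xU_left_inj (hF.simple_lt' i.isLt) h).symm

theorem field_inter [Finite F] {σ : F ≃+* F} {x : ↥(D.group F)} {w : Fin D.rank → Fˣ}
    (h : fHom hF σ = MulAut.conj x * dHom hF w) : σ = 1 := by
  have hn : Norm (MulAut.conj x) 1 := by
    have := Norm.mul hF (norm_fHom hF hC σ) (Norm.inv hF (norm_dHom hF hC w))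
    rwa [h, mul_inv_cancel_right, inv_one, mul_one] at this
  obtain ⟨v, hv⟩ := exists_dHom_conj hF (norm_unique hF hC hn).2
  rw [Subtype.coe_eta] at hv
  rw [← hv, ← map_mul] at h
  refine RingEquiv.ext fun t => ?_
  have i : Fin D.rank := ⟨0, hF.rank_pos⟩
  have key : ∀ u : F, σ u = ((v * w) i : F) * u := fun u => by
    have e := (dHom_gen hF (v * w) i u).1
    rw [← h, fHom_x hF σ (hF.simple_lt' i.isLt)] at e
    exact hF.xU_left_inj (hF.simple_lt' i.isLt) e
  have h1 := key 1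
  rw [map_one, mul_one] at h1
  rw [key t, ← h1, one_mul]
  rfl

/-- Inner and diagonal automorphisms. -/
noncomputable def innD : Subgroup (MulAut ↥(D.group F)) :=
  Inn ↥(D.group F) ⊔ (dHom hF).range

/-- Inner, diagonal and field automorphisms. -/
noncomputable def innDF : Subgroup (MulAut ↥(D.group F)) :=
  innD hF ⊔ (fHom hF).range

variable {P : Equiv.Perm (Fin D.rank) → Prop}

theorem exists_form_of [Finite F] (hform : FormThm D F P) (θ : MulAut ↥(D.group F)) :
    ∃ x c τ, D.IsDiagramSymmetry (piHom hF hC θ) ∧ P (piHom hF hC θ) ∧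
      Form (MulAut.conj x * θ) (piHom hF hC θ) c τ := by
  obtain ⟨x, hx⟩ := piOf_spec hF hC θ
  obtain ⟨h1, h2, c, τ, h3⟩ := hform _ _ hx
  exact ⟨x, c, τ, h1, h2, h3⟩

theorem range_le [Finite F] (hform : FormThm D F P) {π : Equiv.Perm (Fin D.rank)}
    (hπ : π ∈ (piHom hF hC (F := F)).range) : P π := by
  obtain ⟨θ, rfl⟩ := hπ
  obtain ⟨x, c, τ, -, h, -⟩ := exists_form_of hF hC hform θ
  exact h

omit hC in
/-- A form with the identity permutation is diagonal times field. -/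
theorem form_one_eq {θ : MulAut ↥(D.group F)} {c : Fin D.rank → Fˣ} {τ : F ≃+* F}
    (h : Form θ 1 c τ) : θ = dHom hF c * fHom hF τ := by
  refine ext_gen hF fun i t => ?_
  have hi := hF.simple_lt' i.isLt
  have hg : gE F (1 : Equiv.Perm (Fin D.rank)) i = 1 := by
    simp [gE, ChevalleyDatum.graphExp]
  obtain ⟨e1, e2⟩ := h i t
  rw [hg, pow_one] at e1 e2
  rw [app_comp _ _ (mem_x hF hi t), app_comp _ _ (mem_x hF (hF.neg_lt hi) t), fHom_x hF τ hi,
    fHom_x hF τ (hF.neg_lt hi), (dHom_gen hF c i _).1, (dHom_gen hF c i _).2, e1, e2,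
    Equiv.Perm.one_apply]
  exact ⟨rfl, rfl⟩

theorem ker_eq [Finite F] (hform : FormThm D F P) : (piHom hF hC (F := F)).ker = innDF hF := by
  refine le_antisymm (fun θ hθ => ?_) (sup_le (sup_le ?_ ?_) ?_)
  · obtain ⟨x, c, τ, -, -, h⟩ := exists_form_of hF hC hform θ
    rw [MonoidHom.mem_ker.1 hθ] at h
    have e := form_one_eq hF h
    have e' : θ = MulAut.conj x⁻¹ * (dHom hF c * fHom hF τ) := by
      rw [← e, ← mul_assoc, ← map_mul, inv_mul_cancel, map_one, one_mul]
    rw [e', ← mul_assoc]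
    exact mul_mem (Subgroup.mem_sup_left (mul_mem (Subgroup.mem_sup_left ⟨_, rfl⟩)
      (Subgroup.mem_sup_right ⟨_, rfl⟩))) (Subgroup.mem_sup_right ⟨_, rfl⟩)
  · rintro _ ⟨x, rfl⟩; exact piHom_conj hF hC x
  · rintro _ ⟨w, rfl⟩; exact piHom_of_norm hF hC (norm_dHom hF hC w)
  · rintro _ ⟨σ, rfl⟩; exact piHom_of_norm hF hC (norm_fHom hF hC σ)

theorem innD_normal [Finite F] (hform : FormThm D F P) : (innD hF (F := F)).Normal := by
  constructor
  intro φ hφ θ
  suffices key : (innD hF (F := F)).map (MulAut.conj θ).toMonoidHom ≤ innD hF from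
    key ⟨φ, hφ, rfl⟩
  rw [innD, Subgroup.map_sup]
  refine sup_le (le_sup_of_le_left ?_) ?_
  · rintro _ ⟨ψ, hψ, rfl⟩
    exact (innNormal _).conj_mem ψ hψ θ
  rintro _ ⟨ψ, ⟨w, rfl⟩, rfl⟩
  obtain ⟨x, c, τ, -, -, h⟩ := exists_form_of hF hC hform θ
  set π := piHom hF hC θ with hπ
  set w' : Fin D.rank → Fˣ := fun k =>
    Units.map (τ : F →* F) (w (π⁻¹ k)) ^ gE F π (π⁻¹ k) with hw'
  have e : MulAut.conj x * θ * dHom hF w = dHom hF w' * (MulAut.conj x * θ) := by
    refine ext_gen hF fun i t => ?_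
    have hi := hF.simple_lt' i.isLt
    rw [app_comp _ _ (mem_x hF hi t), app_comp _ _ (mem_x hF (hF.neg_lt hi) t),
      app_comp (dHom hF w') _ (mem_x hF hi t), app_comp (dHom hF w') _ (mem_x hF (hF.neg_lt hi) t),
      (h i t).1, (h i t).2, (dHom_gen hF w i t).1, (dHom_gen hF w i t).2, (h i _).1, (h i _).2,
      (dHom_gen hF w' (π i) _).1, (dHom_gen hF w' (π i) _).2]
    have hv : (w' (π i) : F) = τ (w i : F) ^ gE F π i := by simp [hw']
    constructor <;> congr 1
    · rw [map_mul, mul_pow, hv]; ring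
    · rw [map_mul, mul_pow, map_inv₀, inv_pow, hv]; ring
  have e2 : θ * dHom hF w * θ⁻¹ = MulAut.conj x⁻¹ * dHom hF w' * MulAut.conj x := by
    calc θ * dHom hF w * θ⁻¹ = MulAut.conj x⁻¹ * (MulAut.conj x * θ * dHom hF w) * θ⁻¹ := by
          rw [map_inv]; group
      _ = _ := by rw [e, map_inv]; group
  show θ * dHom hF w * θ⁻¹ ∈ _
  rw [e2]
  exact mul_mem (mul_mem (Subgroup.mem_sup_left ⟨_, rfl⟩) (Subgroup.mem_sup_right ⟨_, rfl⟩))
    (Subgroup.mem_sup_left ⟨_, rfl⟩)

/-- The image of the diagonal automorphisms in the outer automorphism group. -/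
noncomputable def dBar : Subgroup (Out ↥(D.group F)) :=
  (dHom hF).range.map (QuotientGroup.mk' (Inn ↥(D.group F)))

/-- The image of the field automorphisms in the outer automorphism group. -/
noncomputable def fBar : Subgroup (Out ↥(D.group F)) :=
  (fHom hF).range.map (QuotientGroup.mk' (Inn ↥(D.group F)))

omit hF hC in
theorem map_inn : (Inn ↥(D.group F)).map (QuotientGroup.mk' (Inn ↥(D.group F))) = ⊥ :=
  (Subgroup.map_eq_bot_iff _).2 (QuotientGroup.ker_mk' _).ge

omit hC in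
theorem dBar_eq : dBar hF (F := F) = (innD hF).map (QuotientGroup.mk' _) := by
  rw [innD, Subgroup.map_sup, map_inn, bot_sup_eq]; rfl

omit hC in
theorem dfBar_eq : dBar hF (F := F) ⊔ fBar hF = (innDF hF).map (QuotientGroup.mk' _) := by
  rw [innDF, Subgroup.map_sup, ← dBar_eq]; rfl

theorem dBar_normal [Finite F] (hform : FormThm D F P) : (dBar hF (F := F)).Normal := by
  rw [dBar_eq]
  exact (innD_normal hF hC hform).map _ (QuotientGroup.mk'_surjective _)

theorem dfBar_normal [Finite F] (hform : FormThm D F P) :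
    (dBar hF (F := F) ⊔ fBar hF).Normal := by
  rw [dfBar_eq, ← ker_eq hF hC hform]
  exact (MonoidHom.normal_ker _).map _ (QuotientGroup.mk'_surjective _)

omit hC in
theorem dBar_comm : IsMulCommutative ↥(dBar hF (F := F)) := by
  refine ⟨⟨fun a b => ?_⟩⟩
  obtain ⟨_, ⟨_, ⟨w, rfl⟩, rfl⟩⟩ := a
  obtain ⟨_, ⟨_, ⟨w', rfl⟩, rfl⟩⟩ := b
  refine Subtype.ext ?_
  simp only [Subgroup.coe_mul, ← map_mul, mul_comm w w']

omit hC in
theorem fBar_cyclic [IsCyclic (F ≃+* F)] : IsCyclic ↥(fBar hF (F := F)) := by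
  haveI := isCyclic_of_surjective (fHom hF (F := F)).rangeRestrict
    (fHom hF (F := F)).rangeRestrict_surjective
  exact isCyclic_of_surjective ((QuotientGroup.mk' (Inn ↥(D.group F))).subgroupMap (fHom hF).range)
    (MonoidHom.subgroupMap_surjective _ _)

/-- Quotient of the outer automorphism group by diagonal and field ones. -/
theorem index_dfBar [Finite F] (hform : FormThm D F P) :
    (dBar hF (F := F) ⊔ fBar hF).index = Nat.card ↥(piHom hF hC (F := F)).range := by
  rw [dfBar_eq, Subgroup.index_map, QuotientGroup.ker_mk',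
    MonoidHom.range_eq_top.2 (QuotientGroup.mk'_surjective _), Subgroup.index_top, mul_one,
    sup_eq_left.2 (show Inn ↥(D.group F) ≤ innDF hF from
      le_sup_of_le_left le_sup_left), ← ker_eq hF hC hform, Subgroup.index_ker]

/-- The order of the image of the diagonal automorphisms. -/
theorem card_dBar [Finite F] : Nat.card ↥(dBar hF (F := F)) *
    Nat.card ↥(D.diagonalSubgroup F) = (Nat.card F - 1) ^ D.rank := by
  set φ := (QuotientGroup.mk' (Inn ↥(D.group F))).comp (dHom hF (F := F)) with hφ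
  have hr : φ.range = dBar hF := MonoidHom.range_comp _ _
  have hker : Nat.card ↥φ.ker = Nat.card ↥(D.diagonalSubgroup F) := by
    choose W hW using fun h : ↥(D.diagonalSubgroup F) => exists_dHom_conj hF h.2
    have hmem : ∀ h, W h ∈ φ.ker := fun h => by
      rw [MonoidHom.mem_ker, hφ, MonoidHom.comp_apply, QuotientGroup.mk'_apply,
        QuotientGroup.eq_one_iff, hW]
      exact ⟨_, rfl⟩
    refine (Nat.card_eq_of_bijective (fun h => (⟨W h, hmem h⟩ : ↥φ.ker)) ⟨fun a b e => ?_, ?_⟩).symm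
    · have e' : (MulAut.conj (⟨a.1, hF.diagonal_le_group a.2⟩ : ↥(D.group F))) =
          MulAut.conj ⟨b.1, hF.diagonal_le_group b.2⟩ := by
        have ew : W a = W b := congrArg Subtype.val e
        rw [← hW, ← hW, ew]
      refine Subtype.ext (mul_inv_eq_one.1 (hF.center_free_key
        (mul_mem a.2 (inv_mem b.2)) fun r hr => ?_))
      have e3 := DFunLike.congr_fun e' (⟨b.1, hF.diagonal_le_group b.2⟩⁻¹ *
        ⟨_, mem_x hF hr 1⟩ * ⟨b.1, hF.diagonal_le_group b.2⟩)
      have e4 := congrArg Subtype.val e3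
      simp only [MulAut.conj_apply, Subgroup.coe_mul, Subgroup.coe_inv] at e4
      calc a.1 * b.1⁻¹ * xU D r 1 * (a.1 * b.1⁻¹)⁻¹
          = a.1 * (b.1⁻¹ * xU D r 1 * b.1) * a.1⁻¹ := by group
        _ = b.1 * (b.1⁻¹ * xU D r 1 * b.1) * b.1⁻¹ := e4
        _ = _ := by group
    · rintro ⟨w, hw⟩
      rw [MonoidHom.mem_ker, hφ, MonoidHom.comp_apply, QuotientGroup.mk'_apply,
        QuotientGroup.eq_one_iff] at hw
      obtain ⟨x, hx⟩ := hw
      have hx' : MulAut.conj x = dHom hF w := hx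
      have hd := (norm_unique hF hC (x := x) (π := 1) (hx' ▸ norm_dHom hF hC w)).2
      refine ⟨⟨x.1, hd⟩, Subtype.ext (dHom_injective hF ?_)⟩
      rw [hW, Subtype.coe_eta, hx']
  have h1 := Subgroup.card_mul_index φ.ker
  rw [Subgroup.index_ker, hr, hker, mul_comm] at h1
  rw [h1, Nat.card_fun, Nat.card_units, Nat.card_fin]

theorem card_dfBar [Finite F] (hform : FormThm D F P) :
    Nat.card ↥(dBar hF (F := F) ⊔ fBar hF) =
      Nat.card ↥(dBar hF (F := F)) * Nat.card (F ≃+* F) := by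
  haveI := dBar_normal hF hC hform
  set mk := QuotientGroup.mk' (Inn ↥(D.group F)) with hmk
  have hf : ∀ σ : F ≃+* F, mk (fHom hF σ) ∈ fBar hF := fun σ => ⟨_, ⟨σ, rfl⟩, rfl⟩
  let g : ↥(dBar hF (F := F)) × (F ≃+* F) → ↥(dBar hF (F := F) ⊔ fBar hF) := fun q =>
    ⟨q.1.1 * mk (fHom hF q.2), mul_mem (Subgroup.mem_sup_left q.1.2) (Subgroup.mem_sup_right (hf q.2))⟩
  have hg : Function.Bijective g := by
    constructor
    · rintro ⟨a, σ⟩ ⟨b, τ⟩ e
      have e' : a.1 * mk (fHom hF σ) = b.1 * mk (fHom hF τ) := congrArg Subtype.val e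
      have hσ : σ = τ := by
        have h1 : mk (fHom hF (σ * τ⁻¹)) = a.1⁻¹ * b.1 := by
          rw [map_mul, map_inv, map_mul, map_inv, eq_inv_mul_iff_mul_eq, ← mul_assoc, e',
            mul_inv_cancel_right]
        have h2 : mk (fHom hF (σ * τ⁻¹)) ∈ dBar hF := h1 ▸ mul_mem (inv_mem a.2) b.2
        obtain ⟨_, ⟨w, rfl⟩, hw⟩ := h2
        obtain ⟨z, hz, e2⟩ := (QuotientGroup.mk'_eq_mk' (N := Inn ↥(D.group F))).1 hw
        obtain ⟨x, rfl⟩ := hz
        have e3 : fHom hF (σ * τ⁻¹) = MulAut.conj (dHom hF w x) * dHom hF w := by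
          rw [← e2]
          exact MulEquiv.ext fun y => by simp
        exact mul_inv_eq_one.1 (field_inter hF hC e3)
      subst hσ
      exact Prod.ext (Subtype.ext (mul_right_cancel e')) rfl
    · rintro ⟨z, hz⟩
      obtain ⟨a, ha, b, hb, rfl⟩ := Subgroup.mem_sup_of_normal_left.1 hz
      obtain ⟨_, ⟨σ, rfl⟩, rfl⟩ := hb
      exact ⟨(⟨a, ha⟩, σ), rfl⟩
  rw [← Nat.card_eq_of_bijective g hg, Nat.card_prod]

/-- The order of the outer automorphism group. -/
theorem card_out [Finite F] (hform : FormThm D F P) {g : ℕ}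
    (hg : g * Nat.card ↥(D.diagonalSubgroup F) = (Nat.card F - 1) ^ D.rank) :
    Nat.card (Out ↥(D.group F)) =
      g * Nat.card (F ≃+* F) * Nat.card ↥(piHom hF hC (F := F)).range := by
  have hd : Nat.card ↥(dBar hF (F := F)) = g := Nat.eq_of_mul_eq_mul_right Nat.card_pos
    ((card_dBar hF hC).trans hg.symm)
  rw [← Subgroup.card_mul_index (dBar hF (F := F) ⊔ fBar hF), card_dfBar hF hC hform, hd,
    index_dfBar hF hC hform]

omit hC in
theorem isWeight_rootChar {χ : ℕ → Fˣ} (hχ : D.IsRootCharacter χ) :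
    IsWeight D (fun s => Additive.ofMul (χ s)) :=
  ⟨fun s hs => by simp [hχ.1 s hs], fun a ha b hb k h => by rw [hχ.2 a b k ha hb h, ofMul_mul]⟩

omit hC in
theorem isRootCharacter_chi (w : Fin D.rank → Fˣ) : D.IsRootCharacter (chi D co w) :=
  ⟨fun r hr => chi_neg hF w hr, fun r s k hr hs h =>
    Additive.ofMul.injective ((isWeight_chi hF w).add r hr s hs k h)⟩

omit hC in
theorem isDiagonalAut_iff (φ : MulAut ↥(D.group F)) :
    D.IsDiagonalAut φ ↔ ∃ w, dHom hF w = φ := by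
  constructor
  · rintro ⟨χ, hχ, h⟩
    refine ⟨fun i => χ (D.simple i), ext_gen hF fun i t => ?_⟩
    have hi := hF.simple_lt' i.isLt
    have key : ∀ r < D.nroots, app φ (xU D r t) = xU D r ((χ r : F) * t) := fun r hr => by
      rw [app_eq _ (mem_x hF hr t)]
      refine Units.ext ((h ⟨_, mem_x hF hr t⟩).trans ?_)
      have e := hF.dU_conj (isWeight_rootChar hF hχ) hr t
      rw [← mul_inv_eq_iff_eq_mul, dU_inv] at e
      exact congrArg Units.val e
    rw [(dHom_gen hF _ i t).1, (dHom_gen hF _ i t).2, key _ hi, key _ (hF.neg_lt hi), hχ.1 _ hi,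
      Units.val_inv_eq_inv_val]
    exact ⟨rfl, rfl⟩
  · rintro ⟨w, rfl⟩
    refine ⟨chi D co w, isRootCharacter_chi hF w, fun g => ?_⟩
    have e : ((dHom hF w g : ↥(D.group F)) : GL D.Idx F) =
        dU D (chi D co w) * g.1 * dU D (fun r => (chi D co w r)⁻¹) := by
      rw [← dU_inv]; rfl
    rw [e]
    rfl

omit hC in
theorem isFieldAut_iff (φ : MulAut ↥(D.group F)) :
    D.IsFieldAut φ ↔ ∃ σ, fHom hF σ = φ := by
  constructor
  · rintro ⟨σ, h⟩
    refine ⟨σ, ext_gen hF fun i t => ?_⟩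
    have key : ∀ r < D.nroots, app φ (xU D r t) = xU D r (σ t) := fun r hr => by
      rw [app_eq _ (mem_x hF hr t)]
      refine Units.ext ((h ⟨_, mem_x hF hr t⟩ r t hr (hF.xU_val hr t)).trans ?_)
      exact (hF.xU_val hr _).symm
    have hi := hF.simple_lt' i.isLt
    rw [fHom_x hF σ hi, fHom_x hF σ (hF.neg_lt hi), key _ hi, key _ (hF.neg_lt hi)]
    exact ⟨rfl, rfl⟩
  · rintro ⟨σ, rfl⟩
    refine ⟨σ, fun g r t hr hg => ?_⟩
    rw [← hF.xU_val hr, Units.val_inj] at hg
    rw [← hF.xU_val hr, Units.val_inj, ← fHom_x hF σ hr t, ← hg, app_val]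

omit hC in
theorem closure_diag : Subgroup.closure {φ : MulAut ↥(D.group F) | D.IsDiagonalAut φ} =
    (dHom hF).range := by
  have : {φ : MulAut ↥(D.group F) | D.IsDiagonalAut φ} = ((dHom hF (F := F)).range : Set (MulAut ↥(D.group F))) :=
    Set.ext fun φ => isDiagonalAut_iff hF φ
  rw [this, Subgroup.closure_eq]

omit hC in
theorem closure_field : Subgroup.closure {φ : MulAut ↥(D.group F) | D.IsFieldAut φ} =
    (fHom hF).range := by
  have : {φ : MulAut ↥(D.group F) | D.IsFieldAut φ} = ((fHom hF (F := F)).range : Set (MulAut ↥(D.group F))) :=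
    Set.ext fun φ => isFieldAut_iff hF φ
  rw [this, Subgroup.closure_eq]

/-- Every automorphism is inner times diagonal times graph times field. -/
theorem exists_decomposition [Finite F] (hform : FormThm D F P) (θ : MulAut ↥(D.group F)) :
    ∃ (x : ↥(D.group F)) (d g f : MulAut ↥(D.group F)),
      D.IsDiagonalAut d ∧ D.IsGraphAut g ∧ D.IsFieldAut f ∧
      θ = MulAut.conj x * (d * g * f) := by
  obtain ⟨x, c, τ, hs, -, h⟩ := exists_form_of hF hC hform θ
  set π := piHom hF hC θ with hπ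
  set w : Fin D.rank → Fˣ := fun k => c (π⁻¹ k) with hw
  refine ⟨x⁻¹, dHom hF w, (dHom hF w)⁻¹ * (MulAut.conj x * θ) * (fHom hF τ)⁻¹, fHom hF τ,
    (isDiagonalAut_iff hF _).2 ⟨w, rfl⟩, ⟨π, hs, fun y i t => ?_⟩,
    (isFieldAut_iff hF _).2 ⟨τ, rfl⟩, by rw [map_inv]; group⟩
  have hi := hF.simple_lt' i.isLt
  have hj := hF.simple_lt' (π i).isLt
  have hin := hF.neg_lt hi
  have hwi : (w (π i) : Fˣ) = c i := by simp [hw]
  have hc0 : (c i : F) ≠ 0 := Units.ne_zero _
  constructor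
  · intro hy
    rw [← hF.xU_val hi, Units.val_inj] at hy
    rw [← hF.xU_val hj, Units.val_inj, ← app_val, hy, ← map_inv, ← map_inv,
      app_comp _ _ (mem_x hF hi t), fHom_x hF τ⁻¹ hi, app_comp _ _ (mem_x hF hi _), (h i _).1,
      (dHom_gen hF w⁻¹ (π i) _).1, Pi.inv_apply, hwi, Units.val_inv_eq_inv_val,
      ← mul_assoc, inv_mul_cancel₀ hc0, one_mul]
    congr 2
    exact τ.apply_symm_apply t
  · intro hy
    rw [← hF.xU_val hin, Units.val_inj] at hy
    rw [← hF.xU_val (hF.neg_lt hj), Units.val_inj, ← app_val, hy, ← map_inv, ← map_inv,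
      app_comp _ _ (mem_x hF hin t), fHom_x hF τ⁻¹ hin, app_comp _ _ (mem_x hF hin _), (h i _).2,
      (dHom_gen hF w⁻¹ (π i) _).2, Pi.inv_apply, hwi, Units.val_inv_eq_inv_val,
      inv_inv, ← mul_assoc, mul_inv_cancel₀ hc0, one_mul]
    congr 2
    exact τ.apply_symm_apply t

end CfsgLib.Chev.AutThm
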