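import Mathlib

/-!
Sylow 2-subgroups of symmetric and alternating groups: the recursive model `pairSub`, and the facts
that they are self-normalizing (symmetric: every degree; alternating: degree at least 6).
-/

set_option autoImplicit false

namespace CfsgLib.Known

open Equiv Equiv.Perm
open scoped Pointwise

/-- `m` pairs and `r` further points. -/
abbrev Pts (m r : ℕ) : Type := (Fin m × Bool) ⊕ Fin r

variable {m r : ℕ}

/-- The pair containing a point. -/
def lab : Pts m r → Option (Fin m) := Sum.elim (fun p => some p.1) (fun _ => none)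

/-- The other point of the pair. -/
def mate : Pts m r → Pts m r := Sum.elim (fun p => .inl (p.1, !p.2)) Sum.inr

theorem lab_mate (x : Pts m r) : lab (mate x) = lab x := by
  rcases x with ⟨i, b⟩ | z <;> rfl

theorem lab_eq_some_iff {x : Pts m r} {i : Fin m} : lab x = some i ↔ ∃ b, x = .inl (i, b) := by
  rcases x with ⟨j, b⟩ | z
  · simp [lab]
  · simp [lab]

theorem lab_eq_none_iff {x : Pts m r} : lab x = none ↔ ∃ z, x = .inr z := by
  rcases x with ⟨j, b⟩ | z <;> simp [lab]

theorem eq_mate_of_lab_eq {x y : Pts m r} {i : Fin m} (hx : lab x = some i) (hy : lab y = some i)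
    (h : x ≠ y) : y = mate x := by
  obtain ⟨b, rfl⟩ := lab_eq_some_iff.mp hx
  obtain ⟨c, rfl⟩ := lab_eq_some_iff.mp hy
  cases b <;> cases c <;> simp_all [mate]

theorem card_pts (m r : ℕ) : Fintype.card (Pts m r) = 2 * m + r := by
  simp; ring

/-- Permutations permuting the pairs according to an element of `H`. -/
def pairSub (H : Subgroup (Perm (Fin m))) : Subgroup (Perm (Pts m r)) where
  carrier := {g | ∃ σ ∈ H, ∀ x, lab (g x) = (lab x).map σ}
  mul_mem' := by
    rintro a b ⟨σ, hσ, ha⟩ ⟨τ, hτ, hb⟩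
    refine ⟨σ * τ, H.mul_mem hσ hτ, fun x => ?_⟩
    rw [Perm.mul_apply, ha, hb, Option.map_map]; rfl
  one_mem' := ⟨1, H.one_mem, fun x => by simp⟩
  inv_mem' := by
    rintro a ⟨σ, hσ, ha⟩
    refine ⟨σ⁻¹, H.inv_mem hσ, fun x => ?_⟩
    have h := ha (a⁻¹ x)
    simp only [Perm.inv_def, Equiv.apply_symm_apply] at h ⊢
    rw [h, Option.map_map]
    simp [Function.comp_def]

theorem mem_pairSub {H : Subgroup (Perm (Fin m))} {g : Perm (Pts m r)} :
    g ∈ pairSub (r := r) H ↔ ∃ σ ∈ H, ∀ x, lab (g x) = (lab x).map σ := Iff.rfl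

theorem pairSub_mono {H K : Subgroup (Perm (Fin m))} (h : H ≤ K) :
    pairSub (r := r) H ≤ pairSub (r := r) K := fun _ ⟨σ, hσ, hg⟩ => ⟨σ, h hσ, hg⟩

theorem label_unique {g : Perm (Pts m r)} {σ τ : Perm (Fin m)}
    (h₁ : ∀ x, lab (g x) = (lab x).map σ) (h₂ : ∀ x, lab (g x) = (lab x).map τ) : σ = τ := by
  ext1 i
  have := (h₁ (.inl (i, true))).symm.trans (h₂ (.inl (i, true)))
  simpa [lab] using this

/-- The standard lift of a pair permutation and a vector of flips. -/
def liftPair (σ : Perm (Fin m)) (ε : Fin m → Bool) : Perm (Pts m r) :=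
  Equiv.sumCongr
    { toFun := fun p => (σ p.1, xor p.2 (ε p.1))
      invFun := fun p => (σ.symm p.1, xor p.2 (ε (σ.symm p.1)))
      left_inv := fun p => by simp
      right_inv := fun p => by simp }
    (Equiv.refl _)

theorem lab_liftPair (σ : Perm (Fin m)) (ε : Fin m → Bool) (x : Pts m r) :
    lab (liftPair σ ε x) = (lab x).map σ := by
  rcases x with ⟨i, b⟩ | z <;> rfl

theorem liftPair_mem {H : Subgroup (Perm (Fin m))} {σ : Perm (Fin m)} (h : σ ∈ H)
    (ε : Fin m → Bool) : liftPair (r := r) σ ε ∈ pairSub (r := r) H :=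
  ⟨σ, h, lab_liftPair σ ε⟩

theorem pairSub_card (hr : r ≤ 1) (H : Subgroup (Perm (Fin m))) :
    Nat.card (pairSub (r := r) H) = Nat.card H * 2 ^ m := by
  have : Nat.card (H × (Fin m → Bool)) = Nat.card H * 2 ^ m := by
    simp [Nat.card_prod, Nat.card_eq_fintype_card (α := Fin m → Bool)]
  rw [← this]
  refine (Nat.card_eq_of_bijective
    (fun p : H × (Fin m → Bool) =>
      (⟨liftPair p.1.1 p.2, liftPair_mem p.1.2 p.2⟩ : pairSub (r := r) H)) ⟨?_, ?_⟩).symm
  · rintro ⟨⟨σ, hσ⟩, ε⟩ ⟨⟨τ, hτ⟩, δ⟩ h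
    have h' : ∀ x, liftPair (r := r) σ ε x = liftPair τ δ x :=
      fun x => congrArg (fun f : Perm (Pts m r) => f x) (congrArg Subtype.val h)
    have h1 : ∀ i, σ i = τ i ∧ ε i = δ i := fun i => by
      simpa [liftPair] using h' (.inl (i, false))
    refine Prod.ext (Subtype.ext (Equiv.ext fun i => (h1 i).1)) (funext fun i => (h1 i).2)
  · rintro ⟨g, σ, hσ, hg⟩
    have hb : ∀ i b, ∃ c, g (.inl (i, b)) = .inl (σ i, c) :=
      fun i b => lab_eq_some_iff.mp (hg (.inl (i, b)))
    choose c hc using hb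
    refine ⟨(⟨σ, hσ⟩, fun i => c i false), Subtype.ext (Equiv.ext fun x => ?_)⟩
    rcases x with ⟨i, b⟩ | z
    · have hne : c i true ≠ c i false := by
        intro e
        have := g.injective ((hc i true).trans ((congrArg (fun c => (Sum.inl (σ i, c) : Pts m r)) e).trans
          (hc i false).symm))
        simp at this
      have key : c i b = xor b (c i false) := by
        cases b
        · simp
        · revert hne; cases c i true <;> cases c i false <;> simp
      simp [liftPair, hc, key]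
    · obtain ⟨z', hz'⟩ := lab_eq_none_iff.mp (hg (.inr z))
      haveI : Subsingleton (Fin r) := Fin.subsingleton_iff_le_one.mpr hr
      simp [liftPair, hz', Subsingleton.elim z' z]

theorem pairSub_card_sylow (hr : r ≤ 1) (H : Sylow 2 (Perm (Fin m))) :
    Nat.card (pairSub (r := r) (H : Subgroup (Perm (Fin m))))
      = 2 ^ (Nat.card (Perm (Pts m r))).factorization 2 := by
  rw [pairSub_card hr, H.card_eq_multiplicity, ← pow_add]
  congr 1
  have hp : Nat.Prime 2 := Nat.prime_two
  rw [Nat.card_perm, Nat.card_perm, Nat.card_eq_fintype_card, Nat.card_eq_fintype_card, card_pts,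
    Fintype.card_fin, Nat.factorization_def _ hp, Nat.factorization_def _ hp,
    padicValNat_factorial_mul_add m (by omega), padicValNat_factorial_mul]

/-- The model Sylow 2-subgroup. -/
noncomputable def pairSylow (hr : r ≤ 1) (H : Sylow 2 (Perm (Fin m))) : Sylow 2 (Perm (Pts m r)) :=
  Sylow.ofCard (pairSub (r := r) (H : Subgroup (Perm (Fin m)))) (pairSub_card_sylow hr H)

theorem pairSylow_coe (hr : r ≤ 1) (H : Sylow 2 (Perm (Fin m))) :
    ((pairSylow hr H : Sylow 2 (Perm (Pts m r))) : Subgroup (Perm (Pts m r)))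
      = pairSub (r := r) (H : Subgroup (Perm (Fin m))) := rfl

/-- The transposition of pair `i`. -/
def flipP (i : Fin m) : Perm (Pts m r) := swap (.inl (i, false)) (.inl (i, true))

theorem lab_flipP (i : Fin m) (x : Pts m r) : lab (flipP i x) = lab x := by
  unfold flipP
  rw [swap_apply_def]
  split_ifs with h1 h2
  · subst h1; rfl
  · subst h2; rfl
  · rfl

theorem flipP_mem (H : Subgroup (Perm (Fin m))) (i : Fin m) :
    flipP (r := r) i ∈ pairSub (r := r) H :=
  ⟨1, H.one_mem, fun x => by simp [lab_flipP]⟩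

theorem flipP_apply_self (i : Fin m) (b : Bool) :
    flipP (r := r) i (.inl (i, b)) = .inl (i, !b) := by
  cases b <;> simp [flipP]

theorem flipP_apply_ne {i j : Fin m} (h : j ≠ i) (b : Bool) :
    flipP (r := r) i (.inl (j, b)) = .inl (j, b) := by
  apply swap_apply_of_ne_of_ne <;> simp [h]

theorem sign_flipP (i : Fin m) : sign (flipP (r := r) i) = -1 := by
  apply sign_swap; simp

theorem flipP_apply_inr (i : Fin m) (z : Fin r) : flipP (r := r) i (.inr z) = .inr z := by
  apply swap_apply_of_ne_of_ne <;> simp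

/-- A permutation preserving `lab`-equality on pairs is in `pairSub ⊤`. -/
theorem mem_pairSub_top_of_map (hr : r ≤ 1) {k : Perm (Pts m r)}
    (h : ∀ i : Fin m, ∃ j : Fin m, ∀ b, lab (k (.inl (i, b))) = some j) :
    k ∈ pairSub (r := r) (⊤ : Subgroup (Perm (Fin m))) := by
  choose f hf using h
  have hinj : Function.Injective f := by
    intro i i' e
    by_contra hne
    have h1 := hf i; have h2 := hf i'
    rw [← e] at h2
    have a := eq_mate_of_lab_eq (h1 false) (h1 true) (fun e => by simpa using k.injective e)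
    have b := eq_mate_of_lab_eq (h1 false) (h2 false) (fun e => hne (by simpa using k.injective e))
    have := k.injective (a.trans b.symm)
    simp [hne] at this
  refine ⟨Equiv.ofBijective f ⟨hinj, Finite.surjective_of_injective hinj⟩, trivial, fun x => ?_⟩
  rcases x with ⟨i, b⟩ | z
  · exact hf i b
  · rcases hkx : k (.inr z) with ⟨j, b⟩ | z'
    · obtain ⟨i, rfl⟩ := Finite.surjective_of_injective hinj j
      have e1 := eq_mate_of_lab_eq (hf i false) (hf i true) (fun e => by simpa using k.injective e)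
      have e2 := eq_mate_of_lab_eq (x := k (.inl (i, false))) (y := k (.inr z)) (hf i false)
        (by rw [hkx]; rfl) (fun e => by simpa using k.injective e)
      have := k.injective (e1.trans e2.symm)
      simp at this
    · simp [lab]

/-- Main normalizer step: if `k` preserves pairs and normalizes a subgroup of the model which
induces all of `H` on pairs, then the permutation it induces on pairs normalizes `H`. -/
theorem label_mem_normalizer {H : Subgroup (Perm (Fin m))} {X : Subgroup (Perm (Pts m r))}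
    (hX : X ≤ pairSub (r := r) H)
    (hsurj : ∀ σ ∈ H, ∃ s ∈ X, ∀ x, lab (s x) = (lab x).map σ)
    {k : Perm (Pts m r)} {τ : Perm (Fin m)} (hk : ∀ x, lab (k x) = (lab x).map τ)
    (hnorm : k ∈ Subgroup.normalizer (X : Set (Perm (Pts m r)))) :
    τ ∈ Subgroup.normalizer (H : Set (Perm (Fin m))) := by
  have hki : ∀ x, lab (k⁻¹ x) = (lab x).map τ.symm := fun x => by
    have h := hk (k⁻¹ x)
    simp only [Perm.inv_def, Equiv.apply_symm_apply] at h ⊢
    rw [h, Option.map_map]; simp [Function.comp_def]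
  have key : ∀ (k : Perm (Pts m r)) (τ : Perm (Fin m)), (∀ x, lab (k x) = (lab x).map τ) →
      (∀ x, lab (k⁻¹ x) = (lab x).map τ.symm) →
      k ∈ Subgroup.normalizer (X : Set (Perm (Pts m r))) → ∀ σ ∈ H, τ * σ * τ⁻¹ ∈ H := by
    intro k τ hk hki hn σ hσ
    obtain ⟨s, hs, hls⟩ := hsurj σ hσ
    obtain ⟨σ', hσ', hl'⟩ := hX ((Subgroup.mem_normalizer_iff.mp hn s).mp hs)
    have : ∀ x, lab ((k * s * k⁻¹) x) = (lab x).map (τ * σ * τ⁻¹ : Perm (Fin m)) := by
      intro x
      rw [Perm.mul_apply, Perm.mul_apply, hk, hls, hki, Option.map_map, Option.map_map]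
      rfl
    rwa [label_unique this hl']
  rw [Subgroup.mem_normalizer_iff]
  intro σ
  refine ⟨key k τ hk hki hnorm σ, fun h => ?_⟩
  have := key k⁻¹ τ⁻¹ hki (by intro x; rw [inv_inv]; exact hk x) (inv_mem hnorm) _ h
  simpa [mul_assoc] using this

/-- A transposition in the model is the transposition of a pair. -/
theorem lab_eq_of_swap_mem {H : Subgroup (Perm (Fin m))} {u v : Pts m r} (hr : r ≤ 1) (huv : u ≠ v)
    (h : swap u v ∈ pairSub (r := r) H) : ∃ i, lab u = some i ∧ lab v = some i := by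
  obtain ⟨σ, -, hσ⟩ := h
  haveI : Subsingleton (Fin r) := Fin.subsingleton_iff_le_one.mpr hr
  have hu := hσ u
  rw [swap_apply_left] at hu
  rcases u with ⟨i, b⟩ | z
  · refine ⟨i, rfl, ?_⟩
    by_contra hne
    have h2 := hσ (.inl (i, !b))
    rw [swap_apply_of_ne_of_ne (by simp) (fun e => hne (by rw [← e]; rfl))] at h2
    simp [lab] at h2
    simp [lab, ← h2] at hu
    exact hne hu
  · simp [lab] at hu
    obtain ⟨z', hz'⟩ := lab_eq_none_iff.mp hu
    exact absurd (by rw [hz', Subsingleton.elim z' z]) huv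

/-- An involution moving at most four points. -/
def IsDbl {α : Type*} [Fintype α] [DecidableEq α] (g : Perm α) : Prop :=
  g * g = 1 ∧ g.support.card ≤ 4

theorem dbl_unique {H : Subgroup (Perm (Fin m))} (hr : r ≤ 1) {u v : Pts m r}
    (huv : u ≠ v) (hne : ¬ ∃ i, lab u = some i ∧ lab v = some i) {g : Perm (Pts m r)}
    (hg : g ∈ pairSub (r := r) H) (hd : IsDbl g) (hgu : g u = v) :
    g = swap u v * swap (mate u) (mate v) := by
  obtain ⟨σ, -, hσ⟩ := hg
  haveI : Subsingleton (Fin r) := Fin.subsingleton_iff_le_one.mpr hr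
  have hgg : ∀ x, g (g x) = x := fun x => by
    have := congrArg (fun f : Perm (Pts m r) => f x) hd.1; simpa using this
  rcases u with ⟨i, b⟩ | z
  swap
  · have := hσ (.inr z); rw [hgu] at this
    obtain ⟨z', rfl⟩ := lab_eq_none_iff.mp this
    exact absurd (congrArg Sum.inr (Subsingleton.elim z z')) huv
  have hv := hσ (.inl (i, b)); rw [hgu] at hv
  have hv' : lab v = some (σ i) := hv
  obtain ⟨c, rfl⟩ := lab_eq_some_iff.mp hv'
  have hij : σ i ≠ i := fun e => hne ⟨i, rfl, by simp [lab, e]⟩
  set j := σ i with hj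
  have hgv : g (.inl (j, c)) = .inl (i, b) := by rw [← hgu, hgg]
  have h2 := hσ (.inl (i, !b))
  obtain ⟨c', hc'⟩ := lab_eq_some_iff.mp (show lab (g (.inl (i, !b))) = some j from h2)
  have hcc : c' = !c := by
    by_contra e
    have : c' = c := by cases c <;> cases c' <;> simp_all
    rw [this, ← hgu] at hc'
    simpa using g.injective hc'
  subst hcc
  have hgv' : g (.inl (j, !c)) = .inl (i, !b) := by rw [← hc', hgg]
  have hS : ({.inl (i, b), .inl (i, !b), .inl (j, c), .inl (j, !c)} : Finset (Pts m r))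
      ⊆ g.support := by
    intro x hx
    simp only [Finset.mem_insert, Finset.mem_singleton] at hx
    rw [mem_support]
    rcases hx with rfl | rfl | rfl | rfl
    · rw [hgu]; simp [hij]
    · rw [hc']; simp [hij]
    · rw [hgv]; simp [Ne.symm hij]
    · rw [hgv']; simp [Ne.symm hij]
  have hc4 : ({.inl (i, b), .inl (i, !b), .inl (j, c), .inl (j, !c)} : Finset (Pts m r)).card = 4 := by
    rw [Finset.card_insert_of_notMem, Finset.card_insert_of_notMem, Finset.card_insert_of_notMem,
      Finset.card_singleton] <;> simp [Ne.symm hij]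
  have hsupp := Finset.eq_of_subset_of_card_le hS (by rw [hc4]; exact hd.2)
  refine Equiv.ext fun x => ?_
  show g x = swap _ _ (swap (mate (.inl (i, b))) (mate (.inl (j, c))) x)
  simp only [mate, Sum.elim_inl]
  by_cases h1 : x = .inl (i, b)
  · subst h1; simp [hgu, swap_apply_def, hij, Ne.symm hij]
  by_cases h3 : x = .inl (j, c)
  · subst h3; simp [hgv, swap_apply_def, hij, Ne.symm hij]
  by_cases h2 : x = .inl (i, !b)
  · subst h2; simp [hc', swap_apply_def, hij, Ne.symm hij]
  by_cases h4 : x = .inl (j, !c)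
  · subst h4; simp [hgv', swap_apply_def, hij, Ne.symm hij]
  rw [swap_apply_of_ne_of_ne h2 h4, swap_apply_of_ne_of_ne h1 h3]
  apply notMem_support.mp
  rw [← hsupp]
  simp [h1, h2, h3, h4]

/-- For at least three pairs, the double transpositions of the even part determine the pairs. -/
theorem pair_iff_two_dbl {H : Subgroup (Perm (Fin m))} (hr : r ≤ 1) (hm : 3 ≤ m) {u v : Pts m r}
    (huv : u ≠ v) :
    (∃ i, lab u = some i ∧ lab v = some i) ↔
      ∃ g h : Perm (Pts m r), g ∈ pairSub (r := r) H ⊓ alternatingGroup _ ∧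
        h ∈ pairSub (r := r) H ⊓ alternatingGroup _ ∧ g ≠ h ∧ IsDbl g ∧ IsDbl h ∧
        g u = v ∧ h u = v := by
  constructor
  · rintro ⟨i, hu, hv⟩
    obtain ⟨b, rfl⟩ := lab_eq_some_iff.mp hu
    obtain ⟨c, rfl⟩ := lab_eq_some_iff.mp hv
    have hcb : c = !b := by cases b <;> cases c <;> simp_all
    subst hcb
    haveI : Nontrivial (Fin m) := Fin.nontrivial_iff_two_le.mpr (by omega)
    obtain ⟨j, hj⟩ := exists_ne i
    obtain ⟨l, hl⟩ : ∃ l : Fin m, l ∉ ({i, j} : Finset (Fin m)) := by
      refine Finset.exists_mem_notMem_of_card_lt_card (s := {i, j}) (t := Finset.univ) ?_ |>.imp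
        (fun _ h => h.2)
      simp; exact lt_of_le_of_lt Finset.card_le_two (by omega)
    simp only [Finset.mem_insert, Finset.mem_singleton, not_or] at hl
    have hcomm : ∀ j : Fin m, j ≠ i → (flipP (r := r) i * flipP j) * (flipP i * flipP j) = 1 := by
      intro j hj
      have h : Perm.Disjoint (flipP (r := r) i) (flipP j) := by
        intro x
        rcases x with ⟨a, d⟩ | z
        · by_cases ha : a = i
          · right; subst ha; exact flipP_apply_ne (Ne.symm hj) d
          · left; exact flipP_apply_ne ha d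
        · left; exact flipP_apply_inr i z
      rw [mul_assoc, ← mul_assoc (flipP j), ← h.commute.eq]
      simp [flipP, mul_assoc]
    have hmem : ∀ j : Fin m, flipP (r := r) i * flipP j ∈ pairSub (r := r) H ⊓ alternatingGroup _ := by
      intro j
      refine ⟨Subgroup.mul_mem _ (flipP_mem H i) (flipP_mem H j), ?_⟩
      simp [sign_flipP]
    have hsupp : ∀ j : Fin m, (flipP (r := r) i * flipP j).support.card ≤ 4 := by
      intro j
      refine (Finset.card_le_card (support_mul_le _ _)).trans ?_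
      refine (Finset.card_union_le _ _).trans ?_
      simp [flipP]
    have happ : ∀ j : Fin m, j ≠ i →
        (flipP i * flipP j : Perm (Pts m r)) (Sum.inl (i, b)) = Sum.inl (i, !b) := by
      intro j hj
      rw [Perm.mul_apply, flipP_apply_ne (Ne.symm hj), flipP_apply_self]
    refine ⟨_, _, hmem j, hmem l, ?_, ⟨hcomm j hj, hsupp j⟩, ⟨hcomm l hl.1, hsupp l⟩,
      happ j hj, happ l hl.1⟩
    intro e
    have := congrArg (fun f : Perm (Pts m r) => f (.inl (j, false))) (mul_left_cancel e)
    simp [flipP_apply_self, flipP_apply_ne (Ne.symm hl.2)] at this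
  · rintro ⟨g, h, hg, hh, hne, hdg, hdh, hgu, hhu⟩
    by_contra hc
    exact hne ((dbl_unique hr huv hc hg.1 hdg hgu).trans (dbl_unique hr huv hc hh.1 hdh hhu).symm)

theorem even_part_surj {H : Subgroup (Perm (Fin m))} (hm : 1 ≤ m) (σ : Perm (Fin m)) (hσ : σ ∈ H) :
    ∃ s ∈ pairSub (r := r) H ⊓ alternatingGroup _, ∀ x, lab (s x) = (lab x).map σ := by
  set s0 := liftPair (r := r) σ (fun _ => false)
  rcases Int.units_eq_one_or (sign s0) with h | h
  · exact ⟨s0, ⟨liftPair_mem hσ _, mem_alternatingGroup.mpr h⟩, lab_liftPair σ _⟩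
  · refine ⟨flipP ⟨0, hm⟩ * s0,
      ⟨Subgroup.mul_mem _ (flipP_mem H _) (liftPair_mem hσ _), ?_⟩, fun x => ?_⟩
    · simp [sign_flipP, h]
    · rw [Perm.mul_apply, lab_flipP, lab_liftPair]

theorem normalizer_pairSub_le (hr : r ≤ 1) (H : Subgroup (Perm (Fin m))) :
    Subgroup.normalizer (pairSub (r := r) H : Set (Perm (Pts m r)))
      ≤ pairSub (r := r) (Subgroup.normalizer (H : Set (Perm (Fin m)))) := by
  intro k hk
  obtain ⟨τ, -, hτ⟩ := mem_pairSub_top_of_map hr (k := k) (fun i => by
    have h1 : swap (k (.inl (i, false))) (k (.inl (i, true))) ∈ pairSub (r := r) H := by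
      rw [swap_apply_apply]
      exact (Subgroup.mem_normalizer_iff.mp hk _).mp (flipP_mem H i)
    obtain ⟨j, h2, h3⟩ := lab_eq_of_swap_mem hr (fun e => by simpa using k.injective e) h1
    exact ⟨j, Bool.rec h2 h3⟩)
  exact ⟨τ, label_mem_normalizer le_rfl
    (fun σ hσ => ⟨liftPair σ (fun _ => false), liftPair_mem hσ _, lab_liftPair σ _⟩) hτ hk, hτ⟩

theorem normalizer_pairSub_even_le (hr : r ≤ 1) (hm : 3 ≤ m) (H : Subgroup (Perm (Fin m))) :
    Subgroup.normalizer ((pairSub (r := r) H ⊓ alternatingGroup _ : Subgroup _) : Set (Perm (Pts m r)))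
      ≤ pairSub (r := r) (Subgroup.normalizer (H : Set (Perm (Fin m)))) := by
  intro k hk
  obtain ⟨τ, -, hτ⟩ := mem_pairSub_top_of_map hr (k := k) (fun i => by
    have hne : (Sum.inl (i, false) : Pts m r) ≠ .inl (i, true) := by simp
    obtain ⟨g, h, hg, hh, hgh, hdg, hdh, hgu, hhu⟩ :=
      (pair_iff_two_dbl (H := H) hr hm hne).mp ⟨i, rfl, rfl⟩
    have hd : ∀ g, IsDbl g → IsDbl (k * g * k⁻¹) := fun g ⟨h1, h2⟩ =>
      ⟨by rw [show k * g * k⁻¹ * (k * g * k⁻¹) = k * (g * g) * k⁻¹ by group, h1]; group,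
        by rw [card_support_conj]; exact h2⟩
    obtain ⟨j, h2, h3⟩ := (pair_iff_two_dbl (H := H) hr hm
      (u := k (.inl (i, false))) (v := k (.inl (i, true)))
      (fun e => hne (k.injective e))).mpr
      ⟨k * g * k⁻¹, k * h * k⁻¹, (Subgroup.mem_normalizer_iff.mp hk _).mp hg,
        (Subgroup.mem_normalizer_iff.mp hk _).mp hh, fun e => hgh (by simpa using e),
        hd g hdg, hd h hdh, by simp [hgu], by simp [hhu]⟩
    exact ⟨j, Bool.rec h2 h3⟩)
  exact ⟨τ, label_mem_normalizer inf_le_left (fun σ hσ => even_part_surj (by omega) σ hσ) hτ hk, hτ⟩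

/-- Every Sylow 2-subgroup of a symmetric group of degree `2m + r` is a transported model. -/
theorem exists_equiv_pairSub {β : Type*} [Fintype β] [DecidableEq β] (hr : r ≤ 1)
    (hcard : Fintype.card β = 2 * m + r) (P : Sylow 2 (Perm β)) (H : Sylow 2 (Perm (Fin m))) :
    ∃ e : Pts m r ≃ β, (P : Subgroup (Perm β))
      = (pairSub (r := r) (H : Subgroup (Perm (Fin m)))).map e.permCongrHom.toMonoidHom := by
  obtain ⟨e₀⟩ : Nonempty (Pts m r ≃ β) :=
    ⟨Fintype.equivOfCardEq (by rw [card_pts, hcard])⟩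
  let Q : Sylow 2 (Perm β) :=
    (pairSylow hr H).mapSurjective (f := e₀.permCongrHom.toMonoidHom) e₀.permCongrHom.surjective
  obtain ⟨g, hg⟩ := MulAction.exists_smul_eq (Perm β) Q P
  refine ⟨e₀.trans g, ?_⟩
  rw [← hg, Sylow.coe_subgroup_smul]
  change MulAut.conj g • (pairSub (r := r) (H : Subgroup (Perm (Fin m)))).map e₀.permCongrHom.toMonoidHom = _
  ext x
  simp only [Subgroup.mem_map, MulEquiv.coe_toMonoidHom]
  constructor
  · rintro ⟨y, ⟨z, hz, rfl⟩, rfl⟩
    exact ⟨z, hz, Equiv.ext fun a => by simp [Equiv.permCongr_apply, Perm.inv_def]⟩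
  · rintro ⟨z, hz, rfl⟩
    exact ⟨_, ⟨z, hz, rfl⟩, Equiv.ext fun a => by simp [Equiv.permCongr_apply, Perm.inv_def]⟩

theorem normalizer_map_equiv {G G' : Type*} [Group G] [Group G'] (f : G ≃* G') (K : Subgroup G) :
    Subgroup.normalizer ((K.map f.toMonoidHom : Subgroup G') : Set G')
      = (Subgroup.normalizer (K : Set G)).map f.toMonoidHom := by
  ext x
  have hmem : ∀ z, z ∈ (K.map f.toMonoidHom : Subgroup G') ↔ f.symm z ∈ K :=
    fun z => Subgroup.mem_map_equiv
  rw [Subgroup.mem_map_equiv, Subgroup.mem_normalizer_iff, Subgroup.mem_normalizer_iff]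
  constructor
  · intro h y
    have := h (f y)
    rw [hmem, hmem] at this
    simpa using this
  · intro h y
    rw [hmem, hmem]
    simpa using h (f.symm y)

/-- Sylow 2-subgroups of symmetric groups are self-normalizing. -/
theorem perm_sylowTwo_normalizer : ∀ (n : ℕ) (β : Type) [Fintype β] [DecidableEq β],
    Fintype.card β = n → ∀ P : Sylow 2 (Perm β),
      Subgroup.normalizer ((P : Subgroup (Perm β)) : Set (Perm β)) = (P : Subgroup (Perm β)) := by
  intro n
  induction n using Nat.strong_induction_on with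
  | _ n ih =>
    intro β _ _ hn P
    rcases Nat.eq_zero_or_pos n with h0 | hpos
    · haveI : IsEmpty β := Fintype.card_eq_zero_iff.mp (by omega)
      exact Subsingleton.elim _ _
    obtain ⟨H⟩ := (inferInstance : Nonempty (Sylow 2 (Perm (Fin (n / 2)))))
    have hr : n % 2 ≤ 1 := by omega
    obtain ⟨e, he⟩ := exists_equiv_pairSub (m := n / 2) (r := n % 2) hr (by omega) P H
    refine le_antisymm ?_ Subgroup.le_normalizer
    rw [he, normalizer_map_equiv]
    refine Subgroup.map_mono ((normalizer_pairSub_le hr _).trans (pairSub_mono ?_))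
    rw [ih (n / 2) (by omega) (Fin (n / 2)) (Fintype.card_fin _) H]

/-- A Sylow 2-subgroup of an alternating group is the even part of a Sylow 2-subgroup of the
symmetric group. -/
theorem alt_sylow_eq_inf {β : Type*} [Fintype β] [DecidableEq β]
    (P : Sylow 2 (alternatingGroup β)) :
    ∃ Q : Sylow 2 (Perm β), (P : Subgroup (alternatingGroup β)).map (alternatingGroup β).subtype
      = (Q : Subgroup (Perm β)) ⊓ alternatingGroup β := by
  obtain ⟨Q, hQ⟩ := P.exists_comap_subtype_eq
  refine ⟨Q, ?_⟩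
  rw [← hQ, Subgroup.map_comap_eq, Subgroup.range_subtype, inf_comm]

/-- Sylow 2-subgroups of alternating groups of degree at least 6 are self-normalizing. -/
theorem alt_sylowTwo_normalizer (n : ℕ) (hn : 6 ≤ n) (P : Sylow 2 (alternatingGroup (Fin n))) :
    Subgroup.normalizer ((P : Subgroup (alternatingGroup (Fin n))) : Set (alternatingGroup (Fin n)))
      = (P : Subgroup (alternatingGroup (Fin n))) := by
  refine le_antisymm ?_ Subgroup.le_normalizer
  obtain ⟨Q, hQ⟩ := alt_sylow_eq_inf P
  obtain ⟨H⟩ := (inferInstance : Nonempty (Sylow 2 (Perm (Fin (n / 2)))))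
  have hr : n % 2 ≤ 1 := by omega
  obtain ⟨e, he⟩ := exists_equiv_pairSub (m := n / 2) (r := n % 2) (β := Fin n) hr
    (by rw [Fintype.card_fin]; omega) Q H
  intro k hk
  have hA : (alternatingGroup (Pts (n / 2) (n % 2))).map e.permCongrHom.toMonoidHom
      = alternatingGroup (Fin n) := by
    ext x
    rw [Subgroup.mem_map_equiv]
    simp [mem_alternatingGroup, Equiv.permCongrHom]
  have hkn : (k : Perm (Fin n)) ∈ Subgroup.normalizer
      (((P : Subgroup (alternatingGroup (Fin n))).map (alternatingGroup (Fin n)).subtype :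
        Subgroup (Perm (Fin n))) : Set (Perm (Fin n))) :=
    Subgroup.le_normalizer_map _ (Subgroup.mem_map_of_mem _ hk)
  have hinj : Function.Injective e.permCongrHom.toMonoidHom := e.permCongrHom.injective
  have hE : (P : Subgroup (alternatingGroup (Fin n))).map (alternatingGroup (Fin n)).subtype
      = (pairSub (r := n % 2) (H : Subgroup (Perm (Fin (n / 2)))) ⊓ alternatingGroup _).map
          e.permCongrHom.toMonoidHom := by
    rw [Subgroup.map_inf _ _ _ hinj, ← he, hA, hQ]
  rw [hE, normalizer_map_equiv] at hkn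
  obtain ⟨y, hy, hye⟩ := hkn
  have := (normalizer_pairSub_even_le hr (by omega) _).trans
    (pairSub_mono (perm_sylowTwo_normalizer (n / 2) (Fin (n / 2)) (Fintype.card_fin _) H).le) hy
  have hkQ : (k : Perm (Fin n)) ∈ (Q : Subgroup (Perm (Fin n))) ⊓ alternatingGroup (Fin n) :=
    ⟨by rw [SetLike.mem_coe, he]; exact ⟨y, this, hye⟩, k.2⟩
  rw [← hQ] at hkQ
  obtain ⟨k', hk', hkk'⟩ := hkQ
  rwa [Subtype.ext hkk'] at hk'

end CfsgLib.Known
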