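import Mathlib.GroupTheory.SpecificGroups.Alternating
import Mathlib.GroupTheory.Perm.Centralizer
import Mathlib.Algebra.Group.Action.End
import Mathlib.Tactic

/-!
# Automorphisms of alternating groups

For `n ≥ 4`, `n ≠ 6`, an automorphism of `A_n` maps three-cycles to three-cycles (centralizer orders),
hence maps the generators `(0 1 i)` to a family of the same shape, hence is a conjugation.
-/

set_option autoImplicit false

namespace CfsgLib.Known.AltAut

open Equiv Equiv.Perm

variable {α : Type*} [Fintype α] [DecidableEq α]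

/-- The cycle `a ↦ b ↦ c ↦ a`. -/
def cyc (a b c : α) : Perm α := swap a b * swap b c

variable {a b c : α}

omit [Fintype α] in
theorem cyc_a (hab : a ≠ b) (hac : a ≠ c) : cyc a b c a = b := by
  simp [cyc, swap_apply_of_ne_of_ne hab hac]

omit [Fintype α] in
theorem cyc_b (hac : a ≠ c) (hbc : b ≠ c) : cyc a b c b = c := by
  simp [cyc, swap_apply_of_ne_of_ne hac.symm hbc.symm]

omit [Fintype α] in
theorem cyc_c : cyc a b c c = a := by
  simp [cyc]

omit [Fintype α] in
theorem cyc_other {x : α} (ha : x ≠ a) (hb : x ≠ b) (hc : x ≠ c) : cyc a b c x = x := by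
  simp [cyc, swap_apply_of_ne_of_ne ha hb, swap_apply_of_ne_of_ne hb hc]

omit [Fintype α] in
theorem cyc_rot (hab : a ≠ b) (hac : a ≠ c) (hbc : b ≠ c) : cyc a b c = cyc b c a := by
  ext x
  by_cases hxa : x = a
  · subst hxa; rw [cyc_a hab hac, cyc_c]
  by_cases hxb : x = b
  · subst hxb; rw [cyc_b hac hbc, cyc_a hbc hab.symm]
  by_cases hxc : x = c
  · subst hxc; rw [cyc_c, cyc_b hab.symm hac.symm]
  · rw [cyc_other hxa hxb hxc, cyc_other hxb hxc hxa]

omit [Fintype α] in
theorem cyc_inv (hab : a ≠ b) (hac : a ≠ c) (hbc : b ≠ c) : (cyc a b c)⁻¹ = cyc b a c := by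
  rw [inv_eq_iff_mul_eq_one]
  ext x
  rw [Perm.mul_apply, Perm.one_apply]
  by_cases hxa : x = a
  · subst hxa; rw [cyc_b hbc hac, cyc_c]
  by_cases hxb : x = b
  · subst hxb; rw [cyc_a hab.symm hbc, cyc_a hab hac]
  by_cases hxc : x = c
  · subst hxc; rw [cyc_c, cyc_b hac hbc]
  · rw [cyc_other hxb hxa hxc, cyc_other hxa hxb hxc]

omit [Fintype α] in
theorem cyc_conj (π : Perm α) : π * cyc a b c * π⁻¹ = cyc (π a) (π b) (π c) := by
  ext x
  obtain ⟨y, rfl⟩ := π.surjective x
  simp only [cyc, Perm.mul_apply, Perm.inv_def, Equiv.symm_apply_apply, π.injective.map_swap]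

theorem isThreeCycle_cyc (hab : a ≠ b) (hac : a ≠ c) (hbc : b ≠ c) : (cyc a b c).IsThreeCycle := by
  rw [cyc, swap_comm a b]
  exact isThreeCycle_swap_mul_swap_same hab.symm hbc hac

/-- A three-cycle is `cyc p (σ p) (σ (σ p))` for each moved point `p`. -/
theorem eq_cyc {σ : Perm α} (hσ : σ.IsThreeCycle) {p : α} (hp : σ p ≠ p) :
    σ = cyc p (σ p) (σ (σ p)) ∧ σ (σ (σ p)) = p ∧ σ (σ p) ≠ p := by
  have h3 : σ ^ 3 = 1 := hσ.orderOf ▸ pow_orderOf_eq_one σ
  have hp3 : σ (σ (σ p)) = p := by
    have := congrArg (fun f : Perm α => f p) h3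
    simpa [pow_succ, Perm.mul_apply] using this
  have hp2 : σ (σ p) ≠ p := fun h => hp (by rw [h] at hp3; exact hp3)
  have hp12 : σ (σ p) ≠ σ p := fun h => hp (σ.injective h)
  refine ⟨?_, hp3, hp2⟩
  have hsup : σ.support = {p, σ p, σ (σ p)} := by
    refine (Finset.eq_of_subset_of_card_le (fun x hx => ?_) ?_).symm
    · simp only [Finset.mem_insert, Finset.mem_singleton] at hx
      rw [mem_support]
      rcases hx with rfl | rfl | rfl
      · exact hp
      · exact hp12
      · rw [hp3]; exact hp2.symm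
    · rw [hσ.card_support, Finset.card_insert_of_notMem (by simp [hp.symm, hp2.symm]),
        Finset.card_insert_of_notMem (by simp [hp12.symm]), Finset.card_singleton]
  ext x
  by_cases h1 : x = p
  · subst h1; rw [cyc_a hp.symm hp2.symm]
  by_cases h2 : x = σ p
  · subst h2; rw [cyc_b hp2.symm hp12.symm]
  by_cases h4 : x = σ (σ p)
  · subst h4; rw [cyc_c, hp3]
  · rw [cyc_other h1 h2 h4]
    by_contra h
    have : x ∈ σ.support := mem_support.mpr h
    simp [hsup, h1, h2, h4] at this

/-- Two three-cycles with product of order two share an oriented edge. -/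
theorem exists_edge {x y : Perm α} (hx : x.IsThreeCycle) (hy : y.IsThreeCycle)
    (h : x * y * (x * y) = 1) (hne : x * y ≠ 1) :
    ∃ p d, x p ≠ p ∧ x d = d ∧ y = cyc p (x p) d := by
  obtain ⟨d, hyd, hxd⟩ : ∃ d, y d ≠ d ∧ x d = d := by
    by_contra hc
    push Not at hc
    obtain ⟨p, hp⟩ : ∃ p, y p ≠ p := by
      by_contra hc'
      push Not at hc'
      exact hy.isCycle.ne_one (Perm.ext hc')
    have hxp := hc p hp
    obtain ⟨hxe, hx3, hx2⟩ := eq_cyc hx hxp
    obtain ⟨hye, hy3, hy2⟩ := eq_cyc hy hp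
    have hmem : ∀ z, x z ≠ z → z = p ∨ z = x p ∨ z = x (x p) := by
      intro z hz
      by_contra hcc
      push Not at hcc
      exact hz (hxe ▸ cyc_other hcc.1 hcc.2.1 hcc.2.2)
    have h1 := hmem (y p) (hc _ fun e => hp (y.injective e))
    have h2 := hmem (y (y p)) (hc _ (by rw [hy3]; exact hy2.symm))
    have h12 : y (y p) ≠ y p := fun e => hp (y.injective e)
    rcases h1 with h1 | h1 | h1
    · exact hp h1
    · rcases h2 with h2 | h2 | h2
      · exact hy2 h2
      · exact h12 (h2.trans h1.symm)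
      · rw [h2, h1, ← hxe] at hye
        have hx3' : x ^ 3 = 1 := hx.orderOf ▸ pow_orderOf_eq_one x
        refine hxp ?_
        have : x = 1 := by
          rw [hye] at h
          have e : x * x * (x * x) = x ^ 3 * x := by simp [pow_succ, mul_assoc]
          rw [e, hx3', one_mul] at h
          exact h
        rw [this, Perm.one_apply]
    · rcases h2 with h2 | h2 | h2
      · exact hy2 h2
      · apply hne
        rw [h2, h1] at hye
        rw [hye]
        have hxinv : x⁻¹ = cyc p (x (x p)) (x p) := by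
          conv_lhs => rw [hxe]
          have hne12 : x p ≠ x (x p) := fun e => hxp (x.injective e.symm)
          rw [cyc_inv hxp.symm hx2.symm hne12, cyc_rot hxp hne12 hx2.symm]
        rw [← hxinv, mul_inv_cancel]
      · exact h12 (h2.trans h1.symm)
  obtain ⟨hye, hy3, hy2⟩ := eq_cyc hy hyd
  have h1 : x (y (x (y d))) = d := by
    have := congrArg (fun f : Perm α => f d) h
    simpa [Perm.mul_apply] using this
  have h2 : y (x (y d)) = d := x.injective (h1.trans hxd.symm)
  have h3 : x (y d) = y (y d) := y.injective (h2.trans hy3.symm)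
  refine ⟨y d, d, ?_, hxd, ?_⟩
  · rw [h3]; exact fun e => hyd (y.injective e)
  · rw [h3]
    conv_lhs => rw [hye]
    exact cyc_rot hyd.symm hy2.symm (fun e => hyd (y.injective e.symm))

/-- Three-cycles are detected by centralizer orders when the degree is not six. -/
theorem isThreeCycle_map (h4 : 4 ≤ Fintype.card α) (h6 : Fintype.card α ≠ 6)
    (φ : alternatingGroup α ≃* alternatingGroup α) {x : alternatingGroup α}
    (hx : (x : Perm α).IsThreeCycle) : (φ x : Perm α).IsThreeCycle := by
  set y := φ x with hy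
  have hoy : orderOf (y : Perm α) = 3 := by
    rw [Subgroup.orderOf_coe, hy, MulEquiv.orderOf_eq, ← Subgroup.orderOf_coe, hx.orderOf]
  obtain ⟨k, hk⟩ := cycleType_prime_order (σ := (y : Perm α)) (by rw [hoy]; decide)
  rw [hoy] at hk
  rcases Nat.eq_zero_or_pos k with rfl | hkpos
  · show cycleType _ = _
    simpa using hk
  exfalso
  obtain ⟨n, hn⟩ : ∃ n, Fintype.card α = n := ⟨_, rfl⟩
  rw [hn] at h4 h6
  have hkn : 3 * (k + 1) ≤ n := by
    have := sum_cycleType_le (y : Perm α)
    rw [hk, Multiset.sum_replicate, smul_eq_mul, hn] at this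
    linarith
  have hC : ∀ z : alternatingGroup α,
      Nat.card (Subgroup.centralizer {(z : Perm α)}) = 2 * Nat.card (Subgroup.centralizer {z}) ∨
      Nat.card (Subgroup.centralizer {(z : Perm α)}) = Nat.card (Subgroup.centralizer {z}) := by
    intro z
    let s : Subgroup.centralizer {(z : Perm α)} →* ℤˣ :=
      Perm.sign.comp (Subgroup.centralizer {(z : Perm α)}).subtype
    have h1 : Nat.card s.ker = Nat.card (Subgroup.centralizer {z}) := by
      refine Nat.card_congr
        { toFun := fun t => ⟨⟨t.1.1, t.2⟩, Subgroup.mem_centralizer_singleton_iff.mpr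
            (Subtype.ext (Subgroup.mem_centralizer_singleton_iff.mp t.1.2))⟩
          invFun := fun t => ⟨⟨t.1.1, Subgroup.mem_centralizer_singleton_iff.mpr
            (congrArg Subtype.val (Subgroup.mem_centralizer_singleton_iff.mp t.2))⟩, t.1.2⟩
          left_inv := fun t => rfl
          right_inv := fun t => rfl }
    have h2 := Subgroup.card_mul_index s.ker
    rw [Subgroup.index_ker, h1] at h2
    have h3 : Nat.card s.range ≤ 2 := by
      refine (Nat.card_le_card_of_injective _ Subtype.val_injective).trans ?_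
      simp [Nat.card_eq_fintype_card]
    have h4 : 0 < Nat.card s.range := Nat.card_pos
    obtain h | h : Nat.card s.range = 1 ∨ Nat.card s.range = 2 := by omega
    · rw [h, mul_one] at h2; exact Or.inr h2.symm
    · rw [h, mul_comm] at h2; exact Or.inl h2.symm
  have he : Nat.card (Subgroup.centralizer {y}) = Nat.card (Subgroup.centralizer {x}) := by
    refine (Nat.card_congr (Equiv.subtypeEquiv φ.toEquiv fun t => ?_)).symm
    rw [Subgroup.mem_centralizer_singleton_iff, Subgroup.mem_centralizer_singleton_iff, hy]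
    show t * x = x * t ↔ φ t * φ x = φ x * φ t
    rw [← map_mul, ← map_mul, φ.injective.eq_iff]
  have hcx := Perm.nat_card_centralizer (g := (x : Perm α))
  have hcy := Perm.nat_card_centralizer (g := (y : Perm α))
  rw [hx.cycleType] at hcx
  rw [hk] at hcy
  simp only [Multiset.sum_replicate, Multiset.prod_replicate, smul_eq_mul,
    Multiset.toFinset_replicate, Nat.succ_ne_zero, if_false, Finset.prod_singleton,
    Multiset.count_replicate_self, Multiset.sum_singleton, Multiset.prod_singleton,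
    Multiset.toFinset_singleton, Multiset.count_singleton_self, Nat.factorial_one, mul_one, hn] at hcx hcy
  -- `3^(k+1) (k+1)! (n - 3(k+1))!` against `3 (n-3)!`
  have harith : 2 * (3 ^ (k + 1) * (k + 1).factorial) * (n - (k + 1) * 3).factorial <
      3 * (n - 3).factorial ∨ (k = 1 ∧ n = 7) := by
    rcases Nat.lt_or_ge k 2 with h | h
    · obtain rfl : k = 1 := by omega
      rcases Nat.lt_or_ge n 8 with h8 | h8
      · exact Or.inr ⟨rfl, by omega⟩
      · left
        obtain ⟨m, hm⟩ := Nat.exists_eq_add_of_le h8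
        rw [hm, show 8 + m - (1 + 1) * 3 = m + 2 by omega, show 8 + m - 3 = m + 5 by omega,
          show (m + 5).factorial = (m + 5) * ((m + 4) * ((m + 3) * (m + 2).factorial)) by
            rw [Nat.factorial_succ, Nat.factorial_succ, Nat.factorial_succ]]
        have := Nat.factorial_pos (m + 2)
        rw [show Nat.factorial (1 + 1) = 2 from rfl, show (3 : ℕ) ^ (1 + 1) = 9 from rfl]
        have h60 : 60 ≤ (m + 5) * ((m + 4) * (m + 3)) :=
          le_trans (by norm_num) (Nat.mul_le_mul (show 5 ≤ m + 5 by omega)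
            (Nat.mul_le_mul (show 4 ≤ m + 4 by omega) (show 3 ≤ m + 3 by omega)))
        nlinarith
    · left
      have hbase : ∀ j, 2 ≤ j → 2 * (3 ^ (j + 1) * (j + 1).factorial) < 3 * (3 * j).factorial := by
        intro j hj
        induction j, hj using Nat.le_induction with
        | base => decide
        | succ j hj ih =>
          rw [Nat.factorial_succ (j + 1), pow_succ, show 3 * (j + 1) = 3 * j + 3 by ring,
            Nat.factorial_succ (3 * j + 2), Nat.factorial_succ (3 * j + 1), Nat.factorial_succ (3 * j)]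
          calc 2 * (3 ^ (j + 1) * 3 * ((j + 1 + 1) * (j + 1).factorial))
              = 3 * (j + 1 + 1) * (2 * (3 ^ (j + 1) * (j + 1).factorial)) := by ring
            _ < 3 * (j + 1 + 1) * (3 * (3 * j).factorial) :=
              Nat.mul_lt_mul_of_pos_left ih (by positivity)
            _ ≤ _ := by
              refine (Nat.mul_le_mul_right _ (show 3 * (j + 1 + 1) ≤
                (3 * j + 2 + 1) * ((3 * j + 1 + 1) * (3 * j + 1)) by
                nlinarith [Nat.mul_le_mul_left (3 * j + 2 + 1) (show 2 ≤ (3 * j + 1 + 1) * (3 * j + 1) by nlinarith)])).trans (le_of_eq ?_)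
              ring
      have h1 := hbase k h
      obtain ⟨r, hr⟩ := Nat.exists_eq_add_of_le hkn
      rw [hr, show 3 * (k + 1) + r - (k + 1) * 3 = r by omega,
        show 3 * (k + 1) + r - 3 = 3 * k + r by omega]
      have h2 : (3 * k).factorial * r.factorial ≤ (3 * k + r).factorial :=
        Nat.le_of_dvd (Nat.factorial_pos _) (Nat.factorial_mul_factorial_dvd_factorial_add _ _)
      calc _ < 3 * (3 * k).factorial * r.factorial := Nat.mul_lt_mul_of_pos_right h1 (Nat.factorial_pos _)
        _ ≤ _ := by rw [mul_assoc]; exact Nat.mul_le_mul_left _ h2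
  rcases harith with h | ⟨rfl, h7⟩
  · rcases hC x with hx' | hx' <;> rcases hC y with hy' | hy' <;>
      rw [hcx] at hx' <;> rw [hcy] at hy' <;> rw [he] at hy' <;> nlinarith
  · rcases hC x with hx' | hx' <;> rcases hC y with hy' | hy' <;>
      rw [hcx] at hx' <;> rw [hcy] at hy' <;> rw [he] at hy' <;>
      subst h7 <;> norm_num [Nat.factorial] at hx' hy' <;> omega

variable {n : ℕ}

/-- The cycles `(0 1 i)` generate the alternating group. -/
theorem eq_top_of_gens (hn : 3 ≤ n) (K : Subgroup (Perm (Fin n)))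
    (hK : ∀ i : Fin n, 2 ≤ i.val → cyc (⟨0, by omega⟩ : Fin n) ⟨1, by omega⟩ i ∈ K) :
    alternatingGroup (Fin n) ≤ K := by
  let o : Fin n := ⟨0, by omega⟩
  let e : Fin n := ⟨1, by omega⟩
  have hoe : o ≠ e := by simp [o, e]
  have h2 : ∀ i : Fin n, i ≠ o → i ≠ e → 2 ≤ i.val := fun i h h' => by
    have : i.val ≠ 0 := fun h0 => h (Fin.ext h0)
    have : i.val ≠ 1 := fun h0 => h' (Fin.ext h0)
    omega
  have h1 : ∀ i, i ≠ o → i ≠ e → cyc o e i ∈ K := fun i h h' => hK i (h2 i h h')
  have he : ∀ j k, j ≠ o → j ≠ e → k ≠ o → k ≠ e → j ≠ k → cyc e j k ∈ K := by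
    intro j k hj hj' hk hk' hjk
    have h := K.mul_mem (K.mul_mem (h1 j hj hj') (h1 k hk hk')) (K.inv_mem (h1 j hj hj'))
    rwa [cyc_conj, cyc_a hoe hj.symm, cyc_b hj.symm hj'.symm, cyc_other hk hk' hjk.symm] at h
  have ho : ∀ j k, j ≠ o → j ≠ e → k ≠ o → k ≠ e → j ≠ k → cyc o j k ∈ K := by
    intro j k hj hj' hk hk' hjk
    have hm := K.inv_mem (h1 k hk hk')
    have h := K.mul_mem (K.mul_mem hm (h1 j hj hj')) (K.inv_mem hm)
    rw [cyc_conj] at h
    rw [cyc_inv hoe hk.symm hk'.symm] at h
    rw [cyc_b hk'.symm hk.symm, cyc_a hoe.symm hk'.symm, cyc_other hj' hj hjk] at h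
    rw [cyc_rot hk hjk.symm (Ne.symm hj)] at h
    exact h
  have hall : ∀ a b c, a ≠ b → a ≠ c → b ≠ c → cyc a b c ∈ K := by
    have hA : ∀ b c, o ≠ b → o ≠ c → b ≠ c → cyc o b c ∈ K := by
      intro b c hb hc hbc
      by_cases hbe : b = e
      · subst hbe; exact h1 c hc.symm hbc.symm
      by_cases hce : c = e
      · subst hce
        rw [cyc_rot hb hc hbc, cyc_rot hbc hb.symm hc.symm, ← cyc_inv hc hb hbc.symm]
        exact K.inv_mem (h1 b hb.symm hbe)
      · exact ho b c hb.symm hbe hc.symm hce hbc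
    intro a b c hab hac hbc
    by_cases h : a = o
    · subst h; exact hA b c hab hac hbc
    by_cases h' : b = o
    · subst h'; rw [cyc_rot hab hac hbc]; exact hA c a hbc hab.symm hac.symm
    by_cases h'' : c = o
    · subst h''
      rw [cyc_rot hab hac hbc, cyc_rot hbc hab.symm hac.symm]
      exact hA a b hac.symm hbc.symm hab
    by_cases k : a = e
    · subst k; exact he b c h' (Ne.symm hab) h'' (Ne.symm hac) hbc
    by_cases k' : b = e
    · subst k'; rw [cyc_rot hab hac hbc]; exact he c a h'' (Ne.symm hbc) h k hac.symm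
    by_cases k'' : c = e
    · subst k''
      rw [cyc_rot hab hac hbc, cyc_rot hbc hab.symm hac.symm]
      exact he a b h k h' k' hab
    have hm := h1 a h k
    have h5 := K.mul_mem (K.mul_mem hm (he b c h' k' h'' k'' hbc)) (K.inv_mem hm)
    rwa [cyc_conj, cyc_b (Ne.symm h) (Ne.symm k), cyc_other h' k' hab.symm,
      cyc_other h'' k'' hac.symm] at h5
  rw [← closure_three_cycles_eq_alternating, Subgroup.closure_le]
  intro σ hσ
  obtain ⟨p, hp⟩ : ∃ p, σ p ≠ p := by
    by_contra hc
    push Not at hc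
    exact (hσ : σ.IsThreeCycle).isCycle.ne_one (Perm.ext hc)
  obtain ⟨hc, -, hp2⟩ := eq_cyc hσ hp
  rw [SetLike.mem_coe, hc]
  exact hall _ _ _ hp.symm hp2.symm (fun e => hp (σ.injective e.symm))

/-- Every automorphism of `A_n`, `n ≥ 4`, `n ≠ 6`, is a conjugation by a permutation. -/
theorem exists_conj (hn : 4 ≤ n) (h6 : n ≠ 6)
    (φ : alternatingGroup (Fin n) ≃* alternatingGroup (Fin n)) :
    ∃ π : Perm (Fin n), ∀ x, (φ x : Perm (Fin n)) = π * x * π⁻¹ := by
  let o : Fin n := ⟨0, by omega⟩
  let e : Fin n := ⟨1, by omega⟩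
  let t : Fin n := ⟨2, by omega⟩
  let I := {i : Fin n // 2 ≤ i.val}
  have hio : ∀ i : I, o ≠ i.1 := fun i h => by have := i.2; rw [← h] at this; simp [o] at this
  have hie : ∀ i : I, e ≠ i.1 := fun i h => by have := i.2; rw [← h] at this; simp [e] at this
  have hoe : o ≠ e := by simp [o, e]
  have hot : o ≠ t := by simp [o, t]
  have het : e ≠ t := by simp [e, t]
  let g : I → alternatingGroup (Fin n) := fun i =>
    ⟨cyc o e i.1, (isThreeCycle_cyc hoe (hio i) (hie i)).mem_alternatingGroup⟩
  have hg3 : ∀ i, (g i : Perm (Fin n)).IsThreeCycle := fun i => isThreeCycle_cyc hoe (hio i) (hie i)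
  have hy3 : ∀ i, (φ (g i) : Perm (Fin n)).IsThreeCycle := fun i =>
    isThreeCycle_map (by simpa using hn) (by simpa using h6) φ (hg3 i)
  let i2 : I := ⟨t, le_rfl⟩
  obtain ⟨π₀, hπ₀⟩ := isConj_iff.1
    ((isConj_iff_cycleType_eq).2 ((hg3 i2).cycleType.trans (hy3 i2).cycleType.symm))
  let y : I → Perm (Fin n) := fun i => π₀⁻¹ * (φ (g i) : Perm (Fin n)) * π₀
  let x : Perm (Fin n) := cyc o e t
  have hx : x.IsThreeCycle := isThreeCycle_cyc hoe hot het
  have hy2 : y i2 = x := by
    show π₀⁻¹ * _ * π₀ = _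
    rw [← hπ₀]
    simp [g, x, i2, mul_assoc]
  have hy : ∀ i, (y i).IsThreeCycle := fun i => by
    show cycleType _ = _
    have := cycleType_conj (τ := π₀⁻¹) (σ := (φ (g i) : Perm (Fin n)))
    rw [inv_inv] at this
    exact this.trans (hy3 i).cycleType
  have hrel : ∀ i j, i ≠ j → y i * y j * (y i * y j) = 1 ∧ y i * y j ≠ 1 := by
    intro i j hij
    have hne : i.1 ≠ j.1 := fun h => hij (Subtype.ext h)
    have hp : (g i : Perm (Fin n)) * g j * (g i * g j) = 1 := by
      ext z
      simp only [g, Perm.mul_apply, Perm.one_apply]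
      by_cases h1 : z = o
      · subst h1
        simp [cyc_a hoe (hio j), cyc_b (hio i) (hie i), cyc_other (hio i).symm (hie i).symm hne,
          cyc_c]
      by_cases h2 : z = e
      · subst h2
        simp [cyc_b (hio j) (hie j), cyc_other (hio j).symm (hie j).symm hne.symm, cyc_c,
          cyc_a hoe (hio i)]
      by_cases h3 : z = i.1
      · subst h3
        simp [cyc_other h1 h2 hne, cyc_c, cyc_a hoe (hio j), cyc_b (hio i) (hie i)]
      by_cases h4 : z = j.1
      · subst h4
        simp [cyc_c, cyc_a hoe (hio i), cyc_b (hio j) (hie j), cyc_other h1 h2 hne.symm]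
      · simp [cyc_other h1 h2 h4, cyc_other h1 h2 h3]
    have hp1 : (g i : Perm (Fin n)) * g j ≠ 1 := by
      intro h
      have := congrArg (fun f : Perm (Fin n) => f o) h
      simp [g, cyc_a hoe (hio j), cyc_b (hio i) (hie i)] at this
      exact hio i this.symm
    constructor
    · have h1 : φ (g i) * φ (g j) * (φ (g i) * φ (g j)) = 1 := by
        rw [← map_mul, ← map_mul, show g i * g j * (g i * g j) = 1 from Subtype.ext hp, map_one]
      have h2 : (φ (g i) : Perm (Fin n)) * φ (g j) * (φ (g i) * φ (g j)) = 1 := congrArg Subtype.val h1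
      calc y i * y j * (y i * y j) = π₀⁻¹ * ((φ (g i) : Perm (Fin n)) * φ (g j) * (φ (g i) * φ (g j))) * π₀ := by
            simp [y, mul_assoc]
        _ = 1 := by rw [h2]; simp
    · intro h
      have h2 : (φ (g i) : Perm (Fin n)) * φ (g j) = 1 := by
        calc (φ (g i) : Perm (Fin n)) * φ (g j) = π₀ * (y i * y j) * π₀⁻¹ := by simp [y, mul_assoc]
          _ = 1 := by rw [h]; simp
      have h3 : φ (g i * g j) = φ 1 := by rw [map_mul, map_one]; exact Subtype.ext h2
      exact hp1 (congrArg Subtype.val (φ.injective h3))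
  have hxmove : ∀ p, x p ≠ p ↔ p = o ∨ p = e ∨ p = t := by
    intro p
    constructor
    · intro h
      by_contra hc
      push Not at hc
      exact h (cyc_other hc.1 hc.2.1 hc.2.2)
    · rintro (rfl | rfl | rfl)
      · rw [cyc_a hoe hot]; exact hoe.symm
      · rw [cyc_b hot het]; exact het.symm
      · rw [cyc_c]; exact hot
  have hedge : ∀ i, i ≠ i2 → ∃ p d, x p ≠ p ∧ x d = d ∧ y i = cyc p (x p) d := fun i hi =>
    exists_edge hx (hy i) (hy2 ▸ (hrel i2 i (Ne.symm hi)).1) (hy2 ▸ (hrel i2 i (Ne.symm hi)).2)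
  haveI : Nonempty (Fin n) := ⟨o⟩
  choose! P D hP hD hY using hedge
  have hsame : ∀ i j, i ≠ i2 → j ≠ i2 → P i = P j := by
    intro i j hi hj
    by_cases hij : i = j
    · rw [hij]
    by_contra hne
    obtain ⟨p, d, hp, hd, heq⟩ := exists_edge (hy i) (hy j) (hrel i j hij).1 (hrel i j hij).2
    have hxi := hP i hi
    have hxj := hP j hj
    have hdi : ∀ q, x q ≠ q → q ≠ D i := fun q hq h => hq (h ▸ hD i hi)
    have hdj : ∀ q, x q ≠ q → q ≠ D j := fun q hq h => hq (h ▸ hD j hj)
    have hmx : ∀ q, x q ≠ q → x (x q) ≠ x q := fun q hq h => hq (x.injective h)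
    have hpj : y j p = y i p := by
      rw [heq, cyc_a hp.symm]
      rintro rfl
      exact hp hd
    have hjp : p = P j ∨ p = x (P j) ∨ p = D j := by
      by_contra hc
      push Not at hc
      apply hp
      rw [← hpj, hY j hj, cyc_other hc.1 hc.2.1 hc.2.2]
    have hip : p = P i ∨ p = x (P i) ∨ p = D i := by
      by_contra hc
      push Not at hc
      apply hp
      rw [hY i hi, cyc_other hc.1 hc.2.1 hc.2.2]
    rw [hY j hj, hY i hi] at hpj
    have a1 := hxj.symm
    have a2 := hdj _ hxj
    have a3 := hdj _ (hmx _ hxj)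
    have b1 := hxi.symm
    have b2 := hdi _ hxi
    have b3 := hdi _ (hmx _ hxi)
    rcases hjp with rfl | rfl | rfl
    · rw [cyc_a a1 a2] at hpj
      rcases hip with h | h | h
      · exact hne h.symm
      · rw [h, cyc_b b2 b3] at hpj; exact hdi _ (hmx _ (hmx _ hxi)) hpj
      · exact hdi _ hxj h
    · rw [cyc_b a2 a3] at hpj
      rcases hip with h | h | h
      · rw [h, cyc_a b1 b2] at hpj; exact hdj _ (hmx _ hxi) hpj.symm
      · exact hne (x.injective h.symm)
      · exact hdi _ (hmx _ hxj) h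
    · rw [cyc_c] at hpj
      rcases hip with h | h | h
      · exact hdj _ hxi h.symm
      · exact hdj _ (hmx _ hxi) h.symm
      · rw [h, cyc_c] at hpj; exact hne hpj.symm
  obtain ⟨i3, hi3⟩ : ∃ i : I, i ≠ i2 := ⟨⟨⟨3, by omega⟩, by simp⟩, fun h => by
    have h' := congrArg (fun i : I => i.1.val) h
    simp [i2, t] at h'⟩
  -- rotate the common edge to `o ↦ e`
  have hx3 : x ^ 3 = 1 := hx.orderOf ▸ pow_orderOf_eq_one x
  obtain ⟨m, hm⟩ : ∃ m : ℕ, (x ^ m) (P i3) = o := by
    rcases (hxmove _).mp (hP i3 hi3) with h | h | h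
    · exact ⟨0, by simp [h]⟩
    · exact ⟨2, by simp [h, pow_two, x, cyc_b hot het, cyc_c]⟩
    · exact ⟨1, by simp [h, x, cyc_c]⟩
  have hxc : Commute (x ^ m) x := (Commute.refl x).pow_left m
  have hz : ∀ i : I, ∃ d : Fin n, d ≠ o ∧ d ≠ e ∧ x ^ m * y i * (x ^ m)⁻¹ = cyc o e d := by
    intro i
    by_cases hi : i = i2
    · refine ⟨t, hot.symm, het.symm, ?_⟩
      rw [hi, hy2, hxc.eq, mul_inv_cancel_right]
    · refine ⟨(x ^ m) (D i), ?_, ?_, ?_⟩
      · intro h
        have := hD i hi
        have h1 : x ((x ^ m) (D i)) = (x ^ m) (x (D i)) := by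
          rw [← Perm.mul_apply, ← Perm.mul_apply, hxc.eq]
        rw [this, h] at h1
        exact ((hxmove o).mpr (Or.inl rfl)) h1
      · intro h
        have := hD i hi
        have h1 : x ((x ^ m) (D i)) = (x ^ m) (x (D i)) := by
          rw [← Perm.mul_apply, ← Perm.mul_apply, hxc.eq]
        rw [this, h] at h1
        exact ((hxmove e).mpr (Or.inr (Or.inl rfl))) h1
      · rw [hY i hi, cyc_conj, hsame i i3 hi hi3, hm]
        congr 1
        rw [← Perm.mul_apply, hxc.eq, Perm.mul_apply, hm, cyc_a hoe hot]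
  choose E hEo hEe hE using hz
  have hEinj : Function.Injective E := by
    intro i j h
    have h1 : y i = y j := by
      have := (hE i).trans ((congrArg (cyc o e) h).trans (hE j).symm)
      exact mul_left_cancel (mul_right_cancel this)
    have h2 : (φ (g i) : Perm (Fin n)) = φ (g j) := mul_left_cancel (mul_right_cancel h1)
    have h3 := congrArg (fun z : alternatingGroup (Fin n) => (z : Perm (Fin n)) e) (φ.injective (Subtype.ext h2))
    simp only [g, cyc_b (hio i) (hie i), cyc_b (hio j) (hie j)] at h3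
    exact Subtype.ext h3
  let f : Fin n → Fin n := fun i => if h : 2 ≤ i.val then E ⟨i, h⟩ else i
  have hfinj : Function.Injective f := by
    intro a b h
    have hsmall : ∀ a : Fin n, ¬ 2 ≤ a.val → a = o ∨ a = e := fun a ha => by
      rcases Nat.lt_or_ge a.val 1 with h | h
      · exact Or.inl (Fin.ext (by simp [o]; omega))
      · exact Or.inr (Fin.ext (by simp [e]; omega))
    by_cases ha : 2 ≤ a.val <;> by_cases hb : 2 ≤ b.val
    · simp only [f, dif_pos ha, dif_pos hb] at h
      exact congrArg Subtype.val (hEinj h)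
    · simp only [f, dif_pos ha, dif_neg hb] at h
      rcases hsmall b hb with rfl | rfl
      exacts [absurd h (hEo _), absurd h (hEe _)]
    · simp only [f, dif_neg ha, dif_pos hb] at h
      rcases hsmall a ha with rfl | rfl
      exacts [absurd h.symm (hEo _), absurd h.symm (hEe _)]
    · simpa only [f, dif_neg ha, dif_neg hb] using h
  let σ : Perm (Fin n) := Equiv.ofBijective f hfinj.bijective_of_finite
  let π : Perm (Fin n) := π₀ * (x ^ m)⁻¹ * σ
  have hgen : ∀ i : I, (φ (g i) : Perm (Fin n)) = π * g i * π⁻¹ := by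
    intro i
    have h1 : σ * cyc o e i.1 * σ⁻¹ = cyc o e (E i) := by
      rw [cyc_conj, show σ o = o by simp [σ, f, o], show σ e = e by simp [σ, f, e],
        show σ i.1 = E i by simp [σ, f, i.2]]
    calc (φ (g i) : Perm (Fin n)) = π₀ * y i * π₀⁻¹ := by simp [y, mul_assoc]
      _ = π₀ * (x ^ m)⁻¹ * (x ^ m * y i * (x ^ m)⁻¹) * x ^ m * π₀⁻¹ := by group
      _ = π₀ * (x ^ m)⁻¹ * (σ * cyc o e i.1 * σ⁻¹) * x ^ m * π₀⁻¹ := by rw [hE, h1]
      _ = π * g i * π⁻¹ := by simp [π, g, mul_assoc, _root_.mul_inv_rev]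
  refine ⟨π, fun a => ?_⟩
  let K : Subgroup (Perm (Fin n)) :=
    { carrier := {z | ∃ h : z ∈ alternatingGroup (Fin n), (φ ⟨z, h⟩ : Perm (Fin n)) = π * z * π⁻¹}
      one_mem' := ⟨one_mem _, by
        show ((φ 1 : alternatingGroup (Fin n)) : Perm (Fin n)) = _
        rw [map_one, mul_one, mul_inv_cancel]; rfl⟩
      mul_mem' := by
        rintro z w ⟨hz, hz'⟩ ⟨hw, hw'⟩
        refine ⟨mul_mem hz hw, ?_⟩
        show ((φ (⟨z, hz⟩ * ⟨w, hw⟩) : alternatingGroup (Fin n)) : Perm (Fin n)) = _
        rw [map_mul, Subgroup.coe_mul, hz', hw']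
        group
      inv_mem' := by
        rintro z ⟨hz, hz'⟩
        refine ⟨inv_mem hz, ?_⟩
        show ((φ ((⟨z, hz⟩ : alternatingGroup (Fin n))⁻¹) : alternatingGroup (Fin n)) : Perm (Fin n)) = _
        rw [map_inv, Subgroup.coe_inv, hz']
        group }
  obtain ⟨_, h⟩ := eq_top_of_gens (by omega) K (fun i hi => ⟨(g ⟨i, hi⟩).2, hgen ⟨i, hi⟩⟩) a.2
  exact h

/-- Conjugation identifies `S_n` with the automorphism group of `A_n`. -/
theorem bijective_conjNormal (hn : 4 ≤ n) (h6 : n ≠ 6) :
    Function.Bijective (MulAut.conjNormal : Perm (Fin n) →* MulAut (alternatingGroup (Fin n))) := by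
  refine ⟨(injective_iff_map_eq_one _).mpr fun π hπ => ?_, fun φ => ?_⟩
  · by_contra hne
    obtain ⟨a, ha⟩ : ∃ a, π a ≠ a := by
      by_contra hc
      push Not at hc
      exact hne (Perm.ext hc)
    obtain ⟨b, hb⟩ : ∃ b, b ∉ ({a, π a} : Finset (Fin n)) := by
      by_contra hc
      push Not at hc
      have := Finset.card_le_card (s := Finset.univ) (fun z _ => hc z)
      simp [ha.symm] at this
      omega
    obtain ⟨c, hc⟩ : ∃ c, c ∉ ({a, π a, b} : Finset (Fin n)) := by
      by_contra hc
      push Not at hc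
      have := (Finset.card_le_card (s := Finset.univ) (fun z _ => hc z)).trans Finset.card_le_three
      simp at this
      omega
    simp only [Finset.mem_insert, Finset.mem_singleton, not_or] at hb hc
    have hg : cyc a b c ∈ alternatingGroup (Fin n) :=
      (isThreeCycle_cyc (Ne.symm hb.1) (Ne.symm hc.1) (Ne.symm hc.2.2)).mem_alternatingGroup
    have h := congrArg Subtype.val (DFunLike.congr_fun hπ ⟨_, hg⟩)
    rw [MulAut.conjNormal_apply] at h
    change π * cyc a b c * π⁻¹ = cyc a b c at h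
    have h' := congrArg (fun f : Perm (Fin n) => f (π a)) h
    simp only [Perm.mul_apply, Perm.inv_def, Equiv.symm_apply_apply] at h'
    rw [cyc_a (Ne.symm hb.1) (Ne.symm hc.1), cyc_other ha (Ne.symm hb.2) (Ne.symm hc.2.1)] at h'
    exact hb.1 (π.injective h')
  · obtain ⟨π, hπ⟩ := exists_conj hn h6 φ
    refine ⟨π, MulEquiv.ext fun x => Subtype.ext ?_⟩
    rw [MulAut.conjNormal_apply, hπ]

end CfsgLib.Known.AltAut
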