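import Cfsg.Agent.Lib.Known.AltAut

/-!
Automorphisms of alternating groups that preserve three-cycles are conjugations (any degree `≥ 4`,
including `6`): the proof of `exists_conj` with the degree hypothesis replaced by this one.
-/

set_option autoImplicit false

namespace CfsgLib.Known.AltAutPres

open Equiv Equiv.Perm CfsgLib.Known.AltAut

/-- An automorphism of `A_n`, `n ≥ 4`, preserving three-cycles is a conjugation by a permutation. -/
theorem exists_conj_of_preserves {n : ℕ} (hn : 4 ≤ n)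
    (φ : alternatingGroup (Fin n) ≃* alternatingGroup (Fin n))
    (hφ : ∀ z : alternatingGroup (Fin n), (z : Perm (Fin n)).IsThreeCycle →
      (φ z : Perm (Fin n)).IsThreeCycle) :
    ∃ π : Perm (Fin n), ∀ x, (φ x : Perm (Fin n)) = π * x * π⁻¹ := by
  let o : Fin n := ⟨0, by omega⟩
  let e : Fin n := ⟨1, by omega⟩
  let t : Fin n := ⟨2, by omega⟩
  let I := {i : Fin n // 2 ≤ i.val}
  have hio : ∀ i : I, o ≠ i.1 := fun i h => by have := i.2; rw [← h] at this; simp [o] at this
  have hie : ∀ i : I, e ≠ i.1 := fun i h => by have := i.2; rw [← h] at this; simp [e] at this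
  have hoe : o ≠ e := by simp [o, e]
  have hot : o ≠ t := by simp [o, t]
  have het : e ≠ t := by simp [e, t]
  let g : I → alternatingGroup (Fin n) := fun i =>
    ⟨cyc o e i.1, (isThreeCycle_cyc hoe (hio i) (hie i)).mem_alternatingGroup⟩
  have hg3 : ∀ i, (g i : Perm (Fin n)).IsThreeCycle := fun i => isThreeCycle_cyc hoe (hio i) (hie i)
  have hy3 : ∀ i, (φ (g i) : Perm (Fin n)).IsThreeCycle := fun i =>
    hφ _ (hg3 i)
  let i2 : I := ⟨t, le_rfl⟩
  obtain ⟨π₀, hπ₀⟩ := isConj_iff.1
    ((isConj_iff_cycleType_eq).2 ((hg3 i2).cycleType.trans (hy3 i2).cycleType.symm))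
  let y : I → Perm (Fin n) := fun i => π₀⁻¹ * (φ (g i) : Perm (Fin n)) * π₀
  let x : Perm (Fin n) := cyc o e t
  have hx : x.IsThreeCycle := isThreeCycle_cyc hoe hot het
  have hy2 : y i2 = x := by
    show π₀⁻¹ * _ * π₀ = _
    rw [← hπ₀]
    simp [g, x, i2, mul_assoc]
  have hy : ∀ i, (y i).IsThreeCycle := fun i => by
    show cycleType _ = _
    have := cycleType_conj (τ := π₀⁻¹) (σ := (φ (g i) : Perm (Fin n)))
    rw [inv_inv] at this
    exact this.trans (hy3 i).cycleType
  have hrel : ∀ i j, i ≠ j → y i * y j * (y i * y j) = 1 ∧ y i * y j ≠ 1 := by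
    intro i j hij
    have hne : i.1 ≠ j.1 := fun h => hij (Subtype.ext h)
    have hp : (g i : Perm (Fin n)) * g j * (g i * g j) = 1 := by
      ext z
      simp only [g, Perm.mul_apply, Perm.one_apply]
      by_cases h1 : z = o
      · subst h1
        simp [cyc_a hoe (hio j), cyc_b (hio i) (hie i), cyc_other (hio i).symm (hie i).symm hne,
          cyc_c]
      by_cases h2 : z = e
      · subst h2
        simp [cyc_b (hio j) (hie j), cyc_other (hio j).symm (hie j).symm hne.symm, cyc_c,
          cyc_a hoe (hio i)]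
      by_cases h3 : z = i.1
      · subst h3
        simp [cyc_other h1 h2 hne, cyc_c, cyc_a hoe (hio j), cyc_b (hio i) (hie i)]
      by_cases h4 : z = j.1
      · subst h4
        simp [cyc_c, cyc_a hoe (hio i), cyc_b (hio j) (hie j), cyc_other h1 h2 hne.symm]
      · simp [cyc_other h1 h2 h4, cyc_other h1 h2 h3]
    have hp1 : (g i : Perm (Fin n)) * g j ≠ 1 := by
      intro h
      have := congrArg (fun f : Perm (Fin n) => f o) h
      simp [g, cyc_a hoe (hio j), cyc_b (hio i) (hie i)] at this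
      exact hio i this.symm
    constructor
    · have h1 : φ (g i) * φ (g j) * (φ (g i) * φ (g j)) = 1 := by
        rw [← map_mul, ← map_mul, show g i * g j * (g i * g j) = 1 from Subtype.ext hp, map_one]
      have h2 : (φ (g i) : Perm (Fin n)) * φ (g j) * (φ (g i) * φ (g j)) = 1 := congrArg Subtype.val h1
      calc y i * y j * (y i * y j) = π₀⁻¹ * ((φ (g i) : Perm (Fin n)) * φ (g j) * (φ (g i) * φ (g j))) * π₀ := by
            simp [y, mul_assoc]
        _ = 1 := by rw [h2]; simp
    · intro h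
      have h2 : (φ (g i) : Perm (Fin n)) * φ (g j) = 1 := by
        calc (φ (g i) : Perm (Fin n)) * φ (g j) = π₀ * (y i * y j) * π₀⁻¹ := by simp [y, mul_assoc]
          _ = 1 := by rw [h]; simp
      have h3 : φ (g i * g j) = φ 1 := by rw [map_mul, map_one]; exact Subtype.ext h2
      exact hp1 (congrArg Subtype.val (φ.injective h3))
  have hxmove : ∀ p, x p ≠ p ↔ p = o ∨ p = e ∨ p = t := by
    intro p
    constructor
    · intro h
      by_contra hc
      push Not at hc
      exact h (cyc_other hc.1 hc.2.1 hc.2.2)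
    · rintro (rfl | rfl | rfl)
      · rw [cyc_a hoe hot]; exact hoe.symm
      · rw [cyc_b hot het]; exact het.symm
      · rw [cyc_c]; exact hot
  have hedge : ∀ i, i ≠ i2 → ∃ p d, x p ≠ p ∧ x d = d ∧ y i = cyc p (x p) d := fun i hi =>
    exists_edge hx (hy i) (hy2 ▸ (hrel i2 i (Ne.symm hi)).1) (hy2 ▸ (hrel i2 i (Ne.symm hi)).2)
  haveI : Nonempty (Fin n) := ⟨o⟩
  choose! P D hP hD hY using hedge
  have hsame : ∀ i j, i ≠ i2 → j ≠ i2 → P i = P j := by
    intro i j hi hj
    by_cases hij : i = j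
    · rw [hij]
    by_contra hne
    obtain ⟨p, d, hp, hd, heq⟩ := exists_edge (hy i) (hy j) (hrel i j hij).1 (hrel i j hij).2
    have hxi := hP i hi
    have hxj := hP j hj
    have hdi : ∀ q, x q ≠ q → q ≠ D i := fun q hq h => hq (h ▸ hD i hi)
    have hdj : ∀ q, x q ≠ q → q ≠ D j := fun q hq h => hq (h ▸ hD j hj)
    have hmx : ∀ q, x q ≠ q → x (x q) ≠ x q := fun q hq h => hq (x.injective h)
    have hpj : y j p = y i p := by
      rw [heq, cyc_a hp.symm]
      rintro rfl
      exact hp hd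
    have hjp : p = P j ∨ p = x (P j) ∨ p = D j := by
      by_contra hc
      push Not at hc
      apply hp
      rw [← hpj, hY j hj, cyc_other hc.1 hc.2.1 hc.2.2]
    have hip : p = P i ∨ p = x (P i) ∨ p = D i := by
      by_contra hc
      push Not at hc
      apply hp
      rw [hY i hi, cyc_other hc.1 hc.2.1 hc.2.2]
    rw [hY j hj, hY i hi] at hpj
    have a1 := hxj.symm
    have a2 := hdj _ hxj
    have a3 := hdj _ (hmx _ hxj)
    have b1 := hxi.symm
    have b2 := hdi _ hxi
    have b3 := hdi _ (hmx _ hxi)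
    rcases hjp with rfl | rfl | rfl
    · rw [cyc_a a1 a2] at hpj
      rcases hip with h | h | h
      · exact hne h.symm
      · rw [h, cyc_b b2 b3] at hpj; exact hdi _ (hmx _ (hmx _ hxi)) hpj
      · exact hdi _ hxj h
    · rw [cyc_b a2 a3] at hpj
      rcases hip with h | h | h
      · rw [h, cyc_a b1 b2] at hpj; exact hdj _ (hmx _ hxi) hpj.symm
      · exact hne (x.injective h.symm)
      · exact hdi _ (hmx _ hxj) h
    · rw [cyc_c] at hpj
      rcases hip with h | h | h
      · exact hdj _ hxi h.symm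
      · exact hdj _ (hmx _ hxi) h.symm
      · rw [h, cyc_c] at hpj; exact hne hpj.symm
  obtain ⟨i3, hi3⟩ : ∃ i : I, i ≠ i2 := ⟨⟨⟨3, by omega⟩, by simp⟩, fun h => by
    have h' := congrArg (fun i : I => i.1.val) h
    simp [i2, t] at h'⟩
  -- rotate the common edge to `o ↦ e`
  have hx3 : x ^ 3 = 1 := hx.orderOf ▸ pow_orderOf_eq_one x
  obtain ⟨m, hm⟩ : ∃ m : ℕ, (x ^ m) (P i3) = o := by
    rcases (hxmove _).mp (hP i3 hi3) with h | h | h
    · exact ⟨0, by simp [h]⟩
    · exact ⟨2, by simp [h, pow_two, x, cyc_b hot het, cyc_c]⟩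
    · exact ⟨1, by simp [h, x, cyc_c]⟩
  have hxc : Commute (x ^ m) x := (Commute.refl x).pow_left m
  have hz : ∀ i : I, ∃ d : Fin n, d ≠ o ∧ d ≠ e ∧ x ^ m * y i * (x ^ m)⁻¹ = cyc o e d := by
    intro i
    by_cases hi : i = i2
    · refine ⟨t, hot.symm, het.symm, ?_⟩
      rw [hi, hy2, hxc.eq, mul_inv_cancel_right]
    · refine ⟨(x ^ m) (D i), ?_, ?_, ?_⟩
      · intro h
        have := hD i hi
        have h1 : x ((x ^ m) (D i)) = (x ^ m) (x (D i)) := by
          rw [← Perm.mul_apply, ← Perm.mul_apply, hxc.eq]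
        rw [this, h] at h1
        exact ((hxmove o).mpr (Or.inl rfl)) h1
      · intro h
        have := hD i hi
        have h1 : x ((x ^ m) (D i)) = (x ^ m) (x (D i)) := by
          rw [← Perm.mul_apply, ← Perm.mul_apply, hxc.eq]
        rw [this, h] at h1
        exact ((hxmove e).mpr (Or.inr (Or.inl rfl))) h1
      · rw [hY i hi, cyc_conj, hsame i i3 hi hi3, hm]
        congr 1
        rw [← Perm.mul_apply, hxc.eq, Perm.mul_apply, hm, cyc_a hoe hot]
  choose E hEo hEe hE using hz
  have hEinj : Function.Injective E := by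
    intro i j h
    have h1 : y i = y j := by
      have := (hE i).trans ((congrArg (cyc o e) h).trans (hE j).symm)
      exact mul_left_cancel (mul_right_cancel this)
    have h2 : (φ (g i) : Perm (Fin n)) = φ (g j) := mul_left_cancel (mul_right_cancel h1)
    have h3 := congrArg (fun z : alternatingGroup (Fin n) => (z : Perm (Fin n)) e) (φ.injective (Subtype.ext h2))
    simp only [g, cyc_b (hio i) (hie i), cyc_b (hio j) (hie j)] at h3
    exact Subtype.ext h3
  let f : Fin n → Fin n := fun i => if h : 2 ≤ i.val then E ⟨i, h⟩ else i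
  have hfinj : Function.Injective f := by
    intro a b h
    have hsmall : ∀ a : Fin n, ¬ 2 ≤ a.val → a = o ∨ a = e := fun a ha => by
      rcases Nat.lt_or_ge a.val 1 with h | h
      · exact Or.inl (Fin.ext (by simp [o]; omega))
      · exact Or.inr (Fin.ext (by simp [e]; omega))
    by_cases ha : 2 ≤ a.val <;> by_cases hb : 2 ≤ b.val
    · simp only [f, dif_pos ha, dif_pos hb] at h
      exact congrArg Subtype.val (hEinj h)
    · simp only [f, dif_pos ha, dif_neg hb] at h
      rcases hsmall b hb with rfl | rfl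
      exacts [absurd h (hEo _), absurd h (hEe _)]
    · simp only [f, dif_neg ha, dif_pos hb] at h
      rcases hsmall a ha with rfl | rfl
      exacts [absurd h.symm (hEo _), absurd h.symm (hEe _)]
    · simpa only [f, dif_neg ha, dif_neg hb] using h
  let σ : Perm (Fin n) := Equiv.ofBijective f hfinj.bijective_of_finite
  let π : Perm (Fin n) := π₀ * (x ^ m)⁻¹ * σ
  have hgen : ∀ i : I, (φ (g i) : Perm (Fin n)) = π * g i * π⁻¹ := by
    intro i
    have h1 : σ * cyc o e i.1 * σ⁻¹ = cyc o e (E i) := by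
      rw [cyc_conj, show σ o = o by simp [σ, f, o], show σ e = e by simp [σ, f, e],
        show σ i.1 = E i by simp [σ, f, i.2]]
    calc (φ (g i) : Perm (Fin n)) = π₀ * y i * π₀⁻¹ := by simp [y, mul_assoc]
      _ = π₀ * (x ^ m)⁻¹ * (x ^ m * y i * (x ^ m)⁻¹) * x ^ m * π₀⁻¹ := by group
      _ = π₀ * (x ^ m)⁻¹ * (σ * cyc o e i.1 * σ⁻¹) * x ^ m * π₀⁻¹ := by rw [hE, h1]
      _ = π * g i * π⁻¹ := by simp [π, g, mul_assoc, _root_.mul_inv_rev]
  refine ⟨π, fun a => ?_⟩
  let K : Subgroup (Perm (Fin n)) :=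
    { carrier := {z | ∃ h : z ∈ alternatingGroup (Fin n), (φ ⟨z, h⟩ : Perm (Fin n)) = π * z * π⁻¹}
      one_mem' := ⟨one_mem _, by
        show ((φ 1 : alternatingGroup (Fin n)) : Perm (Fin n)) = _
        rw [map_one, mul_one, mul_inv_cancel]; rfl⟩
      mul_mem' := by
        rintro z w ⟨hz, hz'⟩ ⟨hw, hw'⟩
        refine ⟨mul_mem hz hw, ?_⟩
        show ((φ (⟨z, hz⟩ * ⟨w, hw⟩) : alternatingGroup (Fin n)) : Perm (Fin n)) = _
        rw [map_mul, Subgroup.coe_mul, hz', hw']
        group
      inv_mem' := by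
        rintro z ⟨hz, hz'⟩
        refine ⟨inv_mem hz, ?_⟩
        show ((φ ((⟨z, hz⟩ : alternatingGroup (Fin n))⁻¹) : alternatingGroup (Fin n)) : Perm (Fin n)) = _
        rw [map_inv, Subgroup.coe_inv, hz']
        group }
  obtain ⟨_, h⟩ := eq_top_of_gens (by omega) K (fun i hi => ⟨(g ⟨i, hi⟩).2, hgen ⟨i, hi⟩⟩) a.2
  exact h

end CfsgLib.Known.AltAutPres
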