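import Cfsg.Agent.Lib.Known.ChevAutExist
import Cfsg.Agent.Lib.Known.ChevFixedPoints
import Cfsg.Prelude.Def_ChevAutomorphisms

/-!
# Automorphisms of finite Chevalley groups: the action on the fundamental root subgroups

A normalised automorphism acts on the root subgroup of a fundamental root by a field automorphism
followed by a multiplication, and respects the Cartan integers.  Also the diagonal and the field
automorphisms as homomorphisms.
-/

set_option autoImplicit false
set_option linter.unusedSectionVars false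

namespace CfsgLib.Chev.AutThm

open Cfsg.Lie

universe v

variable {D : ChevalleyDatum} {co : ℕ → ℕ → ℤ} {F : Type v} [Field F]
variable (hF : Facts D co)
include hF

theorem mem_nU {r : ℕ} (hr : r < D.nroots) (t : F) : nU D r t ∈ D.group F :=
  mul_mem (mul_mem (mem_x hF hr _) (mem_x hF (hF.neg_lt hr) _)) (mem_x hF hr _)

theorem mem_hU {r : ℕ} (hr : r < D.nroots) (t : F) : hU D r t ∈ D.group F :=
  mul_mem (mem_nU hF hr _) (mem_nU hF hr _)

theorem hU_div {r : ℕ} (hr : r < D.nroots) {a b : F} (ha : a ≠ 0) (hb : b ≠ 0) :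
    hU D r a * (hU D r b)⁻¹ = hU D r (a / b) := by
  rw [mul_inv_eq_iff_eq_mul]
  have := map_mul (hF.hHom (F := F) hr) (Units.mk0 (a / b) (div_ne_zero ha hb)) (Units.mk0 b hb)
  simp only [Facts.hHom, MonoidHom.mk'_apply, Units.val_mul, Units.val_mk0, div_mul_cancel₀ a hb] at this
  exact this

/-- The image of the torus element of a node. -/
theorem app_hU {θ : MulAut ↥(D.group F)} {i k : Fin D.rank} {c : Fˣ} {σ : F ≃+* F}
    (h : ∀ t, app θ (xU D (D.simple i) t) = xU D (D.simple k) ((c : F) * σ t) ∧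
      app θ (xU D (D.neg (D.simple i)) t) = xU D (D.neg (D.simple k)) ((c : F)⁻¹ * σ t))
    {t : F} (ht : t ≠ 0) :
    app θ (hU D (D.simple i) t) = hU D (D.simple k) (σ t) := by
  have hi := hF.simple_lt' i.isLt
  have hk := hF.simple_lt' k.isLt
  have hn : ∀ u : F, app θ (nU D (D.simple i) u) = nU D (D.simple k) ((c : F) * σ u) := fun u => by
    rw [nU, app_mul θ (mul_mem (mem_x hF hi _) (mem_x hF (hF.neg_lt hi) _)) (mem_x hF hi _),
      app_mul θ (mem_x hF hi _) (mem_x hF (hF.neg_lt hi) _), (h u).1, (h _).2, nU, map_neg,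
      map_inv₀, mul_inv, mul_neg]
  have e : (σ t) = ((c : F) * σ t) / (c : F) := by field_simp
  conv_rhs => rw [e, ← hU_div hF hk (mul_ne_zero (Units.ne_zero c) ((map_ne_zero σ).2 ht))
    (Units.ne_zero c)]
  rw [hU, app_mul θ (mem_nU hF hi _) (mem_nU hF hi _), hn, hn, map_neg, map_one, mul_neg, mul_one,
    ← hF.nU_inv hk, hU, hU, mul_inv_rev, ← mul_assoc, mul_inv_cancel_right]

/-- On the root subgroups of a node a normalised automorphism is a field automorphism followed
by a multiplication. -/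
theorem exists_coef [Finite F] {θ : MulAut ↥(D.group F)} {π : Equiv.Perm (Fin D.rank)}
    (h : Norm θ π) (i : Fin D.rank) : ∃ (c : Fˣ) (σ : F ≃+* F), ∀ t,
      app θ (xU D (D.simple i) t) = xU D (D.simple (π i)) ((c : F) * σ t) ∧
      app θ (xU D (D.neg (D.simple i)) t) = xU D (D.neg (D.simple (π i))) ((c : F)⁻¹ * σ t) := by
  have hi := hF.simple_lt' i.isLt
  have hk := hF.simple_lt' (π i).isLt
  have hin := hF.neg_lt hi
  have hkn := hF.neg_lt hk
  choose φ hφ using fun t => (h i t).1
  choose ψ hψ using fun t => (h i t).2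
  have φadd : ∀ a b, φ (a + b) = φ a + φ b := fun a b => hF.xU_left_inj hk (by
    rw [← hF.xU_add hk, ← hφ, ← hφ, ← hφ, ← hF.xU_add hi, app_mul θ (mem_x hF hi a) (mem_x hF hi b)])
  have ψadd : ∀ a b, ψ (a + b) = ψ a + ψ b := fun a b => hF.xU_left_inj hkn (by
    rw [← hF.xU_add hkn, ← hψ, ← hψ, ← hψ, ← hF.xU_add hin, app_mul θ (mem_x hF hin a) (mem_x hF hin b)])
  have φinj : Function.Injective φ := fun a b e => hF.xU_left_inj hi
    (app_injOn θ (mem_x hF hi a) (mem_x hF hi b) (by rw [hφ, hφ, e]))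
  have φsurj := Finite.surjective_of_injective φinj
  have φ0 : φ 0 = 0 := by simpa using φadd 0 0
  have ψ0 : ψ 0 = 0 := by simpa using ψadd 0 0
  have φne : ∀ t, t ≠ 0 → φ t ≠ 0 := fun t ht e => ht (φinj (e.trans φ0.symm))
  have ψneg : ∀ t, ψ (-t) = -ψ t := fun t => by
    have := ψadd (-t) t
    rw [neg_add_cancel, ψ0] at this
    linear_combination -this
  have φneg : ∀ t, φ (-t) = -φ t := fun t => by
    have := φadd (-t) t
    rw [neg_add_cancel, φ0] at this
    linear_combination -this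
  have hmid : ∀ t, t ≠ 0 → ψ (-t⁻¹) = -(φ t)⁻¹ := by
    intro t ht
    refine middle_eq hF hk (φne t ht) fun u => ?_
    obtain ⟨w, rfl⟩ := φsurj u
    obtain ⟨k, -, hk'⟩ := nU_conj_pos hF hi ht
    refine ⟨ψ (k * w), ?_⟩
    have e := congrArg (app θ) (hk' w)
    rw [app_conj3 θ (mem_nU hF hi t) (mem_x hF hi w), nU,
      app_mul θ (mul_mem (mem_x hF hi _) (mem_x hF hin _)) (mem_x hF hi _),
      app_mul θ (mem_x hF hi _) (mem_x hF hin _), hφ, hψ, hφ, hψ] at e
    exact e
  have hψinv : ∀ t, ψ t = (φ t⁻¹)⁻¹ := by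
    intro t
    by_cases ht : t = 0
    · subst ht; rw [ψ0, inv_zero, φ0, inv_zero]
    · have := hmid t⁻¹ (inv_ne_zero ht)
      rw [inv_inv, ψneg, neg_inj] at this
      exact this
  have hn : ∀ t, app θ (nU D (D.simple i) t) = nU D (D.simple (π i)) (φ t) := fun t => by
    by_cases ht : t = 0
    · subst ht
      rw [nU, nU, hF.xU_zero hi, inv_zero, neg_zero, hF.xU_zero hin, mul_one, mul_one, app_one, φ0,
        hF.xU_zero hk, inv_zero, neg_zero, hF.xU_zero hkn, mul_one, mul_one]
    · rw [nU, app_mul θ (mul_mem (mem_x hF hi _) (mem_x hF hin _)) (mem_x hF hi _),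
        app_mul θ (mem_x hF hi _) (mem_x hF hin _), hφ, hψ, hmid t ht, nU]
  have h1 : φ 1 ≠ 0 := φne 1 one_ne_zero
  set s : F → F := fun t => φ t / φ 1 with hs
  have hh : ∀ t, t ≠ 0 → app θ (hU D (D.simple i) t) = hU D (D.simple (π i)) (s t) := fun t ht => by
    rw [hs, ← hU_div hF hk (φne t ht) h1]
    rw [hU, app_mul θ (mem_nU hF hi _) (mem_nU hF hi _), hn, hn, φneg, ← hF.nU_inv hk, hU, hU,
      mul_inv_rev, ← mul_assoc, mul_inv_cancel_right]
  have hsq : ∀ t u, φ (t ^ 2 * u) = s t ^ 2 * φ u := by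
    intro t u
    by_cases ht : t = 0
    · subst ht; simp [hs, φ0]
    have e1 := hF.hU_conj_xU hi hi (Units.mk0 t ht) u
    have e2 := hF.hU_conj_xU hk hk (Units.mk0 (s t) (div_ne_zero (φne t ht) h1)) (φ u)
    rw [hF.prE_self hi, show (2 : ℤ) = ((2 : ℕ) : ℤ) from rfl, zpow_natCast,
      Units.val_pow_eq_pow_val, Units.val_mk0] at e1
    rw [hF.prE_self hk, show (2 : ℤ) = ((2 : ℕ) : ℤ) from rfl, zpow_natCast,
      Units.val_pow_eq_pow_val, Units.val_mk0] at e2
    refine hF.xU_left_inj hk ?_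
    rw [← hφ, ← e2, ← e1, ← hh t ht, ← hφ, app_conj3 θ (mem_hU hF hi t) (mem_x hF hi u)]
  have sadd : ∀ a b, s (a + b) = s a + s b := fun a b => by simp only [hs, φadd, add_div]
  have s1 : s 1 = 1 := div_self h1
  have s0 : s 0 = 0 := by simp [hs, φ0]
  have sinj : Function.Injective s := fun a b e => φinj (by
    simp only [hs] at e; exact (div_left_inj' h1).1 e)
  have ssq : ∀ t u, s (t ^ 2 * u) = s t ^ 2 * s u := fun t u => by
    show φ (t ^ 2 * u) / φ 1 = _
    rw [hsq, mul_div_assoc]
  have smul : ∀ a b, s (a * b) = s a * s b := by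
    intro a b
    by_cases h2 : (2 : F) = 0
    · have hinj : Function.Injective fun x : F => x ^ 2 := fun x y e => by
        have e2 : (x - y) ^ 2 = 0 := by
          simp only at e
          linear_combination e + (y ^ 2 - x * y) * h2
        exact sub_eq_zero.1 ((pow_eq_zero_iff two_ne_zero).1 e2)
      obtain ⟨x, rfl⟩ := Finite.surjective_of_injective hinj a
      show s (x ^ 2 * b) = s (x ^ 2) * s b
      rw [ssq, show x ^ 2 = x ^ 2 * 1 by rw [mul_one], ssq, s1, mul_one]
    · have h3 := ssq (a + 1) b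
      have h4 := ssq a b
      rw [show (a + 1) ^ 2 * b = a ^ 2 * b + ((a * b + a * b) + b) by ring, sadd, sadd, sadd,
        sadd a 1, s1, h4] at h3
      have : (2 : F) * (s (a * b) - s a * s b) = 0 := by linear_combination h3
      exact sub_eq_zero.1 ((mul_eq_zero.1 this).resolve_left h2)
  let sh : F →+* F :=
    { toFun := s, map_one' := s1, map_zero' := s0, map_mul' := smul, map_add' := sadd }
  refine ⟨Units.mk0 (φ 1) h1, RingEquiv.ofBijective sh (Finite.injective_iff_bijective.1 sinj),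
    fun t => ⟨?_, ?_⟩⟩
  · rw [hφ]
    congr 1
    show φ t = φ 1 * (φ t / φ 1)
    field_simp
  · rw [hψ, hψinv]
    congr 1
    show (φ t⁻¹)⁻¹ = (φ 1)⁻¹ * sh t
    rw [← inv_inv (sh t), ← map_inv₀ sh, ← mul_inv]
    congr 1
    show φ t⁻¹ = φ 1 * (φ t⁻¹ / φ 1)
    field_simp

/-- The Cartan integers tie the field automorphisms of two nodes together. -/
theorem cartan_coef {θ : MulAut ↥(D.group F)} {i j k m : Fin D.rank} {c d : Fˣ} {σ τ : F ≃+* F}
    (hi : ∀ t, app θ (xU D (D.simple i) t) = xU D (D.simple k) ((c : F) * σ t) ∧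
      app θ (xU D (D.neg (D.simple i)) t) = xU D (D.neg (D.simple k)) ((c : F)⁻¹ * σ t))
    (hj : ∀ t, app θ (xU D (D.simple j) t) = xU D (D.simple m) ((d : F) * τ t))
    (t : Fˣ) :
    τ ((t ^ D.cartan i (D.simple j) : Fˣ) : F) =
      (σ (t : F)) ^ D.cartan k (D.simple m) := by
  have hil := hF.simple_lt' i.isLt
  have hjl := hF.simple_lt' j.isLt
  have e1 := hF.hU_conj_xU hil hjl t 1
  have e2 := hF.hU_conj_xU (hF.simple_lt' k.isLt) (hF.simple_lt' m.isLt)
    (Units.map (σ : F →* F) t) ((d : F) * τ 1)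
  rw [hF.prE_simple i.isLt, mul_one] at e1
  rw [hF.prE_simple k.isLt, Units.val_zpow_eq_zpow_val] at e2
  have e3 := congrArg (app θ) e1
  rw [app_conj3 θ (mem_hU hF hil _) (mem_x hF hjl 1), app_hU hF hi (Units.ne_zero t), hj, hj] at e3
  have e4 := e2.symm.trans e3
  have e5 := hF.xU_left_inj (hF.simple_lt' m.isLt) e4
  rw [map_one, mul_one, mul_comm _ (d : F)] at e5
  exact (mul_left_cancel₀ (Units.ne_zero d) e5).symm

variable (hC : CommF.{v} D)
include hC

/-- Two fundamental root subgroups commute exactly when the Cartan integer vanishes. -/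
theorem commute_iff_cartan {i j : Fin D.rank} (hij : i ≠ j) {c : F} (hc : c ≠ 0) :
    (∀ t, Commute (xU D (D.simple i) t) (xU D (D.simple j) c)) ↔
      D.cartan i (D.simple j) = 0 := by
  have hi := hF.simple_lt' i.isLt
  have hj := hF.simple_lt' j.isLt
  have hji : ¬ i.val = j.val := fun e => hij (Fin.ext e)
  constructor
  · intro h
    obtain ⟨k, -, hk, -⟩ := hF.permAct_nS (F := F) i (hF.simpleFin j)
    have hk' : nS D F i * xU D (D.simple j) c * (nS D F i)⁻¹ =
        xU D (D.reflectRoot i (D.simple j)) (k * c) := by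
      have := hk c
      rw [hF.sP_val] at this
      exact this
    have hcomm : Commute (nS D F i) (xU D (D.simple j) c) :=
      ((h _).mul_left (commute_pos_neg hF (Ne.symm hij) hC c _).symm).mul_left (h _)
    rw [hcomm.eq, mul_inv_cancel_right] at hk'
    have hr := hF.xU_root_unique hj (hF.refl_lt i.val i.isLt _ hj) hc hk'
    have := hF.co_refl i.val i.isLt _ hj _ i.isLt
    rw [← hr, if_pos rfl, hF.co_simple _ j.isLt _ i.isLt, if_neg (Ne.symm hji)] at this
    omega
  · intro hA t
    have hne : D.simple j ≠ D.simple i := fun e => hji (hF.simple_inj i.isLt j.isLt e.symm)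
    have hneg : D.simple j ≠ D.neg (D.simple i) := fun e => by
      have h1 := (hF.neg_lt_half hi).1 (e ▸ (hF.simple_lt j.val j.isLt).1)
      exact absurd h1 (not_lt.2 (hF.simple_lt i.val i.isLt).1)
    have hterm : D.commTerms (D.simple i) (D.simple j) = [] := by
      refine List.eq_nil_iff_forall_not_mem.2 fun e he => ?_
      have key : ∀ q < D.rank, IsWeight D (fun s => co s q) := fun q hq =>
        ⟨fun s hs => hF.co_neg s hs q hq, fun a ha b hb k h => hF.co_add a ha b hb k h q hq⟩
      have hco : ∀ q < D.rank, co e.1 q =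
          e.2.2.1 • (if i.val = q then (1 : ℤ) else 0) + e.2.2.2 • (if j.val = q then (1 : ℤ) else 0) := by
        intro q hq
        obtain ⟨-, -, -, e1⟩ := hF.commTerms_wt (key q hq) hi hj he
        rw [hF.co_simple _ i.isLt q hq, hF.co_simple _ j.isLt q hq] at e1
        exact e1
      obtain ⟨h1, ha, hb, -⟩ := hF.commTerms_wt (key _ i.isLt) hi hj he
      have hei := hco _ i.isLt
      have hej := hco _ j.isLt
      rw [if_pos rfl, if_neg (Ne.symm hji)] at hei
      rw [if_pos rfl, if_neg hji] at hej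
      simp only [smul_zero, zero_add, add_zero, nsmul_eq_mul, mul_one] at hei hej
      have hcar : D.cartan i e.1 = 2 * co e.1 i.val := by
        rw [hF.cartan_eq_sum i.isLt h1, Finset.sum_eq_single_of_mem i.val (Finset.mem_range.2 i.isLt)]
        · rw [hF.cartan_simple i.isLt]; ring
        · intro q hq hqi
          rw [hco q (Finset.mem_range.1 hq), if_neg (Ne.symm hqi)]
          by_cases hqj : j.val = q
          · rw [← hqj, hA, mul_zero]
          · rw [if_neg hqj]; simp
      have hr := hF.refl_lt i.val i.isLt _ h1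
      have r1 := hF.co_refl i.val i.isLt _ h1 _ i.isLt
      have r2 := hF.co_refl i.val i.isLt _ h1 _ j.isLt
      rw [if_pos rfl, hcar] at r1
      rw [if_neg hji, sub_zero] at r2
      by_cases hp : D.nroots / 2 ≤ D.reflectRoot i.val e.1
      · have := hF.co_nonneg _ hr hp _ i.isLt
        omega
      · have h2 := hF.co_nonneg _ (hF.neg_lt hr) ((hF.neg_lt_half hr).2 (by omega)) _ j.isLt
        rw [hF.co_neg _ hr _ j.isLt] at h2
        omega
    have := hF.xU_comm hC hi hj hne hneg t c
    rw [cwR, hterm] at this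
    exact Eq.symm (by simpa [wU] using this)

/-- The nodes' adjacency is preserved. -/
theorem cartan_zero_iff [Finite F] {θ : MulAut ↥(D.group F)} {π : Equiv.Perm (Fin D.rank)}
    (h : Norm θ π) {i j : Fin D.rank} (hij : i ≠ j) :
    D.cartan i (D.simple j) = 0 ↔ D.cartan (π i) (D.simple (π j)) = 0 := by
  suffices key : ∀ {θ : MulAut ↥(D.group F)} {π : Equiv.Perm (Fin D.rank)}, Norm θ π →
      ∀ {i j : Fin D.rank}, i ≠ j → D.cartan i (D.simple j) = 0 →
        D.cartan (π i) (D.simple (π j)) = 0 by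
    refine ⟨key h hij, fun h0 => ?_⟩
    have := key (Norm.inv hF h) (π.injective.ne hij) h0
    simpa using this
  intro θ π h i j hij h0
  obtain ⟨d, τ, hd⟩ := exists_coef hF h j
  refine (commute_iff_cartan hF hC (π.injective.ne hij) (Units.ne_zero d)).1 fun t => ?_
  obtain ⟨u, hu⟩ := surj_of_maps hF θ (hF.simple_lt' i.isLt) (fun t => (h i t).1) t
  have e := (hd 1).1
  rw [map_one, mul_one] at e
  have hc := (commute_iff_cartan hF hC hij (one_ne_zero : (1 : F) ≠ 0)).2 h0 u
  have hi := mem_x hF (hF.simple_lt' i.isLt) u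
  have hj := mem_x hF (hF.simple_lt' j.isLt) (1 : F)
  rw [Commute, SemiconjBy, ← hu, ← e, ← app_mul θ hi hj, hc.eq, app_mul θ hj hi]

/-! ### Diagonal automorphisms -/

omit hC

/-- The root character with given values at the fundamental roots. -/
def chi (D : ChevalleyDatum) (co : ℕ → ℕ → ℤ) {F : Type v} [Field F] (w : Fin D.rank → Fˣ) (r : ℕ) :
    Fˣ := ∏ i : Fin D.rank, w i ^ co r i.val

theorem isWeight_chi (w : Fin D.rank → Fˣ) :
    IsWeight D (fun r => Additive.ofMul (chi D co w r)) := by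
  constructor
  · intro r hr
    rw [← ofMul_inv, chi, chi, ← Finset.prod_inv_distrib]
    exact congrArg _ (Finset.prod_congr rfl fun i _ => by
      rw [hF.co_neg r hr i.val i.isLt, zpow_neg])
  · intro r hr s hs k hk
    rw [← ofMul_mul, chi, chi, chi, ← Finset.prod_mul_distrib]
    exact congrArg _ (Finset.prod_congr rfl fun i _ => by
      rw [hF.co_add r hr s hs k hk i.val i.isLt, zpow_add])

theorem chi_simple (w : Fin D.rank → Fˣ) (i : Fin D.rank) : chi D co w (D.simple i) = w i := by
  rw [chi, Finset.prod_eq_single i]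
  · rw [hF.co_simple _ i.isLt _ i.isLt, if_pos rfl, zpow_one]
  · intro q _ hq
    rw [hF.co_simple _ i.isLt _ q.isLt, if_neg (fun e => hq (Fin.ext e.symm)), zpow_zero]
  · intro h; exact absurd (Finset.mem_univ _) h

theorem chi_neg (w : Fin D.rank → Fˣ) {r : ℕ} (hr : r < D.nroots) :
    chi D co w (D.neg r) = (chi D co w r)⁻¹ :=
  Additive.ofMul.injective ((isWeight_chi hF w).neg r hr)

theorem dU_conj_mem {χ : ℕ → Fˣ} (hχ : IsWeight D (fun r => Additive.ofMul (χ r)))
    {g : GL D.Idx F} (hg : g ∈ D.group F) : dU D χ * g * (dU D χ)⁻¹ ∈ D.group F := by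
  rw [hF.group_eq] at hg ⊢
  refine conj_closure ?_ hg
  rintro y ⟨r, t, hr, hp, rfl⟩
  rw [hF.dU_conj hχ hr, mul_inv_cancel_right]
  exact xU_mem_rootClosure hr hp _

/-- Conjugation by the matrix of a root character. -/
noncomputable def dFun (w : Fin D.rank → Fˣ) (g : ↥(D.group F)) : ↥(D.group F) :=
  ⟨dU D (chi D co w) * g.1 * (dU D (chi D co w))⁻¹, dU_conj_mem hF (isWeight_chi hF w) g.2⟩

theorem chi_mul (w w' : Fin D.rank → Fˣ) (r : ℕ) :
    chi D co (w * w') r = chi D co w r * chi D co w' r := by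
  rw [chi, chi, chi, ← Finset.prod_mul_distrib]
  exact Finset.prod_congr rfl fun i _ => by rw [Pi.mul_apply, mul_zpow]

theorem dU_chi_mul (w w' : Fin D.rank → Fˣ) :
    dU D (chi D co (w * w')) = dU D (chi D co w) * dU D (chi D co w') := by
  rw [dU_mul]
  exact dU_congr fun r _ => chi_mul hF w w' r

theorem dU_chi_one : dU D (chi D co (1 : Fin D.rank → Fˣ)) = 1 := by
  rw [← dU_one]
  exact dU_congr fun r _ => by simp [chi]

theorem dFun_mul (w w' : Fin D.rank → Fˣ) (g : ↥(D.group F)) :
    dFun hF (w * w') g = dFun hF w (dFun hF w' g) := by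
  refine Subtype.ext ?_
  simp only [dFun, dU_chi_mul hF]
  group

theorem dFun_one (g : ↥(D.group F)) : dFun hF (1 : Fin D.rank → Fˣ) g = g :=
  Subtype.ext (by simp [dFun, dU_chi_one hF])

/-- The diagonal automorphisms. -/
noncomputable def dHom : (Fin D.rank → Fˣ) →* MulAut ↥(D.group F) where
  toFun w :=
    { toFun := dFun hF w
      invFun := dFun hF w⁻¹
      left_inv := fun g => by rw [← dFun_mul, inv_mul_cancel, dFun_one]
      right_inv := fun g => by rw [← dFun_mul, mul_inv_cancel, dFun_one]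
      map_mul' := fun g h => Subtype.ext (by simp only [dFun, Subgroup.coe_mul]; group) }
  map_one' := MulEquiv.ext fun g => dFun_one hF g
  map_mul' w w' := MulEquiv.ext fun g => dFun_mul hF w w' g

theorem app_dHom (w : Fin D.rank → Fˣ) {g : GL D.Idx F} (hg : g ∈ D.group F) :
    app (dHom hF w) g = dU D (chi D co w) * g * (dU D (chi D co w))⁻¹ := by
  rw [app_eq _ hg]; rfl

theorem dHom_x (w : Fin D.rank → Fˣ) {r : ℕ} (hr : r < D.nroots) (t : F) :
    app (dHom hF w) (xU D r t) = xU D r ((chi D co w r : F) * t) := by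
  rw [app_dHom hF w (mem_x hF hr t), hF.dU_conj (isWeight_chi hF w) hr, mul_inv_cancel_right]

theorem dHom_gen (w : Fin D.rank → Fˣ) (i : Fin D.rank) (t : F) :
    app (dHom hF w) (xU D (D.simple i) t) = xU D (D.simple i) ((w i : F) * t) ∧
      app (dHom hF w) (xU D (D.neg (D.simple i)) t) = xU D (D.neg (D.simple i)) ((w i : F)⁻¹ * t) := by
  have hi := hF.simple_lt' i.isLt
  refine ⟨by rw [dHom_x hF w hi, chi_simple hF], ?_⟩
  rw [dHom_x hF w (hF.neg_lt hi), chi_neg hF w hi, chi_simple hF, Units.val_inv_eq_inv_val]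

/-! ### Field automorphisms -/

/-- The map of the group given by a field automorphism. -/
noncomputable def fFun (σ : F ≃+* F) (g : ↥(D.group F)) : ↥(D.group F) :=
  ⟨FixedPoints.gMap D (σ : F →+* F) g.1, FixedPoints.gMap_mem_group hF _ g.2⟩

theorem fFun_mul (σ τ : F ≃+* F) (g : ↥(D.group F)) :
    fFun hF (σ * τ) g = fFun hF σ (fFun hF τ g) :=
  Subtype.ext (Units.ext (by ext a b; rfl))

theorem fFun_one (g : ↥(D.group F)) : fFun hF (1 : F ≃+* F) g = g :=
  Subtype.ext (Units.ext (by ext a b; rfl))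

/-- The field automorphisms. -/
noncomputable def fHom : (F ≃+* F) →* MulAut ↥(D.group F) where
  toFun σ :=
    { toFun := fFun hF σ
      invFun := fFun hF σ⁻¹
      left_inv := fun g => by rw [← fFun_mul, inv_mul_cancel, fFun_one]
      right_inv := fun g => by rw [← fFun_mul, mul_inv_cancel, fFun_one]
      map_mul' := fun g h => Subtype.ext (map_mul (FixedPoints.gMap D (σ : F →+* F)) g.1 h.1) }
  map_one' := MulEquiv.ext fun g => fFun_one hF g
  map_mul' σ τ := MulEquiv.ext fun g => fFun_mul hF σ τ g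

theorem fHom_x (σ : F ≃+* F) {r : ℕ} (hr : r < D.nroots) (t : F) :
    app (fHom hF σ) (xU D r t) = xU D r (σ t) := by
  rw [app_eq _ (mem_x hF hr t)]
  exact FixedPoints.gMap_xU hF _ hr t

end CfsgLib.Chev.AutThm
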