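import Cfsg.Agent.Lib.Known.ChevAutNormal

/-!
# Automorphisms of finite Chevalley groups: existence and uniqueness of the normalisation
-/

set_option autoImplicit false
set_option linter.unusedSectionVars false
set_option linter.style.haveILetI false

namespace CfsgLib.Chev.AutThm

open Cfsg.Lie

universe v

variable {D : ChevalleyDatum} {co : ℕ → ℕ → ℤ} {F : Type v} [Field F]

/-- The automorphism fixes the subgroup `S`. -/
def Fix (θ : MulAut ↥(D.group F)) (S : Subgroup (GL D.Idx F)) : Prop :=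
  ∀ g ∈ D.group F, (app θ g ∈ S ↔ g ∈ S)

theorem Fix.mul {θ ψ : MulAut ↥(D.group F)} {S : Subgroup (GL D.Idx F)} (h : Fix θ S) (h' : Fix ψ S) :
    Fix (θ * ψ) S := fun g hg => by
  rw [app_comp _ _ hg, h _ (app_mem ψ hg), h' g hg]

theorem fix_of_maps {θ : MulAut ↥(D.group F)} {S : Subgroup (GL D.Idx F)}
    (h : ∀ g ∈ D.group F, g ∈ S → app θ g ∈ S) (h' : ∀ g ∈ D.group F, g ∈ S → app θ⁻¹ g ∈ S) :
    Fix θ S := fun g hg => ⟨fun hs => by
  have := h' _ (app_mem θ hg) hs
  rwa [← app_comp _ _ hg, inv_mul_cancel, app_id hg] at this, h g hg⟩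

variable (hF : Facts D co) (hC : CommF.{v} D)
include hF

/-- Fundamental and negative fundamental root subgroups of distinct nodes commute. -/
theorem commute_pos_neg {i j : Fin D.rank} (hij : i ≠ j) (hC : CommF.{v} D) (t u : F) :
    Commute (xU D (D.simple i) t) (xU D (D.neg (D.simple j)) u) := by
  have hi := hF.simple_lt' i.isLt
  have hj := hF.simple_lt' j.isLt
  have hjn := hF.neg_lt hj
  have hji : ¬ j.val = i.val := fun e => hij (Fin.ext e.symm)
  have hcoj : co (D.neg (D.simple j)) i.val = 0 := by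
    rw [hF.co_neg _ hj _ i.isLt, hF.co_simple _ j.isLt _ i.isLt, if_neg hji, neg_zero]
  have hne : D.neg (D.simple j) ≠ D.simple i := fun e => by
    have := hcoj
    rw [e, hF.co_simple _ i.isLt _ i.isLt, if_pos rfl] at this
    exact one_ne_zero this
  have hneg : D.neg (D.simple j) ≠ D.neg (D.simple i) := fun e => hij (Fin.ext (hF.simple_inj
    i.isLt j.isLt (by rw [← hF.neg_neg hi, ← e, hF.neg_neg hj])))
  have hterm : D.commTerms (D.simple i) (D.neg (D.simple j)) = [] := by
    refine List.eq_nil_iff_forall_not_mem.2 fun c hc => ?_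
    have key : ∀ q < D.rank, IsWeight D (fun s => co s q) := fun q hq =>
      ⟨fun s hs => hF.co_neg s hs q hq, fun a ha b hb k h => hF.co_add a ha b hb k h q hq⟩
    obtain ⟨h1, ha, hb, e1⟩ := hF.commTerms_wt (key _ i.isLt) hi hjn hc
    obtain ⟨-, -, -, e2⟩ := hF.commTerms_wt (key _ j.isLt) hi hjn hc
    rw [hcoj, hF.co_simple _ i.isLt _ i.isLt, if_pos rfl] at e1
    rw [hF.co_neg _ hj _ j.isLt, hF.co_simple _ j.isLt _ j.isLt, if_pos rfl,
      hF.co_simple _ i.isLt _ j.isLt, if_neg (fun e => hji e.symm)] at e2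
    simp only [smul_zero, zero_add, add_zero, nsmul_eq_mul, mul_one, mul_neg] at e1 e2
    by_cases hp : D.nroots / 2 ≤ c.1
    · have := hF.co_nonneg _ h1 hp _ j.isLt
      omega
    · have h2 := hF.co_nonneg _ (hF.neg_lt h1) ((hF.neg_lt_half h1).2 (by omega)) _ i.isLt
      rw [hF.co_neg _ h1 _ i.isLt] at h2
      omega
  have := hF.xU_comm hC hi hjn hne hneg t u
  rw [cwR, hterm] at this
  exact Eq.symm (by simpa [wU] using this)

/-- The representative of the longest element exchanges the positive and the negative unipotent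
subgroups. -/
theorem exists_longest_conj [Finite F] : ∃ l : List (Fin D.rank),
    (∀ r : Fin D.nroots, D.nroots / 2 ≤ r.val → (sW D l r).val < D.nroots / 2) ∧
    (∀ g : GL D.Idx F, nW D F l * g * (nW D F l)⁻¹ ∈ D.negUnipotent F ↔ g ∈ D.posUnipotent F) ∧
    ∀ g : GL D.Idx F, nW D F l * g * (nW D F l)⁻¹ ∈ D.posUnipotent F ↔ g ∈ D.negUnipotent F := by
  have hev := hF.nroots_even
  obtain ⟨l, hl⟩ := hF.exists_longest
  have h' : ∀ r : Fin D.nroots, r.val < D.nroots / 2 → D.nroots / 2 ≤ (sW D l r).val := by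
    intro r hr
    have h1 := hl (hF.negFin r) ((hF.negFin_pos r).2 hr)
    rw [hF.sW_neg] at h1
    by_contra hc
    have := (hF.negFin_pos (sW D l r)).2 (by omega)
    omega
  have hσ := hF.permAct_nW (F := F) l
  have hσi := hF.permAct_inv (hF.nW_mem l) hσ
  refine ⟨l, hl, fun g => ?_, fun g => ?_⟩ <;> rw [hF.posUnipotent_eq, hF.negUnipotent_eq]
  · refine ⟨fun h => ?_, fun h => hF.conj_rootClosure hσ (fun s hs => hl s hs) h⟩
    have := hF.conj_rootClosure hσi (Q := (D.nroots / 2 ≤ ·)) (fun s hs => by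
      by_contra hc
      have h1 := h' ((sW D l)⁻¹ s) (not_le.1 hc)
      rw [Equiv.Perm.coe_inv, Equiv.apply_symm_apply] at h1
      omega) h
    rwa [show (nW D F l)⁻¹ * (nW D F l * g * (nW D F l)⁻¹) * (nW D F l)⁻¹⁻¹ = g by group] at this
  · refine ⟨fun h => ?_, fun h => hF.conj_rootClosure hσ (fun s hs => h' s hs) h⟩
    have := hF.conj_rootClosure hσi (Q := (· < D.nroots / 2)) (fun s hs => by
      by_contra hc
      have h1 := hl ((sW D l)⁻¹ s) (not_lt.1 hc)
      rw [Equiv.Perm.coe_inv, Equiv.apply_symm_apply] at h1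
      omega) h
    rwa [show (nW D F l)⁻¹ * (nW D F l * g * (nW D F l)⁻¹) * (nW D F l)⁻¹⁻¹ = g by group] at this

theorem pos_le : D.posUnipotent F ≤ D.group F := (hF.posUnipotent_eq (F := F)) ▸ hF.pos_le_group

theorem neg_le : D.negUnipotent F ≤ D.group F := by
  rw [hF.negUnipotent_eq, hF.group_eq]
  exact rootClosure_mono fun _ _ _ => trivial

include hC

theorem borel_iff {x : GL D.Idx F} (hx : x ∈ D.group F) :
    x ∈ D.borelSubgroup F ↔ x ∈ Subgroup.normalizer (D.posUnipotent F : Set (GL D.Idx F)) := by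
  refine ⟨fun h => ?_, mem_borel_of_normalizes hF hC hx⟩
  refine (sup_le Subgroup.le_normalizer ?_ : D.borelSubgroup F ≤ _) h
  rw [hF.posUnipotent_eq]
  exact hF.diagonal_le_normalizer _

omit hF hC in
theorem app_conj3 (θ : MulAut ↥(D.group F)) {x y : GL D.Idx F} (hx : x ∈ D.group F) (hy : y ∈ D.group F) :
    app θ (x * y * x⁻¹) = app θ x * app θ y * (app θ x)⁻¹ := by
  rw [app_mul θ (mul_mem hx hy) (inv_mem hx), app_mul θ hx hy, app_inv θ hx]

theorem fix_borel {θ : MulAut ↥(D.group F)} (h : Fix θ (D.posUnipotent F)) :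
    Fix θ (D.borelSubgroup F) := by
  have hU := pos_le hF (F := F)
  intro g hg
  rw [borel_iff hF hC (app_mem θ hg), borel_iff hF hC hg, Subgroup.mem_normalizer_iff,
    Subgroup.mem_normalizer_iff]
  constructor
  · intro hn y
    by_cases hy : y ∈ D.group F
    · rw [← h y hy, ← h _ (mul_mem (mul_mem hg hy) (inv_mem hg)), app_conj3 θ hg hy]
      exact hn _
    · refine ⟨fun hy' => absurd (hU hy') hy, fun hy' => absurd ?_ hy⟩
      simpa [mul_assoc] using mul_mem (mul_mem (inv_mem hg) (hU hy')) hg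
  · intro hn y
    by_cases hy : y ∈ D.group F
    · obtain ⟨z, hz, rfl⟩ : ∃ z ∈ D.group F, app θ z = y :=
        ⟨_, app_mem θ⁻¹ hy, app_symm θ hy⟩
      rw [h z hz, ← app_conj3 θ hg hz, h _ (mul_mem (mul_mem hg hz) (inv_mem hg))]
      exact hn _
    · refine ⟨fun hy' => absurd (hU hy') hy, fun hy' => absurd ?_ hy⟩
      simpa [mul_assoc] using
        mul_mem (mul_mem (inv_mem (app_mem θ hg)) (hU hy')) (app_mem θ hg)

/-! ### Moving the unipotent subgroups back -/

theorem exists_fix_pos [Finite F] (θ : MulAut ↥(D.group F)) :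
    ∃ x : ↥(D.group F), Fix (MulAut.conj x * θ) (D.posUnipotent F) := by
  haveI := Fintype.ofFinite F
  obtain ⟨p, hp⟩ := CharP.exists F
  haveI : Fact p.Prime := ⟨CharP.char_is_prime F p⟩
  set U0 := (D.posUnipotent F).subgroupOf (D.group F) with hU0
  have hsp := BNSteinberg.split hF hC p (K := F)
  have hpg : IsPGroup p ↥U0 := hsp.pgroup
  obtain ⟨Q, hQ⟩ := hsp.exists_sylow
  rw [← hU0] at hQ
  obtain ⟨S, hS⟩ := (hpg.map θ.toMonoidHom).exists_le_sylow
  have hS' : U0.map θ.toMonoidHom = (S : Subgroup ↥(D.group F)) := by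
    refine Subgroup.eq_of_le_of_card_ge hS ?_
    rw [Subgroup.card_map_of_injective θ.injective, ← hQ, S.card_eq_multiplicity,
      Q.card_eq_multiplicity]
  obtain ⟨a, ha⟩ := MulAction.exists_smul_eq (D.group F) S Q
  have hmem : ∀ y : ↥(D.group F), (MulAut.conj a * θ) y ∈ U0 ↔ y ∈ U0 := by
    intro y
    rw [← hQ]
    conv_lhs => rw [← ha]
    rw [Sylow.coe_subgroup_smul, Subgroup.mem_pointwise_smul_iff_inv_smul_mem, hQ, ← hS',
      show (MulAut.conj a)⁻¹ • (MulAut.conj a * θ) y = θ.toMonoidHom y by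
        simp [MulAut.smul_def, mul_assoc],
      Subgroup.mem_map_iff_mem (f := θ.toMonoidHom) θ.injective]
  exact ⟨a, fun g hg => by rw [app_eq _ hg]; exact hmem ⟨g, hg⟩⟩

theorem exists_fix_both [Finite F] (θ : MulAut ↥(D.group F)) (hU : Fix θ (D.posUnipotent F)) :
    ∃ x : ↥(D.group F), Fix (MulAut.conj x * θ) (D.posUnipotent F) ∧
      Fix (MulAut.conj x * θ) (D.negUnipotent F) := by
  have hev := hF.nroots_even
  obtain ⟨l, hl, hV, -⟩ := exists_longest_conj hF (F := F)
  set n0 := nW D F l with hn0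
  have hn0G : n0 ∈ D.group F := hF.monomial_le_group (hF.nW_mem l)
  have hUV : ∀ g ∈ D.group F, (g ∈ D.negUnipotent F ↔ n0⁻¹ * g * n0 ∈ D.posUnipotent F) := by
    intro g _
    rw [← hV (n0⁻¹ * g * n0), show n0 * (n0⁻¹ * g * n0) * n0⁻¹ = g by group]
  obtain ⟨b, hb, n, hn, σ, hσ, c, hc, e⟩ := hF.bruhat_exists hC (app_mem θ hn0G)
  have hnG := hF.monomial_le_group hn
  have hbG := hF.borel_le_group hb
  have hcU : c ∈ D.posUnipotent F := (hF.posUnipotent_eq (F := F)) ▸ rootClosure_mono (fun r _ h => h.2.1) hc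
  have himg : ∀ g ∈ D.group F, (g ∈ D.negUnipotent F ↔
      n⁻¹ * b⁻¹ * app θ g * b * n ∈ D.posUnipotent F) := by
    intro g hg
    rw [hUV g hg, ← hU _ (mul_mem (mul_mem (inv_mem hn0G) hg) hn0G),
      app_mul θ (mul_mem (inv_mem hn0G) hg) hn0G, app_mul θ (inv_mem hn0G) hg, app_inv θ hn0G, e,
      show (b * n * c)⁻¹ * app θ g * (b * n * c) = c⁻¹ * (n⁻¹ * b⁻¹ * app θ g * b * n) * c by group]
    refine ⟨fun h => ?_, fun h => mul_mem (mul_mem (inv_mem hcU) h) hcU⟩
    simpa [mul_assoc] using mul_mem (mul_mem hcU h) (inv_mem hcU)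
  have hflip : ∀ r : Fin D.nroots, D.nroots / 2 ≤ r.val → (σ r).val < D.nroots / 2 := by
    intro r hr
    by_contra hc'
    obtain ⟨k, hk, hk', -⟩ := hσ r
    have hx : xU D r.val (1 : F) ∈ D.posUnipotent F :=
      (hF.posUnipotent_eq (F := F)) ▸ xU_mem_rootClosure r.isLt hr 1
    set y := b * (n * xU D r.val (1 : F) * n⁻¹) * b⁻¹ with hy
    have hyG : y ∈ D.group F :=
      mul_mem (mul_mem hbG (mul_mem (mul_mem hnG (pos_le hF hx)) (inv_mem hnG))) (inv_mem hbG)
    set g := app θ⁻¹ y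
    have hgG : g ∈ D.group F := app_mem _ hyG
    have hgy : app θ g = y := app_symm θ hyG
    have h1 : g ∈ D.negUnipotent F := by
      rw [himg g hgG, hgy, hy]
      simpa [mul_assoc] using hx
    have h2 : g ∈ D.posUnipotent F := by
      rw [← hU g hgG, hgy, hy]
      refine (Subgroup.mem_normalizer_iff.1 ((borel_iff hF hC hbG).1 hb) _).1 ?_
      rw [hk', hF.posUnipotent_eq]
      exact xU_mem_rootClosure (σ r).isLt (not_lt.1 hc') _
    have h3 : g ∈ D.borelSubgroup F ⊓ D.negUnipotent F := ⟨Subgroup.mem_sup_left h2, h1⟩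
    rw [hF.borel_inf_neg, Subgroup.mem_bot] at h3
    rw [h3, app_one, hy, eq_comm, conj_eq_one_iff, conj_eq_one_iff] at hgy
    exact one_ne_zero (hF.xU_eq_one r.isLt hgy)
  have hnV : ∀ g ∈ D.group F, (n⁻¹ * g * n ∈ D.posUnipotent F ↔ g ∈ D.negUnipotent F) := by
    have hle : (D.posUnipotent F).map (MulAut.conj n).toMonoidHom ≤ D.negUnipotent F := by
      rintro _ ⟨y, hy, rfl⟩
      rw [hF.negUnipotent_eq]
      exact hF.conj_rootClosure hσ (fun s hs => hflip s hs) ((hF.posUnipotent_eq (F := F)) ▸ hy)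
    have heq := Subgroup.eq_of_le_of_card_ge hle (by
      have h0 : D.negUnipotent F = (D.posUnipotent F).map (MulAut.conj n0).toMonoidHom := by
        ext y
        constructor
        · exact fun hy => ⟨n0⁻¹ * y * n0, (hUV y (neg_le hF hy)).1 hy, by simp [mul_assoc]⟩
        · rintro ⟨z, hz, rfl⟩; exact (hV z).2 hz
      rw [h0, Subgroup.card_map_of_injective (MulAut.conj n0).injective,
        Subgroup.card_map_of_injective (MulAut.conj n).injective])
    intro g _
    rw [← heq]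
    exact ⟨fun h => ⟨_, h, by simp [mul_assoc]⟩,
      by rintro ⟨z, hz, rfl⟩; simpa [mul_assoc] using hz⟩
  obtain ⟨u, hu, h, hh, rfl⟩ := hF.mem_borel_iff.1 hb
  have huU : u ∈ D.posUnipotent F := (hF.posUnipotent_eq (F := F)) ▸ hu
  have huG := pos_le hF huU
  refine ⟨⟨u⁻¹, inv_mem huG⟩, fun g hg => ?_, fun g hg => ?_⟩
  · rw [app_conj_mul _ _ hg]
    constructor
    · intro hh'
      refine (hU g hg).1 ?_
      simpa [mul_assoc] using mul_mem (mul_mem huU hh') (inv_mem huU)
    · exact fun hg' => mul_mem (mul_mem (inv_mem huU) ((hU g hg).2 hg')) (inv_mem (inv_mem huU))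
  · have hhG := hF.diagonal_le_group hh
    have hD := fun x => (Subgroup.mem_normalizer_iff.1
      ((hF.negUnipotent_eq (F := F)).symm ▸ hF.diagonal_le_normalizer (· < D.nroots / 2) hh) x)
    rw [app_conj_mul _ _ hg, inv_inv, himg g hg,
      show n⁻¹ * (u * h)⁻¹ * app θ g * (u * h) * n = n⁻¹ * (h⁻¹ * (u⁻¹ * app θ g * u) * h) * n by
        group,
      hnV _ (mul_mem (mul_mem (inv_mem hhG)
        (mul_mem (mul_mem (inv_mem huG) (app_mem θ hg)) huG)) hhG),
      hD (h⁻¹ * (u⁻¹ * app θ g * u) * h)]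
    simp [mul_assoc]

/-! ### The permutation of the nodes -/

theorem exists_neg_perm [Finite F] {θ : MulAut ↥(D.group F)} (hU : Fix θ (D.posUnipotent F))
    (hV : Fix θ (D.negUnipotent F)) (i : Fin D.rank) : ∃ j : Fin D.rank,
      ∀ t, ∃ u, app θ (xU D (D.neg (D.simple i)) t) = xU D (D.neg (D.simple j)) u := by
  have hB : (hF.bnPair hC (K := F)).B.map θ.toMonoidHom = (hF.bnPair hC (K := F)).B := by
    have hb : ∀ y : ↥(D.group F), θ y ∈ (hF.bnPair hC (K := F)).B ↔ y ∈ (hF.bnPair hC (K := F)).B :=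
      fun y => by
        have := fix_borel hF hC hU y.1 y.2
        rwa [app_val] at this
    ext y
    constructor
    · rintro ⟨z, hz, rfl⟩; exact (hb z).2 hz
    · exact fun hy => ⟨θ⁻¹ y, (hb _).1 (by simpa using hy), by simp⟩
  obtain ⟨j, hj⟩ := exists_parabolic_image hF hC θ hB i
  refine ⟨j, fun t => exists_neg_param hF hC j ?_ ?_⟩
  · have hn := hF.neg_lt (hF.simple_lt' i.isLt)
    have hm : (⟨_, mem_x hF hn t⟩ : ↥(D.group F)) ∈
        (hF.bnPair hC (K := F)).parabolic {BNSteinberg.el (K := F) hF i.val} := by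
      rw [parabolic_single hF hC]
      have h1 := (hF.xU_sub_mem_parabolic (K := F) (J := {i.val}) (hF.simple_lt' i.isLt)
        (hF.simple_lt i.val i.isLt).1 (fun q hq hqJ => by
          rw [hF.co_simple i.val i.isLt q hq, if_neg]
          rintro rfl; exact hqJ rfl) t).2
      exact h1
    have hm' := Subgroup.mem_map_of_mem θ.toMonoidHom hm
    rw [hj, parabolic_single hF hC] at hm'
    rw [app_eq θ (mem_x hF hn t)]
    exact hm'
  · refine (hV _ (mem_x hF (hF.neg_lt (hF.simple_lt' i.isLt)) t)).2 ?_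
    rw [hF.negUnipotent_eq]
    refine xU_mem_rootClosure (hF.neg_lt (hF.simple_lt' i.isLt)) ?_ t
    have h1 := hF.neg_lt_half (hF.neg_lt (hF.simple_lt' i.isLt))
    rw [hF.neg_neg (hF.simple_lt' i.isLt)] at h1
    exact h1.1 (hF.simple_lt i.val i.isLt).1

/-- Distinct nodes go to distinct nodes. -/
theorem injective_of_maps [Finite F] {θ : MulAut ↥(D.group F)} {f : Fin D.rank → Fin D.rank}
    (h : ∀ (i : Fin D.rank) (t : F), ∃ u, app θ (xU D (D.neg (D.simple i)) t) = xU D (D.neg (D.simple (f i))) u) :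
    Function.Injective f := by
  intro i j e
  have hi := hF.neg_lt (hF.simple_lt' i.isLt)
  have hj := hF.neg_lt (hF.simple_lt' j.isLt)
  obtain ⟨u, hu⟩ := h i 1
  obtain ⟨t, ht⟩ := surj_of_maps hF θ hj (h j) u
  rw [← e, ← hu] at ht
  have := hF.xU_root_unique hi hj one_ne_zero (app_injOn θ (mem_x hF hj t) (mem_x hF hi 1) ht).symm
  refine Fin.ext (hF.simple_inj i.isLt j.isLt ?_)
  rw [← hF.neg_neg (hF.simple_lt' i.isLt), this, hF.neg_neg (hF.simple_lt' j.isLt)]

/-- Every automorphism becomes normalised after an inner one. -/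
theorem exists_norm [Finite F] (θ : MulAut ↥(D.group F)) :
    ∃ (x : ↥(D.group F)) (π : Equiv.Perm (Fin D.rank)), Norm (MulAut.conj x * θ) π := by
  obtain ⟨x₁, hU₁⟩ := exists_fix_pos hF hC θ
  obtain ⟨x₂, hU, hV⟩ := exists_fix_both hF hC _ hU₁
  refine ⟨x₂ * x₁, ?_⟩
  rw [map_mul, mul_assoc]
  set ψ := MulAut.conj x₂ * (MulAut.conj x₁ * θ) with hψ
  clear_value ψ
  clear hψ hU₁
  choose f hf using exists_neg_perm hF hC hU hV
  obtain ⟨l, hl, hlV, hlU⟩ := exists_longest_conj hF (F := F)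
  set n0 := nW D F l with hn0
  have hn0G : n0 ∈ D.group F := hF.monomial_le_group (hF.nW_mem l)
  let c : ↥(D.group F) := ⟨n0, hn0G⟩
  set χ := MulAut.conj c⁻¹ * ψ * MulAut.conj c with hχ
  have happ : ∀ g ∈ D.group F, app χ g = n0⁻¹ * app ψ (n0 * g * n0⁻¹) * n0 := by
    intro g hg
    rw [hχ, app_comp _ _ hg, app_conj c hg, app_conj_mul _ _ (mul_mem (mul_mem hn0G hg) (inv_mem hn0G))]
    simp [c]
  have hfix : Fix χ (D.posUnipotent F) ∧ Fix χ (D.negUnipotent F) := by
    constructor <;> intro g hg <;> rw [happ g hg]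
    · have e := hlV (n0⁻¹ * app ψ (n0 * g * n0⁻¹) * n0)
      rw [show n0 * (n0⁻¹ * app ψ (n0 * g * n0⁻¹) * n0) * n0⁻¹ = app ψ (n0 * g * n0⁻¹) by group] at e
      rw [← e, hV _ (mul_mem (mul_mem hn0G hg) (inv_mem hn0G)), hlV]
    · have e := hlU (n0⁻¹ * app ψ (n0 * g * n0⁻¹) * n0)
      rw [show n0 * (n0⁻¹ * app ψ (n0 * g * n0⁻¹) * n0) * n0⁻¹ = app ψ (n0 * g * n0⁻¹) by group] at e
      rw [← e, hU _ (mul_mem (mul_mem hn0G hg) (inv_mem hn0G)), hlU]
  choose f' hf' using exists_neg_perm hF hC hfix.1 hfix.2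
  choose st hst using exists_star hF hl
  have stinj : Function.Injective st := by
    intro a b e
    have h1 := (sW D l).injective ((hst a).trans ((congrArg hF.simpleFin e).trans (hst b).symm))
    refine Fin.ext (hF.simple_inj a.isLt b.isLt ?_)
    have h2 : D.neg (D.simple a) = D.neg (D.simple b) := congrArg Fin.val h1
    rw [← hF.neg_neg (hF.simple_lt' a.isLt), h2, hF.neg_neg (hF.simple_lt' b.isLt)]
  have hpos : ∀ k : Fin D.rank, ∃ k' : Fin D.rank,
      ∀ t, ∃ u, app ψ (xU D (D.simple k) t) = xU D (D.simple k') u := by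
    intro k
    obtain ⟨i, rfl⟩ := Finite.surjective_of_injective stinj k
    refine ⟨st (f' i), fun t => ?_⟩
    obtain ⟨ci, hci, hci', -⟩ := hF.permAct_nW (F := F) l (hF.negFin (hF.simpleFin i))
    rw [hst i] at hci'
    obtain ⟨u, hu⟩ := hf' i (ci⁻¹ * t)
    obtain ⟨cj, -, hcj', -⟩ := hF.permAct_nW (F := F) l (hF.negFin (hF.simpleFin (f' i)))
    rw [hst (f' i)] at hcj'
    refine ⟨cj * u, ?_⟩
    have h1 : n0 * xU D (D.neg (D.simple i)) (ci⁻¹ * t) * n0⁻¹ = xU D (D.simple (st i)) t := by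
      refine (hci' (ci⁻¹ * t)).trans ?_
      rw [← mul_assoc, mul_inv_cancel₀ hci, one_mul]
      rfl
    have h2 : n0 * xU D (D.neg (D.simple (f' i))) u * n0⁻¹ = xU D (D.simple (st (f' i))) (cj * u) :=
      hcj' u
    rw [← h2, ← hu, happ _ (mem_x hF (hF.neg_lt (hF.simple_lt' i.isLt)) _), h1]
    group
  choose g hg using hpos
  have hinj := injective_of_maps hF hC (θ := ψ) hf
  have hgf : ∀ k, g k = f k := by
    intro k
    by_contra hne
    have hk := hF.simple_lt' k.isLt
    have hcomm : ∀ t, Commute (xU D (D.simple k) (1 : F)) (xU D (D.neg (D.simple k)) t) := by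
      intro t
      obtain ⟨a, ha⟩ := hg k 1
      obtain ⟨b, hb⟩ := hf k t
      have h1 := mem_x hF hk (1 : F)
      have h2 := mem_x hF (hF.neg_lt hk) t
      refine app_injOn ψ (mul_mem h1 h2) (mul_mem h2 h1) ?_
      rw [app_mul ψ h1 h2, app_mul ψ h2 h1, ha, hb]
      exact commute_pos_neg hF hne hC a b
    have h1 := hF.nU_conj_self (F := F) hk 1
    have h3 : nU D (D.simple k) (1 : F) * xU D (D.simple k) 1 * (nU D (D.simple k) 1)⁻¹ =
        xU D (D.simple k) 1 := by
      have : Commute (nU D (D.simple k) (1 : F)) (xU D (D.simple k) 1) :=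
        (((Commute.refl _).mul_left (hcomm _).symm).mul_left (Commute.refl _))
      rw [this.eq, mul_inv_cancel_right]
    rw [h3] at h1
    exact hF.neg_ne hk (hF.xU_root_unique hk (hF.neg_lt hk) one_ne_zero h1).symm
  refine ⟨Equiv.ofBijective f (Finite.injective_iff_bijective.1 hinj), fun i t => ⟨?_, hf i t⟩⟩
  have := hg i t
  rwa [hgf i] at this

theorem Norm.fix [Finite F] {θ : MulAut ↥(D.group F)} {π : Equiv.Perm (Fin D.rank)}
    (h : Norm θ π) : Fix θ (D.posUnipotent F) ∧ Fix θ (D.negUnipotent F) := by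
  have key : ∀ {θ : MulAut ↥(D.group F)} {π : Equiv.Perm (Fin D.rank)}, Norm θ π →
      (∀ g ∈ D.group F, g ∈ D.posUnipotent F → app θ g ∈ D.posUnipotent F) ∧
      ∀ g ∈ D.group F, g ∈ D.negUnipotent F → app θ g ∈ D.negUnipotent F := by
    intro θ π h
    rw [hF.posUnipotent_eq, hF.negUnipotent_eq]
    constructor
    · intro g _ hg
      induction hg using Subgroup.closure_induction with
      | mem y hy =>
        obtain ⟨r, t, hr, hp, rfl⟩ := hy
        obtain ⟨s, hs, hsp, h1, -⟩ := maps_root hF hC h r hr hp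
        obtain ⟨u, hu⟩ := h1 t
        rw [hu]; exact xU_mem_rootClosure hs hsp u
      | one => rw [app_one]; exact one_mem _
      | mul a b ha hb iha ihb =>
        have hle : ∀ y ∈ rootClosure D F (D.nroots / 2 ≤ ·), y ∈ D.group F := fun y hy =>
          hF.pos_le_group hy
        rw [app_mul θ (hle a ha) (hle b hb)]
        exact mul_mem (iha (hle a ha)) (ihb (hle b hb))
      | inv a ha iha =>
        rw [app_inv θ (hF.pos_le_group ha)]
        exact inv_mem (iha (hF.pos_le_group ha))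
    · intro g _ hg
      have hle : ∀ y ∈ rootClosure D F (· < D.nroots / 2), y ∈ D.group F := fun y hy => by
        rw [hF.group_eq]; exact rootClosure_mono (fun _ _ _ => trivial) hy
      induction hg using Subgroup.closure_induction with
      | mem y hy =>
        obtain ⟨r, t, hr, hp, rfl⟩ := hy
        obtain ⟨s, hs, hsp, -, h2⟩ := maps_root hF hC h _ (hF.neg_lt hr) ((hF.neg_lt_half hr).2 hp)
        have := h2 t
        rw [hF.neg_neg hr] at this
        obtain ⟨u, hu⟩ := this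
        rw [hu]
        refine xU_mem_rootClosure (hF.neg_lt hs) ?_ u
        have := hF.neg_lt_half (hF.neg_lt hs)
        rw [hF.neg_neg hs] at this
        exact this.1 hsp
      | one => rw [app_one]; exact one_mem _
      | mul a b ha hb iha ihb =>
        rw [app_mul θ (hle a ha) (hle b hb)]
        exact mul_mem (iha (hle a ha)) (ihb (hle b hb))
      | inv a ha iha =>
        rw [app_inv θ (hle a ha)]
        exact inv_mem (iha (hle a ha))
  obtain ⟨h1, h2⟩ := key h
  obtain ⟨h3, h4⟩ := key (Norm.inv hF h)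
  exact ⟨fix_of_maps h1 h3, fix_of_maps h2 h4⟩

/-- An inner automorphism normalised in this sense comes from the diagonal subgroup. -/
theorem norm_unique [Finite F] {x : ↥(D.group F)} {π : Equiv.Perm (Fin D.rank)}
    (h : Norm (MulAut.conj x) π) : π = 1 ∧ (x : GL D.Idx F) ∈ D.diagonalSubgroup F := by
  obtain ⟨h1, h2⟩ := h.fix hF hC
  have hn : ∀ S : Subgroup (GL D.Idx F), S ≤ D.group F → Fix (MulAut.conj x) S →
      (x : GL D.Idx F) ∈ Subgroup.normalizer (S : Set (GL D.Idx F)) := by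
    intro S hS hfix
    refine Subgroup.mem_normalizer_iff.2 fun y => ?_
    by_cases hy : y ∈ D.group F
    · rw [← app_conj x hy]; exact (hfix y hy).symm
    · refine ⟨fun hy' => absurd (hS hy') hy, fun hy' => absurd ?_ hy⟩
      simpa [mul_assoc] using mul_mem (mul_mem (inv_mem x.2) (hS hy')) x.2
  have hx := mem_diagonal_of_normalizes hF hC x.2 (hn _ (pos_le hF) h1) (hn _ (neg_le hF) h2)
  refine ⟨Equiv.ext fun i => ?_, hx⟩
  obtain ⟨c, hc⟩ := hF.mem_diagonal_iff.1 hx
  obtain ⟨u, hu⟩ := (h i 1).1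
  rw [app_conj x (mem_x hF (hF.simple_lt' i.isLt) 1), hc, hF.hT_conj_xU c (hF.simple_lt' i.isLt)] at hu
  rw [Equiv.Perm.one_apply]
  refine (Fin.ext (hF.simple_inj i.isLt (π i).isLt ?_)).symm
  exact hF.xU_root_unique (hF.simple_lt' i.isLt) (hF.simple_lt' (π i).isLt)
    (mul_ne_zero (Units.ne_zero _) one_ne_zero) hu

end CfsgLib.Chev.AutThm
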