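import Cfsg.Agent.Lib.Known.ChevAutCoeff
import Cfsg.Agent.Lib.Chev.All

/-!
# Automorphisms of finite Chevalley groups: the normal form

A normalised automorphism is given by a symmetry of the diagram, one field automorphism and a
scalar for every node.
-/

set_option autoImplicit false
set_option linter.unusedSectionVars false
set_option maxRecDepth 20000

namespace CfsgLib.Chev.AutThm

open Cfsg.Lie

universe v

/-! ### Permutations preserving adjacency -/

/-- The injective partial maps on the listed nodes preserving adjacency. -/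
def embeds (n : ℕ) (adj : Fin n → Fin n → Bool) : List (Fin n) → List (List (Fin n))
  | [] => [[]]
  | i :: l => (embeds n adj l).flatMap fun f =>
      ((List.finRange n).filter fun a =>
        (l.zip f).all fun q => a != q.2 && (adj i q.1 == adj a q.2)).map (· :: f)

theorem zip_map_mem {α β : Type*} (f : α → β) : ∀ (l : List α) {q : α × β},
    q ∈ l.zip (l.map f) → ∃ m ∈ l, (m, f m) = q
  | [], q, h => by simp at h
  | a :: l, q, h => by
    simp only [List.map_cons, List.zip_cons_cons, List.mem_cons] at h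
    rcases h with rfl | h
    · exact ⟨a, List.mem_cons_self, rfl⟩
    · obtain ⟨m, hm, e⟩ := zip_map_mem f l h
      exact ⟨m, List.mem_cons_of_mem _ hm, e⟩

theorem mem_embeds {n : ℕ} (adj : Fin n → Fin n → Bool) (π : Equiv.Perm (Fin n))
    (h : ∀ i j, i ≠ j → adj i j = adj (π i) (π j)) :
    ∀ l : List (Fin n), l.Nodup → l.map π ∈ embeds n adj l
  | [], _ => by simp [embeds]
  | i :: l, hl => by
    obtain ⟨hil, hl'⟩ := List.nodup_cons.1 hl
    simp only [embeds, List.mem_flatMap, List.mem_map, List.mem_filter, List.map_cons]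
    refine ⟨l.map π, mem_embeds adj π h l hl', π i, ⟨List.mem_finRange _, ?_⟩, rfl⟩
    rw [List.all_eq_true]
    intro q hq
    obtain ⟨m, hm, rfl⟩ : ∃ m ∈ l, (m, π m) = q := zip_map_mem π l hq
    have hne : i ≠ m := fun e => hil (e ▸ hm)
    simp only [Bool.and_eq_true, bne_iff_ne, ne_eq, beq_iff_eq]
    exact ⟨π.injective.ne hne, h i m hne⟩

/-- Adjacency in the diagram. -/
def adjB (D : ChevalleyDatum) (i j : Fin D.rank) : Bool := D.cartan i (D.simple j) != 0

/-- The permutation preserves adjacency. -/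
def Adj (D : ChevalleyDatum) (π : Equiv.Perm (Fin D.rank)) : Prop :=
  ∀ i j : Fin D.rank, i ≠ j →
    (D.cartan i (D.simple j) = 0 ↔ D.cartan (π i) (D.simple (π j)) = 0)

/-- The candidates for symmetries of the diagram. -/
def symList (D : ChevalleyDatum) : List (List ℕ) :=
  (embeds D.rank (adjB D) (List.finRange D.rank)).map fun f => f.map Fin.val

theorem Adj.mem {D : ChevalleyDatum} {π : Equiv.Perm (Fin D.rank)} (h : Adj D π) :
    (List.finRange D.rank).map (fun i => (π i).val) ∈ symList D := by
  refine List.mem_map.2 ⟨(List.finRange D.rank).map π, mem_embeds _ π (fun i j hij => ?_) _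
    (List.nodup_finRange _), by rw [List.map_map]; rfl⟩
  rw [Bool.eq_iff_iff]
  simp only [adjB, bne_iff_ne, ne_eq]
  exact not_congr (h i j hij)

theorem Adj.get {D : ChevalleyDatum} {π : Equiv.Perm (Fin D.rank)} {L : List ℕ}
    (e : (List.finRange D.rank).map (fun i => (π i).val) = L) (i : Fin D.rank) :
    (π i).val = L.getD i.val 0 := by
  subst e
  rw [List.getD_eq_getElem?_getD, List.getElem?_map, List.getElem?_eq_getElem (by simp)]
  simp

theorem Adj.eq_of {D : ChevalleyDatum} {π ρ : Equiv.Perm (Fin D.rank)} {L : List ℕ}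
    (e : (List.finRange D.rank).map (fun i => (π i).val) = L)
    (e' : (List.finRange D.rank).map (fun i => (ρ i).val) = L) : π = ρ :=
  Equiv.ext fun i => Fin.ext ((Adj.get e i).trans (Adj.get e' i).symm)

/-! ### Connectedness -/

/-- The nodes reached from the first one along simple bonds. -/
def reach (D : ChevalleyDatum) : ℕ → List ℕ
  | 0 => [0]
  | k + 1 => (List.range D.rank).filter fun i =>
      (reach D k).contains i || (reach D k).any fun j => D.cartan i (D.simple j) == -1

theorem const_of_reach {D : ChevalleyDatum} {α : Type*} (h0 : 0 < D.rank) (f : Fin D.rank → α)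
    (hf : ∀ i j : Fin D.rank, D.cartan i (D.simple j) = -1 → f i = f j) :
    ∀ k, ∀ i : Fin D.rank, i.val ∈ reach D k → f i = f ⟨0, h0⟩
  | 0, i, hi => by
    simp only [reach, List.mem_singleton] at hi
    exact congrArg f (Fin.ext hi)
  | k + 1, i, hi => by
    simp only [reach, List.mem_filter, List.mem_range, Bool.or_eq_true, List.contains_iff_mem,
      List.any_eq_true, beq_iff_eq] at hi
    rcases hi.2 with hmem | ⟨j, hj, e⟩
    · exact const_of_reach h0 f hf k i hmem
    · have hjr : j < D.rank := by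
        cases k with
        | zero => simp only [reach, List.mem_singleton] at hj; omega
        | succ k =>
          simp only [reach, List.mem_filter, List.mem_range] at hj
          exact hj.1
      exact (hf i ⟨j, hjr⟩ e).trans (const_of_reach h0 f hf k ⟨j, hjr⟩ hj)

/-! ### The normal form -/

variable {D : ChevalleyDatum} {co : ℕ → ℕ → ℤ} {F : Type v} [Field F]

/-- The exponent of a graph automorphism at a node. -/
noncomputable abbrev gE (F : Type v) [Field F] (π : Equiv.Perm (Fin D.rank)) (i : Fin D.rank) : ℕ :=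
  D.graphExp (ringChar F) i.val (π i).val

/-- The automorphism is given by `π`, the scalars `c` and the field automorphism `τ`. -/
def Form (θ : MulAut ↥(D.group F)) (π : Equiv.Perm (Fin D.rank)) (c : Fin D.rank → Fˣ)
    (τ : F ≃+* F) : Prop :=
  ∀ (i : Fin D.rank) (t : F),
    app θ (xU D (D.simple i) t) = xU D (D.simple (π i)) ((c i : F) * τ t ^ gE F π i) ∧
    app θ (xU D (D.neg (D.simple i)) t) =
      xU D (D.neg (D.simple (π i))) ((c i : F)⁻¹ * τ t ^ gE F π i)

theorem Form.norm {θ : MulAut ↥(D.group F)} {π : Equiv.Perm (Fin D.rank)} {c : Fin D.rank → Fˣ}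
    {τ : F ≃+* F} (h : Form θ π c τ) : Norm θ π := fun i t => ⟨⟨_, (h i t).1⟩, ⟨_, (h i t).2⟩⟩

/-- What is to be shown for each datum: the normal form, with the symmetries which can occur. -/
def FormThm (D : ChevalleyDatum) (F : Type v) [Field F]
    (P : Equiv.Perm (Fin D.rank) → Prop) : Prop :=
  ∀ (θ : MulAut ↥(D.group F)) (π : Equiv.Perm (Fin D.rank)), Norm θ π →
    D.IsDiagramSymmetry π ∧ P π ∧ ∃ c τ, Form θ π c τ

theorem zpow_neg_one_inj {a b : F} (h : a ^ (-1 : ℤ) = b ^ (-1 : ℤ)) : a = b := by
  simpa [zpow_neg_one] using h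

theorem step_eq (hF : Facts D co) {θ : MulAut ↥(D.group F)} {i j k m : Fin D.rank} {c d : Fˣ}
    {σ τ : F ≃+* F} {n : ℕ}
    (hi : ∀ t, app θ (xU D (D.simple i) t) = xU D (D.simple k) ((c : F) * σ t) ∧
      app θ (xU D (D.neg (D.simple i)) t) = xU D (D.neg (D.simple k)) ((c : F)⁻¹ * σ t))
    (hj : ∀ t, app θ (xU D (D.simple j) t) = xU D (D.simple m) ((d : F) * τ t))
    (hn : n ≠ 0) (hA : D.cartan i (D.simple j) = -1) (hA' : D.cartan k (D.simple m) = -(n : ℤ))
    (t : F) : τ t = σ t ^ n := by
  by_cases ht : t = 0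
  · subst ht; rw [map_zero, map_zero, zero_pow hn]
  have e := cartan_coef hF hi hj (Units.mk0 t ht)
  rw [hA, hA', Units.val_zpow_eq_zpow_val, Units.val_mk0, zpow_neg_one, map_inv₀, zpow_neg,
    zpow_natCast, inv_inj] at e
  exact e

/-- The case that the Cartan integers are preserved. -/
theorem form_of_cartan (hF : Facts D co) [Finite F] {θ : MulAut ↥(D.group F)}
    {π : Equiv.Perm (Fin D.rank)} (h : Norm θ π)
    (hreach : ∀ i < D.rank, i ∈ reach D D.rank)
    (hA : ∀ i j : Fin D.rank, D.cartan i (D.simple j) = -1 →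
      D.cartan (π i) (D.simple (π j)) = -1)
    (he : ∀ i, gE F π i = 1) : ∃ c τ, Form θ π c τ := by
  choose c σ hσ using exists_coef hF h
  have hconst := const_of_reach hF.rank_pos σ (fun i j e => RingEquiv.ext fun t => by
    have := step_eq hF (n := 1) (hσ i) (fun t => (hσ j t).1) one_ne_zero e (by simp [hA i j e]) t
    rw [pow_one] at this
    exact this.symm) D.rank
  refine ⟨c, σ ⟨0, hF.rank_pos⟩, fun i t => ?_⟩
  rw [he i, pow_one, ← hconst i (hreach i.val i.isLt)]
  exact hσ i t

/-- Simply laced data. -/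
theorem form_laced (hF : Facts D co) (hC : CommF.{v} D) [Finite F]
    (hreach : ∀ i < D.rank, i ∈ reach D D.rank)
    (hA : ∀ i j : Fin D.rank, i ≠ j → D.cartan i (D.simple j) = 0 ∨ D.cartan i (D.simple j) = -1)
    (hl : ∀ i : Fin D.rank, D.isLong (D.simple i) = false) :
    FormThm D F (Adj D) := by
  intro θ π h
  have hadj : Adj D π := fun i j hij => cartan_zero_iff hF hC h hij
  have hAA : ∀ i j : Fin D.rank, i ≠ j →
      D.cartan (π i) (D.simple (π j)) = D.cartan i (D.simple j) := by
    intro i j hij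
    have h1 := hadj i j hij
    rcases hA i j hij with e | e <;> rcases hA _ _ (π.injective.ne hij) with e' | e' <;>
      simp_all
  refine ⟨fun i j hij => ?_, hadj, form_of_cartan hF h hreach (fun i j e => ?_) fun i => ?_⟩
  · rw [ChevalleyDatum.bonds, ChevalleyDatum.bonds, hAA i j hij, hAA j i (Ne.symm hij)]
  · rw [hAA i j fun eij => ?_, e]
    rw [eij, hF.cartan_simple j.isLt] at e
    omega
  · rw [gE, ChevalleyDatum.graphExp, hl (π i)]
    rfl

/-- The identity permutation. -/
theorem form_one (hF : Facts D co) [Finite F] (hreach : ∀ i < D.rank, i ∈ reach D D.rank)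
    {θ : MulAut ↥(D.group F)} (h : Norm θ 1) :
    D.IsDiagramSymmetry 1 ∧ ∃ c τ, Form θ 1 c τ := by
  refine ⟨fun i j _ => rfl, form_of_cartan hF h hreach (fun i j e => e) fun i => ?_⟩
  simp [gE, ChevalleyDatum.graphExp]

theorem ringChar_two (h : (2 : F) = 0) : ringChar F = 2 :=
  haveI : CharP F 2 := (CharP.charP_iff_prime_eq_zero Nat.prime_two).2 (by exact_mod_cast h)
  ringChar.eq F 2

theorem ringChar_three (h : (3 : F) = 0) : ringChar F = 3 :=
  haveI : CharP F 3 := (CharP.charP_iff_prime_eq_zero Nat.prime_three).2 (by exact_mod_cast h)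
  ringChar.eq F 3

theorem two_zero_of_sq {σ τ : F ≃+* F} (h : ∀ t, τ t = σ t ^ 2) : (2 : F) = 0 := by
  have e := h 2
  rw [map_ofNat, map_ofNat] at e
  linear_combination -e

/-- The two symmetries allowed for the types with two root lengths. -/
def SymTwo (D : ChevalleyDatum) (F : Type v) [Field F] (ok : Prop)
    (π : Equiv.Perm (Fin D.rank)) : Prop :=
  π = 1 ∨ ((∀ i : Fin D.rank, (π i).val = D.rank - 1 - i.val) ∧ ok)

theorem adj_cases {D : ChevalleyDatum} {π : Equiv.Perm (Fin D.rank)} (h : Adj D π)
    (hs : ∀ L ∈ symList D, L = List.range D.rank ∨ L = (List.range D.rank).reverse) :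
    π = 1 ∨ ∀ i : Fin D.rank, (π i).val = D.rank - 1 - i.val := by
  rcases hs _ h.mem with e | e
  · left
    refine Equiv.ext fun i => Fin.ext ?_
    rw [Adj.get e i, List.getD_eq_getElem?_getD, List.getElem?_range i.isLt]
    rfl
  · right
    intro i
    rw [Adj.get e i, List.getD_eq_getElem?_getD, List.getElem?_reverse (by simp),
      List.length_range, List.getElem?_range (by omega)]
    rfl

theorem form_B2 [Finite F] : FormThm chevB2 F (SymTwo chevB2 F (ringChar F = 2)) := by
  obtain ⟨⟨co, hF⟩, hC⟩ := good_B2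
  intro θ π h
  rcases adj_cases (fun i j hij => cartan_zero_iff hF hC h hij) (by decide +kernel) with rfl | hπ
  · obtain ⟨h1, h2⟩ := form_one hF (by decide +kernel) h
    exact ⟨h1, Or.inl rfl, h2⟩
  choose c σ hσ using exists_coef hF h
  have hr : chevB2.rank = 2 := by decide +kernel
  let i0 : Fin chevB2.rank := ⟨0, by decide +kernel⟩
  let i1 : Fin chevB2.rank := ⟨1, by decide +kernel⟩
  have e0 : π i0 = i1 := Fin.ext (by rw [hπ]; decide +kernel)
  have e1 : π i1 = i0 := Fin.ext (by rw [hπ]; decide +kernel)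
  have hs := step_eq hF (n := 2) (hσ i1) (fun t => (hσ i0 t).1) two_ne_zero (by decide +kernel)
    (by rw [e0, e1]; decide +kernel)
  have hp := ringChar_two (two_zero_of_sq hs)
  have g0 : gE F π i0 = 2 := by rw [gE, e0, hp]; decide +kernel
  have g1 : gE F π i1 = 1 := by rw [gE, e1, hp]; decide +kernel
  refine ⟨?_, Or.inr ⟨hπ, hp⟩, c, σ i1, fun i t => ?_⟩
  · intro i j hij
    have := hπ i
    have := hπ j
    have key : ∀ a b a' b' : Fin chevB2.rank, a ≠ b → a'.val = chevB2.rank - 1 - a.val →
        b'.val = chevB2.rank - 1 - b.val → chevB2.bonds a' b' = chevB2.bonds a b := by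
      decide +kernel
    exact key i j _ _ hij (hπ i) (hπ j)
  · rcases (by omega : i.val = 0 ∨ i.val = 1) with e | e
    · obtain rfl : i = i0 := Fin.ext e
      rw [g0, ← hs t]; exact hσ i0 t
    · obtain rfl : i = i1 := Fin.ext e
      rw [g1, pow_one]; exact hσ i1 t

theorem form_G2 [Finite F] :
    FormThm chevG2 F (SymTwo chevG2 F (ringChar F = 3 ∨ Nat.card F = 2)) := by
  obtain ⟨⟨co, hF⟩, hC⟩ := good_G2
  intro θ π h
  rcases adj_cases (fun i j hij => cartan_zero_iff hF hC h hij) (by decide +kernel) with rfl | hπ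
  · obtain ⟨h1, h2⟩ := form_one hF (by decide +kernel) h
    exact ⟨h1, Or.inl rfl, h2⟩
  choose c σ hσ using exists_coef hF h
  have hr : chevG2.rank = 2 := by decide +kernel
  let i0 : Fin chevG2.rank := ⟨0, by decide +kernel⟩
  let i1 : Fin chevG2.rank := ⟨1, by decide +kernel⟩
  have e0 : π i0 = i1 := Fin.ext (by rw [hπ]; decide +kernel)
  have e1 : π i1 = i0 := Fin.ext (by rw [hπ]; decide +kernel)
  have hs := step_eq hF (n := 3) (hσ i1) (fun t => (hσ i0 t).1) (by norm_num) (by decide +kernel)
    (by rw [e0, e1]; decide +kernel)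
  have h6 : (2 : F) * 3 = 0 := by
    have e := hs 2
    rw [map_ofNat, map_ofNat] at e
    linear_combination -e
  have hexp : ∀ t : F, σ i0 t = σ i1 t ^ gE F π i0 ∧ (ringChar F = 3 ∨ Nat.card F = 2) := by
    rcases mul_eq_zero.1 h6 with h2 | h3
    · have hp := ringChar_two h2
      have g0 : gE F π i0 = 2 := by rw [gE, e0, hp]; decide +kernel
      have hall : ∀ x : F, x = 0 ∨ x = 1 := by
        intro x
        obtain ⟨t, rfl⟩ := (σ i1).surjective x
        have ea := hs (t + 1)
        rw [map_add, map_add, map_one, map_one, hs t] at ea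
        have h0 : σ i1 t * (σ i1 t + 1) = 0 := by
          linear_combination -ea - ((σ i1 t) ^ 2 + σ i1 t) * h2
        rcases mul_eq_zero.1 h0 with e | e
        · exact Or.inl e
        · exact Or.inr (by linear_combination e - h2)
      refine fun t => ⟨?_, Or.inr ?_⟩
      · rw [g0, hs t]
        rcases hall (σ i1 t) with e | e <;> simp [e]
      · classical
        haveI := Fintype.ofFinite F
        rw [Nat.card_eq_fintype_card]
        refine le_antisymm ?_ Fintype.one_lt_card
        have hsub : (Finset.univ : Finset F) ⊆ {0, 1} := fun x _ => by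
          rcases hall x with e | e <;> simp [e]
        exact (Finset.card_le_card hsub).trans Finset.card_le_two
    · have hp := ringChar_three h3
      have g0 : gE F π i0 = 3 := by rw [gE, e0, hp]; decide +kernel
      exact fun t => ⟨by rw [g0]; exact hs t, Or.inl hp⟩
  have g1 : gE F π i1 = 1 := by
    rw [gE, e1, ChevalleyDatum.graphExp,
      show chevG2.isLong (chevG2.simple i0) = false by decide +kernel]
    rfl
  refine ⟨?_, Or.inr ⟨hπ, (hexp 0).2⟩, c, σ i1, fun i t => ?_⟩
  · intro i j hij
    have key : ∀ a b a' b' : Fin chevG2.rank, a ≠ b → a'.val = chevG2.rank - 1 - a.val →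
        b'.val = chevG2.rank - 1 - b.val → chevG2.bonds a' b' = chevG2.bonds a b := by
      decide +kernel
    exact key i j _ _ hij (hπ i) (hπ j)
  · rcases (by omega : i.val = 0 ∨ i.val = 1) with e | e
    · obtain rfl : i = i0 := Fin.ext e
      rw [← (hexp t).1]; exact hσ i0 t
    · obtain rfl : i = i1 := Fin.ext e
      rw [g1, pow_one]; exact hσ i1 t

theorem form_F4 [Finite F] : FormThm chevF4 F (SymTwo chevF4 F (ringChar F = 2)) := by
  obtain ⟨⟨co, hF⟩, hC⟩ := good_F4
  intro θ π h
  rcases adj_cases (fun i j hij => cartan_zero_iff hF hC h hij) (by decide +kernel) with rfl | hπ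
  · obtain ⟨h1, -⟩ := form_one hF (by decide +kernel) h
    refine ⟨h1, Or.inl rfl, ?_⟩
    choose c σ hσ using exists_coef hF h
    have hr : chevF4.rank = 4 := by decide +kernel
    let i1 : Fin chevF4.rank := ⟨1, by decide +kernel⟩
    refine ⟨c, σ i1, fun i t => ?_⟩
    have hconst := const_of_reach hF.rank_pos σ (fun a b e => RingEquiv.ext fun t => by
      have := step_eq hF (n := 1) (hσ a) (fun t => (hσ b t).1) one_ne_zero e (by simp [e]) t
      rw [pow_one] at this
      exact this.symm) chevF4.rank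
    have hreach : ∀ i < chevF4.rank, i ∈ reach chevF4 chevF4.rank := by decide +kernel
    rw [show gE F (1 : Equiv.Perm (Fin chevF4.rank)) i = 1 by simp [gE, ChevalleyDatum.graphExp],
      pow_one, hconst i1 (hreach _ i1.isLt), ← hconst i (hreach _ i.isLt)]
    exact hσ i t
  choose c σ hσ using exists_coef hF h
  have hr : chevF4.rank = 4 := by decide +kernel
  let i0 : Fin chevF4.rank := ⟨0, by decide +kernel⟩
  let i1 : Fin chevF4.rank := ⟨1, by decide +kernel⟩
  let i2 : Fin chevF4.rank := ⟨2, by decide +kernel⟩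
  let i3 : Fin chevF4.rank := ⟨3, by decide +kernel⟩
  have e0 : π i0 = i3 := Fin.ext (by rw [hπ]; decide +kernel)
  have e1 : π i1 = i2 := Fin.ext (by rw [hπ]; decide +kernel)
  have e2 : π i2 = i1 := Fin.ext (by rw [hπ]; decide +kernel)
  have e3 : π i3 = i0 := Fin.ext (by rw [hπ]; decide +kernel)
  have h01 := step_eq hF (n := 1) (hσ i1) (fun t => (hσ i0 t).1) one_ne_zero (by decide +kernel)
    (by rw [e0, e1]; decide +kernel)
  have h23 := step_eq hF (n := 1) (hσ i2) (fun t => (hσ i3 t).1) one_ne_zero (by decide +kernel)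
    (by rw [e2, e3]; decide +kernel)
  have h12 := step_eq hF (n := 2) (hσ i2) (fun t => (hσ i1 t).1) two_ne_zero (by decide +kernel)
    (by rw [e1, e2]; decide +kernel)
  simp only [pow_one] at h01 h23
  have hp := ringChar_two (two_zero_of_sq h12)
  have g0 : gE F π i0 = 2 := by rw [gE, e0, hp]; decide +kernel
  have g1 : gE F π i1 = 2 := by rw [gE, e1, hp]; decide +kernel
  have g2 : gE F π i2 = 1 := by rw [gE, e2, hp]; decide +kernel
  have g3 : gE F π i3 = 1 := by rw [gE, e3, hp]; decide +kernel
  refine ⟨?_, Or.inr ⟨hπ, hp⟩, c, σ i2, fun i t => ?_⟩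
  · intro i j hij
    have key : ∀ a b a' b' : Fin chevF4.rank, a ≠ b → a'.val = chevF4.rank - 1 - a.val →
        b'.val = chevF4.rank - 1 - b.val → chevF4.bonds a' b' = chevF4.bonds a b := by
      decide +kernel
    exact key i j _ _ hij (hπ i) (hπ j)
  · rcases (by omega : i.val = 0 ∨ i.val = 1 ∨ i.val = 2 ∨ i.val = 3) with e | e | e | e
    · obtain rfl : i = i0 := Fin.ext e
      rw [g0, ← h12 t, ← h01 t]; exact hσ i0 t
    · obtain rfl : i = i1 := Fin.ext e
      rw [g1, ← h12 t]; exact hσ i1 t
    · obtain rfl : i = i2 := Fin.ext e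
      rw [g2, pow_one]; exact hσ i2 t
    · obtain rfl : i = i3 := Fin.ext e
      rw [g3, pow_one, ← h23 t]; exact hσ i3 t

theorem form_D4 [Finite F] : FormThm chevD4 F (Adj chevD4) := by
  obtain ⟨⟨co, hF⟩, hC⟩ := good_D4
  exact form_laced hF hC (by decide +kernel) (by decide +kernel) (by decide +kernel)

theorem form_E6 [Finite F] : FormThm chevE6 F (Adj chevE6) := by
  obtain ⟨⟨co, hF⟩, hC⟩ := good_E6
  exact form_laced hF hC (by decide +kernel) (by decide +kernel) (by decide +kernel)

theorem form_E7 [Finite F] : FormThm chevE7 F (Adj chevE7) := by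
  obtain ⟨⟨co, hF⟩, hC⟩ := good_E7
  exact form_laced hF hC (by decide +kernel) (by decide +kernel) (by decide +kernel)

theorem form_E8 [Finite F] : FormThm chevE8 F (Adj chevE8) := by
  obtain ⟨⟨co, hF⟩, hC⟩ := good_E8
  exact form_laced hF hC (by decide +kernel) (by decide +kernel) (by decide +kernel)

/-- The normal form for all seven data. -/
theorem form_all [Finite F]
    (hD : D ∈ [chevG2, chevB2, chevD4, chevF4, chevE6, chevE7, chevE8]) :
    FormThm D F (fun _ => True) := by
  simp only [List.mem_cons, List.not_mem_nil, or_false] at hD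
  intro θ π h
  rcases hD with rfl | rfl | rfl | rfl | rfl | rfl | rfl
  · exact (form_G2 θ π h).imp id fun h' => ⟨trivial, h'.2⟩
  · exact (form_B2 θ π h).imp id fun h' => ⟨trivial, h'.2⟩
  · exact (form_D4 θ π h).imp id fun h' => ⟨trivial, h'.2⟩
  · exact (form_F4 θ π h).imp id fun h' => ⟨trivial, h'.2⟩
  · exact (form_E6 θ π h).imp id fun h' => ⟨trivial, h'.2⟩
  · exact (form_E7 θ π h).imp id fun h' => ⟨trivial, h'.2⟩
  · exact (form_E8 θ π h).imp id fun h' => ⟨trivial, h'.2⟩

end CfsgLib.Chev.AutThm
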