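import Cfsg.Agent.Lib.Chev.Twist.Endo
import Cfsg.Agent.Lib.BNSteinberg.Chevalley
import Cfsg.Agent.Lib.Chev.SL2

/-!
# Automorphisms of finite Chevalley groups: normalisation

Every automorphism becomes, after an inner one, one that permutes the root subgroups of the
fundamental roots and, by the same permutation, those of their negatives; an inner automorphism of
this kind comes from the diagonal subgroup and has trivial permutation.
-/

set_option autoImplicit false
set_option linter.unusedSectionVars false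
set_option maxHeartbeats 400000

namespace CfsgLib.Chev.AutThm

open Cfsg.Lie

universe v

variable {D : ChevalleyDatum} {co : ℕ → ℕ → ℤ} {F : Type v} [Field F]

/-! ### An automorphism as a map of matrices -/

open scoped Classical in
/-- An automorphism of the group, as a map on all invertible matrices (1 outside the group). -/
noncomputable def app (θ : MulAut ↥(D.group F)) (g : GL D.Idx F) : GL D.Idx F :=
  if h : g ∈ D.group F then (θ ⟨g, h⟩ : GL D.Idx F) else 1

theorem app_eq (θ : MulAut ↥(D.group F)) {g : GL D.Idx F} (h : g ∈ D.group F) :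
    app θ g = (θ ⟨g, h⟩ : GL D.Idx F) := dif_pos h

theorem app_val (θ : MulAut ↥(D.group F)) (g : ↥(D.group F)) : app θ g.1 = (θ g : GL D.Idx F) :=
  app_eq θ g.2

theorem app_mem (θ : MulAut ↥(D.group F)) {g : GL D.Idx F} (h : g ∈ D.group F) :
    app θ g ∈ D.group F := by
  rw [app_eq θ h]; exact (θ _).2

theorem app_mul (θ : MulAut ↥(D.group F)) {g h : GL D.Idx F} (hg : g ∈ D.group F)
    (hh : h ∈ D.group F) : app θ (g * h) = app θ g * app θ h := by
  rw [app_eq θ hg, app_eq θ hh, app_eq θ (mul_mem hg hh), ← Subgroup.coe_mul, ← map_mul]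
  rfl

theorem app_one (θ : MulAut ↥(D.group F)) : app θ (1 : GL D.Idx F) = 1 := by
  rw [app_eq θ (one_mem _)]
  exact congrArg Subtype.val (map_one θ)

theorem app_inv (θ : MulAut ↥(D.group F)) {g : GL D.Idx F} (hg : g ∈ D.group F) :
    app θ g⁻¹ = (app θ g)⁻¹ := by
  rw [app_eq θ hg, app_eq θ (inv_mem hg), ← Subgroup.coe_inv, ← map_inv]
  rfl

theorem app_comp (θ ψ : MulAut ↥(D.group F)) {g : GL D.Idx F} (hg : g ∈ D.group F) :
    app (θ * ψ) g = app θ (app ψ g) := by
  rw [app_eq _ hg, app_eq ψ hg, app_val]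
  rfl

theorem app_id {g : GL D.Idx F} (hg : g ∈ D.group F) :
    app (1 : MulAut ↥(D.group F)) g = g := by
  rw [app_eq _ hg]; rfl

theorem app_conj (x : ↥(D.group F)) {g : GL D.Idx F} (hg : g ∈ D.group F) :
    app (MulAut.conj x) g = x.1 * g * x.1⁻¹ := by
  rw [app_eq _ hg]; rfl

theorem app_conj_mul (x : ↥(D.group F)) (θ : MulAut ↥(D.group F)) {g : GL D.Idx F}
    (hg : g ∈ D.group F) : app (MulAut.conj x * θ) g = x.1 * app θ g * x.1⁻¹ := by
  rw [app_comp _ _ hg, app_conj x (app_mem θ hg)]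

theorem app_injOn (θ : MulAut ↥(D.group F)) {g h : GL D.Idx F} (hg : g ∈ D.group F)
    (hh : h ∈ D.group F) (e : app θ g = app θ h) : g = h := by
  rw [app_eq θ hg, app_eq θ hh] at e
  exact congrArg Subtype.val (θ.injective (Subtype.ext e))

theorem app_symm (θ : MulAut ↥(D.group F)) {g : GL D.Idx F} (hg : g ∈ D.group F) :
    app θ (app θ⁻¹ g) = g := by
  rw [← app_comp _ _ hg, mul_inv_cancel, app_id hg]

variable (hF : Facts D co)
include hF

theorem mem_x {r : ℕ} (hr : r < D.nroots) (t : F) : xU D r t ∈ D.group F := by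
  rw [hF.group_eq]; exact xU_mem_rootClosure hr trivial t

/-- Two automorphisms agreeing on the generators are equal. -/
theorem ext_gen {θ ψ : MulAut ↥(D.group F)}
    (h : ∀ (i : Fin D.rank) (t : F),
      app θ (xU D (D.simple i) t) = app ψ (xU D (D.simple i) t) ∧
      app θ (xU D (D.neg (D.simple i)) t) = app ψ (xU D (D.neg (D.simple i)) t)) : θ = ψ := by
  have e := hF.hom_ext (α := θ.toMonoidHom) (β := ψ.toMonoidHom) fun r hr t hm => by
    obtain ⟨i, hi, rfl | rfl⟩ := hr
    · have := (h ⟨i, hi⟩ t).1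
      rw [app_eq θ hm, app_eq ψ hm] at this
      exact Subtype.ext this
    · have := (h ⟨i, hi⟩ t).2
      rw [app_eq θ hm, app_eq ψ hm] at this
      exact Subtype.ext this
  exact MulEquiv.ext fun x => DFunLike.congr_fun e x

omit hF

/-- The automorphism maps the root subgroups of the fundamental roots and of their negatives as
the permutation says. -/
def Norm (θ : MulAut ↥(D.group F)) (π : Equiv.Perm (Fin D.rank)) : Prop :=
  ∀ (i : Fin D.rank) (t : F),
    (∃ u, app θ (xU D (D.simple i) t) = xU D (D.simple (π i)) u) ∧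
    ∃ u, app θ (xU D (D.neg (D.simple i)) t) = xU D (D.neg (D.simple (π i))) u

include hF

theorem Norm.one : Norm (1 : MulAut ↥(D.group F)) 1 := fun i t =>
  ⟨⟨t, app_id (mem_x hF (hF.simple_lt' i.isLt) t)⟩,
    ⟨t, app_id (mem_x hF (hF.neg_lt (hF.simple_lt' i.isLt)) t)⟩⟩

theorem Norm.mul {θ ψ : MulAut ↥(D.group F)} {π ρ : Equiv.Perm (Fin D.rank)} (h : Norm θ π)
    (h' : Norm ψ ρ) : Norm (θ * ψ) (π * ρ) := fun i t => by
  constructor
  · obtain ⟨u, hu⟩ := (h' i t).1
    obtain ⟨w, hw⟩ := (h (ρ i) u).1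
    exact ⟨w, by rw [app_comp _ _ (mem_x hF (hF.simple_lt' i.isLt) t), hu, hw]; rfl⟩
  · obtain ⟨u, hu⟩ := (h' i t).2
    obtain ⟨w, hw⟩ := (h (ρ i) u).2
    exact ⟨w, by rw [app_comp _ _ (mem_x hF (hF.neg_lt (hF.simple_lt' i.isLt)) t), hu, hw]; rfl⟩

/-- A map of the root subgroups into one another is onto over a finite field. -/
theorem surj_of_maps [Finite F] (θ : MulAut ↥(D.group F)) {r s : ℕ} (hr : r < D.nroots)
    (h : ∀ t : F, ∃ u, app θ (xU D r t) = xU D s u) (u : F) :
    ∃ t, app θ (xU D r t) = xU D s u := by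
  choose f hf using h
  have hinj : Function.Injective f := fun a b e => hF.xU_left_inj hr
    (app_injOn θ (mem_x hF hr a) (mem_x hF hr b) (by rw [hf, hf, e]))
  obtain ⟨t, rfl⟩ := Finite.surjective_of_injective hinj u
  exact ⟨t, hf t⟩

theorem Norm.inv [Finite F] {θ : MulAut ↥(D.group F)} {π : Equiv.Perm (Fin D.rank)}
    (h : Norm θ π) : Norm θ⁻¹ π⁻¹ := fun i t => by
  have hs := hF.simple_lt' (π⁻¹ i).isLt
  have e : π (π⁻¹ i) = i := Equiv.apply_symm_apply π i
  constructor
  · obtain ⟨u, hu⟩ := surj_of_maps hF θ hs (s := D.simple i) (fun t => by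
      have := (h (π⁻¹ i) t).1; rwa [e] at this) t
    refine ⟨u, ?_⟩
    rw [← hu, ← app_comp _ _ (mem_x hF hs u), inv_mul_cancel, app_id (mem_x hF hs u)]
  · obtain ⟨u, hu⟩ := surj_of_maps hF θ (hF.neg_lt hs) (s := D.neg (D.simple i)) (fun t => by
      have := (h (π⁻¹ i) t).2; rwa [e] at this) t
    refine ⟨u, ?_⟩
    rw [← hu, ← app_comp _ _ (mem_x hF (hF.neg_lt hs) u), inv_mul_cancel,
      app_id (mem_x hF (hF.neg_lt hs) u)]

/-! ### Conjugation by the monomial representatives -/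

theorem nU_conj_pos {r : ℕ} (hr : r < D.nroots) {s : F} (hs : s ≠ 0) :
    ∃ k : F, k ≠ 0 ∧ ∀ t, nU D r s * xU D r t * (nU D r s)⁻¹ = xU D (D.neg r) (k * t) := by
  have hk : nU D r s = hU D r s * nU D r 1 := (hF.rankOne (F := F) hr).key (Units.mk0 s hs)
  refine ⟨-(((Units.mk0 s hs ^ prE D r (D.neg r) : Fˣ) : F)), neg_ne_zero.2 (Units.ne_zero _),
    fun t => ?_⟩
  have h2 := hF.hU_conj_xU hr (hF.neg_lt hr) (Units.mk0 s hs) (-t)
  rw [Units.val_mk0] at h2
  calc nU D r s * xU D r t * (nU D r s)⁻¹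
      = hU D r s * (nU D r 1 * xU D r t * (nU D r 1)⁻¹) * (hU D r s)⁻¹ := by rw [hk]; group
    _ = _ := by rw [hF.nU_conj_self hr, h2, mul_neg, neg_mul]

theorem nU_conj_neg {r : ℕ} (hr : r < D.nroots) {s : F} (hs : s ≠ 0) :
    ∃ k : F, k ≠ 0 ∧ ∀ t, nU D r s * xU D (D.neg r) t * (nU D r s)⁻¹ = xU D r (k * t) := by
  obtain ⟨k, hk, h⟩ := nU_conj_pos hF hr (neg_ne_zero.2 hs)
  refine ⟨k⁻¹, inv_ne_zero hk, fun t => ?_⟩
  have h' := h (k⁻¹ * t)
  rw [← mul_assoc, mul_inv_cancel₀ hk, one_mul, ← hF.nU_inv hr, inv_inv] at h'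
  rw [← h']
  group

theorem neg_root_ne {r : ℕ} (hr : r < D.nroots) {c d : F} (hc : c ≠ 0) :
    xU D (D.neg r) c ≠ xU D r d := fun e =>
  hF.neg_ne hr (hF.xU_root_unique (hF.neg_lt hr) hr hc e)

/-- The parameter between two equal ones in a product conjugating a root subgroup to the opposite
one. -/
theorem middle_eq {r : ℕ} (hr : r < D.nroots) {a b : F} (ha : a ≠ 0)
    (h : ∀ t : F, ∃ u, xU D r a * xU D (D.neg r) b * xU D r a * xU D r t *
      (xU D r a * xU D (D.neg r) b * xU D r a)⁻¹ = xU D (D.neg r) u) : b = -a⁻¹ := by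
  by_cases hb : b = 0
  · exfalso
    obtain ⟨u, hu⟩ := h 1
    subst hb
    rw [hF.xU_zero (hF.neg_lt hr), mul_one, hF.xU_add hr, hF.xU_add hr, hF.xU_inv hr,
      hF.xU_add hr] at hu
    have h1 : a + a + 1 + -(a + a) = 1 := by ring
    rw [h1] at hu
    exact hF.neg_ne hr (hF.xU_root_unique hr (hF.neg_lt hr) one_ne_zero hu).symm
  set c := a + b⁻¹ with hc
  set s := -b⁻¹ with hs
  have hs0 : s ≠ 0 := neg_ne_zero.2 (inv_ne_zero hb)
  have hg : xU D r a * xU D (D.neg r) b * xU D r a = xU D r c * nU D r s * xU D r c := by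
    have e1 : -s⁻¹ = b := by rw [hs, inv_neg, inv_inv, neg_neg]
    have e2 : c + s = a := by rw [hc, hs]; ring
    have e3 : s + c = a := by rw [add_comm, e2]
    rw [nU, e1, ← mul_assoc, ← mul_assoc, hF.xU_add hr, e2, mul_assoc (_ * _) (xU D r s),
      hF.xU_add hr, e3]
  obtain ⟨k, hk, hn⟩ := nU_conj_pos hF hr hs0
  have hV : ∀ t : F, ∃ u, xU D r c * xU D (D.neg r) t * (xU D r c)⁻¹ = xU D (D.neg r) u := by
    intro t
    obtain ⟨u, hu⟩ := h (k⁻¹ * t)
    refine ⟨u, ?_⟩
    rw [← hu, hg]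
    have e : nU D r s * xU D r (k⁻¹ * t) * (nU D r s)⁻¹ = xU D (D.neg r) t := by
      rw [hn, ← mul_assoc, mul_inv_cancel₀ hk, one_mul]
    rw [← e]
    have e' : xU D r (k⁻¹ * t) = xU D r c * xU D r (k⁻¹ * t) * (xU D r c)⁻¹ := by
      rw [hF.xU_inv hr, hF.xU_add hr, hF.xU_add hr]; congr 1; ring
    conv_lhs => rw [e']
    group
  by_cases hc0 : c = 0
  · rw [hc] at hc0
    rw [← inv_inv b, eq_neg_of_add_eq_zero_right hc0, inv_neg]
  exfalso
  obtain ⟨u1, h1⟩ := hV 1
  obtain ⟨u2, h2⟩ := hV (-c⁻¹ + u1 + c⁻¹)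
  obtain ⟨k', hk', hn'⟩ := nU_conj_neg hF hr hc0
  refine neg_root_ne hF hr (c := u2) (d := k' * 1) ?_ ?_
  · intro e0
    rw [e0, hF.xU_zero (hF.neg_lt hr)] at h2
    have h3 := conj_eq_one_iff.1 h2
    have := hF.xU_eq_one (hF.neg_lt hr) h3
    have h5 : u1 = 0 := by linear_combination this
    rw [h5, hF.xU_zero (hF.neg_lt hr)] at h1
    exact one_ne_zero (hF.xU_eq_one (hF.neg_lt hr) (conj_eq_one_iff.1 h1))
  · rw [← h2, ← hn', nU]
    have e : xU D (D.neg r) (-c⁻¹ + u1 + c⁻¹) =
        xU D (D.neg r) (-c⁻¹) * (xU D r c * xU D (D.neg r) 1 * (xU D r c)⁻¹) *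
          (xU D (D.neg r) (-c⁻¹))⁻¹ := by
      rw [h1, hF.xU_inv (hF.neg_lt hr), hF.xU_add (hF.neg_lt hr), hF.xU_add (hF.neg_lt hr),
        neg_neg]
    rw [e]
    group

/-! ### The longest element and the fundamental roots -/

/-- The action of the Weyl group is linear in the coefficients. -/
theorem co_sW (l : List (Fin D.rank)) (x : Fin D.nroots) {q : ℕ} (hq : q < D.rank) :
    co (sW D l x).val q = ∑ p : Fin D.rank, co x.val p.val * co (sW D l (hF.simpleFin p)).val q := by
  induction l generalizing q with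
  | nil =>
    simp only [sW_nil, Equiv.Perm.one_apply]
    rw [Finset.sum_eq_single (⟨q, hq⟩ : Fin D.rank)]
    · rw [Facts.simpleFin, hF.co_simple q hq q hq, if_pos rfl, mul_one]
    · intro p _ hp
      rw [Facts.simpleFin, hF.co_simple p.val p.isLt q hq, if_neg fun e => hp (Fin.ext e), mul_zero]
    · intro h; exact absurd (Finset.mem_univ _) h
  | cons m l ih =>
    have e : ∀ y : Fin D.nroots, co (sW D (m :: l) y).val q = co (sW D l y).val q -
        if m.val = q then ∑ r ∈ Finset.range D.rank,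
          co (sW D l y).val r * D.cartan m.val (D.simple r) else 0 := fun y => by
      rw [sW_cons, Equiv.Perm.mul_apply, hF.sP_val, hF.co_refl m.val m.isLt _ (Fin.isLt _) q hq]
      split_ifs with h
      · rw [hF.cartan_eq_sum m.isLt (Fin.isLt _)]
      · rfl
    rw [e x]
    simp only [e, mul_sub, Finset.sum_sub_distrib]
    rw [← ih hq]
    congr 1
    split_ifs with h
    · rw [Finset.sum_congr rfl fun r hr => by rw [ih (Finset.mem_range.1 hr), Finset.sum_mul],
        Finset.sum_comm]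
      exact Finset.sum_congr rfl fun p _ => by
        rw [Finset.mul_sum]; exact Finset.sum_congr rfl fun r _ => by ring
    · simp

theorem eq_simple_of_supp (i : Fin D.rank) {r : ℕ} (hr : r < D.nroots) (hp : D.nroots / 2 ≤ r)
    (h : ∀ q < D.rank, q ≠ i.val → co r q = 0) : r = D.simple i := by
  by_contra hne
  have hns : ∀ j < D.rank, r ≠ D.simple j := fun j hj e => by
    by_cases hji : j = i.val
    · exact hne (e.trans (by rw [hji]))
    · have := h j hj hji
      rw [e, hF.co_simple j hj j hj, if_pos rfl] at this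
      exact one_ne_zero this
  obtain ⟨j, hj, h1, h2⟩ := hF.refl_step r hr hp hns
  have hlt := hF.refl_lt j hj r hr
  have hc := hF.co_nonneg _ hlt h1 j hj
  rw [hF.co_refl j hj r hr j hj, if_pos rfl] at hc
  have hsum : D.cartan j r = co r i * D.cartan j (D.simple i) := by
    rw [hF.cartan_eq_sum hj hr, Finset.sum_eq_single i.val]
    · exact fun q hq hne' => by rw [h q (Finset.mem_range.1 hq) hne', zero_mul]
    · exact fun hn => absurd (Finset.mem_range.2 i.isLt) hn
  have hpos : 0 < D.cartan j r := by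
    by_contra hle
    have hq : ∀ q < D.rank, co r q ≤ co (D.reflectRoot j r) q := fun q hq => by
      rw [hF.co_refl j hj r hr q hq]; split_ifs <;> omega
    have : omega D co r ≤ omega D co (D.reflectRoot j r) := by
      rw [omega, omega]
      refine List.sum_le_sum fun q hq' => ?_
      exact mul_le_mul_of_nonneg_right (hq q (List.mem_range.1 hq'))
        (pow_nonneg (by norm_num) _)
    exact absurd (hF.omega_mono h2 hr) (not_lt.2 this)
  by_cases hji : j = i.val
  · subst hji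
    rw [hsum, hF.cartan_simple hj] at hc hpos
    omega
  · rw [h j hj hji] at hc
    omega

/-- The longest element sends the negatives of fundamental roots to fundamental roots. -/
theorem exists_star {l : List (Fin D.rank)}
    (hl : ∀ r : Fin D.nroots, D.nroots / 2 ≤ r.val → (sW D l r).val < D.nroots / 2)
    (i : Fin D.rank) : ∃ k : Fin D.rank, sW D l (hF.negFin (hF.simpleFin i)) = hF.simpleFin k := by
  set rr := sW D l (hF.negFin (hF.simpleFin i)) with hrr
  have hp : D.nroots / 2 ≤ rr.val := by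
    rw [hrr, hF.sW_neg, hF.negFin_pos]
    exact hl _ (hF.simple_lt i.val i.isLt).1
  by_contra hne
  push Not at hne
  have hns : ∀ j < D.rank, rr.val ≠ D.simple j := fun j hj e => hne ⟨j, hj⟩ (Fin.ext e)
  obtain ⟨j, hj, h1, h2⟩ := hF.refl_step _ rr.isLt hp hns
  have hlt := hF.refl_lt j hj rr.val rr.isLt
  set m := D.cartan j rr.val with hm
  have hmpos : 0 < m := by
    by_contra hle
    have hq : ∀ q < D.rank, co rr.val q ≤ co (D.reflectRoot j rr.val) q := fun q hq => by
      rw [hF.co_refl j hj _ rr.isLt q hq]; split_ifs <;> omega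
    have : omega D co rr.val ≤ omega D co (D.reflectRoot j rr.val) := by
      rw [omega, omega]
      refine List.sum_le_sum fun q hq' => ?_
      exact mul_le_mul_of_nonneg_right (hq q (List.mem_range.1 hq'))
        (pow_nonneg (by norm_num) _)
    exact absurd (hF.omega_mono h2 rr.isLt) (not_lt.2 this)
  set l' := l.reverse with hl'
  have hinv : ∀ x, sW D l' x = (sW D l)⁻¹ x := fun x => by rw [hl', hF.sW_reverse]
  have hneg : ∀ y : Fin D.nroots, D.nroots / 2 ≤ y.val → ∀ q < D.rank, co (sW D l' y).val q ≤ 0 := by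
    intro y hy q hq
    have hz : (sW D l' y).val < D.nroots / 2 := by
      by_contra hc
      have := hl (sW D l' y) (not_lt.1 hc)
      rw [hinv, Equiv.Perm.coe_inv, Equiv.apply_symm_apply] at this
      omega
    have := hF.co_nonneg _ (hF.neg_lt (sW D l' y).isLt)
      ((hF.neg_lt_half (sW D l' y).isLt).2 hz) q hq
    rw [hF.co_neg _ (sW D l' y).isLt q hq] at this
    omega
  set y : Fin D.nroots := ⟨D.reflectRoot j rr.val, hlt⟩ with hy
  have key : ∀ q < D.rank, co (sW D l' rr).val q =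
      co (sW D l' y).val q + m * co (sW D l' (hF.simpleFin ⟨j, hj⟩)).val q := by
    intro q hq
    rw [co_sW hF l' rr hq, co_sW hF l' y hq, hy]
    simp only [hF.co_refl j hj _ rr.isLt _ (Fin.isLt _), sub_mul, Finset.sum_sub_distrib, ite_mul,
      zero_mul]
    rw [Finset.sum_ite, Finset.sum_const_zero, add_zero,
      Finset.sum_eq_single_of_mem (⟨j, hj⟩ : Fin D.rank) (by simp) (fun p hp hne' => absurd
        (Fin.ext (Finset.mem_filter.1 hp).2).symm hne')]
    rw [← hm]
    ring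
  have hi' : sW D l' rr = hF.negFin (hF.simpleFin i) := by
    rw [hinv, hrr, Equiv.Perm.coe_inv, Equiv.symm_apply_apply]
  have hsupp : ∀ q < D.rank, q ≠ i.val →
      co (sW D l' (hF.simpleFin ⟨j, hj⟩)).val q = 0 := by
    intro q hq hqi
    have e := key q hq
    rw [hi'] at e
    change co (D.neg (D.simple i.val)) q = _ at e
    rw [hF.co_neg _ (hF.simple_lt' i.isLt) q hq, hF.co_simple i.val i.isLt q hq,
      if_neg (Ne.symm hqi), neg_zero] at e
    have h3 := hneg y h1 q hq
    have h4 := hneg (hF.simpleFin ⟨j, hj⟩) (hF.simple_lt j hj).1 q hq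
    nlinarith
  set z := sW D l' (hF.simpleFin ⟨j, hj⟩) with hz
  have hzneg : z.val < D.nroots / 2 := by
    by_contra hc
    have := hl z (not_lt.1 hc)
    rw [hz, hinv, Equiv.Perm.coe_inv, Equiv.apply_symm_apply] at this
    exact absurd this (not_lt.2 (hF.simple_lt j hj).1)
  have hzi : z = hF.negFin (hF.simpleFin i) := by
    have := eq_simple_of_supp hF i (hF.neg_lt z.isLt) ((hF.neg_lt_half z.isLt).2 hzneg)
      fun q hq hqi => by rw [hF.co_neg _ z.isLt q hq, hsupp q hq hqi, neg_zero]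
    refine Fin.ext ?_
    show z.val = D.neg (D.simple i.val)
    rw [← this, hF.neg_neg z.isLt]
  rw [← hi'] at hzi
  exact hns j hj (congrArg Fin.val ((sW D l').injective hzi)).symm

variable (hC : CommF.{v} D)
include hC

/-! ### Groups containing the Borel subgroup -/

theorem parabolic_single (i : Fin D.rank) :
    ((hF.bnPair hC (K := F)).parabolic {BNSteinberg.el (K := F) hF i.val}) =
      (D.parabolicSubgroup F {i.val}).subgroupOf (D.group F) := by
  refine le_antisymm (sup_le (fun b hb => Subgroup.mem_sup_left hb)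
    ((Subgroup.closure_le _).2 ?_)) fun g hg => ?_
  · rintro x rfl
    show ((BNSteinberg.el (K := F) hF i.val : ↥(D.group F)) : GL D.Idx F) ∈ D.parabolicSubgroup F {i.val}
    rw [BNSteinberg.el_val hF hC i.isLt]
    exact hF.nS_mem_parabolic (K := F) (J := {i.val}) rfl i.isLt
  · have : D.parabolicSubgroup F {i.val} ≤
        ((hF.bnPair hC (K := F)).parabolic {BNSteinberg.el (K := F) hF i.val}).map (D.group F).subtype := by
      refine sup_le (fun b hb => ⟨⟨b, hF.borel_le_group hb⟩, Subgroup.mem_sup_left hb, rfl⟩)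
        ((Subgroup.closure_le _).2 ?_)
      intro x hx
      obtain ⟨j, hj, hjr, rfl⟩ := (hF.parabolic_gen {i.val}).1 hx
      rw [Set.mem_singleton_iff] at hj
      subst hj
      refine ⟨BNSteinberg.el (K := F) hF i.val, Subgroup.mem_sup_right (Subgroup.subset_closure rfl), ?_⟩
      exact BNSteinberg.el_val hF hC i.isLt
    obtain ⟨y, hy, e⟩ := this hg
    rwa [← Subtype.ext e]

theorem el_mem_S (i : Fin D.rank) :
    BNSteinberg.el (K := F) hF i.val ∈ (hF.bnPair hC (K := F)).S := by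
  rw [BNSteinberg.S_eq hF hC]; exact ⟨i.val, i.isLt, rfl⟩

theorem el_mem_iff (i j : Fin D.rank) :
    BNSteinberg.el (K := F) hF j.val ∈ (hF.bnPair hC (K := F)).parabolic {BNSteinberg.el (K := F) hF i.val} ↔
      j = i := by
  rw [BN.mem_parabolic_S (by rintro x rfl; exact el_mem_S hF hC i) (el_mem_S hF hC j),
    Set.mem_singleton_iff]
  exact ⟨fun e => Fin.ext (BNSteinberg.el_injOn hF hC j.isLt i.isLt e), fun e => e ▸ rfl⟩

theorem exists_el_mem {M : Subgroup ↥(D.group F)} (hB : (hF.bnPair hC (K := F)).B ≤ M)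
    (hne : M ≠ (hF.bnPair hC (K := F)).B) : ∃ j : Fin D.rank,
      (hF.bnPair hC (K := F)).parabolic {BNSteinberg.el (K := F) hF j.val} ≤ M := by
  by_contra h
  push Not at h
  refine hne (le_antisymm ?_ hB)
  rw [BN.eq_parabolic hB]
  refine sup_le le_rfl ((Subgroup.closure_le _).2 ?_)
  rintro s ⟨hs, hsM⟩
  rw [BNSteinberg.S_eq hF hC] at hs
  obtain ⟨j, hj, rfl⟩ := hs
  refine absurd (sup_le hB ((Subgroup.closure_le _).2 ?_)) (h ⟨j, hj⟩)
  rintro x rfl
  exact hsM

theorem single_ne_B (i : Fin D.rank) :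
    (hF.bnPair hC (K := F)).parabolic {BNSteinberg.el (K := F) hF i.val} ≠ (hF.bnPair hC (K := F)).B :=
  fun e => BN.s_not_mem_B (el_mem_S hF hC i) (by
    rw [← e]
    exact BN.J_subset_parabolic rfl)

/-- An automorphism fixing the Borel subgroup permutes the minimal groups above it. -/
theorem exists_parabolic_image (θ : MulAut ↥(D.group F))
    (hθ : (hF.bnPair hC (K := F)).B.map θ.toMonoidHom = (hF.bnPair hC (K := F)).B) (i : Fin D.rank) :
    ∃ j : Fin D.rank,
      ((hF.bnPair hC (K := F)).parabolic {BNSteinberg.el (K := F) hF i.val}).map θ.toMonoidHom =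
        (hF.bnPair hC (K := F)).parabolic {BNSteinberg.el (K := F) hF j.val} := by
  set B := (hF.bnPair hC (K := F)).B with hB
  set Mi := (hF.bnPair hC (K := F)).parabolic {BNSteinberg.el (K := F) hF i.val} with hMi
  have hcomap : B.comap θ.toMonoidHom = B := by
    conv_lhs => rw [← hθ]
    exact Subgroup.comap_map_eq_self_of_injective θ.injective _
  have hBi : B ≤ Mi.map θ.toMonoidHom := hθ ▸ Subgroup.map_mono (BN.B_le_parabolic _)
  obtain ⟨j, hj⟩ := exists_el_mem hF hC hBi fun e => single_ne_B hF hC i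
    (Subgroup.map_injective (f := θ.toMonoidHom) θ.injective (e.trans hθ.symm))
  refine ⟨j, le_antisymm ?_ hj⟩
  set Mj := (hF.bnPair hC (K := F)).parabolic {BNSteinberg.el (K := F) hF j.val} with hMj
  have h1 : B ≤ Mj.comap θ.toMonoidHom :=
    hcomap ▸ Subgroup.comap_mono (BN.B_le_parabolic _)
  have h2 : Mj.comap θ.toMonoidHom ≤ Mi := by
    have := Subgroup.comap_mono (f := θ.toMonoidHom) hj
    rwa [Subgroup.comap_map_eq_self_of_injective θ.injective] at this
  obtain ⟨k, hk⟩ := exists_el_mem hF hC h1 fun e => single_ne_B hF hC j (by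
    have := congrArg (Subgroup.map θ.toMonoidHom) e
    rwa [Subgroup.map_comap_eq_self_of_surjective θ.surjective, hθ] at this)
  have hki : k = i := (el_mem_iff hF hC i k).1 (h2 (hk (BN.J_subset_parabolic rfl)))
  subst hki
  exact Subgroup.map_le_iff_le_comap.2 hk

/-- The negative root subgroup is the negative part of the minimal parabolic. -/
theorem exists_neg_param (i : Fin D.rank) {v : GL D.Idx F} (hP : v ∈ D.parabolicSubgroup F {i.val})
    (hV : v ∈ D.negUnipotent F) : ∃ t, v = xU D (D.neg (D.simple i)) t := by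
  have hp := hF.simple_lt' i.isLt
  have hv1 : v ∈ D.borelSubgroup F → ∃ t, v = xU D (D.neg (D.simple i)) t := fun hb =>
    ⟨0, by
      have h' : v ∈ D.borelSubgroup F ⊓ D.negUnipotent F := ⟨hb, hV⟩
      rw [hF.borel_inf_neg, Subgroup.mem_bot] at h'
      rw [h', hF.xU_zero (hF.neg_lt hp)]⟩
  have hvG : v ∈ D.group F := hF.parabolic_le_group _ hP
  set P := hF.bnPair hC (K := F) with hPd
  set s := BNSteinberg.el (K := F) hF i.val with hs
  have hsv : (s : GL D.Idx F) = nS D F i := BNSteinberg.el_val hF hC i.isLt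
  have hmem : (⟨v, hvG⟩ : ↥(D.group F)) ∈ P.parabolic {s} := by
    rw [parabolic_single hF hC i]; exact hP
  have hsS : ({s} : Set ↥(D.group F)) ⊆ P.S := by rintro x rfl; exact el_mem_S hF hC i
  obtain ⟨l, hl, hg⟩ := (BN.mem_parabolic_iff hsS).1 hmem
  have hprod : BN.Eqv P 1 l.prod ∨ BN.Eqv P s l.prod := by
    clear hg
    induction l with
    | nil => exact Or.inl (BN.Eqv.refl _)
    | cons a l ih =>
      have ha : a = s := hl a (by simp)
      rw [List.prod_cons, ha]
      rcases ih fun x hx => hl x (by simp [hx]) with e | e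
      · exact Or.inr (by simpa using e.mul_left s)
      · refine Or.inl ?_
        have e' := e.mul_left s
        exact (BN.eqv_one_iff.2 (BN.sq_mem_H (el_mem_S hF hC i))).trans e'
  rcases hprod with e | e
  · rw [← e.cell_eq] at hg
    exact hv1 (BN.cell_one_subset hg)
  · rw [← e.cell_eq] at hg
    obtain ⟨b, hb, b', hb', ev⟩ := BN.mem_cell.1 hg
    have ev' : v = (b : GL D.Idx F) * nS D F i * b' := by
      rw [← hsv]; exact congrArg Subtype.val ev
    have hbB : (b : GL D.Idx F) ∈ D.borelSubgroup F := hb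
    have hbB' : (b' : GL D.Idx F) ∈ D.borelSubgroup F := hb'
    obtain ⟨u, hu, h, hh, e2⟩ := hF.mem_borel_iff.1 hbB'
    have hu' : h⁻¹ * u * h ∈ rootClosure D F (D.nroots / 2 ≤ ·) := by
      have := (Subgroup.mem_normalizer_iff.1 (hF.diagonal_le_normalizer (D.nroots / 2 ≤ ·)
        (Subgroup.inv_mem _ hh)) u).1 hu
      rwa [inv_inv] at this
    obtain ⟨d, hd, a, hda⟩ := hF.pos_decomp hC i hu'
    have hnd : nS D F i * d * (nS D F i)⁻¹ ∈ D.borelSubgroup F :=
      hF.pos_le_borel (hF.conj_rootClosure (hF.permAct_nS i) (Q := (D.nroots / 2 ≤ ·))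
        (fun r hr => (hF.sP_pos i hr.1 hr.2).1) hd)
    have hnh : nS D F i * h * (nS D F i)⁻¹ ∈ D.borelSubgroup F :=
      (hF.bnPair hC).conj_mem ⟨nS D F i, hF.monomial_le_group (hF.nS_mem i)⟩ (hF.nS_mem i)
        ⟨h, hF.diagonal_le_group hh⟩ ⟨hF.diagonal_le_borel hh, Subgroup.mem_sup_left hh⟩
    have ev2 : v = ((b : GL D.Idx F) * (nS D F i * h * (nS D F i)⁻¹) *
        (nS D F i * d * (nS D F i)⁻¹)) * (nS D F i * xU D (D.simple i) a) := by
      rw [ev', e2, show u * h = h * (h⁻¹ * u * h) by group, hda]; group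
    have hbb := mul_mem (mul_mem hbB hnh) hnd
    by_cases ha : a = 0
    · exfalso
      subst ha
      rw [hF.xU_zero hp, mul_one] at ev2
      obtain ⟨n0, hn0, hUV⟩ := hF.exists_opposite (F := F)
      obtain ⟨w, hw, ew⟩ : v ∈ (D.posUnipotent F).map (MulAut.conj n0).toMonoidHom := hUV.symm ▸ hV
      have ew' : n0 * w * n0⁻¹ = v := ew
      have hwB : w ∈ D.borelSubgroup F := Subgroup.mem_sup_left hw
      have h3 := hF.bruhat_eqv hC (one_mem _) hbb hn0
        (mul_mem (hF.nS_mem i) hn0) hwB (one_mem _)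
        (show 1 * n0 * w = ((b : GL D.Idx F) * (nS D F i * h * (nS D F i)⁻¹) *
          (nS D F i * d * (nS D F i)⁻¹)) * (nS D F i * n0) * 1 by
          rw [mul_one, one_mul, ← mul_assoc, ← ev2, ← ew', inv_mul_cancel_right])
      rw [← mul_assoc] at h3
      have h5 : nS D F i ∈ D.diagonalSubgroup F := by
        have hh' := (hF.bnPair hC).conj_mem ⟨n0, hF.monomial_le_group hn0⟩ hn0
          ⟨n0⁻¹ * nS D F i * n0, hF.diagonal_le_group h3⟩
          ⟨hF.diagonal_le_borel h3, Subgroup.mem_sup_left h3⟩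
        have hh2 : n0 * (n0⁻¹ * nS D F i * n0) * n0⁻¹ ∈ D.borelSubgroup F := hh'
        rw [show n0 * (n0⁻¹ * nS D F i * n0) * n0⁻¹ = nS D F i by group] at hh2
        rw [← hF.borel_inf_monomial]
        exact ⟨hh2, hF.nS_mem i⟩
      exact hF.sP_ne_one i (hF.permAct_pos (hF.permAct_nS i) (hF.diagonal_le_borel h5))
    · have hx : xU D (D.simple i) a =
          nU D (D.simple i) a * xU D (D.simple i) (-a) * xU D (D.neg (D.simple i)) a⁻¹ := by
        rw [nU, mul_assoc _ (xU D (D.simple i) a), hF.xU_add hp, add_neg_cancel, hF.xU_zero hp,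
          mul_one, mul_assoc, hF.xU_add (hF.neg_lt hp), neg_add_cancel, hF.xU_zero (hF.neg_lt hp),
          mul_one]
      have hnn : nS D F i * nU D (D.simple i) a ∈ D.borelSubgroup F := by
        have e1 : nU D (D.simple i) a = hU D (D.simple i) a * nU D (D.simple i) 1 :=
          (hF.rankOne (F := F) hp).key (Units.mk0 a ha)
        refine hF.diagonal_le_borel ?_
        rw [e1, ← mul_assoc,
          show nS D F i * hU D (D.simple i) a * nU D (D.simple i) 1 =
            (nS D F i * hU D (D.simple i) a * (nS D F i)⁻¹) * (nS D F i * nU D (D.simple i) 1) by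
            group]
        refine mul_mem ?_ ?_
        · have hh' := (hF.bnPair hC).conj_mem ⟨nS D F i, hF.monomial_le_group (hF.nS_mem i)⟩
            (hF.nS_mem i) ⟨hU D (D.simple i) a, hF.diagonal_le_group (hF.hU_mem_diagonal hp ha)⟩
            ⟨hF.diagonal_le_borel (hF.hU_mem_diagonal hp ha),
              Subgroup.mem_sup_left (hF.hU_mem_diagonal hp ha)⟩
          rw [← hF.borel_inf_monomial]
          exact ⟨hh', mul_mem (mul_mem (hF.nS_mem i)
            (Subgroup.mem_sup_left (hF.hU_mem_diagonal hp ha))) ((D.monomialSubgroup F).inv_mem (hF.nS_mem i))⟩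
        · simpa [nS] using hF.nS_sq (F := F) i (e := 1) (Or.inl rfl)
      rw [hx, ← mul_assoc (nS D F i), ← mul_assoc (nS D F i), ← mul_assoc] at ev2
      refine ⟨a⁻¹, ?_⟩
      set B0 := (b : GL D.Idx F) * (nS D F i * h * (nS D F i)⁻¹) *
        (nS D F i * d * (nS D F i)⁻¹) *
          (nS D F i * nU D (D.simple i) a * xU D (D.simple i) (-a)) with hB0
      have h4 : B0 ∈ D.borelSubgroup F ⊓ D.negUnipotent F := by
        refine ⟨mul_mem hbb (mul_mem hnn (hF.xU_mem_borel hp (hF.simple_lt i.val i.isLt).1 _)), ?_⟩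
        rw [show B0 = v * (xU D (D.neg (D.simple i)) a⁻¹)⁻¹ from eq_mul_inv_of_mul_eq ev2.symm]
        refine Subgroup.mul_mem _ hV (Subgroup.inv_mem _ ?_)
        rw [hF.negUnipotent_eq]
        exact xU_mem_rootClosure (hF.neg_lt hp) (by
          have h7 := (hF.neg_lt_half (hF.neg_lt hp)).1
          rw [hF.neg_neg hp] at h7
          exact h7 (hF.simple_lt i.val i.isLt).1) _
      rw [hF.borel_inf_neg, Subgroup.mem_bot] at h4
      rw [ev2, h4, one_mul]

/-! ### Normalisation -/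

theorem radical_empty : D.unipotentRadical F ∅ = D.posUnipotent F := by
  rw [hF.radical_eq, hF.posUnipotent_eq]
  refine rootClosure_congr fun r hr => ⟨fun h => h.1, fun h => ⟨h, fun hs => ?_⟩⟩
  have h0 : omega D co r = 0 := by
    rw [omega]
    refine List.sum_eq_zero fun x hx => ?_
    obtain ⟨q, hq, rfl⟩ := List.mem_map.1 hx
    rw [hs q (List.mem_range.1 hq) (Set.notMem_empty q), zero_mul]
  exact absurd h0 (hF.omega_pos hr h).ne'

theorem mem_borel_of_normalizes {x : GL D.Idx F} (hx : x ∈ D.group F)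
    (h : x ∈ Subgroup.normalizer (D.posUnipotent F : Set (GL D.Idx F))) :
    x ∈ D.borelSubgroup F := by
  have hP : x ∈ D.parabolicSubgroup F ∅ := by
    rw [← hF.normalizer_radical hC ∅, radical_empty hF hC]
    exact ⟨h, hx⟩
  refine (sup_le le_rfl ((Subgroup.closure_le _).2 ?_) :
    D.parabolicSubgroup F ∅ ≤ D.borelSubgroup F) hP
  rintro g ⟨j, hj, -⟩
  exact absurd hj (Set.notMem_empty j)

/-- The elements normalising both unipotent subgroups form the diagonal subgroup. -/
theorem mem_diagonal_of_normalizes {x : GL D.Idx F} (hx : x ∈ D.group F)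
    (hU : x ∈ Subgroup.normalizer (D.posUnipotent F : Set (GL D.Idx F)))
    (hV : x ∈ Subgroup.normalizer (D.negUnipotent F : Set (GL D.Idx F))) :
    x ∈ D.diagonalSubgroup F := by
  obtain ⟨n0, hn0, hUV⟩ := hF.exists_opposite (F := F)
  have hn0G := hF.monomial_le_group hn0
  obtain ⟨u, hu, h, hh, rfl⟩ := hF.mem_borel_iff.1 (mem_borel_of_normalizes hF hC hx hU)
  have hmem : ∀ y : GL D.Idx F, y ∈ D.posUnipotent F ↔ n0 * y * n0⁻¹ ∈ D.negUnipotent F := by
    intro y
    rw [← hUV]
    constructor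
    · exact fun hy => ⟨y, hy, rfl⟩
    · rintro ⟨z, hz, e⟩
      have e' : n0 * z * n0⁻¹ = n0 * y * n0⁻¹ := e
      rwa [← mul_left_cancel (mul_right_cancel e')]
  have hy : n0⁻¹ * (u * h) * n0 ∈ D.borelSubgroup F := by
    refine mem_borel_of_normalizes hF hC (mul_mem (mul_mem (inv_mem hn0G) hx) hn0G)
      (Subgroup.mem_normalizer_iff.2 fun y => ?_)
    rw [hmem y, hmem (n0⁻¹ * (u * h) * n0 * y * (n0⁻¹ * (u * h) * n0)⁻¹),
      show n0 * (n0⁻¹ * (u * h) * n0 * y * (n0⁻¹ * (u * h) * n0)⁻¹) * n0⁻¹ =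
        u * h * (n0 * y * n0⁻¹) * (u * h)⁻¹ by group]
    exact Subgroup.mem_normalizer_iff.1 hV _
  obtain ⟨u', hu', h', hh', e⟩ := hF.mem_borel_iff.1 hy
  have hconj : n0 * h' * n0⁻¹ ∈ D.borelSubgroup F :=
    (hF.bnPair hC).conj_mem ⟨n0, hn0G⟩ hn0
      ⟨h', hF.diagonal_le_group hh'⟩ ⟨hF.diagonal_le_borel hh', Subgroup.mem_sup_left hh'⟩
  have h4 : n0 * u' * n0⁻¹ ∈ D.borelSubgroup F ⊓ D.negUnipotent F := by
    refine ⟨?_, (hmem u').1 (by rw [hF.posUnipotent_eq]; exact hu')⟩
    rw [show n0 * u' * n0⁻¹ = (n0 * (u' * h') * n0⁻¹) * (n0 * h' * n0⁻¹)⁻¹ by group, ← e,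
      show n0 * (n0⁻¹ * (u * h) * n0) * n0⁻¹ = u * h by group]
    exact Subgroup.mul_mem _ (Subgroup.mul_mem _ (hF.pos_le_borel hu) (hF.diagonal_le_borel hh))
      (Subgroup.inv_mem _ hconj)
  rw [hF.borel_inf_neg, Subgroup.mem_bot, conj_eq_one_iff] at h4
  rw [h4, one_mul] at e
  have hmon : u * h ∈ D.monomialSubgroup F := by
    rw [show u * h = n0 * h' * n0⁻¹ by rw [← e]; group]
    exact Subgroup.mul_mem _ (Subgroup.mul_mem _ hn0 (Subgroup.mem_sup_left hh')) (Subgroup.inv_mem _ hn0)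
  rw [← hF.borel_inf_monomial]
  exact ⟨mul_mem (hF.pos_le_borel hu) (hF.diagonal_le_borel hh), hmon⟩

/-- A normalised automorphism sends positive root subgroups to positive ones and negative ones to
negative ones. -/
theorem maps_root [Finite F] {θ : MulAut ↥(D.group F)} {π : Equiv.Perm (Fin D.rank)} (h : Norm θ π) :
    ∀ r, r < D.nroots → D.nroots / 2 ≤ r → ∃ s, s < D.nroots ∧ D.nroots / 2 ≤ s ∧
      (∀ t, ∃ u, app θ (xU D r t) = xU D s u) ∧
      ∀ t, ∃ u, app θ (xU D (D.neg r) t) = xU D (D.neg s) u := by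
  intro r
  induction r using Nat.strong_induction_on with
  | _ r ih =>
    intro hr hp
    by_cases hsim : ∃ i < D.rank, r = D.simple i
    · obtain ⟨i, hi, rfl⟩ := hsim
      exact ⟨_, hF.simple_lt' (π ⟨i, hi⟩).isLt, (hF.simple_lt _ (π ⟨i, hi⟩).isLt).1,
        fun t => (h ⟨i, hi⟩ t).1, fun t => (h ⟨i, hi⟩ t).2⟩
    · obtain ⟨i, hi, h1, h2⟩ := hF.refl_step r hr hp fun i hi e => hsim ⟨i, hi, e⟩
      have hlt := hF.refl_lt i hi r hr
      obtain ⟨s, hs, hsp, hpos, hneg⟩ := ih _ h2 hlt h1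
      set j := π ⟨i, hi⟩ with hj
      obtain ⟨c, hc, hcj, -⟩ := hF.permAct_nS (F := F) ⟨i, hi⟩ ⟨_, hlt⟩
      obtain ⟨d, hd, hdj, -⟩ := hF.permAct_nS (F := F) ⟨i, hi⟩ ⟨_, hF.neg_lt hlt⟩
      rw [hF.sP_val] at hcj hdj
      simp only at hcj hdj
      rw [hF.refl_invol i hi r hr] at hcj
      rw [hF.refl_neg i hi _ hlt, hF.refl_invol i hi r hr] at hdj
      have hne : s ≠ D.simple j := by
        rintro rfl
        obtain ⟨u, hu⟩ := hpos 1
        obtain ⟨t, ht⟩ := surj_of_maps hF θ (hF.simple_lt' hi) (fun t => (h ⟨i, hi⟩ t).1) u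
        rw [← hu] at ht
        have e := app_injOn θ (mem_x hF (hF.simple_lt' hi) t) (mem_x hF hlt 1) ht
        have hroot := hF.xU_root_unique hlt (hF.simple_lt' hi) one_ne_zero e.symm
        have := hF.refl_invol i hi r hr
        rw [hroot, hF.refl_simple hi] at this
        have h7 := (hF.neg_lt_half (hF.simple_lt' hi)).1 (this ▸ hp)
        exact absurd h7 (not_lt.2 (hF.simple_lt i hi).1)
      have hs' : D.reflectRoot j s < D.nroots := hF.refl_lt j.val j.isLt s hs
      refine ⟨D.reflectRoot j s, hs', hF.refl_pos j.val j.isLt s hs hsp hne, ?_⟩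
      obtain ⟨a, ha⟩ := (h ⟨i, hi⟩ (1 : F)).1
      obtain ⟨b, hb⟩ := (h ⟨i, hi⟩ (-(1 : F)⁻¹)).2
      rw [← hj] at ha hb
      have hm1 := mem_x hF (F := F) (hF.simple_lt' hi) 1
      have hm2 := mem_x hF (F := F) (hF.neg_lt (hF.simple_lt' hi)) (-(1 : F)⁻¹)
      have ha0 : a ≠ 0 := by
        rintro rfl
        rw [hF.xU_zero (hF.simple_lt' j.isLt), ← app_one θ] at ha
        exact one_ne_zero (hF.xU_eq_one (hF.simple_lt' hi) (app_injOn θ hm1 (one_mem _) ha))
      have hn : app θ (nS D F ⟨i, hi⟩) = xU D (D.simple j) a * xU D (D.neg (D.simple j)) b *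
          xU D (D.simple j) a := by
        rw [nS, nU, app_mul θ (mul_mem hm1 hm2) hm1, app_mul θ hm1 hm2, ha, hb]
      have hb' : b = -a⁻¹ := by
        refine middle_eq hF (hF.simple_lt' j.isLt) ha0 fun t => ?_
        obtain ⟨t', ht'⟩ := surj_of_maps hF θ (hF.simple_lt' hi)
          (fun t => (h ⟨i, hi⟩ t).1) t
        obtain ⟨c0, -, hc0, -⟩ := hF.permAct_nS (F := F) ⟨i, hi⟩ (hF.simpleFin ⟨i, hi⟩)
        rw [hF.sP_simple] at hc0
        have hc1 : nS D F ⟨i, hi⟩ * xU D (D.simple i) t' * (nS D F ⟨i, hi⟩)⁻¹ =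
            xU D (D.neg (D.simple i)) (c0 * t') := hc0 t'
        obtain ⟨w, hw⟩ := (h ⟨i, hi⟩ (c0 * t')).2
        refine ⟨w, ?_⟩
        have hnm := hF.monomial_le_group (hF.nS_mem (F := F) ⟨i, hi⟩)
        rw [← hj] at hw
        rw [← hn, ← ht', ← hw, ← app_inv θ hnm, ← app_mul θ hnm (mem_x hF (hF.simple_lt' hi) _),
          ← app_mul θ (mul_mem hnm (mem_x hF (hF.simple_lt' hi) _)) (inv_mem hnm)]
        exact congrArg (app θ) hc1
      have hnj : app θ (nS D F ⟨i, hi⟩) = nU D (D.simple j) a := by rw [hn, hb', nU]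
      have hnG := hF.monomial_le_group (hF.nS_mem (F := F) ⟨i, hi⟩)
      have hper : ∀ q, q < D.nroots → ∀ t : F, ∃ u, nU D (D.simple j) a * xU D q t *
          (nU D (D.simple j) a)⁻¹ = xU D (D.reflectRoot j q) u := by
        intro q hq t
        have e1 : nU D (D.simple j) a = hU D (D.simple j) a * nU D (D.simple j) 1 :=
          (hF.rankOne (F := F) (hF.simple_lt' j.isLt)).key (Units.mk0 a ha0)
        obtain ⟨c', -, hc', -⟩ := hF.permAct_nS (F := F) j ⟨q, hq⟩
        rw [hF.sP_val] at hc'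
        have hc'' : nU D (D.simple j) 1 * xU D q t * (nU D (D.simple j) 1)⁻¹ =
            xU D (D.reflectRoot j q) (c' * t) := hc' t
        have h9 := hF.hU_conj_xU (hF.simple_lt' j.isLt) (hF.refl_lt j.val j.isLt q hq)
          (Units.mk0 a ha0) (c' * t)
        rw [Units.val_mk0, ← hc''] at h9
        refine ⟨(((Units.mk0 a ha0) ^ prE D (D.simple j) (D.reflectRoot j q) : Fˣ) : F) * (c' * t), ?_⟩
        rw [← h9, e1]
        group
      constructor
      · intro t
        obtain ⟨u, hu⟩ := hpos (c⁻¹ * t)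
        obtain ⟨w, hw⟩ := hper s hs u
        refine ⟨w, ?_⟩
        rw [← hw, ← hu, ← hnj, ← app_inv θ hnG, ← app_mul θ hnG (mem_x hF hlt _),
          ← app_mul θ (mul_mem hnG (mem_x hF hlt _)) (inv_mem hnG)]
        refine congrArg (app θ) ?_
        rw [hcj, ← mul_assoc, mul_inv_cancel₀ hc, one_mul]
      · intro t
        obtain ⟨u, hu⟩ := hneg (d⁻¹ * t)
        obtain ⟨w, hw⟩ := hper _ (hF.neg_lt hs) u
        refine ⟨w, ?_⟩
        rw [← hF.refl_neg j.val j.isLt s hs, ← hw, ← hu, ← hnj, ← app_inv θ hnG,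
          ← app_mul θ hnG (mem_x hF (hF.neg_lt hlt) _),
          ← app_mul θ (mul_mem hnG (mem_x hF (hF.neg_lt hlt) _)) (inv_mem hnG)]
        refine congrArg (app θ) ?_
        rw [hdj, ← mul_assoc, mul_inv_cancel₀ hd, one_mul]

end CfsgLib.Chev.AutThm
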