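import Cfsg.Agent.Lib.Known.ChevAutOut
import Cfsg.Agent.Lib.Chev.Orders
import Cfsg.Prelude.Def_EvenType

/-!
# Involutory field automorphisms in characteristic two

The first cohomology of such an automorphism is trivial, and its fixed points form the group over
the fixed field.
-/

set_option autoImplicit false
set_option linter.unusedSectionVars false
set_option linter.style.haveILetI false

namespace CfsgLib.Chev.FieldInvol

open Cfsg Cfsg.Lie CfsgLib.Chev.AutThm
open scoped Pointwise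

universe v

variable {D : ChevalleyDatum} {co : ℕ → ℕ → ℤ} {F : Type v} [Field F]

/-- The kernel of `t ↦ σ t + t` is its image. -/
theorem exists_add_eq [Finite F] [CharP F 2] {σ : F ≃+* F} (h2 : ∀ t, σ (σ t) = t) (hne : σ ≠ 1)
    {a : F} (ha : σ a = a) : ∃ b, a = b + σ b := by
  classical
  let δ : F →+ F :=
    { toFun := fun t => t + σ t
      map_zero' := by simp
      map_add' := fun x y => by simp only [map_add]; ring }
  let K : Subfield F := (σ : F →+* F).eqLocusField (RingHom.id F)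
  have hker : ∀ t, t ∈ δ.ker ↔ t ∈ K := fun t => by
    show t + σ t = 0 ↔ σ t = t
    constructor
    · intro h
      rw [← CharTwo.add_self_eq_zero t] at h
      exact add_left_cancel h
    · intro h; rw [h]; exact CharTwo.add_self_eq_zero t
  have hrange : δ.range ≤ δ.ker := by
    rintro _ ⟨t, rfl⟩
    rw [hker]
    show σ (t + σ t) = t + σ t
    rw [map_add, h2, add_comm]
  have hcard : Nat.card ↥δ.ker = Nat.card ↥K :=
    Nat.card_congr (Equiv.subtypeEquivRight hker)
  have hmul : Nat.card ↥δ.range * Nat.card ↥δ.ker = Nat.card F := by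
    rw [← AddSubgroup.index_ker, mul_comm, AddSubgroup.card_mul_index]
  have hsq : Nat.card ↥K * Nat.card ↥K ≤ Nat.card F := by
    rw [Module.natCard_eq_pow_finrank (K := ↥K) (V := F), ← pow_two]
    refine Nat.pow_le_pow_right Nat.card_pos ?_
    by_contra hlt
    have hpos : 0 < Module.finrank (↥K) F := Module.finrank_pos
    have h1 : Module.finrank (↥K) F = 1 := by omega
    refine hne (RingEquiv.ext fun t => ?_)
    obtain ⟨c, hc⟩ := (finrank_eq_one_iff_of_nonzero' (1 : F) one_ne_zero).1 h1 t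
    rw [← hc]
    show σ ((c : F) * 1) = (c : F) * 1
    rw [mul_one]
    exact c.2
  have hle := AddSubgroup.eq_of_le_of_card_ge hrange (by
    rw [← hmul, ← hcard] at hsq
    exact Nat.le_of_mul_le_mul_right hsq Nat.card_pos)
  have : a ∈ δ.range := by rw [hle, hker]; exact ha
  obtain ⟨b, hb⟩ := this
  exact ⟨b, hb.symm⟩

theorem card_fixed_sq [Finite F] [CharP F 2] {σ : F ≃+* F} (h2 : ∀ t, σ (σ t) = t) (hne : σ ≠ 1) :
    Nat.card ↥((σ : F →+* F).eqLocusField (RingHom.id F)) ^ 2 = Nat.card F := by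
  classical
  set K := (σ : F →+* F).eqLocusField (RingHom.id F)
  let δ : F →+ F :=
    { toFun := fun t => t + σ t
      map_zero' := by simp
      map_add' := fun x y => by simp only [map_add]; ring }
  have hker : ∀ t, t ∈ δ.ker ↔ t ∈ K := fun t => by
    show t + σ t = 0 ↔ σ t = t
    constructor
    · intro h
      rw [← CharTwo.add_self_eq_zero t] at h
      exact add_left_cancel h
    · intro h; rw [h]; exact CharTwo.add_self_eq_zero t
  have hrange : δ.range = δ.ker := by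
    refine le_antisymm ?_ fun t ht => ?_
    · rintro _ ⟨t, rfl⟩
      rw [hker]
      show σ (t + σ t) = t + σ t
      rw [map_add, h2, add_comm]
    · obtain ⟨b, hb⟩ := exists_add_eq h2 hne (show σ t = t from (hker t).1 ht)
      exact ⟨b, hb.symm⟩
  have hmul : Nat.card ↥δ.range * Nat.card ↥δ.ker = Nat.card F := by
    rw [← AddSubgroup.index_ker, mul_comm, AddSubgroup.card_mul_index]
  rw [hrange, Nat.card_congr (Equiv.subtypeEquivRight hker)] at hmul
  rw [sq, hmul]

variable (hF : Facts D co) (hC : CommF.{v} D)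
include hF

theorem app_fHom (σ : F ≃+* F) {g : GL D.Idx F} (hg : g ∈ D.group F) :
    app (fHom hF σ) g = FixedPoints.gMap D (σ : F →+* F) g := by
  rw [app_eq _ hg]; rfl

include hC

/-- Triviality of the cohomology on the positive unipotent subgroup. -/
theorem unip_cobound [Finite F] [CharP F 2] {σ : F ≃+* F} (h2 : ∀ t, σ (σ t) = t) (hne : σ ≠ 1) :
    ∀ m k : ℕ, k + m = D.nroots → D.nroots / 2 ≤ k → ∀ g ∈ rootClosure D F (k ≤ ·),
      g * FixedPoints.gMap D (σ : F →+* F) g = 1 →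
        ∃ w ∈ rootClosure D F (D.nroots / 2 ≤ ·), g = w⁻¹ * FixedPoints.gMap D (σ : F →+* F) w := by
  intro m
  induction m with
  | zero =>
    intro k hk _ g hg _
    refine ⟨1, one_mem _, ?_⟩
    have : g ∈ (⊥ : Subgroup (GL D.Idx F)) := by
      refine (Subgroup.closure_le _).2 ?_ hg
      rintro x ⟨r, t, hr, hkr, -⟩
      omega
    rw [Subgroup.mem_bot.1 this, map_one, inv_one, one_mul]
  | succ m ih =>
    intro k hk hp g hg hgg
    have hkn : k < D.nroots := by omega
    have hk2 : D.nroots / 2 ≤ k + 1 := by omega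
    obtain ⟨a, g', hg', rfl⟩ := hF.exists_decomp hC hp hkn hg
    set φ := FixedPoints.gMap D (σ : F →+* F) with hφ
    have hx : ∀ t, φ (xU D k t) = xU D k (σ t) := FixedPoints.gMap_xU hF _ hkn
    have hg'φ : φ g' ∈ rootClosure D F (k + 1 ≤ ·) := FixedPoints.gMap_mem hF _ hg'
    have hnorm : ∀ t, ∀ y ∈ rootClosure D F (k + 1 ≤ ·),
        xU D k t * y * (xU D k t)⁻¹ ∈ rootClosure D F (k + 1 ≤ ·) := fun t y hy =>
      (Subgroup.mem_normalizer_iff.1 (hF.pos_le_normalizer_above hC hk2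
        (xU_mem_rootClosure hkn hp t)) y).1 hy
    have hneg : ∀ t : F, (xU D k t)⁻¹ = xU D k t := fun t => by rw [hF.xU_inv hkn, CharTwo.neg_eq]
    have ha : σ a = a := by
      have e : xU D k (a + σ a) = ((xU D k (σ a) * g' * (xU D k (σ a))⁻¹) * φ g')⁻¹ := by
        rw [eq_inv_iff_mul_eq_one, ← hgg, map_mul, hx, hneg, ← hF.xU_add hkn]
        rw [show xU D k a * xU D k (σ a) * (xU D k (σ a) * g' * xU D k (σ a) * φ g') =
          xU D k a * (xU D k (σ a) * xU D k (σ a)) * g' * (xU D k (σ a) * φ g') by group,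
          hF.xU_add hkn, CharTwo.add_self_eq_zero, hF.xU_zero hkn, mul_one]
      have h0 : a + σ a = 0 := hF.xU_eq_zero_of_ut hkn hp (by
        rw [e]
        exact hF.above_ut hkn hp (inv_mem (mul_mem (hnorm _ _ hg') hg'φ)))
      rw [← CharTwo.add_self_eq_zero a] at h0
      exact add_left_cancel h0
    obtain ⟨b, hb⟩ := exists_add_eq h2 hne ha
    set g'' := xU D k b * (xU D k a * g') * (φ (xU D k b))⁻¹ with hg''
    have hmem : g'' ∈ rootClosure D F (k + 1 ≤ ·) := by
      have e : g'' = xU D k (b + a) * g' * (xU D k (b + a))⁻¹ := by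
        rw [hg'', hx, ← mul_assoc (xU D k b), hF.xU_add hkn, hneg, hneg, hb, ← add_assoc,
          CharTwo.add_self_eq_zero, zero_add]
      rw [e]
      exact hnorm _ _ hg'
    have hφφ : ∀ t, φ (φ (xU D k t)) = xU D k t := fun t => by rw [hx, hx, h2]
    obtain ⟨w, hw, e⟩ := ih (k + 1) (by omega) hk2 g'' hmem (by
      rw [hg'', map_mul, map_mul φ (xU D k b), map_inv, hφφ,
        show xU D k b * (xU D k a * g') * (φ (xU D k b))⁻¹ *
          (φ (xU D k b) * φ (xU D k a * g') * (xU D k b)⁻¹) =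
          xU D k b * ((xU D k a * g') * φ (xU D k a * g')) * (xU D k b)⁻¹ by group,
        hgg, mul_one, mul_inv_cancel])
    refine ⟨w * xU D k b, mul_mem hw (xU_mem_rootClosure hkn hp b), ?_⟩
    rw [mul_inv_rev, map_mul, mul_assoc, ← mul_assoc w⁻¹, ← e, hg'']
    group

/-- Every cocycle of the automorphism is a coboundary. -/
theorem cobound [Finite F] [CharP F 2] {σ : F ≃+* F} (h2 : ∀ t, σ (σ t) = t) (hne : σ ≠ 1)
    (g : ↥(D.group F)) (hg : g * fHom hF σ g = 1) :
    ∃ h : ↥(D.group F), g = h⁻¹ * fHom hF σ h := by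
  haveI := Fintype.ofFinite F
  haveI : Fact (Nat.Prime 2) := ⟨Nat.prime_two⟩
  set φ := fHom hF σ with hφ
  have hσσ : σ * σ = 1 := RingEquiv.ext h2
  have hφφ : ∀ x, φ (φ x) = x := fun x => by
    have h1 := DFunLike.congr_fun (map_mul (fHom hF) σ σ) x
    rw [hσσ, map_one] at h1
    exact h1.symm
  have hgi : φ g = g⁻¹ := eq_inv_of_mul_eq_one_right hg
  set U0 := (D.posUnipotent F).subgroupOf (D.group F) with hU0
  obtain ⟨Q, hQ⟩ := (BNSteinberg.split hF hC 2 (K := F)).exists_sylow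
  rw [← hU0] at hQ
  set ψ := MulAut.conj g * φ with hψ
  have hψ2 : ψ * ψ = 1 := MulEquiv.ext fun x => by
    simp [hψ, hφφ, hgi, mul_assoc]
  haveI := Fintype.ofFinite (Sylow 2 ↥(D.group F))
  have hodd : ¬ 2 ∣ Fintype.card (Sylow 2 ↥(D.group F)) := by
    rw [← Nat.card_eq_fintype_card]
    exact not_dvd_card_sylow 2 _
  obtain ⟨S, hS⟩ := Equiv.Perm.exists_fixed_point_of_prime (p := 2) (n := 1) hodd
    (σ := MulAction.toPermHom (MulAut ↥(D.group F)) (Sylow 2 ↥(D.group F)) ψ) (by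
      rw [pow_one, pow_two, ← map_mul, hψ2, map_one])
  obtain ⟨a, ha⟩ := MulAction.exists_smul_eq (D.group F) Q S
  have hUfix : ∀ y : ↥(D.group F), φ y ∈ U0 ↔ y ∈ U0 := by
    have key : ∀ y : ↥(D.group F), y ∈ U0 → φ y ∈ U0 := fun y hy => by
      rw [Subgroup.mem_subgroupOf, hF.posUnipotent_eq] at hy ⊢
      exact FixedPoints.gMap_mem hF _ hy
    exact fun y => ⟨fun h => hφφ y ▸ key _ h, key y⟩
  set b := a⁻¹ * g * φ a with hb
  have hbN : b ∈ Subgroup.normalizer (U0 : Set ↥(D.group F)) := by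
    refine Subgroup.mem_normalizer_iff.2 fun y => ?_
    have hmemS : ∀ z, z ∈ (S : Subgroup ↥(D.group F)) ↔ a⁻¹ * z * a ∈ U0 := fun z => by
      rw [← ha, Sylow.coe_subgroup_smul, Subgroup.mem_pointwise_smul_iff_inv_smul_mem, hQ]
      simp [MulAut.smul_def]
    have hψS : ∀ z, ψ z ∈ (S : Subgroup ↥(D.group F)) ↔ z ∈ (S : Subgroup ↥(D.group F)) := fun z => by
      have hS' : ψ • S = S := hS
      conv_lhs => rw [← hS']
      show ψ z ∈ ψ • (S : Subgroup ↥(D.group F)) ↔ _
      exact Subgroup.smul_mem_pointwise_smul_iff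
    have h1 := hψS (a * φ y * a⁻¹)
    rw [hmemS, hmemS, show a⁻¹ * (a * φ y * a⁻¹) * a = φ y by group, hUfix] at h1
    rw [← h1]
    simp [hb, hψ, hφφ, mul_assoc]
  have hbB : (b : GL D.Idx F) ∈ D.borelSubgroup F := by
    refine mem_borel_of_normalizes hF hC b.2 (Subgroup.mem_normalizer_iff.2 fun y => ?_)
    by_cases hy : y ∈ D.group F
    · exact Subgroup.mem_normalizer_iff.1 hbN ⟨y, hy⟩
    · refine ⟨fun h => absurd (pos_le hF h) hy, fun h => absurd ?_ hy⟩
      have := mul_mem (mul_mem (inv_mem b.2) (pos_le hF h)) b.2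
      rwa [show (b : GL D.Idx F)⁻¹ * (b * y * (b : GL D.Idx F)⁻¹) * b = y by group] at this
  have hbb : b * φ b = 1 := by
    simp [hb, hφφ, hgi, mul_assoc]
  obtain ⟨u, hu, h, hh, e⟩ := hF.mem_borel_iff.1 hbB
  let uG : ↥(D.group F) := ⟨u, hF.pos_le_group hu⟩
  let hG : ↥(D.group F) := ⟨h, hF.diagonal_le_group hh⟩
  have eb : b = uG * hG := Subtype.ext e
  have hφh : ((φ hG : ↥(D.group F)) : GL D.Idx F) ∈ D.diagonalSubgroup F := by
    obtain ⟨c, hc⟩ := hF.mem_diagonal_iff.1 hh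
    show FixedPoints.gMap D (σ : F →+* F) h ∈ _
    rw [hc, FixedPoints.gMap_hT hF]
    exact hF.mem_diagonal_iff.2 ⟨_, rfl⟩
  have hh1 : hG * φ hG = 1 := by
    have h1 : ((uG * (hG * φ uG * hG⁻¹) : ↥(D.group F)) : GL D.Idx F) ∈
        rootClosure D F (D.nroots / 2 ≤ ·) := by
      refine mul_mem hu ((Subgroup.mem_normalizer_iff.1 (hF.diagonal_le_normalizer _ hh) _).1 ?_)
      exact FixedPoints.gMap_mem hF _ hu
    have h2' : uG * (hG * φ uG * hG⁻¹) * (hG * φ hG) = 1 := by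
      rw [← hbb, eb, map_mul]; group
    have h3 : ((hG * φ hG : ↥(D.group F)) : GL D.Idx F) ∈
        rootClosure D F (D.nroots / 2 ≤ ·) ⊓ D.diagonalSubgroup F := by
      refine ⟨?_, mul_mem hh hφh⟩
      rw [eq_inv_of_mul_eq_one_right h2', Subgroup.coe_inv]
      exact Subgroup.inv_mem _ h1
    rw [hF.pos_inf_diagonal, Subgroup.mem_bot] at h3
    exact Subtype.ext h3
  have hodd' : Odd (orderOf hG) := by
    obtain ⟨f, hp, hcard⟩ := FiniteField.card F 2
    have hd : orderOf h ∣ (Nat.card F - 1) ^ D.rank := by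
      have h4 := Subgroup.orderOf_dvd_natCard (D.diagonalSubgroup F) hh
      exact h4.trans ⟨_, (hF.card_diagonal (F := F)).symm⟩
    have h5 : orderOf hG = orderOf h := (orderOf_injective (D.group F).subtype
      (D.group F).subtype_injective hG).symm
    rw [h5]
    refine (Nat.odd_iff.2 ?_)
    by_contra hc
    have h6 : 2 ∣ (Nat.card F - 1) ^ D.rank := (Nat.dvd_of_mod_eq_zero (by omega)).trans hd
    have h7 := Nat.prime_two.dvd_of_dvd_pow h6
    rw [Nat.card_eq_fintype_card, hcard] at h7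
    have h8 : 2 ∣ 2 ^ (f : ℕ) := dvd_pow_self 2 f.pos.ne'
    have h9 : 1 ≤ 2 ^ (f : ℕ) := Nat.one_le_two_pow
    omega
  obtain ⟨j, hj⟩ := hodd'
  set h' := hG ^ (j + 1) with hh'
  have hsq : h' * h' = hG := by
    rw [hh', ← pow_add, show j + 1 + (j + 1) = orderOf hG + 1 by omega, pow_succ, pow_orderOf_eq_one,
      one_mul]
  have hφh' : φ h' = h'⁻¹ := by
    rw [hh', map_pow, eq_inv_of_mul_eq_one_right hh1, inv_pow]
  have hkk : h'⁻¹ * hG = h' := by rw [← hsq, inv_mul_cancel_left]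
  set b' := h'⁻¹ * b * (φ h'⁻¹)⁻¹ with hb'
  have hb'U : (b' : GL D.Idx F) ∈ rootClosure D F (D.nroots / 2 ≤ ·) := by
    have e' : b' = h'⁻¹ * uG * h' := by
      rw [hb', eb, map_inv, hφh', inv_inv]
      calc h'⁻¹ * (uG * hG) * h'⁻¹ = h'⁻¹ * uG * (hG * h'⁻¹) := by group
        _ = _ := by rw [← hsq]; group
    have hh'H : (h' : GL D.Idx F) ∈ D.diagonalSubgroup F := by
      rw [hh', Subgroup.coe_pow]; exact pow_mem hh _
    rw [e']
    have := (Subgroup.mem_normalizer_iff.1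
      (hF.diagonal_le_normalizer (D.nroots / 2 ≤ ·) (inv_mem hh'H)) u).1 hu
    simpa using this
  have hb'b' : b' * φ b' = 1 := by
    rw [hb', map_mul φ (h'⁻¹ * b), map_mul φ h'⁻¹, map_inv φ (φ h'⁻¹), hφφ,
      show h'⁻¹ * b * (φ h'⁻¹)⁻¹ * (φ h'⁻¹ * φ b * (h'⁻¹)⁻¹) = h'⁻¹ * (b * φ b) * h' by group,
      hbb, mul_one, inv_mul_cancel]
  have hev := hF.nroots_even
  obtain ⟨w, hw, ew⟩ := unip_cobound hF hC h2 hne (D.nroots / 2) (D.nroots / 2) (by omega) le_rfl
    b'.1 hb'U (congrArg Subtype.val hb'b')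
  let wG : ↥(D.group F) := ⟨w, hF.pos_le_group hw⟩
  have ew' : b' = wG⁻¹ * φ wG := Subtype.ext ew
  refine ⟨wG * h'⁻¹ * a⁻¹, ?_⟩
  rw [map_mul, map_mul, map_inv φ a,
    show (wG * h'⁻¹ * a⁻¹)⁻¹ * (φ wG * φ h'⁻¹ * (φ a)⁻¹) =
      a * h' * (wG⁻¹ * φ wG) * φ h'⁻¹ * (φ a)⁻¹ by group, ← ew', hb', hb]
  group

/-- The fixed points of a field automorphism as a group over the fixed field. -/
theorem fixed_equiv [Finite F] {σ : F ≃+* F} {F₀ : Type} [Field F₀] (ι : F₀ →+* F)
    (hfix : ∀ t, σ t = t ↔ t ∈ ι.range)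
    (hker : ∀ c : ℕ → Fˣ, hT D c = 1 → ∀ i < D.rank, c i = 1) :
    Nonempty (↥(fixedSubgroup (fHom hF σ (F := F))) ≃* ↥(D.group F₀)) := by
  set M : GL D.Idx F₀ →* GL D.Idx F := Units.map ι.mapMatrix.toMonoidHom with hM
  have hMinj : Function.Injective M := fun x y e => by
    refine Units.ext (Matrix.map_injective ι.injective ?_)
    exact congrArg Units.val e
  have hMx : ∀ r < D.nroots, ∀ t, M (xU D r t) = xU D r (ι t) := fun r hr t => by
    refine Units.ext ?_
    show ((xU D r t : GL D.Idx F₀) : Matrix D.Idx D.Idx F₀).map ι = _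
    rw [hF.xU_val' hr, hF.xU_val' hr, xR_map]
  set φ' : F →+* F := (σ : F →+* F) with hφ'
  have himg : (D.group F₀).map M = FixedPoints.fixedGen D φ' := by
    rw [hF.group_eq, rootClosure, MonoidHom.map_closure, FixedPoints.fixedGen]
    refine congrArg Subgroup.closure (Set.ext fun g => ⟨?_, ?_⟩)
    · rintro ⟨x, ⟨r, t, hr, -, rfl⟩, rfl⟩
      exact ⟨r, ι t, hr, (hfix _).2 ⟨t, rfl⟩, hMx r hr t⟩
    · rintro ⟨r, t, hr, ht, rfl⟩
      obtain ⟨t0, rfl⟩ := (hfix t).1 ht
      exact ⟨xU D r t0, ⟨r, t0, hr, trivial, rfl⟩, hMx r hr t0⟩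
  have hgen_fix : ∀ g ∈ FixedPoints.fixedGen D φ', g ∈ D.group F ∧ FixedPoints.gMap D φ' g = g := by
    intro g hg
    induction hg using Subgroup.closure_induction with
    | mem x hx =>
      obtain ⟨r, t, hr, ht, rfl⟩ := hx
      exact ⟨mem_x hF hr t, by rw [FixedPoints.gMap_xU hF _ hr, ht]⟩
    | one => exact ⟨one_mem _, map_one _⟩
    | mul x y _ _ hx hy => exact ⟨mul_mem hx.1 hy.1, by rw [map_mul, hx.2, hy.2]⟩
    | inv x _ hx => exact ⟨inv_mem hx.1, by rw [map_inv, hx.2]⟩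
  have hfixed : (fixedSubgroup (fHom hF σ (F := F))).map (D.group F).subtype =
      FixedPoints.fixedGen D φ' := by
    refine le_antisymm ?_ fun g hg => ⟨⟨g, (hgen_fix g hg).1⟩, Subtype.ext (hgen_fix g hg).2, rfl⟩
    rintro _ ⟨x, hx, rfl⟩
    have hx' : FixedPoints.gMap D φ' x.1 = x.1 := congrArg Subtype.val hx
    obtain ⟨e, he, h, hh, hhfix, ex⟩ := FixedPoints.fixed_decomp hF (φ := φ') (hC := hC) x.2 hx'
    show x.1 ∈ _
    rw [ex]
    refine mul_mem he ?_
    obtain ⟨c, rfl⟩ := hF.mem_diagonal_iff.1 hh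
    rw [FixedPoints.gMap_hT hF] at hhfix
    have hc : ∀ i < D.rank, σ (c i : F) = (c i : F) := fun i hi => by
      have h1 : hT D (fun i => Units.map φ'.toMonoidHom (c i) * (c i)⁻¹) = 1 := by
        rw [hF.hT_mul, hF.hT_inv, hhfix, mul_inv_cancel]
      exact congrArg Units.val (mul_inv_eq_one.1 (hker _ h1 i hi))
    rw [hF.hT_eq_list]
    refine Subgroup.list_prod_mem _ fun y hy => ?_
    obtain ⟨i, hi, rfl⟩ := List.mem_map.1 hy
    rw [List.mem_range] at hi
    have hs := hF.simple_lt' hi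
    have hnU : ∀ t : F, σ t = t → nU D (D.simple i) t ∈ FixedPoints.fixedGen D φ' := fun t ht =>
      mul_mem (mul_mem (FixedPoints.xU_mem_fixedGen φ' hs ht)
        (FixedPoints.xU_mem_fixedGen φ' (hF.neg_lt hs) (by
          show σ (-t⁻¹) = -t⁻¹
          rw [map_neg, map_inv₀, ht]))) (FixedPoints.xU_mem_fixedGen φ' hs ht)
    exact mul_mem (hnU _ (hc i hi)) (hnU _ (by rw [map_neg, map_one]))
  exact ⟨((Subgroup.equivMapOfInjective _ _ (D.group F).subtype_injective).trans
    (MulEquiv.subgroupCongr (hfixed.trans himg.symm))).trans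
    (Subgroup.equivMapOfInjective _ M hMinj).symm⟩

end CfsgLib.Chev.FieldInvol
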