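import Cfsg.Agent.Lib.Chev.Bruhat
import Cfsg.Agent.Lib.Chev.Reflection
import Cfsg.Agent.Lib.Chev.TableLaced
import Cfsg.Agent.Lib.Known.ChevLift.TorusCheck

/-!
# The centraliser of a root element of a dominant root

If the root elements of a dominant root `T` commute with the positive root subgroups and with those of the negatives
of the fundamental roots orthogonal to it, and exactly one fundamental coroot has pairing one with it, then these
root subgroups generate the centraliser of `x_T(1)`.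
-/

set_option autoImplicit false

namespace CfsgLib.Chev.RootCentralizer

open Cfsg.Lie

universe v

variable {D : ChevalleyDatum} {co : ℕ → ℕ → ℤ}

/-- The combinatorial hypotheses on `T` and the fundamental index `i0`, in characteristic `ch` (zero: any). -/
structure DomCert (D : ChevalleyDatum) (ch : ℕ) (T i0 : ℕ) : Prop where
  T_lt : T < D.nroots
  i0_lt : i0 < D.rank
  one : D.cartan i0 T = 1
  zero : ∀ j < D.rank, j ≠ i0 → D.cartan j T = 0
  dom : ∀ r < D.nroots / 2, prE D r T ≤ 0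
  null : ∀ s < D.nroots, (D.nroots / 2 ≤ s ∨ ∃ j < D.rank, j ≠ i0 ∧ s = D.neg (D.simple j)) →
    s ≠ D.neg T ∧ ∀ c ∈ D.commTerms T s, (ch : ℤ) ∣ c.2.1

/-- The roots of the centraliser. -/
def Roots (D : ChevalleyDatum) (i0 r : ℕ) : Prop :=
  D.nroots / 2 ≤ r ∨ ∃ j < D.rank, j ≠ i0 ∧ r = D.neg (D.simple j)

variable (hF : Facts D co)
include hF

/-- The coroot pairing is invariant under the simple reflections. -/
theorem prE_sW (l : List (Fin D.rank)) :
    ∀ r s : Fin D.nroots, prE D (sW D l r).val (sW D l s).val = prE D r.val s.val := by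
  induction l with
  | nil => intro r s; simp [sW_nil]
  | cons j l ih =>
    intro r s
    rw [sW_cons, Equiv.Perm.mul_apply, Equiv.Perm.mul_apply, hF.sP_val, hF.sP_val,
      hF.prE_refl j.isLt (sW D l r).isLt (hF.refl_lt j.val j.isLt _ (sW D l s).isLt),
      hF.refl_invol j.val j.isLt _ (sW D l s).isLt, ih]

/-- A product of simple reflections fixing `T` is a product of those fixing `T`. -/
theorem exists_word_stab {ch T i0 : ℕ} (hD : DomCert D ch T i0) :
    ∀ (n : ℕ) (l : List (Fin D.rank)), l.length = n → sW D l ⟨T, hD.T_lt⟩ = ⟨T, hD.T_lt⟩ →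
      ∃ m : List (Fin D.rank), (∀ i ∈ m, i.val ≠ i0) ∧ sW D m = sW D l := by
  intro n
  induction n using Nat.strong_induction_on with
  | _ n ih =>
    intro l hl hfix
    rcases List.eq_nil_or_concat l with rfl | ⟨l', i, rfl⟩
    · exact ⟨[], by simp, rfl⟩
    rw [List.concat_eq_append] at hl hfix ⊢
    simp only [List.length_append, List.length_cons, List.length_nil] at hl
    by_cases hneg : (sW D l' (hF.simpleFin i)).val < D.nroots / 2
    · -- not reduced
      obtain ⟨a, b, j, rfl, he⟩ := hF.weylHom_deletion l' i hneg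
      have hab : sW D (a ++ b) = sW D (a ++ j :: b ++ [i]) := he.symm
      simp only [List.length_append, List.length_cons] at hl
      obtain ⟨m, hm, hm'⟩ := ih (a ++ b).length (by simp only [List.length_append]; omega) (a ++ b) rfl
        (by rw [hab]; exact hfix)
      exact ⟨m, hm, hm'.trans hab⟩
    · have hi : i.val ≠ i0 := by
        intro e
        set r := sW D (l' ++ [i]) (hF.simpleFin i) with hr
        have hr' : r.val < D.nroots / 2 := by
          rw [hr, sW_append, sW_cons, sW_nil, mul_one, Equiv.Perm.mul_apply, hF.sP_simple, hF.sW_neg]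
          have := hF.negFin_pos (sW D l' (hF.simpleFin i))
          omega
        have h1 := prE_sW hF (l' ++ [i]) (hF.simpleFin i) ⟨T, hD.T_lt⟩
        rw [hfix, ← hr] at h1
        have h2 := hD.dom r.val hr'
        have h3 : prE D (D.simple i.val) T = 1 := by rw [hF.prE_simple i.isLt, e, hD.one]
        have : prE D r.val T = prE D (D.simple i.val) T := h1
        omega
      have hsT : sP D i ⟨T, hD.T_lt⟩ = ⟨T, hD.T_lt⟩ := by
        refine Fin.ext ?_
        rw [hF.sP_val]
        refine hF.root_ext (hF.refl_lt i.val i.isLt T hD.T_lt) hD.T_lt fun j hj => ?_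
        rw [hF.co_refl i.val i.isLt T hD.T_lt j hj, hD.zero i.val i.isLt hi]
        simp
      have hfix' : sW D l' ⟨T, hD.T_lt⟩ = ⟨T, hD.T_lt⟩ := by
        rwa [sW_append, sW_cons, sW_nil, mul_one, Equiv.Perm.mul_apply, hsT] at hfix
      obtain ⟨m, hm, hm'⟩ := ih l'.length (by omega) l' rfl hfix'
      refine ⟨m ++ [i], fun x hx => ?_, by rw [sW_append, sW_append, hm']⟩
      rcases List.mem_append.1 hx with hx | hx
      · exact hm x hx
      · rw [List.mem_singleton] at hx; rw [hx]; exact hi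

variable {F : Type v} [Field F]

/-- The centraliser of `x_T(1)`. -/
theorem centralizer_eq (hC : CommF.{v} D) {ch T i0 : ℕ} (hD : DomCert D ch T i0)
    (hch : (ch : F) = 0) :
    D.group F ⊓ Subgroup.centralizer {xU D T (1 : F)} = rootClosure D F (Roots D i0) := by
  have hT := hD.T_lt
  set S := rootClosure D F (Roots D i0) with hS
  set t := xU D T (1 : F) with ht
  have hgen : ∀ s, s < D.nroots → Roots D i0 s → ∀ a : F,
      xU D s a ∈ Subgroup.centralizer {t} := by
    intro s hs hP a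
    rw [Subgroup.mem_centralizer_singleton_iff]
    by_cases he : s = T
    · rw [he, ht, hF.xU_add hT, hF.xU_add hT, add_comm]
    obtain ⟨hn, hz⟩ := hD.null s hs hP
    have hW : wU D (cwR D T s (1 : F) a) = 1 := by
      refine List.prod_eq_one fun g hg => ?_
      obtain ⟨q, hq, rfl⟩ := List.mem_map.1 hg
      obtain ⟨c, hc, rfl⟩ := List.mem_map.1 hq
      dsimp only
      obtain ⟨z, hz'⟩ := hz c hc
      rw [hz', Int.cast_mul, Int.cast_natCast, hch, zero_mul, zero_mul, zero_mul,
        hF.xU_zero (hF.commTerms_wt hF.isWeight_omega hT hs hc).1]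
    rw [hF.xU_comm hC hT hs he hn, hW, mul_one]
  have hle : S ≤ Subgroup.centralizer {t} := (Subgroup.closure_le _).2 (by
    rintro x ⟨s, a, hs, hP, rfl⟩; exact hgen s hs hP a)
  refine le_antisymm ?_ (le_inf ?_ hle)
  swap
  · rw [hF.group_eq]; exact rootClosure_mono fun _ _ _ => trivial
  rintro g ⟨hg, hgt⟩
  have hUS : rootClosure D F (D.nroots / 2 ≤ ·) ≤ S := rootClosure_mono fun _ _ h => Or.inl h
  have hnS : ∀ j : Fin D.rank, j.val ≠ i0 → nS D F j ∈ S := by
    intro j hj
    have hp := hF.simple_lt' j.isLt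
    exact hF.nU_mem (fun u => hUS (xU_mem_rootClosure hp (hF.simple_lt j.val j.isLt).1 u))
      (fun u => xU_mem_rootClosure (hF.neg_lt hp) (Or.inr ⟨j.val, j.isLt, hj, rfl⟩) u) 1
  obtain ⟨b, hb, n, hn, τ, hτ, u, hu, rfl⟩ := hF.bruhat_exists hC hg
  obtain ⟨u1, hu1, h, hh, rfl⟩ := hF.mem_borel_iff.1 hb
  have hu' : u ∈ S := hUS (rootClosure_mono (fun _ _ h => h.2.1) hu)
  have hu1' : u1 ∈ S := hUS hu1
  suffices hmid : h * n ∈ S by
    have := Subgroup.mul_mem _ (Subgroup.mul_mem _ hu1' hmid) hu'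
    simpa [mul_assoc] using this
  have hmt : h * n ∈ Subgroup.centralizer {t} := by
    have := Subgroup.mul_mem _ (Subgroup.mul_mem _ (Subgroup.inv_mem _ (hle hu1')) hgt)
      (Subgroup.inv_mem _ (hle hu'))
    simpa [mul_assoc] using this
  have hm : h * n ∈ D.monomialSubgroup F := Subgroup.mul_mem _ (Subgroup.mem_sup_left hh) hn
  obtain ⟨l, k, hk, hlk⟩ : ∃ l, ∃ k ∈ D.diagonalSubgroup F, h * n = nW D F l * k := hF.exists_nW hm
  -- the permutation fixes the root
  have hσ : PermAct (h * n) (sW D l) := by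
    rw [hlk]
    have := hF.permAct_mul (hF.permAct_nW l) (hF.permAct_diagonal hk)
    rwa [mul_one] at this
  have hcomm : h * n * xU D T (1 : F) * (h * n)⁻¹ = xU D T 1 :=
    mul_inv_eq_iff_eq_mul.2 (Subgroup.mem_centralizer_singleton_iff.1 hmt)
  obtain ⟨c, hc0, hc, -⟩ := hσ ⟨T, hT⟩
  have e1 : xU D T (1 : F) = xU D (sW D l ⟨T, hT⟩).val (c * 1) := hcomm.symm.trans (hc 1)
  have hfix : sW D l ⟨T, hT⟩ = ⟨T, hT⟩ :=
    Fin.ext (hF.xU_root_unique hT (sW D l ⟨T, hT⟩).isLt one_ne_zero e1).symm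
  obtain ⟨m, hmi, hml⟩ := exists_word_stab hF hD _ l rfl hfix
  have hw : nW D F m ∈ S := by
    refine Subgroup.list_prod_mem _ fun x hx => ?_
    obtain ⟨j, hj, rfl⟩ := List.mem_map.1 hx
    exact hnS j (hmi j hj)
  set d := (nW D F m)⁻¹ * (h * n) with hd
  have hdm : d ∈ D.diagonalSubgroup F := by
    refine hF.mem_diagonal_of_permAct (Subgroup.mul_mem _ (Subgroup.inv_mem _ (hF.nW_mem m)) hm) ?_
    have := hF.permAct_mul (hF.permAct_inv (hF.nW_mem m) (hF.permAct_nW (F := F) m)) hσ
    rwa [hml, inv_mul_cancel] at this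
  suffices d ∈ S by
    have := Subgroup.mul_mem _ hw this
    rwa [hd, mul_inv_cancel_left] at this
  have hdt : d * t * d⁻¹ = t := mul_inv_eq_iff_eq_mul.2
    (Subgroup.mem_centralizer_singleton_iff.1 (Subgroup.mul_mem _ (Subgroup.inv_mem _ (hle hw)) hmt))
  obtain ⟨cc, hcc⟩ := hF.mem_diagonal_iff.1 hdm
  rw [hcc, ht, hF.hT_conj_xU cc hT, mul_one] at hdt
  have h1 : ((∏ i ∈ Finset.range D.rank, cc i ^ D.cartan i T : Fˣ) : F) = 1 := hF.xU_left_inj hT hdt
  rw [Finset.prod_eq_single i0 (fun j hj hne => by rw [hD.zero j (Finset.mem_range.1 hj) hne, zpow_zero])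
    (fun h => absurd (Finset.mem_range.2 hD.i0_lt) h), hD.one, zpow_one] at h1
  rw [hcc, hF.hT_eq_list]
  refine Subgroup.list_prod_mem _ fun x hx => ?_
  obtain ⟨j, hj, rfl⟩ := List.mem_map.1 hx
  rw [List.mem_range] at hj
  by_cases hji : j = i0
  · have hp := hF.simple_lt' hj
    rw [hji, h1, hU, ← hF.nU_inv (hF.simple_lt' hD.i0_lt), mul_inv_cancel]
    exact Subgroup.one_mem _
  · have hp := hF.simple_lt' hj
    have hn' : ∀ a : F, nU D (D.simple j) a ∈ S := fun a =>
      hF.nU_mem (fun v => hUS (xU_mem_rootClosure hp (hF.simple_lt j hj).1 v))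
        (fun v => xU_mem_rootClosure (hF.neg_lt hp) (Or.inr ⟨j, hj, hji, rfl⟩) v) a
    exact Subgroup.mul_mem _ (hn' _) (hn' _)

end CfsgLib.Chev.RootCentralizer

namespace CfsgLib.Chev.Table.Tab

variable (T : Tab)

/-- See `DomCert`. -/
def domB (ch R i0 : ℕ) : Bool :=
  Nat.blt R T.nroots && Nat.blt i0 T.rank && (T.aa i0 R == 1) &&
    (allBelow T.rank fun j => Nat.beq j i0 || (T.aa j R == 0)) &&
    (allBelow (T.nroots / 2) fun r => decide (T.pr r R ≤ 0)) &&
    allBelow T.nroots fun s =>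
      bif Nat.ble (T.nroots / 2) s || anyBelow T.rank fun j => !(Nat.beq j i0) && Nat.beq s (T.neg (T.smp j)) then
        !(Nat.beq s (T.neg R)) && (T.terms R s).all fun c => c.2.1 % (ch : ℤ) == 0
      else true

end CfsgLib.Chev.Table.Tab

namespace CfsgLib.Chev.RootCentralizer

open Cfsg.Lie CfsgLib.Chev.Table

variable {D : ChevalleyDatum} {co : ℕ → ℕ → ℤ} {T : Tab}

theorem domCert_of_domB (hA : T.chkArrays D = true) (hC : T.chkChain D = true) (hF : Facts D co)
    {ch R i0 : ℕ} (h : T.domB ch R i0 = true) : DomCert D ch R i0 := by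
  have hn := nroots_eq hA
  have hk := rank_eq hA
  simp only [Tab.domB, Bool.and_eq_true, Nat.blt_eq, beq_iff_eq] at h
  obtain ⟨⟨⟨⟨⟨hR, hi⟩, h1⟩, h2⟩, h3⟩, h4⟩ := h
  have hR' : R < D.nroots := hn ▸ hR
  have hi' : i0 < D.rank := hk ▸ hi
  refine ⟨hR', hi', by rw [cartan_eq hA hi' hR']; exact h1, fun j hj hne => ?_, fun r hr => ?_,
    fun s hs hP => ?_⟩
  · have := allBelow_spec h2 j (hk ▸ hj)
    simp only [Bool.or_eq_true, Nat.beq_eq, beq_iff_eq] at this
    rw [cartan_eq hA hj hR']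
    exact this.resolve_left hne
  · have := allBelow_spec h3 r (hn ▸ hr)
    rw [CfsgLib.Chev.Lift.pr_eq hA (by omega) hR']
    exact of_decide_eq_true this
  · have := allBelow_spec h4 s (hn ▸ hs)
    have hcond : (Nat.ble (T.nroots / 2) s ||
        anyBelow T.rank fun j => !(Nat.beq j i0) && Nat.beq s (T.neg (T.smp j))) = true := by
      rw [Bool.or_eq_true, Nat.ble_eq]
      rcases hP with hP | ⟨j, hj, hji, hsj⟩
      · exact Or.inl (hn ▸ hP)
      · refine Or.inr (anyBelow_of (hk ▸ hj) ?_)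
        rw [hsj, simple_eq hA hj, neg_eq hA (simple_eq hA hj ▸ hF.simple_lt' hj)]
        simp [hji, Bool.eq_false_iff]
    simp only [hcond, cond_true, Bool.and_eq_true, Bool.not_eq_true', List.all_eq_true, beq_iff_eq,
      ← CfsgLib.Chev.Lift.terms_eq hA hC hF hR' hs] at this
    refine ⟨fun e => ?_, fun c hc => Int.dvd_of_emod_eq_zero (this.2 c hc)⟩
    rw [neg_eq hA hR'] at e
    simp [e] at this

end CfsgLib.Chev.RootCentralizer

namespace CfsgLib.Chev

open Cfsg.Lie

variable {D : ChevalleyDatum} {F : Type*} [Field F]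

theorem rootClosure_or (P Q : ℕ → Prop) :
    rootClosure D F (fun r => P r ∨ Q r) = rootClosure D F P ⊔ rootClosure D F Q := by
  refine le_antisymm ((Subgroup.closure_le _).2 ?_)
    (sup_le (rootClosure_mono fun _ _ h => Or.inl h) (rootClosure_mono fun _ _ h => Or.inr h))
  rintro g ⟨r, t, hr, h | h, rfl⟩
  · exact Subgroup.mem_sup_left (xU_mem_rootClosure hr h t)
  · exact Subgroup.mem_sup_right (xU_mem_rootClosure hr h t)

end CfsgLib.Chev

namespace CfsgLib.Chev.RootCentralizer

open Cfsg.Lie CfsgLib.Chev.Table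

universe w

/-- The list `l` is that of the negatives of the fundamental roots other than the one of index `i0`. -/
def sameB (T : Tab) (i0 : ℕ) (l : List ℕ) : Bool :=
  (allBelow T.rank fun j => Nat.beq j i0 || l.any fun s => Nat.beq s (T.neg (T.smp j))) &&
    l.all fun s => anyBelow T.rank fun j => !(Nat.beq j i0) && Nat.beq s (T.neg (T.smp j))

variable {D : ChevalleyDatum} {co : ℕ → ℕ → ℤ}

theorem mem_list_iff {T : Tab} (hA : T.chkArrays D = true) (hF : Facts D co) {i0 : ℕ} {l : List ℕ}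
    (h : sameB T i0 l = true) (s : ℕ) :
    s ∈ l ↔ ∃ j < D.rank, j ≠ i0 ∧ s = D.neg (D.simple j) := by
  have hk := rank_eq hA
  have e : ∀ j < D.rank, D.neg (D.simple j) = T.neg (T.smp j) := fun j hj => by
    rw [simple_eq hA hj, neg_eq hA (simple_eq hA hj ▸ hF.simple_lt' hj)]
  simp only [sameB, Bool.and_eq_true, List.all_eq_true] at h
  refine ⟨fun hs => ?_, fun ⟨j, hj, hne, hs⟩ => ?_⟩
  · obtain ⟨j, hj, hp⟩ := anyBelow_spec (h.2 s hs)
    simp only [Bool.and_eq_true, Bool.not_eq_true', Nat.beq_eq] at hp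
    refine ⟨j, hk ▸ hj, fun e' => ?_, hp.2.trans (e j (hk ▸ hj)).symm⟩
    rw [e'] at hp; simp at hp
  · have := allBelow_spec h.1 j (hk ▸ hj)
    simp only [Bool.or_eq_true, Nat.beq_eq, List.any_eq_true] at this
    obtain ⟨s', hs', e'⟩ := this.resolve_left hne
    rwa [hs, e j hj, ← e']

/-- The centraliser in the form `U ⊔ ⟨X_s : s ∈ l⟩`. -/
theorem centralizer_eq_list {T : Tab} (hA : T.chkArrays D = true) (hCh : T.chkChain D = true) (hF : Facts D co)
    {F : Type w} [Field F] (hC : CommF.{w} D) {ch R i0 : ℕ} (hB : T.domB ch R i0 = true)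
    (hch : (ch : F) = 0) {l : List ℕ} (hl : sameB T i0 l = true) {t : GL D.Idx F}
    (ht : (t : Matrix D.Idx D.Idx F) = D.x F R 1) :
    D.group F ⊓ Subgroup.centralizer {t} = D.posUnipotent F ⊔ rootClosure D F (· ∈ l) := by
  have hD := domCert_of_domB hA hCh hF hB
  rw [(hF.eq_xU_iff hD.T_lt).1 ht, centralizer_eq hF hC hD hch, hF.posUnipotent_eq, ← rootClosure_or]
  exact rootClosure_congr fun r _ => or_congr Iff.rfl (mem_list_iff hA hF hl r).symm

end CfsgLib.Chev.RootCentralizer

namespace CfsgLib.Chev.RootCentralizer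

open Cfsg.Lie CfsgLib.Chev.Table

universe z

variable {D : ChevalleyDatum} {co : ℕ → ℕ → ℤ}

theorem closure_list_eq {T : Tab} (hA : T.chkArrays D = true) (hF : Facts D co) {i0 : ℕ} {l : List ℕ}
    (hl : sameB T i0 l = true) (F : Type z) [Field F] :
    Subgroup.closure {g : GL D.Idx F | ∃ s ∈ l, ∃ c : F, (g : Matrix D.Idx D.Idx F) = D.x F s c} =
      rootClosure D F (· ∈ l) := by
  have hlt : ∀ s ∈ l, s < D.nroots := fun s hs => by
    obtain ⟨j, hj, -, rfl⟩ := (mem_list_iff hA hF hl s).1 hs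
    exact hF.neg_lt (hF.simple_lt' hj)
  refine congrArg Subgroup.closure (Set.ext fun g => ?_)
  constructor
  · rintro ⟨s, hs, c, h⟩
    exact ⟨s, c, hlt s hs, hs, (hF.eq_xU_iff (hlt s hs)).1 h⟩
  · rintro ⟨s, c, hs, hl', h⟩
    exact ⟨s, hl', c, (hF.eq_xU_iff hs).2 h⟩

end CfsgLib.Chev.RootCentralizer
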