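import Cfsg.Agent.Lib.Chev.All
import Cfsg.Agent.Lib.Known.ChevRootCentralizer

/-!
# The centraliser of a short root involution in G2

In characteristic two the centraliser of `x_{2a+b}(1)` is generated by the root subgroups of
`b`, `-b`, `2a+b`, `3a+b` and `3a+2b`.
-/

set_option autoImplicit false
set_option synthInstance.maxSize 4000

namespace CfsgLib.Chev

open Cfsg.Lie

variable {D : ChevalleyDatum} {co : ℕ → ℕ → ℤ} {F : Type*} [Field F]

/-- The row of `x_r(t)` at a coroot coordinate. -/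
theorem xR_row_inl (r : ℕ) (t : F) (i : Fin D.rank) (b : D.Idx) :
    xR D r t (Sum.inl i) b =
      (1 : Matrix D.Idx D.Idx F) (Sum.inl i) b +
        t * (adRoot D r (Sum.inl i) b : F) := by
  simp [xR, Finset.sum_range_succ, divPow_ge_two_inl_row _ 0, divPow_ge_two_inl_row _ 1, divPow,
    Matrix.one_apply, apply_ite (Int.cast : ℤ → F)]

/-- No root string in the direction `q` ends in `-p`. -/
def RowFix (D : ChevalleyDatum) (p q : ℕ) : Prop :=
  p ≠ q ∧ p ≠ D.neg q ∧
    ∀ s < D.nroots, ∀ k < 4, 1 ≤ k → D.chainRoot q s k ≠ some (D.neg p)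

theorem Facts.xR_row_neg (hF : Facts D co) {p q : ℕ} (hp : p < D.nroots) (hq : q < D.nroots)
    (h : RowFix D p q) (t : F) (b : D.Idx) :
    xR D q t (Sum.inr ⟨D.neg p, hF.neg_lt hp⟩) b =
      (1 : Matrix D.Idx D.Idx F) (Sum.inr ⟨D.neg p, hF.neg_lt hp⟩) b := by
  obtain ⟨h1, h2, h3⟩ := h
  have hn : D.neg p ≠ q := fun e => h2 (by rw [← e, hF.neg_neg hp])
  have hz : ∀ k < 3, divPow D q (k + 1) (Sum.inr ⟨D.neg p, hF.neg_lt hp⟩) b = 0 := by
    intro k hk
    rcases b with i | s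
    · cases k with
      | zero => rw [divPow, adRoot_inr_inl, if_neg hn]
      | succ k => rw [divPow_ge_two_inl_col]
    · by_cases hs : s.val = D.neg q
      · cases k with
        | zero =>
          rw [divPow, adRoot_inr_inr, if_neg]
          intro e
          have := (hF.tgt_self q hq).2
          rw [hs] at e
          rw [this] at e
          simp at e
        | succ k => rw [divPow_ge_two_inr, if_pos hs, if_neg]; exact fun e => hn e.2
      · rw [divPow_col_inr _ _ _ hs, if_neg]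
        exact h3 s.val s.isLt (k + 1) (by omega) (by omega)
  have h0 : divPow D q 0 = 1 := rfl
  have z1 := hz 0 (by norm_num)
  have z2 := hz 1 (by norm_num)
  have z3 := hz 2 (by norm_num)
  simp only [Nat.zero_add, Nat.reduceAdd] at z1 z2 z3
  simp [xR, Finset.sum_range_succ, z1, z2, z3, h0, Matrix.one_apply, apply_ite (Int.cast : ℤ → F)]

end CfsgLib.Chev

namespace CfsgLib.Chev.G2Centralizer

open Cfsg.Lie CfsgLib.Chev.Table

universe v

/-- The images of `(2a+b, 3a+b, 3a+2b)` under the Weyl group. -/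
def triples : List (ℕ × ℕ × ℕ) :=
  [(2, 0, 1), (2, 1, 0), (3, 0, 5), (3, 5, 0), (4, 1, 6), (4, 6, 1), (7, 5, 10), (7, 10, 5),
    (8, 6, 11), (8, 11, 6), (9, 10, 11), (9, 11, 10)]

theorem triples_refl : ∀ x ∈ triples, ∀ i < chevG2.rank,
    (chevG2.reflectRoot i x.1, chevG2.reflectRoot i x.2.1, chevG2.reflectRoot i x.2.2) ∈ triples := by
  decide +kernel

theorem triples_rowFix : ∀ x ∈ triples,
    RowFix chevG2 x.1 x.2.1 ∧ RowFix chevG2 x.1 x.2.2 ∧ RowFix chevG2 x.2.1 x.2.2 := by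
  unfold RowFix
  decide +kernel

theorem triples_head : ∀ x ∈ triples, (x.1 = 9 ∨ x.1 = 10 ∨ x.1 = 11) → x.1 = 9 := by
  decide +kernel

theorem triples_lt : ∀ x ∈ triples, x.1 < chevG2.nroots ∧ x.2.1 < chevG2.nroots ∧ x.2.2 < chevG2.nroots := by
  decide +kernel

theorem nroots_G2 : chevG2.nroots = 12 := by decide +kernel

theorem rank_G2 : chevG2.rank = 2 := by decide +kernel

theorem triple_sW (l : List (Fin chevG2.rank)) (h9 : 9 < chevG2.nroots) (h10 : 10 < chevG2.nroots)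
    (h11 : 11 < chevG2.nroots) :
    ((sW chevG2 l ⟨9, h9⟩).val, (sW chevG2 l ⟨10, h10⟩).val, (sW chevG2 l ⟨11, h11⟩).val) ∈ triples := by
  induction l with
  | nil =>
    show ((9 : ℕ), (10 : ℕ), (11 : ℕ)) ∈ triples
    decide
  | cons j l ih =>
    simp only [sW_cons, Equiv.Perm.mul_apply, DataG2.facts.sP_val]
    exact triples_refl _ ih j.val j.isLt

variable {F : Type v} [Field F]

local notation "hG" => DataG2.facts

/-- The coroot row of a product along a triple. -/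
theorem row_triple {p q r : ℕ} (hx : (p, q, r) ∈ triples) (a b c : F) (i : Fin chevG2.rank)
    (m : Fin chevG2.nroots) :
    ((xU chevG2 p a * xU chevG2 q b * xU chevG2 r c : GL chevG2.Idx F) : Matrix chevG2.Idx chevG2.Idx F)
        (Sum.inl i) (Sum.inr m) =
      (if m.val = chevG2.neg p then a * (cor chevG2 p i.val : F) else 0) +
      (if m.val = chevG2.neg q then b * (cor chevG2 q i.val : F) else 0) +
      (if m.val = chevG2.neg r then c * (cor chevG2 r i.val : F) else 0) := by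
  obtain ⟨hpq, hpr, hqr⟩ := triples_rowFix _ hx
  obtain ⟨hp, hq, hr⟩ := triples_lt _ hx
  simp only at hp hq hr hpq hpr hqr
  have e1 : ∀ (s : ℕ) (hs : s < chevG2.nroots) (t : F) (M : Matrix chevG2.Idx chevG2.Idx F) (col : chevG2.Idx),
      (xR chevG2 s t * M) (Sum.inl i) col =
        M (Sum.inl i) col + t * (cor chevG2 s i.val : F) * M (Sum.inr ⟨chevG2.neg s, (hG).neg_lt hs⟩) col := by
    intro s hs t M col
    rw [Matrix.mul_apply]
    simp only [xR_row_inl, add_mul, Finset.sum_add_distrib, Matrix.one_apply, ite_mul, one_mul, zero_mul]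
    rw [Finset.sum_ite_eq, if_pos (Finset.mem_univ _),
      Finset.sum_eq_single (Sum.inr ⟨chevG2.neg s, (hG).neg_lt hs⟩)]
    · simp [adRoot_inl_inr]
    · intro x _ hne
      rcases x with j | u
      · simp [adRoot_inl_inl]
      · have : u.val ≠ chevG2.neg s := fun e => hne (congrArg Sum.inr (Fin.ext e))
        simp [adRoot_inl_inr, this]
    · simp
  have e2 : ∀ (s u : ℕ) (hs : s < chevG2.nroots) (hu : u < chevG2.nroots), RowFix chevG2 s u → ∀ (t : F)
      (M : Matrix chevG2.Idx chevG2.Idx F) (col : chevG2.Idx),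
      (xR chevG2 u t * M) (Sum.inr ⟨chevG2.neg s, (hG).neg_lt hs⟩) col =
        M (Sum.inr ⟨chevG2.neg s, (hG).neg_lt hs⟩) col := by
    intro s u hs hu hR t M col
    rw [Matrix.mul_apply]
    simp only [(hG).xR_row_neg hs hu hR, Matrix.one_apply, ite_mul, one_mul, zero_mul]
    rw [Finset.sum_ite_eq, if_pos (Finset.mem_univ _)]
  rw [Units.val_mul, Units.val_mul, (hG).xU_val' hp, (hG).xU_val' hq, (hG).xU_val' hr, mul_assoc,
    e1 p hp a, e1 q hq b, e2 p q hp hq hpq, xR_row_inl, (hG).xR_row_neg hp hr hpr,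
    (hG).xR_row_neg hq hr hqr]
  simp only [Matrix.one_apply, adRoot_inl_inr, reduceCtorEq, if_false, Sum.inr.injEq, Fin.ext_iff,
    eq_comm (a := chevG2.neg p), eq_comm (a := chevG2.neg q)]
  split_ifs <;> simp <;> ring

/-- If two triples give the same element, the first root of the left one occurs on the right. -/
theorem head_mem {p q r p' q' r' : ℕ} (hx : (p, q, r) ∈ triples) (hy : (p', q', r') ∈ triples)
    {a b c a' b' c' : F} (ha : a ≠ 0)
    (h : xU chevG2 p a * xU chevG2 q b * xU chevG2 r c =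
      xU chevG2 p' a' * xU chevG2 q' b' * xU chevG2 r' c') : p = p' ∨ p = q' ∨ p = r' := by
  obtain ⟨hp, hq, hr⟩ := triples_lt _ hx
  obtain ⟨hp', hq', hr'⟩ := triples_lt _ hy
  obtain ⟨hpq, hpr, -⟩ := triples_rowFix _ hx
  simp only at hp hq hr hp' hq' hr' hpq hpr
  obtain ⟨i, hi, hne⟩ := (hG).exists_cor_ne (F := F) hp
  by_contra hc
  push Not at hc
  have hn : ∀ u, u < chevG2.nroots → p ≠ u → chevG2.neg p ≠ chevG2.neg u := fun u hu hne e =>
    hne (by rw [← (hG).neg_neg hp, e, (hG).neg_neg hu])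
  have := congrArg (fun g : GL chevG2.Idx F => (g : Matrix chevG2.Idx chevG2.Idx F) (Sum.inl ⟨i, hi⟩)
    (Sum.inr ⟨chevG2.neg p, (hG).neg_lt hp⟩)) h
  simp only [row_triple hx, row_triple hy, hn q hq hpq.1, hn r hr hpr.1, hn p' hp' hc.1,
    hn q' hq' hc.2.1, hn r' hr' hc.2.2, if_false, if_true, add_zero, mul_eq_zero, ha, hne, or_self] at this

/-- The coordinates in a product along `(2a+b, 3a+b, 3a+2b)` are unique. -/
theorem coord_unique {a b c a' b' c' : F}
    (h : xU chevG2 9 a * xU chevG2 10 b * xU chevG2 11 c =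
      xU chevG2 9 a' * xU chevG2 10 b' * xU chevG2 11 c') : a = a' ∧ b = b' ∧ c = c' := by
  have hx : ((9 : ℕ), (10 : ℕ), (11 : ℕ)) ∈ triples := by decide
  have hlt := nroots_G2
  have key : ∀ u, u = 9 ∨ u = 10 ∨ u = 11 → ∀ (hu : u < chevG2.nroots),
      ∃ i : Fin chevG2.rank, (cor chevG2 u i.val : F) ≠ 0 ∧
        ((if chevG2.neg u = chevG2.neg 9 then a * (cor chevG2 9 i.val : F) else 0) +
        (if chevG2.neg u = chevG2.neg 10 then b * (cor chevG2 10 i.val : F) else 0) +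
        (if chevG2.neg u = chevG2.neg 11 then c * (cor chevG2 11 i.val : F) else 0) =
        (if chevG2.neg u = chevG2.neg 9 then a' * (cor chevG2 9 i.val : F) else 0) +
        (if chevG2.neg u = chevG2.neg 10 then b' * (cor chevG2 10 i.val : F) else 0) +
        (if chevG2.neg u = chevG2.neg 11 then c' * (cor chevG2 11 i.val : F) else 0)) := by
    intro u _ hu
    obtain ⟨i, hi, hne⟩ := (hG).exists_cor_ne (F := F) hu
    refine ⟨⟨i, hi⟩, hne, ?_⟩
    have := congrArg (fun g : GL chevG2.Idx F => (g : Matrix chevG2.Idx chevG2.Idx F) (Sum.inl ⟨i, hi⟩)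
      (Sum.inr ⟨chevG2.neg u, (hG).neg_lt hu⟩)) h
    simpa only [row_triple hx] using this
  have n1 : chevG2.neg 9 ≠ chevG2.neg 10 ∧ chevG2.neg 9 ≠ chevG2.neg 11 ∧ chevG2.neg 10 ≠ chevG2.neg 11 := by
    decide +kernel
  obtain ⟨i, hi, e⟩ := key 9 (Or.inl rfl) (by omega)
  obtain ⟨j, hj, e'⟩ := key 10 (Or.inr (Or.inl rfl)) (by omega)
  obtain ⟨k, hk, e''⟩ := key 11 (Or.inr (Or.inr rfl)) (by omega)
  simp only [n1.1, n1.2.1, n1.1.symm, n1.2.1.symm, n1.2.2, n1.2.2.symm, if_false, if_true, add_zero,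
    zero_add] at e e' e''
  exact ⟨mul_right_cancel₀ hi e, mul_right_cancel₀ hj e', mul_right_cancel₀ hk e''⟩

/-- The roots of the centraliser. -/
def Roots (r : ℕ) : Prop := r = 9 ∨ r = 10 ∨ r = 11 ∨ r = 6 ∨ r = 5

instance : DecidablePred Roots := fun r => by unfold Roots; infer_instance

theorem table_comm : ∀ i < chevG2.nroots, 6 ≤ i → ∀ j < chevG2.nroots, 9 ≤ j →
    j ≠ chevG2.neg i ∧ (i ≠ j → (∀ c ∈ chevG2.commTerms i j, 10 ≤ c.1) ∧
      (∀ c ∈ chevG2.commTerms j i, 10 ≤ c.1) ∧ (11 ≤ j → chevG2.commTerms i j = [] ∧ chevG2.commTerms j i = [])) := by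
  decide +kernel

theorem table_low : ∀ i < chevG2.nroots, 6 ≤ i → ∀ j < chevG2.nroots, 7 ≤ j →
    j ≠ chevG2.neg i ∧ (i ≠ j → ∀ c ∈ chevG2.commTerms i j, 7 ≤ c.1) := by
  decide +kernel

theorem table_nine : ∀ j < chevG2.nroots, Roots j →
    j ≠ chevG2.neg 9 ∧ chevG2.commTerms 9 j = [] := by
  decide +kernel

theorem table_ten : ∀ j < chevG2.nroots, 7 ≤ j → j ≠ chevG2.neg 10 ∧ chevG2.commTerms 10 j = [] := by
  decide +kernel

theorem table_eight_seven : (7 : ℕ) ≠ chevG2.neg 8 ∧ ∀ c ∈ chevG2.commTerms 7 8, 9 ≤ c.1 := by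
  decide +kernel

theorem terms_nine_seven : chevG2.commTerms 9 7 = [(10, -3, 1, 1)] ∧ (7 : ℕ) ≠ chevG2.neg 9 := by
  decide +kernel

theorem terms_nine_eight : chevG2.commTerms 9 8 = [(11, -3, 1, 1)] ∧ (8 : ℕ) ≠ chevG2.neg 9 := by
  decide +kernel

/-- Root elements without commutator terms commute. -/
theorem commute_of_nil {r s : ℕ} (hr : r < chevG2.nroots) (hs : s < chevG2.nroots)
    (hn : s ≠ chevG2.neg r) (h : s ≠ r → chevG2.commTerms r s = []) (t u : F) :
    Commute (xU chevG2 s u) (xU chevG2 r t) := by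
  by_cases he : s = r
  · subst he
    show _ = _
    rw [(hG).xU_add hr, (hG).xU_add hr, add_comm]
  · show _ = _
    rw [(hG).xU_comm DataG2.commF hr hs he hn]
    simp [cwR, h he, wU]

theorem top_ab {x : GL chevG2.Idx F} (hx : x ∈ rootClosure chevG2 F (10 ≤ ·)) :
    ∃ A B : F, x = xU chevG2 10 A * xU chevG2 11 B := by
  have hn := nroots_G2
  have h10 : 10 < chevG2.nroots := by omega
  have h11 : 11 < chevG2.nroots := by omega
  have hc : ∀ A B : F, Commute (xU chevG2 11 B) (xU chevG2 10 A) := fun A B =>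
    commute_of_nil h10 h11 (table_ten 11 h11 (by omega)).1 (fun _ => (table_ten 11 h11 (by omega)).2) A B
  induction hx using Subgroup.closure_induction with
  | mem y hy =>
    obtain ⟨r, t, hr, hp, rfl⟩ := hy
    rcases (by omega : r = 10 ∨ r = 11) with rfl | rfl
    · exact ⟨t, 0, by rw [(hG).xU_zero h11, mul_one]⟩
    · exact ⟨0, t, by rw [(hG).xU_zero h10, one_mul]⟩
  | one => exact ⟨0, 0, by rw [(hG).xU_zero h10, (hG).xU_zero h11, one_mul]⟩
  | mul y z _ _ hy hz =>
    obtain ⟨A, B, rfl⟩ := hy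
    obtain ⟨A', B', rfl⟩ := hz
    refine ⟨A + A', B + B', ?_⟩
    rw [← (hG).xU_add h10, ← (hG).xU_add h11, mul_assoc, ← mul_assoc (xU chevG2 11 B), (hc A' B).eq]
    group
  | inv y _ hy =>
    obtain ⟨A, B, rfl⟩ := hy
    refine ⟨-A, -B, ?_⟩
    rw [mul_inv_rev, (hG).xU_inv h10, (hG).xU_inv h11, (hc (-A) (-B)).eq]

theorem pos_le_normalizer (k : ℕ) (hk : k = 7 ∨ k = 9 ∨ k = 10) :
    rootClosure chevG2 F (6 ≤ ·) ≤
      Subgroup.normalizer (rootClosure chevG2 F (k ≤ ·) : Set (GL chevG2.Idx F)) := by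
  refine (hG).le_normalizer_rootClosure DataG2.commF fun i hi hiq j hj hjp => ?_
  rcases hk with rfl | rfl | rfl
  · exact table_low i hi hiq j hj hjp
  · obtain ⟨h1, h2⟩ := table_comm i hi hiq j hj hjp
    exact ⟨h1, fun hne c hc => le_trans (by norm_num) ((h2 hne).1 c hc)⟩
  · obtain ⟨h1, h2⟩ := table_comm i hi hiq j hj (le_trans (by norm_num) hjp)
    exact ⟨h1, fun hne c hc => (h2 hne).1 c hc⟩

/-- Conjugates of `x_{2a+b}(1)` by positive elements. -/
theorem conj_pos {u : GL chevG2.Idx F} (hu : u ∈ rootClosure chevG2 F (6 ≤ ·)) :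
    (xU chevG2 9 (1 : F))⁻¹ * (u * xU chevG2 9 1 * u⁻¹) ∈ rootClosure chevG2 F (10 ≤ ·) := by
  have hn := nroots_G2
  set T := rootClosure chevG2 F (10 ≤ ·)
  set t := xU chevG2 9 (1 : F) with ht
  have ht' : t ∈ rootClosure chevG2 F (6 ≤ ·) := xU_mem_rootClosure (by omega) (by norm_num) _
  have hN : ∀ v ∈ rootClosure chevG2 F (6 ≤ ·), ∀ x ∈ T, v * x * v⁻¹ ∈ T := fun v hv x hx =>
    (Subgroup.mem_normalizer_iff.1 (pos_le_normalizer 10 (by simp) hv) x).1 hx
  induction hu using Subgroup.closure_induction with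
  | mem y hy =>
    obtain ⟨s, a, hs, hs6, rfl⟩ := hy
    have h9 : 9 < chevG2.nroots := by omega
    by_cases he : s = 9
    · have : xU chevG2 s a * t * (xU chevG2 s a)⁻¹ = t := by
        rw [mul_inv_eq_iff_eq_mul, he, ht, (hG).xU_add h9, (hG).xU_add h9, add_comm]
      rw [this, inv_mul_cancel]; exact Subgroup.one_mem _
    obtain ⟨hneg, hc⟩ := table_comm s hs hs6 9 h9 (by norm_num)
    have hneg' : s ≠ chevG2.neg 9 := fun e => hneg (by rw [e, (hG).neg_neg h9])
    have hc' := (hc he).2.1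
    rw [ht, (hG).xU_comm DataG2.commF h9 hs he hneg', ← ht]
    have : t⁻¹ * (t * xU chevG2 s a * wU chevG2 (cwR chevG2 9 s 1 a) * (xU chevG2 s a)⁻¹) =
        xU chevG2 s a * wU chevG2 (cwR chevG2 9 s 1 a) * (xU chevG2 s a)⁻¹ := by group
    rw [this]
    refine hN _ (xU_mem_rootClosure hs hs6 a) _ (wU_mem fun p hp => ?_)
    obtain ⟨c, hc1, rfl⟩ := List.mem_map.1 hp
    exact xU_mem_rootClosure ((hG).commTerms_wt (hG).isWeight_omega h9 hs hc1).1 (hc' c hc1) _
  | one => simp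
  | mul y z hy' _ hy hz =>
    have e : t⁻¹ * (y * z * t * (y * z)⁻¹) = (t⁻¹ * (y * t * y⁻¹)) * (y * (t⁻¹ * (z * t * z⁻¹)) * y⁻¹) := by
      group
    rw [e]
    exact Subgroup.mul_mem _ hy (hN y hy' _ hz)
  | inv y hy' hy =>
    have e : t⁻¹ * (y⁻¹ * t * y⁻¹⁻¹) = y⁻¹ * (t⁻¹ * (y * t * y⁻¹))⁻¹ * y⁻¹⁻¹ := by group
    rw [e]
    exact hN _ (Subgroup.inv_mem _ hy') _ (Subgroup.inv_mem _ hy)

theorem conj_pos' {u : GL chevG2.Idx F} (hu : u ∈ rootClosure chevG2 F (6 ≤ ·)) :
    ∃ A B : F, u * xU chevG2 9 (1 : F) * u⁻¹ = xU chevG2 9 1 * xU chevG2 10 A * xU chevG2 11 B := by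
  obtain ⟨A, B, h⟩ := top_ab (conj_pos hu)
  exact ⟨A, B, by rw [mul_assoc (xU chevG2 9 (1 : F)), ← h]; group⟩

/-- A positive element is one of the centraliser times `x_a x_{a+b}`. -/
theorem pos_split {u : GL chevG2.Idx F} (hu : u ∈ rootClosure chevG2 F (6 ≤ ·)) :
    ∃ v ∈ rootClosure chevG2 F Roots, ∃ c d : F, u = v * xU chevG2 7 c * xU chevG2 8 d := by
  have hn := nroots_G2
  set C := rootClosure chevG2 F Roots
  set N := rootClosure chevG2 F (9 ≤ ·)
  have hNC : N ≤ C := rootClosure_mono fun r hr hp => by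
    unfold Roots; omega
  have hNn : ∀ v ∈ rootClosure chevG2 F (6 ≤ ·), ∀ x ∈ N, v * x * v⁻¹ ∈ N := fun v hv x hx =>
    (Subgroup.mem_normalizer_iff.1 (pos_le_normalizer 9 (by simp) hv) x).1 hx
  have h7 : 7 < chevG2.nroots := by omega
  have h8 : 8 < chevG2.nroots := by omega
  let K : Subgroup (GL chevG2.Idx F) :=
    { carrier := {x | ∃ v ∈ N, ∃ c d : F, x = v * xU chevG2 7 c * xU chevG2 8 d}
      one_mem' := ⟨1, Subgroup.one_mem _, 0, 0, by rw [(hG).xU_zero h7, (hG).xU_zero h8, one_mul, one_mul]⟩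
      mul_mem' := by
        rintro _ _ ⟨v, hv, c, d, rfl⟩ ⟨w, hw, c', d', rfl⟩
        set W := wU chevG2 (cwR chevG2 7 8 c' d) with hW
        have hWN : W ∈ N := wU_mem fun p hp => by
          obtain ⟨q, hq, rfl⟩ := List.mem_map.1 hp
          exact xU_mem_rootClosure ((hG).commTerms_wt (hG).isWeight_omega h7 h8 hq).1
            (table_eight_seven.2 q hq) _
        have hcomm : xU chevG2 8 d * xU chevG2 7 c' = xU chevG2 7 c' * xU chevG2 8 d * W :=
          (hG).xU_comm DataG2.commF h7 h8 (by norm_num) (fun e => table_eight_seven.1 (by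
            rw [e, (hG).neg_neg h7])) c' d
        set P := xU chevG2 7 c * xU chevG2 8 d
        set Q := xU chevG2 7 (c + c') * xU chevG2 8 d
        have hP : P ∈ rootClosure chevG2 F (6 ≤ ·) :=
          Subgroup.mul_mem _ (xU_mem_rootClosure h7 (by norm_num) _) (xU_mem_rootClosure h8 (by norm_num) _)
        have hQ : Q ∈ rootClosure chevG2 F (6 ≤ ·) :=
          Subgroup.mul_mem _ (xU_mem_rootClosure h7 (by norm_num) _) (xU_mem_rootClosure h8 (by norm_num) _)
        refine ⟨v * (P * w * P⁻¹) * (Q * W * Q⁻¹), Subgroup.mul_mem _ (Subgroup.mul_mem _ hv (hNn P hP w hw))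
          (hNn Q hQ W hWN), c + c', d + d', ?_⟩
        calc v * xU chevG2 7 c * xU chevG2 8 d * (w * xU chevG2 7 c' * xU chevG2 8 d')
            = v * (P * w * P⁻¹) * (xU chevG2 7 c * (xU chevG2 8 d * xU chevG2 7 c') * xU chevG2 8 d') := by
              simp only [P]; group
          _ = v * (P * w * P⁻¹) * ((Q * W * Q⁻¹) * (xU chevG2 7 (c + c') * xU chevG2 8 (d + d'))) := by
              rw [hcomm, ← (hG).xU_add h7, ← (hG).xU_add h8]
              simp only [Q]
              rw [← (hG).xU_add h7]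
              group
          _ = _ := by group
      inv_mem' := by
        rintro _ ⟨v, hv, c, d, rfl⟩
        set W := wU chevG2 (cwR chevG2 7 8 (-c) (-d)) with hW
        have hWN : W ∈ N := wU_mem fun p hp => by
          obtain ⟨q, hq, rfl⟩ := List.mem_map.1 hp
          exact xU_mem_rootClosure ((hG).commTerms_wt (hG).isWeight_omega h7 h8 hq).1
            (table_eight_seven.2 q hq) _
        have hcomm : xU chevG2 8 (-d) * xU chevG2 7 (-c) = xU chevG2 7 (-c) * xU chevG2 8 (-d) * W :=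
          (hG).xU_comm DataG2.commF h7 h8 (by norm_num) (fun e => table_eight_seven.1 (by
            rw [e, (hG).neg_neg h7])) (-c) (-d)
        set Q := xU chevG2 7 (-c) * xU chevG2 8 (-d)
        have hQ : Q ∈ rootClosure chevG2 F (6 ≤ ·) :=
          Subgroup.mul_mem _ (xU_mem_rootClosure h7 (by norm_num) _) (xU_mem_rootClosure h8 (by norm_num) _)
        refine ⟨Q * (W * v⁻¹) * Q⁻¹, hNn Q hQ _ (Subgroup.mul_mem _ hWN (Subgroup.inv_mem _ hv)), -c, -d, ?_⟩
        calc (v * xU chevG2 7 c * xU chevG2 8 d)⁻¹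
            = xU chevG2 8 (-d) * xU chevG2 7 (-c) * v⁻¹ := by
              rw [mul_inv_rev, mul_inv_rev, (hG).xU_inv h7, (hG).xU_inv h8]; group
          _ = _ := by rw [hcomm]; simp only [Q]; group }
  have hK : rootClosure chevG2 F (7 ≤ ·) ≤ K := (Subgroup.closure_le _).2 (by
    rintro x ⟨r, a, hr, hp, rfl⟩
    rcases (by omega : r = 7 ∨ r = 8 ∨ 9 ≤ r) with rfl | rfl | hp'
    · exact ⟨1, Subgroup.one_mem _, a, 0, by rw [(hG).xU_zero h8, one_mul, mul_one]⟩
    · exact ⟨1, Subgroup.one_mem _, 0, a, by rw [(hG).xU_zero h7, one_mul, one_mul]⟩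
    · exact ⟨_, xU_mem_rootClosure hr hp' a, 0, 0, by
        rw [(hG).xU_zero h7, (hG).xU_zero h8, mul_one, mul_one]⟩)
  have hsplit : u ∈ rootClosure chevG2 F (· = 6) ⊔ rootClosure chevG2 F (7 ≤ ·) := by
    rw [← rootClosure_or]
    exact rootClosure_mono (fun r _ h => by omega) hu
  have hle : rootClosure chevG2 F (· = 6) ≤
      Subgroup.normalizer (rootClosure chevG2 F (7 ≤ ·) : Set (GL chevG2.Idx F)) :=
    (rootClosure_mono fun r _ h => by omega).trans (pos_le_normalizer 7 (by simp))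
  rw [← SetLike.mem_coe, Subgroup.coe_mul_of_left_le_normalizer_right _ _ hle] at hsplit
  obtain ⟨x, hx, y, hy, rfl⟩ := hsplit
  obtain ⟨v, hv, c, d, rfl⟩ := hK hy
  exact ⟨x * v, Subgroup.mul_mem _ (rootClosure_mono (fun r _ h => by unfold Roots; omega) hx) (hNC hv), c, d,
    by group⟩

theorem dom9 : DataG2.tab.domB 1 9 0 = true := by decide +kernel

theorem table_simple : chevG2.simple 1 = 6 ∧ chevG2.neg (chevG2.simple 1) = 5 ∧
    chevG2.cartan 0 9 = 1 ∧ chevG2.cartan 1 9 = 0 := by decide +kernel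

theorem table_refl_one : ∀ r < chevG2.nroots, 6 ≤ r → r ≠ 6 → 6 ≤ chevG2.reflectRoot 1 r := by
  decide +kernel

/-- The centraliser of `x_{2a+b}(1)` in characteristic two. -/
theorem centralizer_nine (h2 : (2 : F) = 0) :
    chevG2.group F ⊓ Subgroup.centralizer {xU chevG2 9 (1 : F)} = rootClosure chevG2 F Roots := by
  have hn := nroots_G2
  have h9 : 9 < chevG2.nroots := by omega
  have h10 : 10 < chevG2.nroots := by omega
  have h11 : 11 < chevG2.nroots := by omega
  have hhalf : chevG2.nroots / 2 = 6 := by omega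
  set C := rootClosure chevG2 F Roots with hC
  set t := xU chevG2 9 (1 : F) with ht
  have hle : C ≤ Subgroup.centralizer {t} := (Subgroup.closure_le _).2 (by
    rintro x ⟨s, a, hs, hP, rfl⟩
    rw [SetLike.mem_coe, Subgroup.mem_centralizer_singleton_iff]
    exact commute_of_nil h9 hs (table_nine s hs hP).1 (fun _ => (table_nine s hs hP).2) 1 a)
  refine le_antisymm ?_ (le_inf ?_ hle)
  swap
  · rw [(hG).group_eq]; exact rootClosure_mono fun _ _ _ => trivial
  rintro g ⟨hg, hgt⟩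
  obtain ⟨b, hb, n, hnm, τ, hτ, u, hu, rfl⟩ := (hG).bruhat_exists DataG2.commF hg
  obtain ⟨u1, hu1, h, hh, rfl⟩ := (hG).mem_borel_iff.1 hb
  have hu' : u ∈ rootClosure chevG2 F (6 ≤ ·) := rootClosure_mono (fun r _ h => hhalf ▸ h.2.1) hu
  have hu1' : u1 ∈ rootClosure chevG2 F (6 ≤ ·) := rootClosure_mono (fun r _ h => hhalf ▸ h) hu1
  obtain ⟨A, B, hA⟩ := conj_pos' hu'
  obtain ⟨A', B', hA'⟩ := conj_pos' (Subgroup.inv_mem _ hu1')
  obtain ⟨l, k, hk, hlk⟩ := (hG).exists_nW hnm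
  have hτl : τ = sW chevG2 l := by
    have := (hG).permAct_mul ((hG).permAct_nW (F := F) l) ((hG).permAct_diagonal hk)
    rw [mul_one, ← hlk] at this
    exact (hG).permAct_unique hτ this
  subst hτl
  obtain ⟨c1, hc1, e1, -⟩ := hτ ⟨9, h9⟩
  obtain ⟨c2, -, e2, -⟩ := hτ ⟨10, h10⟩
  obtain ⟨c3, -, e3, -⟩ := hτ ⟨11, h11⟩
  obtain ⟨cc, hcc⟩ := (hG).mem_diagonal_iff.1 (Subgroup.inv_mem _ hh)
  have hgt' : u1 * h * n * u * t * (u1 * h * n * u)⁻¹ = t :=
    mul_inv_eq_iff_eq_mul.2 (Subgroup.mem_centralizer_singleton_iff.1 hgt)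
  have hmain : n * (u * t * u⁻¹) * n⁻¹ = h⁻¹ * (u1⁻¹ * t * u1⁻¹⁻¹) * h⁻¹⁻¹ := by
    calc _ = h⁻¹ * u1⁻¹ * (u1 * h * n * u * t * (u1 * h * n * u)⁻¹) * u1 * h := by group
      _ = _ := by rw [hgt']; group
  rw [hA, hA', hcc] at hmain
  have e4 : n * (xU chevG2 9 1 * xU chevG2 10 A * xU chevG2 11 B) * n⁻¹ =
      n * xU chevG2 9 1 * n⁻¹ * (n * xU chevG2 10 A * n⁻¹) * (n * xU chevG2 11 B * n⁻¹) := by group
  have e5 : ∀ d : GL chevG2.Idx F, d * (xU chevG2 9 1 * xU chevG2 10 A' * xU chevG2 11 B') * d⁻¹ =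
      d * xU chevG2 9 1 * d⁻¹ * (d * xU chevG2 10 A' * d⁻¹) * (d * xU chevG2 11 B' * d⁻¹) := fun d => by
    group
  have f1 : n * xU chevG2 9 1 * n⁻¹ = xU chevG2 (sW chevG2 l ⟨9, h9⟩).val (c1 * 1) := e1 1
  have f2 : n * xU chevG2 10 A * n⁻¹ = xU chevG2 (sW chevG2 l ⟨10, h10⟩).val (c2 * A) := e2 A
  have f3 : n * xU chevG2 11 B * n⁻¹ = xU chevG2 (sW chevG2 l ⟨11, h11⟩).val (c3 * B) := e3 B
  rw [e4, e5, f1, f2, f3, (hG).hT_conj_xU cc h9, (hG).hT_conj_xU cc h10, (hG).hT_conj_xU cc h11] at hmain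
  have hx := triple_sW l h9 h10 h11
  have hσ9 : (sW chevG2 l ⟨9, h9⟩).val = 9 :=
    triples_head _ hx (head_mem hx (by decide) (mul_ne_zero hc1 one_ne_zero) hmain)
  have hD := RootCentralizer.domCert_of_domB DataG2.chk_arrays DataG2.chk_chain DataG2.facts dom9
  obtain ⟨m, hm, hml⟩ := RootCentralizer.exists_word_stab DataG2.facts hD _ l rfl (Fin.ext hσ9)
  have hm1 : ∀ i ∈ m, i.val = 1 := fun i hi => by
    have h1 := hm i hi
    have h2 : i.val < 2 := rank_G2 ▸ i.isLt
    omega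
  obtain ⟨hs1, hs1', hc09, hc19⟩ := table_simple
  have hwC : nW chevG2 F m ∈ C := by
    refine Subgroup.list_prod_mem _ fun x hx => ?_
    obtain ⟨j, hj, rfl⟩ := List.mem_map.1 hx
    refine (hG).nU_mem (fun a => ?_) (fun a => ?_) 1
    · rw [hm1 j hj, hs1]; exact xU_mem_rootClosure (by omega) (by unfold Roots; omega) a
    · rw [hm1 j hj, hs1']; exact xU_mem_rootClosure (by omega) (by unfold Roots; omega) a
  have hflip : ∀ q : List (Fin chevG2.rank), (∀ i ∈ q, i.val = 1) →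
      sW chevG2 q = 1 ∨ ∃ i : Fin chevG2.rank, i.val = 1 ∧ sW chevG2 q = sP chevG2 i := by
    intro q hq
    induction q with
    | nil => exact Or.inl rfl
    | cons j q ih =>
      rw [sW_cons]
      rcases ih (fun i hi => hq i (List.mem_cons_of_mem _ hi)) with e | ⟨i, hi, e⟩
      · exact Or.inr ⟨j, hq j (List.mem_cons_self ..), by rw [e, mul_one]⟩
      · left
        obtain rfl : j = i := Fin.ext ((hq j (List.mem_cons_self ..)).trans hi.symm)
        rw [e, (hG).sP_sq j]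
  have huC : u ∈ C := by
    refine rootClosure_mono (fun r hr hP => ?_) hu
    obtain ⟨hr', hp, hneg⟩ := hP
    rw [hhalf] at hp hneg
    rw [← hml] at hneg
    rcases hflip m hm1 with e | ⟨i, hi, e⟩
    · rw [e] at hneg
      exact absurd hneg (not_lt.2 hp)
    · rw [e, (hG).sP_val, hi] at hneg
      by_cases h6 : r = 6
      · unfold Roots; omega
      · exact absurd hneg (not_lt.2 (table_refl_one r hr hp h6))
  -- reduce to the Borel subgroup
  set d := n * (nW chevG2 F m)⁻¹ with hd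
  have hdm : d ∈ chevG2.diagonalSubgroup F := by
    refine (hG).mem_diagonal_of_permAct (Subgroup.mul_mem _ hnm (Subgroup.inv_mem _ ((hG).nW_mem m))) ?_
    have := (hG).permAct_mul hτ ((hG).permAct_inv ((hG).nW_mem m) ((hG).permAct_nW (F := F) m))
    rwa [hml, mul_inv_cancel] at this
  obtain ⟨v, hv, c, e, rfl⟩ := pos_split hu1'
  suffices hy : xU chevG2 7 c * xU chevG2 8 e * (h * d) ∈ C by
    have := Subgroup.mul_mem _ (Subgroup.mul_mem _ (Subgroup.mul_mem _ hv hy) hwC) huC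
    rw [hd] at this
    rwa [show v * (xU chevG2 7 c * xU chevG2 8 e * (h * (n * (nW chevG2 F m)⁻¹))) * nW chevG2 F m * u =
      v * xU chevG2 7 c * xU chevG2 8 e * h * n * u by group] at this
  have hyt : xU chevG2 7 c * xU chevG2 8 e * (h * d) ∈ Subgroup.centralizer {t} := by
    have := Subgroup.mul_mem _ (Subgroup.mul_mem _ (Subgroup.inv_mem _ (hle hv)) hgt)
      (Subgroup.inv_mem _ (Subgroup.mul_mem _ (hle hwC) (hle huC)))
    rw [hd]
    rwa [show v⁻¹ * (v * xU chevG2 7 c * xU chevG2 8 e * h * n * u) * (nW chevG2 F m * u)⁻¹ =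
      xU chevG2 7 c * xU chevG2 8 e * (h * (n * (nW chevG2 F m)⁻¹)) by group] at this
  obtain ⟨kk, hkk⟩ := (hG).mem_diagonal_iff.1 (Subgroup.mul_mem _ hh hdm)
  rw [hkk] at hyt ⊢
  have hy' : xU chevG2 7 c * xU chevG2 8 e * hT chevG2 kk * t *
      (xU chevG2 7 c * xU chevG2 8 e * hT chevG2 kk)⁻¹ = t :=
    mul_inv_eq_iff_eq_mul.2 (Subgroup.mem_centralizer_singleton_iff.1 hyt)
  set p := ((∏ i ∈ Finset.range chevG2.rank, kk i ^ chevG2.cartan i 9 : Fˣ) : F) with hp
  have h7 : 7 < chevG2.nroots := by omega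
  have h8 : 8 < chevG2.nroots := by omega
  have w8 : ∀ a b : F, xU chevG2 8 a * xU chevG2 9 b = xU chevG2 9 b * xU chevG2 8 a * xU chevG2 11 (3 * (b * a)) := by
    intro a b
    rw [(hG).xU_comm DataG2.commF h9 h8 (by norm_num) terms_nine_eight.2]
    congr 1
    simp only [cwR, wU, terms_nine_eight.1, List.map_cons, List.map_nil, List.prod_cons, List.prod_nil,
      mul_one, pow_one]
    congr 1
    push_cast
    ring
  have w7 : ∀ a b : F, xU chevG2 7 a * xU chevG2 9 b = xU chevG2 9 b * xU chevG2 7 a * xU chevG2 10 (3 * (b * a)) := by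
    intro a b
    rw [(hG).xU_comm DataG2.commF h9 h7 (by norm_num) terms_nine_seven.2]
    congr 1
    simp only [cwR, wU, terms_nine_seven.1, List.map_cons, List.map_nil, List.prod_cons, List.prod_nil,
      mul_one, pow_one]
    congr 1
    push_cast
    ring
  have c8 : ∀ a b : F, Commute (xU chevG2 8 a) (xU chevG2 11 b) := fun a b =>
    commute_of_nil h11 h8 (fun e => (table_comm 8 h8 (by norm_num) 11 h11 (by norm_num)).1 (by
      rw [e, (hG).neg_neg h11])) (fun _ => ((table_comm 8 h8 (by norm_num) 11 h11 (by norm_num)).2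
      (by norm_num)).2.2 le_rfl |>.2) b a
  have c7 : ∀ a b : F, Commute (xU chevG2 7 a) (xU chevG2 11 b) := fun a b =>
    commute_of_nil h11 h7 (fun e => (table_comm 7 h7 (by norm_num) 11 h11 (by norm_num)).1 (by
      rw [e, (hG).neg_neg h11])) (fun _ => ((table_comm 7 h7 (by norm_num) 11 h11 (by norm_num)).2
      (by norm_num)).2.2 le_rfl |>.2) b a
  have c7' : ∀ a b : F, Commute (xU chevG2 7 a) (xU chevG2 10 b) := fun a b =>
    commute_of_nil h10 h7 (table_ten 7 h7 le_rfl).1 (fun _ => (table_ten 7 h7 le_rfl).2) b a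
  have hconj : xU chevG2 7 c * xU chevG2 8 e * hT chevG2 kk * t *
      (xU chevG2 7 c * xU chevG2 8 e * hT chevG2 kk)⁻¹ =
      xU chevG2 9 p * xU chevG2 10 (3 * (p * c)) * xU chevG2 11 (3 * (p * e)) := by
    calc _ = xU chevG2 7 c * (xU chevG2 8 e * (hT chevG2 kk * t * (hT chevG2 kk)⁻¹)) *
          (xU chevG2 8 e)⁻¹ * (xU chevG2 7 c)⁻¹ := by group
      _ = xU chevG2 7 c * (xU chevG2 9 p * xU chevG2 8 e * xU chevG2 11 (3 * (p * e))) *
          (xU chevG2 8 e)⁻¹ * (xU chevG2 7 c)⁻¹ := by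
          rw [ht, (hG).hT_conj_xU kk h9, mul_one, ← hp, w8]
      _ = xU chevG2 7 c * xU chevG2 9 p * xU chevG2 11 (3 * (p * e)) * (xU chevG2 7 c)⁻¹ := by
          rw [mul_assoc (xU chevG2 9 p) (xU chevG2 8 e), (c8 e _).eq]; group
      _ = xU chevG2 9 p * xU chevG2 10 (3 * (p * c)) * xU chevG2 11 (3 * (p * e)) := by
          rw [w7, mul_assoc (xU chevG2 9 p) (xU chevG2 7 c), (c7' c _).eq,
            mul_assoc _ (xU chevG2 11 (3 * (p * e))), ← ((c7 c _).inv_left).eq]
          group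
  rw [hconj] at hy'
  have ht3 : t = xU chevG2 9 (1 : F) * xU chevG2 10 0 * xU chevG2 11 0 := by
    rw [(hG).xU_zero h10, (hG).xU_zero h11, mul_one, mul_one]
  rw [ht3] at hy'
  obtain ⟨q1, q2, q3⟩ := coord_unique hy'
  have h3 : (3 : F) = 1 := by linear_combination h2
  rw [h3, one_mul, q1, one_mul] at q2 q3
  subst q2 q3
  rw [(hG).xU_zero h7, (hG).xU_zero h8, one_mul, one_mul, (hG).hT_eq_list]
  have hk0 : kk 0 = 1 := by
    refine Units.ext ?_
    rw [Units.val_one, ← q1, hp, rank_G2, Finset.prod_range_succ, Finset.prod_range_one, hc09, hc19]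
    simp
  refine Subgroup.list_prod_mem _ fun x hx => ?_
  obtain ⟨j, hj, rfl⟩ := List.mem_map.1 hx
  rw [List.mem_range, rank_G2] at hj
  have hpj := (hG).simple_lt' (i := j) (rank_G2.symm ▸ hj)
  rcases (by omega : j = 0 ∨ j = 1) with rfl | rfl
  · rw [hk0, Units.val_one, CfsgLib.Chev.hU, ← (hG).nU_inv hpj, mul_inv_cancel]
    exact Subgroup.one_mem _
  · have hn' : ∀ a : F, nU chevG2 (chevG2.simple 1) a ∈ C := fun a => by
      refine (hG).nU_mem (fun z => ?_) (fun z => ?_) a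
      · rw [hs1]; exact xU_mem_rootClosure (by omega) (by unfold Roots; omega) z
      · rw [hs1']; exact xU_mem_rootClosure (by omega) (by unfold Roots; omega) z
    exact Subgroup.mul_mem _ (hn' _) (hn' _)

end CfsgLib.Chev.G2Centralizer
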