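import Cfsg.Agent.Lib.Chev.All
import Cfsg.Agent.Lib.Chev.Twist.Words
import Cfsg.Agent.Lib.Known.ChevG2Centralizer
import Cfsg.Agent.Lib.Known.ChevFieldInvolution

/-!
# The classes of involutions of G₂ in characteristic two

Every involution is conjugate to a long root element or to a short one, by a reduction in the
maximal unipotent subgroup.
-/

set_option autoImplicit false
set_option maxRecDepth 20000
set_option linter.unusedSectionVars false
set_option synthInstance.maxSize 4000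

namespace CfsgLib.Chev.G2Invol

open Cfsg.Lie

universe v

variable {F : Type v} [Field F]

/-- The root elements of G₂. -/
local notation "X" => xU chevG2 (F := F)

theorem hC : CommF.{v} chevG2 := DataG2.commF

theorem n12 : chevG2.nroots = 12 := by decide +kernel

theorem lt12 {r : ℕ} (h : r < 12 := by norm_num) : r < chevG2.nroots := n12.symm ▸ h

theorem tabs :
    chevG2.commTerms 6 7 = [(8, 1, 1, 1), (9, 1, 1, 2), (10, -1, 1, 3), (11, -2, 2, 3)] ∧
    chevG2.commTerms 7 8 = [(9, -2, 1, 1), (10, -3, 2, 1), (11, 3, 1, 2)] ∧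
    chevG2.commTerms 7 9 = [(10, 3, 1, 1)] ∧
    chevG2.commTerms 8 9 = [(11, 3, 1, 1)] ∧
    chevG2.commTerms 6 10 = [(11, 1, 1, 1)] ∧
    chevG2.commTerms 4 9 = [(8, -2, 1, 1), (6, 3, 2, 1), (11, -3, 1, 2)] ∧
    (∀ p ∈ [(6, 7), (7, 8), (7, 9), (8, 9), (6, 10), (4, 9)],
      p.2 ≠ p.1 ∧ p.2 ≠ chevG2.neg p.1) ∧
    (∀ p ∈ [(6, 8), (6, 9), (6, 11), (7, 10), (7, 11), (8, 10), (8, 11), (9, 10), (9, 11),
      (10, 11), (4, 6)], p.2 ≠ chevG2.neg p.1 ∧ chevG2.commTerms p.1 p.2 = []) := by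
  decide +kernel

theorem swap_nil {r s : ℕ} (h : (r, s) ∈ [(6, 8), (6, 9), (6, 11), (7, 10), (7, 11), (8, 10),
    (8, 11), (9, 10), (9, 11), (10, 11), (4, 6)]) (hr : r < 12) (hs : s < 12) (t u : F) :
    xU chevG2 s u * xU chevG2 r t = xU chevG2 r t * xU chevG2 s u :=
  G2Centralizer.commute_of_nil (lt12 hr) (lt12 hs) (tabs.2.2.2.2.2.2.2 _ h).1
    (fun _ => (tabs.2.2.2.2.2.2.2 _ h).2) t u

variable [CharP F 2]

theorem c76 (t u : F) : X 7 u * X 6 t =
    X 6 t * X 7 u * (X 8 (t * u) * (X 9 (t * u ^ 2) * X 10 (t * u ^ 3))) := by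
  obtain ⟨h, -, -, -, -, -, hne, -⟩ := tabs
  rw [DataG2.facts.xU_comm hC (lt12) (lt12) (hne (6, 7) (by simp)).1 (hne (6, 7) (by simp)).2]
  simp [cwR, h, wU, CharTwo.neg_eq, CharTwo.two_eq_zero, DataG2.facts.xU_zero (lt12 (r := 11))]

theorem c87 (t u : F) : X 8 u * X 7 t =
    X 7 t * X 8 u * (X 10 (t ^ 2 * u) * X 11 (t * u ^ 2)) := by
  obtain ⟨-, h, -, -, -, -, hne, -⟩ := tabs
  have h3 : (3 : F) = 1 := by linear_combination (CharTwo.two_eq_zero (R := F))
  rw [DataG2.facts.xU_comm hC (lt12) (lt12) (hne (7, 8) (by simp)).1 (hne (7, 8) (by simp)).2]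
  simp [cwR, h, wU, CharTwo.neg_eq, CharTwo.two_eq_zero, h3, DataG2.facts.xU_zero (lt12 (r := 9))]

theorem c97 (t u : F) : X 9 u * X 7 t = X 7 t * X 9 u * X 10 (t * u) := by
  obtain ⟨-, -, h, -, -, -, hne, -⟩ := tabs
  have h3 : (3 : F) = 1 := by linear_combination (CharTwo.two_eq_zero (R := F))
  rw [DataG2.facts.xU_comm hC (lt12) (lt12) (hne (7, 9) (by simp)).1 (hne (7, 9) (by simp)).2]
  simp [cwR, h, wU, CharTwo.neg_eq, h3]

theorem c98 (t u : F) : X 9 u * X 8 t = X 8 t * X 9 u * X 11 (t * u) := by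
  obtain ⟨-, -, -, h, -, -, hne, -⟩ := tabs
  have h3 : (3 : F) = 1 := by linear_combination (CharTwo.two_eq_zero (R := F))
  rw [DataG2.facts.xU_comm hC (lt12) (lt12) (hne (8, 9) (by simp)).1 (hne (8, 9) (by simp)).2]
  simp [cwR, h, wU, CharTwo.neg_eq, h3]

theorem c106 (t u : F) : X 10 u * X 6 t = X 6 t * X 10 u * X 11 (t * u) := by
  obtain ⟨-, -, -, -, h, -, hne, -⟩ := tabs
  rw [DataG2.facts.xU_comm hC (lt12) (lt12) (hne (6, 10) (by simp)).1 (hne (6, 10) (by simp)).2]
  simp [cwR, h, wU, CharTwo.neg_eq]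

theorem c94 (t u : F) : X 9 u * X 4 t = X 4 t * X 9 u * (X 6 (t ^ 2 * u) * X 11 (t * u ^ 2)) := by
  obtain ⟨-, -, -, -, -, h, hne, -⟩ := tabs
  have h3 : (3 : F) = 1 := by linear_combination (CharTwo.two_eq_zero (R := F))
  rw [DataG2.facts.xU_comm hC (lt12) (lt12) (hne (4, 9) (by simp)).1 (hne (4, 9) (by simp)).2]
  simp [cwR, h, wU, CharTwo.neg_eq, CharTwo.two_eq_zero, h3, DataG2.facts.xU_zero (lt12 (r := 8))]

theorem push {r s : ℕ} {t u : F} {W : GL chevG2.Idx F}
    (h : X s u * X r t = X r t * X s u * W) (Z : GL chevG2.Idx F) :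
    X s u * (X r t * Z) = X r t * (X s u * (W * Z)) := by
  rw [← mul_assoc, h, mul_assoc, mul_assoc]

/-- The ordered product in the maximal unipotent subgroup. -/
noncomputable def el (a b c d e f : F) : GL chevG2.Idx F :=
  xU chevG2 6 a * (xU chevG2 7 b * (xU chevG2 8 c * (xU chevG2 9 d *
    (xU chevG2 10 e * xU chevG2 11 f))))

theorem push_nil {r s : ℕ} (h : (r, s) ∈ [(6, 8), (6, 9), (6, 11), (7, 10), (7, 11), (8, 10),
    (8, 11), (9, 10), (9, 11), (10, 11), (4, 6)]) (hr : r < 12) (hs : s < 12) (t u : F)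
    (Z : GL chevG2.Idx F) : X s u * (X r t * Z) = X r t * (X s u * Z) := by
  rw [← mul_assoc, swap_nil h hr hs, mul_assoc]

theorem merge {r : ℕ} (hr : r < 12) (a b : F) (Z : GL chevG2.Idx F) :
    X r a * (X r b * Z) = X r (a + b) * Z := by
  rw [← mul_assoc, DataG2.facts.xU_add (lt12 hr)]

theorem el_mul (a b c d e f a' b' c' d' e' f' : F) :
    el a b c d e f * el a' b' c' d' e' f' =
      el (a + a') (b + b') (c + c' + b * a') (d + d' + b ^ 2 * a')
        (e + e' + b ^ 3 * a' + c * b' ^ 2 + d * b' + b * a' * b' ^ 2 + b ^ 2 * a' * b')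
        (f + f' + e * a' + b' * c ^ 2 + b' * (b * a') ^ 2 + d * c' + b ^ 2 * a' * (c + c')) := by
  simp only [el, mul_assoc]
  -- move `x_6(a')` to the front
  rw [push_nil (r := 6) (s := 11) (by simp) (by norm_num) (by norm_num)]
  rw [push (c106 _ _)]
  rw [push_nil (r := 6) (s := 9) (by simp) (by norm_num) (by norm_num)]
  rw [push_nil (r := 6) (s := 8) (by simp) (by norm_num) (by norm_num)]
  rw [push (c76 _ _), merge (r := 6) (by norm_num)]
  -- collect
  simp only [mul_assoc, push_nil (r := 8) (s := 11) (by simp) (by norm_num) (by norm_num),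
    push_nil (r := 8) (s := 10) (by simp) (by norm_num) (by norm_num),
    push_nil (r := 7) (s := 11) (by simp) (by norm_num) (by norm_num),
    push_nil (r := 7) (s := 10) (by simp) (by norm_num) (by norm_num),
    push_nil (r := 9) (s := 11) (by simp) (by norm_num) (by norm_num),
    push_nil (r := 9) (s := 10) (by simp) (by norm_num) (by norm_num),
    push_nil (r := 10) (s := 11) (by simp) (by norm_num) (by norm_num),
    push (c98 _ _), push (c97 _ _), push (c87 _ _),
    merge (r := 7) (by norm_num), merge (r := 8) (by norm_num), merge (r := 9) (by norm_num),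
    merge (r := 10) (by norm_num), merge (r := 11) (by norm_num),
    DataG2.facts.xU_add (lt12 (r := 11))]
  congr 1
  refine congr_arg₂ _ rfl (congr_arg₂ _ (congrArg _ ?_) (congr_arg₂ _ (congrArg _ ?_)
    (congr_arg₂ _ (congrArg _ ?_) (congrArg _ ?_))))
  all_goals ring

theorem el_inj [Finite F] {a b c d e f a' b' c' d' e' f' : F}
    (h : el a b c d e f = el a' b' c' d' e' f') :
    a = a' ∧ b = b' ∧ c = c' ∧ d = d' ∧ e = e' ∧ f = f' := by
  have := DataG2.facts.coords_unique hC (L := [6, 7, 8, 9, 10, 11])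
    (ts := [a, b, c, d, e, f]) (ts' := [a', b', c', d', e', f']) (by decide +kernel) rfl rfl
    (by simpa [wU, el] using h)
  simpa using this

omit [CharP F 2] in
theorem exists_el {g : GL chevG2.Idx F} (hg : g ∈ chevG2.posUnipotent F) :
    ∃ a b c d e f : F, g = el a b c d e f := by
  rw [DataG2.facts.posUnipotent_eq] at hg
  obtain ⟨ts, hts, rfl⟩ := DataG2.facts.exists_coords hC (L := [6, 7, 8, 9, 10, 11])
    (by decide +kernel) g (rootClosure_mono (fun r hr h => by
      have := n12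
      simp only [List.mem_cons, List.not_mem_nil, or_false]; omega) hg)
  match ts, hts with
  | [a, b, c, d, e, f], _ => exact ⟨a, b, c, d, e, f, by simp [wU, el]⟩

omit [CharP F 2] in
theorem el_mem (a b c d e f : F) : el a b c d e f ∈ chevG2.group F := by
  have h : ∀ {r : ℕ}, r < 12 → ∀ t : F, xU chevG2 r t ∈ chevG2.group F := fun hr t =>
    DataG2.facts.xU_mem_group (lt12 hr) t
  exact mul_mem (h (by norm_num) a) (mul_mem (h (by norm_num) b) (mul_mem (h (by norm_num) c)
    (mul_mem (h (by norm_num) d) (mul_mem (h (by norm_num) e) (h (by norm_num) f)))))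

omit [CharP F 2] in
theorem el_zero : el (0 : F) 0 0 0 0 0 = 1 := by
  simp [el, DataG2.facts.xU_zero (lt12 (r := 6)), DataG2.facts.xU_zero (lt12 (r := 7)),
    DataG2.facts.xU_zero (lt12 (r := 8)), DataG2.facts.xU_zero (lt12 (r := 9)),
    DataG2.facts.xU_zero (lt12 (r := 10)), DataG2.facts.xU_zero (lt12 (r := 11))]

/-! ### The reduction -/

variable [Finite F]

omit [CharP F 2] [Finite F] in
theorem nU_mem {r : ℕ} (hr : r < chevG2.nroots) (t : F) : nU chevG2 r t ∈ chevG2.group F :=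
  DataG2.facts.nU_mem (fun a => DataG2.facts.xU_mem_group hr a)
    (fun a => DataG2.facts.xU_mem_group (DataG2.facts.neg_lt hr) a) t

omit [CharP F 2] [Finite F] in
theorem singles (t : F) : X 6 t = el t 0 0 0 0 0 ∧ X 7 t = el 0 t 0 0 0 0 ∧
    X 8 t = el 0 0 t 0 0 0 ∧ X 9 t = el 0 0 0 t 0 0 ∧ X 10 t = el 0 0 0 0 t 0 ∧
    X 11 t = el 0 0 0 0 0 t := by
  simp [el, DataG2.facts.xU_zero (lt12 (r := 6)), DataG2.facts.xU_zero (lt12 (r := 7)),
    DataG2.facts.xU_zero (lt12 (r := 8)), DataG2.facts.xU_zero (lt12 (r := 9)),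
    DataG2.facts.xU_zero (lt12 (r := 10)), DataG2.facts.xU_zero (lt12 (r := 11))]

theorem conj6 (k a b c d e f : F) : X 6 k * el a b c d e f * X 6 k =
    el a b (c + b * k) (d + b ^ 2 * k) (e + b ^ 3 * k) (f + e * k + b ^ 2 * k * c) := by
  have two : ∀ x : F, x + x = 0 := CharTwo.add_self_eq_zero
  rw [(singles k).1, el_mul, el_mul]
  simp only [zero_mul, mul_zero, add_zero, zero_add, zero_pow two_ne_zero, zero_pow three_ne_zero]
  congr 1
  linear_combination two k

theorem conj7 (k a c d e f : F) : X 7 k * el a 0 c d e f * X 7 k =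
    el a 0 (c + k * a) (d + k ^ 2 * a) (e + k ^ 3 * a + c * k ^ 2 + d * k)
      (f + k ^ 2 * a * c + k * (c + k * a) ^ 2) := by
  have two : ∀ x : F, x + x = 0 := CharTwo.add_self_eq_zero
  rw [(singles k).2.1, el_mul, el_mul]
  simp only [zero_mul, mul_zero, add_zero, zero_add, zero_pow two_ne_zero, zero_pow three_ne_zero]
  congr 1
  · linear_combination two k
  · linear_combination two (k ^ 3 * a)

theorem conj8 (k c d e f : F) : X 8 k * el 0 0 c d e f * X 8 k = el 0 0 c d e (f + d * k) := by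
  have two : ∀ x : F, x + x = 0 := CharTwo.add_self_eq_zero
  rw [(singles k).2.2.1, el_mul, el_mul]
  simp only [zero_mul, mul_zero, add_zero, zero_add, zero_pow two_ne_zero, zero_pow three_ne_zero]
  congr 1
  linear_combination two k

theorem conj10 (k a b c d e f : F) : X 10 k * el a b c d e f * X 10 k = el a b c d e (f + k * a) := by
  have two : ∀ x : F, x + x = 0 := CharTwo.add_self_eq_zero
  rw [(singles k).2.2.2.2.1, el_mul, el_mul]
  simp only [zero_mul, mul_zero, add_zero, zero_add, zero_pow two_ne_zero, zero_pow three_ne_zero]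
  congr 1 <;> linear_combination two k

/-- Conjugate to one of the two representatives. -/
def Good (g : GL chevG2.Idx F) : Prop :=
  ∃ h ∈ chevG2.group F, h * g * h⁻¹ = xU chevG2 11 (1 : F) ∨ h * g * h⁻¹ = xU chevG2 9 (1 : F)

theorem Good.conj {g k : GL chevG2.Idx F} (hk : k ∈ chevG2.group F)
    (h : Good (k * g * k⁻¹)) : Good g := by
  obtain ⟨x, hx, e⟩ := h
  refine ⟨x * k, mul_mem hx hk, ?_⟩
  rwa [show x * k * g * (x * k)⁻¹ = x * (k * g * k⁻¹) * x⁻¹ by group]

theorem exists_sqrt (x : F) : ∃ y : F, y ^ 2 = x := by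
  haveI := Fact.mk Nat.prime_two
  exact Finite.surjective_of_injective (frobenius F 2).injective x

/-- Root elements of the two representatives' roots. -/
theorem good_scale {r : ℕ} (hr : r = 11 ∨ r = 9) {t : F} (ht : t ≠ 0) : Good (X r t) := by
  obtain ⟨y, hy⟩ := exists_sqrt t⁻¹
  have hy0 : y ≠ 0 := fun e => by simp [e, eq_comm, ht] at hy
  have hlt : r < chevG2.nroots := lt12 (by omega)
  have h2 : prE chevG2 r r = 2 := by rcases hr with rfl | rfl <;> decide +kernel
  refine ⟨hU chevG2 r ((Units.mk0 y hy0 : Fˣ) : F), ?_, ?_⟩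
  · exact mul_mem (nU_mem hlt _) (nU_mem hlt _)
  rw [DataG2.facts.hU_conj_xU hlt hlt, h2]
  have e : (((Units.mk0 y hy0 : Fˣ) ^ (2 : ℤ) : Fˣ) : F) * t = 1 := by
    rw [zpow_two, Units.val_mul, Units.val_mk0, ← sq, hy, inv_mul_cancel₀ ht]
  rw [e]
  rcases hr with rfl | rfl
  exacts [Or.inl rfl, Or.inr rfl]

theorem inv_self {r : ℕ} (hr : r < 12) (k : F) : (X r k)⁻¹ = X r k := by
  rw [DataG2.facts.xU_inv (lt12 hr), CharTwo.neg_eq]

theorem Good.conjX {g : GL chevG2.Idx F} {r : ℕ} (hr : r < 12) (k : F)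
    (h : Good (X r k * g * X r k)) : Good g :=
  Good.conj (DataG2.facts.xU_mem_group (lt12 hr) k) (by rwa [inv_self hr])

omit [CharP F 2] [Finite F] in
theorem refl_tables :
    chevG2.reflectRoot 1 7 = 8 ∧ chevG2.reflectRoot 1 10 = 11 ∧ chevG2.reflectRoot 1 11 = 10 ∧
    chevG2.reflectRoot 0 8 = 9 ∧ chevG2.reflectRoot 0 10 = 6 ∧ chevG2.reflectRoot 0 11 = 11 ∧
    chevG2.reflectRoot 0 6 = 10 := by
  decide +kernel

/-- Conjugation by a simple reflection element. -/
theorem exists_refl {i : ℕ} (hi : i < 2) : ∃ n ∈ chevG2.group F, ∀ s < 12, ∀ t : F,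
    n * X s t * n⁻¹ = X (chevG2.reflectRoot i s) t := by
  have hir : i < chevG2.rank := G2Centralizer.rank_G2.symm ▸ hi
  obtain ⟨η, h1, -, h3⟩ := DataG2.facts.exists_eta (F := F) hir
  refine ⟨nU chevG2 (chevG2.simple i) (1 : F),
    nU_mem (DataG2.facts.simple_lt' hir) _, fun s hs t => ?_⟩
  rw [h3 s (lt12 hs), mul_inv_cancel_right]
  rcases h1 s (lt12 hs) with e | e <;> simp [e, CharTwo.neg_eq]

theorem good_ten {t : F} (ht : t ≠ 0) : Good (X 10 t) := by
  obtain ⟨n, hn, hnx⟩ := exists_refl (F := F) (i := 1) (by norm_num)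
  refine Good.conj hn ?_
  rw [hnx 10 (by norm_num), refl_tables.2.1]
  exact good_scale (Or.inl rfl) ht

theorem good_six {t : F} (ht : t ≠ 0) : Good (X 6 t) := by
  obtain ⟨n, hn, hnx⟩ := exists_refl (F := F) (i := 0) (by norm_num)
  refine Good.conj hn ?_
  rw [hnx 6 (by norm_num), refl_tables.2.2.2.2.2.2]
  exact good_ten ht

theorem good_nine_ten_eleven (d e f : F) (h : el 0 0 0 d e f ≠ 1) : Good (el 0 0 0 d e f) := by
  have h3 : (3 : F) = 1 := by linear_combination (CharTwo.two_eq_zero (R := F))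
  by_cases hd : d = 0
  · subst hd
    by_cases he : e = 0
    · subst he
      rw [← (singles f).2.2.2.2.2]
      exact good_scale (Or.inl rfl) fun hf => h (by rw [hf, el_zero])
    · refine Good.conjX (r := 6) (by norm_num) (f / e) ?_
      rw [conj6, show f + e * (f / e) + (0 : F) ^ 2 * (f / e) * 0 = 0 by
        rw [mul_div_cancel₀ f he]; simp [CharTwo.add_self_eq_zero]]
      simp only [zero_mul, add_zero, zero_pow two_ne_zero, zero_pow three_ne_zero]
      rw [← (singles e).2.2.2.2.1]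
      exact good_ten he
  · refine Good.conjX (r := 8) (by norm_num) (f / d) ?_
    rw [conj8, mul_div_cancel₀ f hd, CharTwo.add_self_eq_zero]
    refine Good.conjX (r := 7) (by norm_num) (e / d) ?_
    rw [conj7, mul_div_cancel₀ e hd]
    simp only [mul_zero, zero_mul, add_zero, zero_add, zero_pow two_ne_zero,
      CharTwo.add_self_eq_zero]
    rw [← (singles d).2.2.2.1]
    exact good_scale (Or.inr rfl) hd

theorem good_six_nine {a : F} (ha : a ≠ 0) (d f : F) : Good (el a 0 0 d 0 f) := by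
  have h3 : (3 : F) = 1 := by linear_combination (CharTwo.two_eq_zero (R := F))
  refine Good.conjX (r := 10) (by norm_num) (f / a) ?_
  rw [conj10, div_mul_cancel₀ f ha, CharTwo.add_self_eq_zero]
  have e0 : el a 0 0 d 0 0 = X 6 a * X 9 d := by
    simp [el, DataG2.facts.xU_zero (lt12 (r := 7)),
      DataG2.facts.xU_zero (lt12 (r := 8)), DataG2.facts.xU_zero (lt12 (r := 10)),
      DataG2.facts.xU_zero (lt12 (r := 11))]
  rw [e0]
  by_cases hd : d = 0
  · subst hd
    rw [DataG2.facts.xU_zero (lt12 (r := 9)), mul_one]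
    exact good_six ha
  obtain ⟨k, hk⟩ := exists_sqrt (a / d)
  refine Good.conjX (r := 4) (by norm_num) k ?_
  have e : X 4 k * (X 6 a * X 9 d) * X 4 k = el 0 0 0 d 0 (k * d ^ 2) := by
    rw [mul_assoc, mul_assoc (X 6 a), c94, hk, div_mul_cancel₀ a hd, ← mul_assoc,
      ← swap_nil (r := 4) (s := 6) (by simp) (by norm_num) (by norm_num)]
    simp only [mul_assoc]
    rw [merge (r := 4) (by norm_num), CharTwo.add_self_eq_zero,
      DataG2.facts.xU_zero (lt12 (r := 4)), one_mul,
      push_nil (r := 6) (s := 9) (by simp) (by norm_num) (by norm_num), merge (r := 6) (by norm_num),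
      CharTwo.add_self_eq_zero, DataG2.facts.xU_zero (lt12 (r := 6)), one_mul]
    simp [el, DataG2.facts.xU_zero (lt12 (r := 6)), DataG2.facts.xU_zero (lt12 (r := 7)),
      DataG2.facts.xU_zero (lt12 (r := 8)), DataG2.facts.xU_zero (lt12 (r := 10))]
  rw [e]
  exact good_nine_ten_eleven _ _ _ fun h => hd (el_inj (h.trans el_zero.symm)).2.2.2.1

theorem good_of_invol {a b c d e f : F} (h : el a b c d e f * el a b c d e f = 1)
    (h1 : el a b c d e f ≠ 1) : Good (el a b c d e f) := by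
  have two : ∀ x : F, x + x = 0 := CharTwo.add_self_eq_zero
  have h3 : (3 : F) = 1 := by linear_combination (CharTwo.two_eq_zero (R := F))
  rw [el_mul, ← el_zero] at h
  obtain ⟨-, -, q8, -, q10, q11⟩ := el_inj h
  rw [two, zero_add] at q8
  by_cases hb : b = 0
  · subst hb
    have q : e * a + d * c = 0 := by simpa [two] using q11
    by_cases ha : a = 0
    · subst ha
      have q' : d * c = 0 := by simpa using q
      by_cases hc : c = 0
      · subst hc
        exact good_nine_ten_eleven d e f h1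
      · obtain rfl : d = 0 := (mul_eq_zero.1 q').resolve_right hc
        obtain ⟨n, hn, hnx⟩ := exists_refl (F := F) (i := 0) (by norm_num)
        refine Good.conj hn ?_
        have e1 : n * el 0 0 c 0 e f * n⁻¹ = el e 0 0 c 0 f := by
          have : el 0 0 c 0 e f = X 8 c * X 10 e * X 11 f := by
            simp [el, DataG2.facts.xU_zero (lt12 (r := 6)), DataG2.facts.xU_zero (lt12 (r := 7)),
              DataG2.facts.xU_zero (lt12 (r := 9)), mul_assoc]
          rw [this, show n * (X 8 c * X 10 e * X 11 f) * n⁻¹ =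
            (n * X 8 c * n⁻¹) * (n * X 10 e * n⁻¹) * (n * X 11 f * n⁻¹) by group,
            hnx 8 (by norm_num), hnx 10 (by norm_num), hnx 11 (by norm_num),
            refl_tables.2.2.2.1, refl_tables.2.2.2.2.1, refl_tables.2.2.2.2.2.1,
            swap_nil (r := 6) (s := 9) (by simp) (by norm_num) (by norm_num)]
          simp [el, DataG2.facts.xU_zero (lt12 (r := 7)), DataG2.facts.xU_zero (lt12 (r := 8)),
            DataG2.facts.xU_zero (lt12 (r := 10)), mul_assoc]
        rw [e1]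
        by_cases he : e = 0
        · subst he
          exact good_nine_ten_eleven _ _ _ fun h => hc (el_inj (h.trans el_zero.symm)).2.2.2.1
        · exact good_six_nine he c f
    · refine Good.conjX (r := 7) (by norm_num) (c / a) ?_
      rw [conj7]
      have hk : c + c / a * a = 0 := by rw [div_mul_cancel₀ c ha, two]
      have hka : c / a * a = c := div_mul_cancel₀ c ha
      have he : e + (c / a) ^ 3 * a + c * (c / a) ^ 2 + d * (c / a) = 0 := by
        refine mul_right_cancel₀ ha ?_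
        linear_combination q + ((c / a) ^ 2 * a + d) * hka +
          c * (c / a) ^ 2 * a * CharTwo.two_eq_zero (R := F)
      rw [hk, he]
      exact good_six_nine ha _ _
  · obtain rfl : a = 0 := (mul_eq_zero.1 q8).resolve_left hb
    have qd : d = b * c := by
      have : b * (d + b * c) = 0 := by
        simp only [two, mul_zero, zero_mul, add_zero, zero_add] at q10
        linear_combination q10
      exact CharTwo.add_eq_zero.1 ((mul_eq_zero.1 this).resolve_left hb)
    subst qd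
    refine Good.conjX (r := 6) (by norm_num) (c / b) ?_
    rw [conj6, mul_div_cancel₀ c hb, two, show b * c + b ^ 2 * (c / b) = 0 by
      rw [sq, mul_assoc, mul_div_cancel₀ c hb, two]]
    suffices ∀ e' f' : F, Good (el 0 b 0 0 e' f') from this _ _
    intro e' f'
    obtain ⟨n, hn, hnx⟩ := exists_refl (F := F) (i := 1) (by norm_num)
    refine Good.conj hn ?_
    have e1 : n * el 0 b 0 0 e' f' * n⁻¹ = el 0 0 b 0 f' e' := by
      have : el 0 b 0 0 e' f' = X 7 b * X 10 e' * X 11 f' := by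
        simp [el, DataG2.facts.xU_zero (lt12 (r := 6)), DataG2.facts.xU_zero (lt12 (r := 8)),
          DataG2.facts.xU_zero (lt12 (r := 9)), mul_assoc]
      rw [this, show n * (X 7 b * X 10 e' * X 11 f') * n⁻¹ =
        (n * X 7 b * n⁻¹) * (n * X 10 e' * n⁻¹) * (n * X 11 f' * n⁻¹) by group,
        hnx 7 (by norm_num), hnx 10 (by norm_num), hnx 11 (by norm_num),
        refl_tables.1, refl_tables.2.1, refl_tables.2.2.1, mul_assoc,
        swap_nil (r := 10) (s := 11) (by simp) (by norm_num) (by norm_num)]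
      simp [el, DataG2.facts.xU_zero (lt12 (r := 6)), DataG2.facts.xU_zero (lt12 (r := 7)),
        DataG2.facts.xU_zero (lt12 (r := 9)), mul_assoc]
    rw [e1]
    obtain ⟨n0, hn0, hnx0⟩ := exists_refl (F := F) (i := 0) (by norm_num)
    refine Good.conj hn0 ?_
    have e2 : n0 * el 0 0 b 0 f' e' * n0⁻¹ = el f' 0 0 b 0 e' := by
      have : el 0 0 b 0 f' e' = X 8 b * X 10 f' * X 11 e' := by
        simp [el, DataG2.facts.xU_zero (lt12 (r := 6)), DataG2.facts.xU_zero (lt12 (r := 7)),
          DataG2.facts.xU_zero (lt12 (r := 9)), mul_assoc]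
      rw [this, show n0 * (X 8 b * X 10 f' * X 11 e') * n0⁻¹ =
        (n0 * X 8 b * n0⁻¹) * (n0 * X 10 f' * n0⁻¹) * (n0 * X 11 e' * n0⁻¹) by group,
        hnx0 8 (by norm_num), hnx0 10 (by norm_num), hnx0 11 (by norm_num),
        refl_tables.2.2.2.1, refl_tables.2.2.2.2.1, refl_tables.2.2.2.2.2.1,
        swap_nil (r := 6) (s := 9) (by simp) (by norm_num) (by norm_num)]
      simp [el, DataG2.facts.xU_zero (lt12 (r := 7)), DataG2.facts.xU_zero (lt12 (r := 8)),
        DataG2.facts.xU_zero (lt12 (r := 10)), mul_assoc]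
    rw [e2]
    by_cases he : f' = 0
    · subst he
      exact good_nine_ten_eleven _ _ _ fun h => hb (el_inj (h.trans el_zero.symm)).2.2.2.1
    · exact good_six_nine he b e'

/-- Every involution is conjugate to a representative. -/
theorem good_of_orderOf {g : GL chevG2.Idx F} (hg : g ∈ chevG2.group F) (h2 : orderOf g = 2) :
    Good g := by
  haveI := Fintype.ofFinite F
  haveI := Fact.mk Nat.prime_two
  obtain ⟨Q, hQ⟩ := (BNSteinberg.split DataG2.facts hC 2 (K := F)).exists_sylow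
  set x : ↥(chevG2.group F) := ⟨g, hg⟩
  have hx : orderOf x = 2 := by rw [← h2]; exact (Subgroup.orderOf_coe x).symm
  have hP : IsPGroup 2 ↥(Subgroup.zpowers x) :=
    IsPGroup.of_card (n := 1) (by rw [Nat.card_zpowers, hx, pow_one])
  obtain ⟨S, hS⟩ := hP.exists_le_sylow
  obtain ⟨a, ha⟩ := MulAction.exists_smul_eq ↥(chevG2.group F) S Q
  have hax : a * x * a⁻¹ ∈ (Q : Subgroup ↥(chevG2.group F)) := by
    rw [← ha, Sylow.coe_subgroup_smul]
    exact ⟨x, hS (Subgroup.mem_zpowers x), rfl⟩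
  rw [hQ] at hax
  obtain ⟨b1, b2, b3, b4, b5, b6, e⟩ := exists_el
    (show (a : GL chevG2.Idx F) * g * (a : GL chevG2.Idx F)⁻¹ ∈ chevG2.posUnipotent F from
      Subgroup.mem_subgroupOf.1 hax)
  refine Good.conj a.2 (e ▸ good_of_invol ?_ ?_)
  · rw [← e, show ∀ y z : GL chevG2.Idx F, y * z * y⁻¹ * (y * z * y⁻¹) = y * (z * z) * y⁻¹ from
      fun y z => by group, ← sq, ← h2, pow_orderOf_eq_one, mul_one, mul_inv_cancel]
  · intro h1
    rw [← e, ← MulAut.conj_apply, map_eq_one_iff _ (MulEquiv.injective _)] at h1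
    rw [h1, orderOf_one] at h2
    exact one_ne_zero (α := ℕ) (by omega)

theorem orderOf_X {r : ℕ} (hr : r < 12) : orderOf (X r 1 : GL chevG2.Idx F) = 2 := by
  haveI := Fact.mk Nat.prime_two
  refine orderOf_eq_prime ?_ fun h => one_ne_zero (DataG2.facts.xU_eq_one (lt12 hr) h)
  rw [sq, DataG2.facts.xU_add (lt12 hr), CharTwo.add_self_eq_zero,
    DataG2.facts.xU_zero (lt12 hr)]

omit [CharP F 2] [Finite F] in
theorem long_closed : ∀ r ∈ [0, 1, 5, 6, 10, 11], ∀ i < chevG2.rank,
    chevG2.reflectRoot i r ∈ [0, 1, 5, 6, 10, 11] := by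
  decide +kernel

/-- The two representatives are not conjugate. -/
theorem not_conj {h : GL chevG2.Idx F} (hh : h ∈ chevG2.group F) :
    h * X 11 1 * h⁻¹ ≠ X 9 1 := by
  intro e
  have hF := DataG2.facts
  have hhalf : chevG2.nroots / 2 = 6 := by rw [n12]
  obtain ⟨b, hb, n, hn, w, hw, u, hu, rfl⟩ := hF.bruhat_exists hC hh
  obtain ⟨l, k, hk, hlk⟩ := hF.exists_nW hn
  obtain rfl : w = sW chevG2 l := by
    refine hF.permAct_unique hw ?_
    rw [hlk]; simpa using hF.permAct_mul (hF.permAct_nW l) (hF.permAct_diagonal hk)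
  obtain ⟨u1, hu1, d, hd, rfl⟩ := hF.mem_borel_iff.1 hb
  have hpos : ∀ y ∈ rootClosure chevG2 F (6 ≤ ·), Commute (X 11 (1 : F)) y := by
    intro y hy
    induction hy using Subgroup.closure_induction with
    | mem y hy =>
      obtain ⟨s, a, hs, hs6, rfl⟩ := hy
      rw [n12] at hs
      by_cases he : s = 11
      · subst he
        show _ = _
        rw [hF.xU_add (lt12), hF.xU_add (lt12), add_comm]
      · have h12 : s < 12 := by have := n12; omega
        exact swap_nil (r := s) (s := 11) (by interval_cases s <;> simp at he ⊢) h12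
          (by norm_num) a 1
    | one => exact Commute.one_right _
    | mul a c _ _ ha hc => exact ha.mul_right hc
    | inv a _ ha => exact ha.inv_right
  have hu' := hpos u (rootClosure_mono (fun r _ h => hhalf ▸ h.2.1) hu)
  rw [show u1 * d * n * u * X 11 1 * (u1 * d * n * u)⁻¹ =
    u1 * (d * (n * (u * X 11 1 * u⁻¹) * n⁻¹) * d⁻¹) * u1⁻¹ by group, ← hu'.eq,
    mul_inv_cancel_right] at e
  obtain ⟨c, hc0, hc, -⟩ := hw ⟨11, lt12⟩
  set s := (sW chevG2 l ⟨11, lt12⟩).val with hsdef
  have hs : s ∈ [0, 1, 5, 6, 10, 11] := by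
    rw [hsdef]
    clear hlk hw hc hu hsdef s
    induction l with
    | nil => exact (by decide : (11 : ℕ) ∈ [0, 1, 5, 6, 10, 11])
    | cons j l ih =>
      rw [sW_cons, Equiv.Perm.mul_apply, hF.sP_val]
      exact long_closed _ ih j.val j.isLt
  obtain ⟨cc, rfl⟩ := hF.mem_diagonal_iff.1 hd
  have hc' : n * X 11 1 * n⁻¹ = X s (c * 1) := hc 1
  rw [hc', hF.hT_conj_xU cc (sW chevG2 l ⟨11, lt12⟩).isLt, mul_one] at e
  set c' := ((∏ i ∈ Finset.range chevG2.rank, cc i ^ chevG2.cartan i s : Fˣ) : F) * c with hc'def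
  have hc0' : c' ≠ 0 := mul_ne_zero (Units.ne_zero _) hc0
  have e' : X s c' = u1⁻¹ * X 9 1 * u1 := by rw [← e, hsdef]; group
  have hu1' : u1 ∈ rootClosure chevG2 F (6 ≤ ·) := rootClosure_mono (fun r _ h => hhalf ▸ h) hu1
  have hs6 : 6 ≤ s := by
    by_contra hlt
    refine hc0' (hF.xU_eq_one (sW chevG2 l ⟨11, lt12⟩).isLt ?_)
    rw [← Subgroup.mem_bot, ← hF.borel_inf_neg]
    refine ⟨?_, ?_⟩
    · rw [e']
      exact hF.pos_le_borel (mul_mem (mul_mem (inv_mem hu1) (xU_mem_rootClosure (lt12)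
        (hhalf.symm ▸ by norm_num) _)) hu1)
    · rw [hF.negUnipotent_eq]
      exact xU_mem_rootClosure (sW chevG2 l ⟨11, lt12⟩).isLt (by rw [hhalf]; omega) _
  obtain ⟨A, B, hA⟩ := G2Centralizer.conj_pos' (Subgroup.inv_mem _ hu1')
  rw [inv_inv] at hA
  rw [hA] at e'
  have eR : X 9 (1 : F) * X 10 A * X 11 B = el 0 0 0 1 A B := by
    simp [el, hF.xU_zero (lt12 (r := 6)), hF.xU_zero (lt12 (r := 7)),
      hF.xU_zero (lt12 (r := 8)), mul_assoc]
  rw [eR] at e'
  simp only [List.mem_cons, List.not_mem_nil, or_false] at hs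
  obtain ⟨t6, t7, t8, t9, t10, t11⟩ := singles c'
  rcases hs with hs | hs | hs | hs | hs | hs
  · omega
  · omega
  · omega
  · rw [hs, t6] at e'; exact one_ne_zero (el_inj e').2.2.2.1.symm
  · rw [hs, t10] at e'; exact one_ne_zero (el_inj e').2.2.2.1.symm
  · rw [hs, t11] at e'; exact one_ne_zero (el_inj e').2.2.2.1.symm

end CfsgLib.Chev.G2Invol
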