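import Cfsg.Agent.Lib.Chev.All
import Cfsg.Prelude.Def_ChevAutomorphisms

/-!
# Graph automorphisms of simply laced Chevalley groups on all root elements
-/

set_option autoImplicit false

namespace CfsgLib.Chev.GraphSigns

open Cfsg.Lie CfsgLib.Chev.Table

universe v

/-- Coroot and root coefficients agree, and the Cartan integers are the negated bond numbers. -/
def lacedB (T : Tab) : Bool :=
  (allBelow T.nroots fun r => allBelow T.rank fun i => T.cc r i == T.co r i) &&
    allBelow T.rank fun i => allBelow T.rank fun j =>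
      Nat.beq i j || T.aa i (T.smp j) == -(T.aa i (T.smp j) * T.aa j (T.smp i))

/-- The same, for the datum. -/
structure LacedCo (D : ChevalleyDatum) (co : ℕ → ℕ → ℤ) : Prop where
  cor_co : ∀ r < D.nroots, ∀ i < D.rank, cor D r i = co r i
  bond : ∀ i < D.rank, ∀ j < D.rank, i ≠ j → D.cartan i (D.simple j) = -D.bonds i j

theorem lacedCo_of_chk {D : ChevalleyDatum} {T : Tab} (hA : T.chkArrays D = true) (hF : Facts D T.co)
    (h : lacedB T = true) : LacedCo D T.co := by
  have hn := nroots_eq hA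
  have hk := rank_eq hA
  simp only [lacedB, Bool.and_eq_true] at h
  refine ⟨fun r hr i hi => ?_, fun i hi j hj hne => ?_⟩
  · rw [cor_eq hA hr hi]
    exact beq_iff_eq.1 (allBelow_spec (allBelow_spec h.1 r (hn ▸ hr)) i (hk ▸ hi))
  · have := allBelow_spec (allBelow_spec h.2 i (hk ▸ hi)) j (hk ▸ hj)
    simp only [Bool.or_eq_true, Nat.beq_eq, beq_iff_eq] at this
    have e : ∀ a < D.rank, ∀ b < D.rank, D.cartan a (D.simple b) = T.aa a (T.smp b) := fun a ha b hb => by
      rw [cartan_eq hA ha (hF.simple_lt' hb), simple_eq hA hb]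
    rw [ChevalleyDatum.bonds, e i hi j hj, e j hj i hi]
    exact this.resolve_left hne

variable {D : ChevalleyDatum} {co : ℕ → ℕ → ℤ}

/-- A root determines its image under the symmetry. -/
theorem permRoot_eq (hF : Facts D co) (hL : LacedCo D co) (π : Equiv.Perm (Fin D.rank)) {r s : ℕ}
    (hr : r < D.nroots) (hs : s < D.nroots)
    (h : ∀ i : Fin D.rank, co s (π i).val = co r i.val) : D.permRoot π r = s := by
  set p := fun s : ℕ => (List.finRange D.rank).all fun i =>
      (D.coroot.getD s #[]).getD (π i).val 0 == (D.coroot.getD r #[]).getD i.val 0 with hp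
  have hspec : ∀ u < D.nroots, p u = true → u = s := by
    intro u hu hpu
    simp only [hp, List.all_eq_true, List.mem_finRange, true_implies, beq_iff_eq] at hpu
    refine hF.root_ext hu hs fun j hj => ?_
    obtain ⟨i, hi⟩ := π.surjective ⟨j, hj⟩
    have e := hpu i
    rw [hi] at e
    have e2 := h i
    rw [hi] at e2
    have e' : cor D u j = cor D r i.val := e
    rw [hL.cor_co u hu j hj, hL.cor_co r hr i.val i.isLt] at e'
    exact e'.trans e2.symm
  have hps : p s = true := by
    simp only [hp, List.all_eq_true, List.mem_finRange, true_implies, beq_iff_eq]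
    intro i
    show cor D s (π i).val = cor D r i.val
    rw [hL.cor_co s hs _ (π i).isLt, hL.cor_co r hr i.val i.isLt, h i]
  show ((List.range D.nroots).find? p).getD r = s
  cases hfind : (List.range D.nroots).find? p with
  | none =>
    have := List.find?_eq_none.1 hfind s (List.mem_range.2 hs)
    exact absurd hps this
  | some u =>
    exact hspec u (List.mem_range.1 (List.mem_of_find?_eq_some hfind)) (List.find?_some hfind)

variable {F : Type v} [Field F]

/-- The images of all root elements. -/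
theorem exists_sign (hF : Facts D co) (hL : LacedCo D co) (π : Equiv.Perm (Fin D.rank))
    (hπ : D.IsDiagramSymmetry π) (φ : ↥(D.group F) →* GL D.Idx F)
    (hφ : ∀ (g : ↥(D.group F)) (i : Fin D.rank) (t : F),
      ((g : GL D.Idx F) = xU D (D.simple i) t → φ g = xU D (D.simple (π i)) t) ∧
      ((g : GL D.Idx F) = xU D (D.neg (D.simple i)) t → φ g = xU D (D.neg (D.simple (π i))) t))
    {r : ℕ} (hr : r < D.nroots) :
    ∃ s < D.nroots, (∀ i : Fin D.rank, co s (π i).val = co r i.val) ∧
      ∃ ε : F, (ε = 1 ∨ ε = -1) ∧ ∀ (g : ↥(D.group F)) (t : F),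
        (g : GL D.Idx F) = xU D r t → φ g = xU D s (ε * t) := by
  have hmem : ∀ q < D.nroots, ∀ t : F, xU D q t ∈ D.group F := fun q hq t => by
    rw [hF.group_eq]; exact xU_mem_rootClosure hq trivial t
  have hA : ∀ i j : Fin D.rank, D.cartan (π i).val (D.simple (π j).val) = D.cartan i.val (D.simple j.val) := by
    intro i j
    by_cases e : i = j
    · subst e; rw [hF.cartan_simple (π i).isLt, hF.cartan_simple i.isLt]
    · have h1 : (π i).val ≠ (π j).val := fun h => e (π.injective (Fin.ext h))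
      rw [hL.bond _ (π i).isLt _ (π j).isLt h1, hL.bond _ i.isLt _ j.isLt (fun h => e (Fin.ext h)),
        hπ i j e]
  refine hF.root_induction (P := fun r => ∃ s < D.nroots, (∀ i : Fin D.rank, co s (π i).val = co r i.val) ∧
      ∃ ε : F, (ε = 1 ∨ ε = -1) ∧ ∀ (g : ↥(D.group F)) (t : F),
        (g : GL D.Idx F) = xU D r t → φ g = xU D s (ε * t)) (fun i hi => ?_) (fun i hi q hq ih => ?_) hr
  · refine ⟨_, hF.simple_lt' (π ⟨i, hi⟩).isLt, fun j => ?_, 1, Or.inl rfl,
      fun g t hg => by rw [one_mul]; exact (hφ g ⟨i, hi⟩ t).1 hg⟩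
    rw [hF.co_simple _ (π ⟨i, hi⟩).isLt _ (π j).isLt, hF.co_simple i hi _ j.isLt]
    by_cases e : i = j.val
    · subst e; simp
    · rw [if_neg e, if_neg]
      intro h
      exact e (congrArg Fin.val (π.injective (Fin.ext h : π ⟨i, hi⟩ = π j)))
  obtain ⟨s, hs, hco, ε, hε, hg⟩ := ih
  set k := π ⟨i, hi⟩ with hk
  have hcart : D.cartan k.val s = D.cartan i q := by
    rw [hF.cartan_eq_sum k.isLt hs, hF.cartan_eq_sum hi hq, ← Fin.sum_univ_eq_sum_range
      (fun m => co s m * D.cartan k.val (D.simple m)), ← Fin.sum_univ_eq_sum_range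
      (fun m => co q m * D.cartan i (D.simple m)), ← Equiv.sum_comp π]
    exact Finset.sum_congr rfl fun m _ => by rw [hco m, hk, hA ⟨i, hi⟩ m]
  obtain ⟨η, h1, -, h3⟩ := hF.exists_eta (F := F) hi
  obtain ⟨η', h1', -, h3'⟩ := hF.exists_eta (F := F) k.isLt
  refine ⟨_, hF.refl_lt k.val k.isLt s hs, fun j => ?_, (η' s : F) * (ε * (η q : F)), ?_,
    fun g t hgt => ?_⟩
  · rw [hF.co_refl k.val k.isLt s hs _ (π j).isLt, hF.co_refl i hi q hq _ j.isLt, hco j, hcart]
    by_cases e : i = j.val
    · subst e; simp [hk]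
    · rw [if_neg e, if_neg]
      intro h
      exact e (congrArg Fin.val (π.injective (Fin.ext h : π ⟨i, hi⟩ = π j)))
  · rcases h1' s hs with a | a <;> rcases h1 q hq with b | b <;> rcases hε with c | c <;> simp [a, b, c]
  · have hp := hF.simple_lt' hi
    set a : ↥(D.group F) := ⟨_, hmem _ hp 1⟩ with ha
    set b : ↥(D.group F) := ⟨_, hmem _ (hF.neg_lt hp) (-(1 : F)⁻¹)⟩ with hb
    set x : ↥(D.group F) := ⟨_, hmem _ hq ((η q : F) * t)⟩ with hx
    have hn : φ (a * b * a) = nU D (D.simple k.val) 1 := by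
      rw [map_mul, map_mul, (hφ a ⟨i, hi⟩ 1).1 rfl, (hφ b ⟨i, hi⟩ (-(1 : F)⁻¹)).2 rfl, nU]
    have ee : (η q : F) * ((η q : F) * t) = t := by rcases h1 q hq with e | e <;> simp [e]
    have hgx : g = a * b * a * x * (a * b * a)⁻¹ := Subtype.ext (by
      show (g : GL D.Idx F) = nU D (D.simple i) 1 * xU D q ((η q : F) * t) * (nU D (D.simple i) 1)⁻¹
      rw [h3 q hq, mul_inv_cancel_right, ee, hgt])
    rw [hgx, map_mul, map_mul, hn, map_inv, hn, hg x _ rfl, h3' s hs, mul_inv_cancel_right]
    congr 1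
    ring

end CfsgLib.Chev.GraphSigns
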