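import Cfsg.Agent.Lib.Known.PSLMinIndex
import Cfsg.Agent.Lib.KnownSimple.PSLAut.Basic

/-!
# The minimal index of a proper subgroup of `SL_n(q)`, second part

The case of hyperplane stabilizers is excluded by a commutator argument; in the regular case the
Heisenberg radical gives a symmetric equivariant form on the middle coordinates, which must vanish.
-/

set_option autoImplicit false

namespace CfsgLib.Known.PSLMinIndex

open Matrix

variable {F : Type*} [Field F] {n : ℕ}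

local notation "SLn" => Matrix.SpecialLinearGroup (Fin n) F

theorem tv_inv {v φ : Fin n → F} (h : φ ⬝ᵥ v = 0) : (tv v φ)⁻¹ = tv v (-φ) := by
  refine inv_eq_of_mul_eq_one_right ?_
  rw [← tv_add h (by rw [neg_dotProduct, h, neg_zero]), add_neg_cancel, tv_zero]

theorem tv_add_left {v w φ : Fin n → F} (h : φ ⬝ᵥ v = 0) (h' : φ ⬝ᵥ w = 0) :
    tv v φ * tv w φ = tv (v + w) φ := by
  apply Subtype.ext
  rw [coe_mul', coe_tv h, coe_tv h', coe_tv (by rw [dotProduct_add, h, h', add_zero]), mul_add, add_mul,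
    add_mul, one_mul, one_mul, mul_one, vecMulVec_mul, h', zero_smul, add_vecMulVec]
  abel

theorem tv_smul {v φ : Fin n → F} (c : F) (h : φ ⬝ᵥ v = 0) : tv (c • v) φ = tv v (c • φ) := by
  apply Subtype.ext
  rw [coe_tv (by rw [dotProduct_smul, h, smul_zero]), coe_tv (by rw [smul_dotProduct, h, smul_zero]),
    vecMulVec_smul, smul_vecMulVec]

theorem tv_conj_tv {v w φ ψ : Fin n → F} (h : φ ⬝ᵥ v = 0) (h' : ψ ⬝ᵥ w = 0) :
    tv w ψ * tv v φ * (tv w ψ)⁻¹ = tv (v + (ψ ⬝ᵥ v) • w) (φ - (φ ⬝ᵥ w) • ψ) := by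
  rw [tv_conj _ h, tv_inv h', coe_tv h', coe_tv (by rw [neg_dotProduct, h', neg_zero]), add_mulVec,
    one_mulVec, vecMulVec_mulVec, vecMul_add, vecMul_one, vecMul_vecMulVec, op_smul_eq_smul,
    smul_neg, ← sub_eq_add_neg]

theorem iota_tv {v φ : Fin n → F} (h : φ ⬝ᵥ v = 0) :
    CfsgLib.PSLAut.iotaSL (tv v φ) = tv (-φ) v := by
  apply Subtype.ext
  rw [CfsgLib.PSLAut.iotaSL_coe, tv_inv h, coe_tv (by rw [neg_dotProduct, h, neg_zero]),
    coe_tv (by rw [dotProduct_neg, dotProduct_comm, h, neg_zero]), transpose_add, transpose_one,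
    transpose_vecMulVec]

variable (H : Subgroup (Matrix.SpecialLinearGroup (Fin n) F))

theorem smul_one_iff (g : SLn) :
    g • ((1 : SLn) : SLn ⧸ H) = ((1 : SLn) : SLn ⧸ H) ↔ g ∈ H := by
  show ((g * 1 : SLn) : SLn ⧸ H) = _ ↔ _
  rw [QuotientGroup.eq]
  simp

theorem mem_stab_one {v φ : Fin n → F} :
    φ ∈ stab H v ((1 : SLn) : SLn ⧸ H) ↔ φ ⬝ᵥ v = 0 ∧ tv v φ ∈ H := by
  rw [mem_stab, smul_one_iff]

variable [Fintype F]

/-- The stabilizers of one coset cannot all be hyperplanes. -/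
theorem no_hyperplanes (hn : 3 ≤ n)
    (hlin : ∀ v : Fin n → F, v ≠ 0 →
      (∀ c : F, ∀ φ ∈ stab H v ((1 : SLn) : SLn ⧸ H), c • φ ∈ stab H v ((1 : SLn) : SLn ⧸ H)) ∧
      Fintype.card F * Nat.card (stab H v ((1 : SLn) : SLn ⧸ H)) = Fintype.card F ^ (n - 1)) :
    False := by
  classical
  let W : (Fin n → F) → Submodule F (Fin n → F) := fun v =>
    Submodule.span F (stab H v ((1 : SLn) : SLn ⧸ H) : Set (Fin n → F))
  have hmem : ∀ v, v ≠ 0 → ∀ φ, φ ∈ W v ↔ φ ⬝ᵥ v = 0 ∧ tv v φ ∈ H := by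
    intro v hv φ
    rw [← mem_stab_one]
    refine ⟨fun h => ?_, fun h => Submodule.subset_span h⟩
    induction h using Submodule.span_induction with
    | mem x hx => exact hx
    | zero => exact zero_mem _
    | add x y _ _ hx hy => exact add_mem hx hy
    | smul c x _ hx => exact (hlin v hv).1 c x hx
  have hdim : ∀ v, v ≠ 0 → Module.finrank F (W v) + 2 = n := by
    intro v hv
    have h1 := (hlin v hv).2
    have h2 : Nat.card (stab H v ((1 : SLn) : SLn ⧸ H)) = Nat.card (W v) :=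
      Nat.card_congr (Equiv.subtypeEquivRight fun φ => by rw [hmem v hv, mem_stab_one])
    rw [h2, Module.natCard_eq_pow_finrank (K := F), Nat.card_eq_fintype_card, ← pow_succ'] at h1
    have := Nat.pow_right_injective Fintype.one_lt_card h1
    omega
  have hperp : ∀ v, v ≠ 0 → W v ≤ perp v := fun v hv φ hφ => ((hmem v hv φ).mp hφ).1
  have hrule : ∀ v w φ ψ, v ≠ 0 → w ≠ 0 → φ ∈ W v → ψ ∈ W w → ψ ⬝ᵥ v = 0 → φ ⬝ᵥ w ≠ 0 →
      ψ ∈ W v := by
    intro v w φ ψ hv hw hφ hψ h0 hne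
    obtain ⟨hφv, hφH⟩ := (hmem v hv φ).mp hφ
    obtain ⟨hψw, hψH⟩ := (hmem w hw ψ).mp hψ
    have h := H.mul_mem (H.mul_mem hψH hφH) (H.inv_mem hψH)
    rw [tv_conj_tv hφv hψw, h0, zero_smul, add_zero] at h
    have h1 : φ - (φ ⬝ᵥ w) • ψ ∈ W v :=
      (hmem v hv _).mpr ⟨by rw [sub_dotProduct, smul_dotProduct, hφv, h0, smul_zero, sub_zero], h⟩
    have h2 := (W v).sub_mem hφ h1
    rwa [sub_sub_cancel, Submodule.smul_mem_iff _ hne] at h2
  have hstep1 : ∀ v w, v ≠ 0 → w ≠ 0 → W v ≤ perp w → W w ≤ perp v := by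
    intro v w hv hw hvw
    by_contra hc
    obtain ⟨φ, hφ, hne⟩ := SetLike.not_le_iff_exists.mp hc
    have hle : W v ≤ W w := fun ψ hψ => hrule w v φ ψ hw hv hφ hψ (hvw hψ) hne
    have heq := Submodule.eq_of_le_of_finrank_le hle (by have := hdim v hv; have := hdim w hw; omega)
    exact hc (heq ▸ hperp v hv)
  have hpair : ∀ v w : Fin n → F, v ≠ 0 → (∀ c : F, w ≠ c • v) →
      Module.finrank F (perp v ⊓ perp w : Submodule F (Fin n → F)) + 2 = n := by
    intro v w hv hind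
    let f : (Fin n → F) →ₗ[F] F × F := (dotProductBilin F F v).prod (dotProductBilin F F w)
    have hk : LinearMap.ker f = perp v ⊓ perp w := by
      ext φ
      rw [LinearMap.mem_ker]
      show ((v ⬝ᵥ φ, w ⬝ᵥ φ) : F × F) = 0 ↔ φ ⬝ᵥ v = 0 ∧ φ ⬝ᵥ w = 0
      rw [Prod.mk_eq_zero, dotProduct_comm φ, dotProduct_comm φ]
    have hsurj : Function.Surjective f := fun a => by
      obtain ⟨u, hu, hu'⟩ := exists_dot_pair hv hind a.1 a.2
      exact ⟨u, Prod.ext hu hu'⟩
    have h := LinearMap.finrank_range_add_finrank_ker f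
    rw [LinearMap.range_eq_top.mpr hsurj, finrank_top, Module.finrank_prod, Module.finrank_self,
      Module.finrank_fin_fun, hk] at h
    omega
  have hstep2 : ∀ v w, v ≠ 0 → w ≠ 0 → (∀ c : F, w ≠ c • v) → W v ≤ perp w → W v = W w := by
    intro v w hv hw hind hvw
    have hd := hpair v w hv hind
    have h1 := Submodule.eq_of_le_of_finrank_le (le_inf (hperp v hv) hvw)
      (by have := hdim v hv; omega)
    have h2 := Submodule.eq_of_le_of_finrank_le (le_inf (hstep1 v w hv hw hvw) (hperp w hw))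
      (by have := hdim w hw; omega)
    exact h1.trans h2.symm
  -- a configuration with a contradiction
  obtain ⟨v, hv⟩ : ∃ v : Fin n → F, v ≠ 0 := ⟨Pi.single ⟨0, by omega⟩ 1, by simp⟩
  obtain ⟨φ, hφ, hφ0⟩ := Submodule.exists_mem_ne_zero_of_ne_bot (p := W v) (fun h => by
    have := hdim v hv
    rw [h, finrank_bot] at this
    omega)
  obtain ⟨w, hφw⟩ := exists_dot_eq hφ0 1
  have hw : w ≠ 0 := by
    rintro rfl
    rw [dotProduct_zero] at hφw
    exact zero_ne_one hφw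
  have hind : ∀ c : F, w ≠ c • v := by
    rintro c rfl
    rw [dotProduct_smul, ((hmem v hv φ).mp hφ).1, smul_zero] at hφw
    exact zero_ne_one hφw
  have hnvw : ¬ W v ≤ perp w := fun h => one_ne_zero (hφw.symm.trans (h hφ))
  have hnwv : ¬ W w ≤ perp v := fun h => hnvw (hstep1 w v hw hv h)
  have hinf : W w ⊓ perp v ≤ W v ⊓ W w := fun ψ hψ =>
    ⟨hrule v w φ ψ hv hw hφ hψ.1 hψ.2 (by rw [hφw]; exact one_ne_zero), hψ.1⟩
  have hdinf : n ≤ Module.finrank F (W w ⊓ perp v : Submodule F (Fin n → F)) + 3 := by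
    have h := Submodule.finrank_sup_add_finrank_inf_eq (W w) (perp v)
    have h1 := Submodule.finrank_le (W w ⊔ perp v)
    have h2 := hdim w hw
    have h3 : n ≤ Module.finrank F (perp v) + 1 := by
      have h4 : W v ⊔ perp v ≤ perp v := sup_le (hperp v hv) le_rfl
      have h5 := hpair v w hv hind
      have h6 : perp v ⊓ perp w < perp v := lt_of_le_of_ne inf_le_left fun he => hnvw
        ((hperp v hv).trans (inf_eq_left.mp he))
      have := Submodule.finrank_lt_finrank_of_lt h6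
      omega
    rw [Module.finrank_fin_fun] at h1
    omega
  have hsup : W v ⊔ W w ≠ ⊤ := by
    intro h
    have h1 := Submodule.finrank_sup_add_finrank_inf_eq (W v) (W w)
    have h2 := Submodule.finrank_mono hinf
    rw [h, finrank_top, Module.finrank_fin_fun] at h1
    have := hdim v hv
    have := hdim w hw
    omega
  obtain ⟨f, hf, hle⟩ := Submodule.exists_le_ker_of_lt_top _ (lt_top_iff_ne_top.mpr hsup)
  let u : Fin n → F := fun i => f (Pi.single i 1)
  have hfu : ∀ x : Fin n → F, x ⬝ᵥ u = f x := by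
    intro x
    conv_rhs => rw [pi_eq_sum_univ' x, map_sum]
    simp [dotProduct, u]
  have hu : u ≠ 0 := fun h => hf (LinearMap.ext fun x => by
    rw [← hfu, h, dotProduct_zero]; rfl)
  have huv : W v ≤ perp u := fun x hx => (hfu x).trans (hle (Submodule.mem_sup_left hx))
  have huw : W w ≤ perp u := fun x hx => (hfu x).trans (hle (Submodule.mem_sup_right hx))
  have hindv : ∀ c : F, u ≠ c • v := by
    intro c hc
    refine hnwv fun x hx => ?_
    have := huw hx
    rw [mem_perp, hc, dotProduct_smul, smul_eq_mul] at this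
    exact (mul_eq_zero.mp this).resolve_left fun h0 => hu (by rw [hc, h0, zero_smul])
  have hindw : ∀ c : F, u ≠ c • w := by
    intro c hc
    refine hnvw fun x hx => ?_
    have := huv hx
    rw [mem_perp, hc, dotProduct_smul, smul_eq_mul] at this
    exact (mul_eq_zero.mp this).resolve_left fun h0 => hu (by rw [hc, h0, zero_smul])
  have e1 := hstep2 v u hv hu hindv huv
  have e2 := hstep2 w u hw hu hindw huw
  exact hnvw (e1.trans e2.symm ▸ hperp w hw)

/-- Below the bound every transvection stabilizer is trivial or full. -/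
theorem stab_bot_or_full (hn : 3 ≤ n) (hH : H ≠ ⊤)
    (hlt : H.index * (Fintype.card F - 1) < Fintype.card F ^ n - 1) {v : Fin n → F} (hv : v ≠ 0)
    (x : SLn ⧸ H) : stab H v x = ⊥ ∨ ∀ φ, φ ⬝ᵥ v = 0 → φ ∈ stab H v x := by
  rcases stab_cases H hn hH hlt hv with h | h
  · exact h x
  refine (no_hyperplanes H hn fun w hw => ?_).elim
  rcases stab_cases H hn hH hlt hw with h' | h'
  · exfalso
    obtain ⟨g, hg⟩ := exists_mulVec_eq hn hv hw
    set o : SLn ⧸ H := ((1 : SLn) : SLn ⧸ H)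
    have hg' : ((g⁻¹ : SLn) : Matrix (Fin n) (Fin n) F) *ᵥ w = v := by
      rw [← hg, mulVec_mulVec, coe_inv_mul, one_mulVec]
    have hto : ∀ φ ∈ stab H v (g⁻¹ • o),
        φ ᵥ* ((g⁻¹ : SLn) : Matrix (Fin n) (Fin n) F) ∈ stab H w o := fun φ hφ => by
      have := stab_smul H g hφ
      rwa [hg, smul_inv_smul] at this
    have hfrom : ∀ ψ ∈ stab H w o,
        ψ ᵥ* (g : Matrix (Fin n) (Fin n) F) ∈ stab H v (g⁻¹ • o) := fun ψ hψ => by
      have := stab_smul H g⁻¹ hψ
      rwa [inv_inv, hg'] at this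
    have hc : Nat.card (stab H v (g⁻¹ • o)) = Nat.card (stab H w o) := le_antisymm
      (Nat.card_le_card_of_injective (fun φ => (⟨_, hto φ.1 φ.2⟩ : stab H w o)) fun a b hab => by
        have h2 := congrArg (fun z : stab H w o => (z : Fin n → F) ᵥ* (g : Matrix (Fin n) (Fin n) F)) hab
        simp only [vecMul_vecMul, coe_inv_mul, vecMul_one] at h2
        exact Subtype.ext h2)
      (Nat.card_le_card_of_injective (fun ψ => (⟨_, hfrom ψ.1 ψ.2⟩ : stab H v (g⁻¹ • o))) fun a b hab => by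
        have h2 := congrArg (fun z : stab H v (g⁻¹ • o) =>
          (z : Fin n → F) ᵥ* ((g⁻¹ : SLn) : Matrix (Fin n) (Fin n) F)) hab
        simp only [vecMul_vecMul, coe_mul_inv, vecMul_one] at h2
        exact Subtype.ext h2)
    have h2 := (h (g⁻¹ • o)).2
    rw [hc] at h2
    have hq : 2 ≤ Fintype.card F := Fintype.one_lt_card
    rcases h' o with h0 | h0
    · rw [h0, AddSubgroup.card_bot, mul_one] at h2
      exact absurd h2 (ne_of_lt (lt_self_pow₀ (by omega) (by omega)))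
    · have h3 : Fintype.card F ^ (n - 1) ≤ Nat.card (stab H w o) := by
        rw [← Nat.card_eq_fintype_card, ← card_perp hw]
        exact Nat.card_le_card_of_injective (fun φ : perp w => (⟨φ.1, h0 φ.1 φ.2⟩ : stab H w o))
          fun a b hab => Subtype.ext (congrArg (fun z : stab H w o => (z : Fin n → F)) hab)
      have h4 : 0 < Fintype.card F ^ (n - 1) := pow_pos (by omega) _
      nlinarith
  · exact h' _

/-- Below the bound no transvection lies in `H`. -/
theorem tv_not_mem (hn : 3 ≤ n) (hH : H ≠ ⊤)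
    (hlt : H.index * (Fintype.card F - 1) < Fintype.card F ^ n - 1) {v φ : Fin n → F} (hv : v ≠ 0)
    (hφ : φ ≠ 0) (h : φ ⬝ᵥ v = 0) : tv v φ ∉ H := by
  classical
  intro hmem
  let H' := H.comap (CfsgLib.PSLAut.iotaSL (F := F) (n := n)).toMonoidHom
  have hindex : H'.index = H.index :=
    Subgroup.index_comap_of_surjective _ (CfsgLib.PSLAut.iotaSL (F := F) (n := n)).surjective
  have hH' : H' ≠ ⊤ := fun he => hH (by
    rw [← Subgroup.index_eq_one, ← hindex, he, Subgroup.index_top])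
  have full : ∀ (K : Subgroup SLn), K ≠ ⊤ → K.index * (Fintype.card F - 1) < Fintype.card F ^ n - 1 →
      ∀ a b c : Fin n → F, a ≠ 0 → b ≠ 0 → b ⬝ᵥ a = 0 → tv a b ∈ K → c ⬝ᵥ a = 0 → tv a c ∈ K := by
    intro K hK hK' a b c ha hb hab hb' hc
    rcases stab_bot_or_full K hn hK hK' ha ((1 : SLn) : SLn ⧸ K) with h0 | h0
    · exact absurd (AddSubgroup.mem_bot.mp (h0 ▸ (mem_stab_one K).mpr ⟨hab, hb'⟩)) hb
    · exact ((mem_stab_one K).mp (h0 c hc)).2
  -- with one centre full, change the functional, then the centre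
  have hright : ∀ a b c, a ≠ 0 → b ≠ 0 → b ⬝ᵥ a = 0 → tv a b ∈ H → b ⬝ᵥ c = 0 → tv c b ∈ H := by
    intro a b c ha hb hab hmem' hc
    have hiota : ∀ x, b ⬝ᵥ x = 0 → (tv b (-x) ∈ H' ↔ tv x b ∈ H) := by
      intro x hx
      show CfsgLib.PSLAut.iotaSL (tv b (-x)) ∈ H ↔ _
      rw [iota_tv (by rw [neg_dotProduct, dotProduct_comm, hx, neg_zero]), neg_neg]
    refine (hiota c hc).mp ?_
    exact full H' hH' (hindex ▸ hlt) b (-a) (-c) hb (neg_ne_zero.mpr ha)
      (by rw [neg_dotProduct, dotProduct_comm, hab, neg_zero]) ((hiota a hab).mpr hmem')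
      (by rw [neg_dotProduct, dotProduct_comm, hc, neg_zero])
  refine hH (CfsgLib.Classical.SL_le_of_transvections H fun i j hij c => ?_)
  have htr : (Matrix.SpecialLinearGroup.transvection hij c : SLn) =
      tv (Pi.single i 1) (Pi.single j c) := by
    apply Subtype.ext
    rw [coe_tv (by simp [dotProduct_single, Pi.single_eq_of_ne hij])]
    show Matrix.transvection i j c = _
    rw [Matrix.transvection, show vecMulVec (Pi.single i 1) (Pi.single j c) = Matrix.single i j c by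
      ext r s
      simp only [vecMulVec_apply, Matrix.single_apply, Pi.single_apply]
      aesop]
  rw [htr]
  obtain ⟨ψ, hψ, hψv, hψi⟩ := exists_perp_ne hn v (Pi.single i 1)
  have h1 := full H hH hlt v φ ψ hv hφ h hmem hψv
  have h2 := hright v ψ (Pi.single i 1) hv hψ hψv h1 hψi
  exact full H hH hlt _ ψ _ (by simp) hψ hψi h2 (by simp [dotProduct_single, Pi.single_eq_of_ne hij])

/-- Below the bound each transvection group with fixed centre is transitive on the cosets. -/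
theorem exists_tv_mul_mem (hn : 3 ≤ n) (hH : H ≠ ⊤)
    (hlt : H.index * (Fintype.card F - 1) < Fintype.card F ^ n - 1) {v : Fin n → F} (hv : v ≠ 0)
    (g : SLn) : ∃ φ, φ ⬝ᵥ v = 0 ∧ tv v φ * g ∈ H := by
  classical
  have hq : 2 ≤ Fintype.card F := Fintype.one_lt_card
  have hfree : ∀ (k : SLn) (φ : Fin n → F), φ ⬝ᵥ v = 0 → tv v φ • (k : SLn ⧸ H) = k → φ = 0 := by
    intro k φ hφ hfix
    by_contra h0
    have h1 : k⁻¹ * (tv v φ * k) ∈ H := by
      have : ((tv v φ * k : SLn) : SLn ⧸ H) = k := hfix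
      exact QuotientGroup.eq.mp this.symm
    rw [← mul_assoc] at h1
    have h2 := tv_conj k⁻¹ hφ
    rw [inv_inv] at h2
    rw [h2] at h1
    refine tv_not_mem H hn hH hlt ?_ ?_ ?_ h1
    · intro h3
      apply hv
      have := congrArg ((k : Matrix (Fin n) (Fin n) F) *ᵥ ·) h3
      simp only [mulVec_mulVec, coe_mul_inv, one_mulVec, mulVec_zero] at this
      exact this
    · intro h3
      apply h0
      have := congrArg (· ᵥ* ((k⁻¹ : SLn) : Matrix (Fin n) (Fin n) F)) h3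
      simp only [vecMul_vecMul, coe_mul_inv, vecMul_one, zero_vecMul] at this
      exact this
    · rw [← dotProduct_mulVec, mulVec_mulVec, coe_mul_inv, one_mulVec, hφ]
  by_contra hc
  push Not at hc
  let e : perp v ⊕ perp v → SLn ⧸ H := Sum.elim
    (fun φ => tv v (φ : Fin n → F) • ((1 : SLn) : SLn ⧸ H))
    (fun φ => tv v (φ : Fin n → F) • (g : SLn ⧸ H))
  have hinj : ∀ (k : SLn) (a b : perp v),
      tv v (a : Fin n → F) • (k : SLn ⧸ H) = tv v (b : Fin n → F) • (k : SLn ⧸ H) → a = b := by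
    intro k a b hab
    have h := hfree k ((a - b : perp v) : Fin n → F) (a - b).2 (by
      have hb : (-(b : Fin n → F)) ⬝ᵥ v = 0 := (-b).2
      rw [Submodule.coe_sub, sub_eq_neg_add, tv_add hb a.2, mul_smul, hab, ← tv_inv b.2, inv_smul_smul])
    exact sub_eq_zero.mp (Subtype.ext h)
  have hsep : ∀ a b : perp v, tv v (a : Fin n → F) • ((1 : SLn) : SLn ⧸ H) ≠
      tv v (b : Fin n → F) • (g : SLn ⧸ H) := by
    intro a b hab
    have ha : (-(a : Fin n → F)) ⬝ᵥ v = 0 := (-a).2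
    refine hc _ (b - a : perp v).2 ((smul_one_iff H _).mp ?_)
    have hg1 : g • ((1 : SLn) : SLn ⧸ H) = (g : SLn ⧸ H) := by
      show ((g * 1 : SLn) : SLn ⧸ H) = _
      rw [mul_one]
    rw [Submodule.coe_sub, sub_eq_neg_add, tv_add ha b.2, mul_smul, mul_smul, hg1, ← hab, ← tv_inv a.2,
      inv_smul_smul]
  have he : Function.Injective e := by
    rintro (a | a) (b | b) hab
    · exact congrArg Sum.inl (hinj 1 a b hab)
    · exact absurd hab (hsep a b)
    · exact absurd hab.symm (hsep b a)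
    · exact congrArg Sum.inr (hinj g a b hab)
  have h1 := Nat.card_le_card_of_injective e he
  rw [Nat.card_sum, card_perp hv, Nat.card_eq_fintype_card] at h1
  change _ ≤ H.index at h1
  obtain ⟨m, rfl⟩ : ∃ m, n = m + 1 := ⟨n - 1, by omega⟩
  rw [show m + 1 - 1 = m by omega] at h1
  rw [pow_succ] at hlt
  obtain ⟨r, hr⟩ := Nat.exists_eq_add_of_le hq
  rw [hr] at hlt h1
  rw [show 2 + r - 1 = 1 + r by omega] at hlt
  have : 0 < (2 + r) ^ m := pow_pos (by omega) _
  obtain ⟨s, hs⟩ := Nat.exists_eq_add_of_le this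
  have h2 := Nat.mul_le_mul_right (1 + r) h1
  have h3 : (2 + r) ^ m * (2 + r) - 1 + 1 = (2 + r) ^ m * (2 + r) :=
    Nat.sub_add_cancel (Nat.one_le_iff_ne_zero.mpr (by positivity))
  nlinarith

/-- The middle Heisenberg form forces `(n, q) = (4, 2)`. -/
theorem heisenberg_false (hn : 3 ≤ n) (hexc : ¬ (n = 4 ∧ Fintype.card F = 2))
    (hno : ∀ v φ : Fin n → F, v ≠ 0 → φ ≠ 0 → φ ⬝ᵥ v = 0 → tv v φ ∉ H)
    (hreg : ∀ g : SLn, ∃ φ, φ ⬝ᵥ Pi.single (⟨0, by omega⟩ : Fin n) 1 = 0 ∧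
      tv (Pi.single (⟨0, by omega⟩ : Fin n) 1) φ * g ∈ H) : False := by
  classical
  let i0 : Fin n := ⟨0, by omega⟩
  let iL : Fin n := ⟨n - 1, by omega⟩
  have h0L : i0 ≠ iL := by simp [i0, iL, Fin.ext_iff]; omega
  let e0 : Fin n → F := Pi.single i0 1
  let eL : Fin n → F := Pi.single iL 1
  have he0 : e0 ≠ 0 := by simp [e0]
  have heL : eL ≠ 0 := by simp [eL]
  have hLdot : ∀ x : Fin n → F, eL ⬝ᵥ x = x iL := fun x => by simp [eL]
  have hLe0 : eL ⬝ᵥ e0 = 0 := by rw [hLdot]; simp [e0, h0L.symm]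
  have huniq : ∀ a b : Fin n → F, ∀ g : SLn, a ⬝ᵥ e0 = 0 → b ⬝ᵥ e0 = 0 → tv e0 a * g ∈ H →
      tv e0 b * g ∈ H → a = b := by
    intro a b g ha hb hag hbg
    by_contra hne
    have hb' : (-b) ⬝ᵥ e0 = 0 := by rw [neg_dotProduct, hb, neg_zero]
    refine hno e0 (a + -b) he0 (by rwa [ne_eq, ← sub_eq_add_neg, sub_eq_zero]) ?_ ?_
    · rw [add_dotProduct, ha, hb', add_zero]
    · have h := H.mul_mem hag (H.inv_mem hbg)
      rwa [_root_.mul_inv_rev, mul_assoc, mul_inv_cancel_left, tv_inv hb, ← tv_add ha hb'] at h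
  let mid : (Fin n → F) → Prop := fun x => x i0 = 0 ∧ x iL = 0
  choose Φ hΦ0 hΦ using fun x : Fin n → F => hreg (tv x eL)
  have hchar : ∀ (x a : Fin n → F), a ⬝ᵥ e0 = 0 → tv e0 a * tv x eL ∈ H → Φ x = a := fun x a ha h =>
    huniq _ _ _ (hΦ0 x) ha (hΦ x) h
  have hmidadd : ∀ x y, mid x → mid y → mid (x + y) := fun x y hx hy =>
    ⟨by simp [hx.1, hy.1], by simp [hx.2, hy.2]⟩
  have hmidsmul : ∀ (c : F) x, mid x → mid (c • x) := fun c x hx =>
    ⟨by simp [hx.1], by simp [hx.2]⟩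
  have hmidone : ∀ i, i ≠ i0 → i ≠ iL → mid (Pi.single i 1) := fun i h h' =>
    ⟨by simp [h.symm], by simp [h'.symm]⟩
  have horth : ∀ x, mid x → eL ⬝ᵥ x = 0 := fun x hx => (hLdot x).trans hx.2
  -- the group law
  have hlaw : ∀ x y, mid x → mid y → Φ (x + y) = Φ x + (Φ y - (Φ y ⬝ᵥ x) • eL) := by
    intro x y hx hy
    have hb : (Φ y - (Φ y ⬝ᵥ x) • eL) ⬝ᵥ e0 = 0 := by
      rw [sub_dotProduct, smul_dotProduct, hΦ0, hLe0, smul_zero, sub_zero]
    refine hchar _ _ (by rw [add_dotProduct, hΦ0, hb, add_zero]) ?_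
    have h := H.mul_mem (hΦ x) (hΦ y)
    have e : tv e0 (Φ x) * tv x eL * (tv e0 (Φ y) * tv y eL) =
        tv e0 (Φ x) * (tv x eL * tv e0 (Φ y) * (tv x eL)⁻¹) * (tv x eL * tv y eL) := by group
    rw [show (tv (Pi.single (⟨0, by omega⟩ : Fin n) 1) (Φ x) * tv x eL *
      (tv (Pi.single (⟨0, by omega⟩ : Fin n) 1) (Φ y) * tv y eL)) = _ from e,
      tv_conj_tv (hΦ0 y) (horth x hx), hLe0, zero_smul, add_zero, ← tv_add (hΦ0 x) hb,
      tv_add_left (horth x hx) (horth y hy)] at h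
    exact h
  have hsymm : ∀ x y, mid x → mid y → Φ x ⬝ᵥ y = Φ y ⬝ᵥ x := by
    intro x y hx hy
    have h1 := hlaw x y hx hy
    rw [add_comm x y, hlaw y x hy hx] at h1
    have h2 := congrFun h1 iL
    simp [eL] at h2
    linear_combination -h2
  have hsmul : ∀ (c : F) x y, mid x → mid y → Φ (c • x) ⬝ᵥ y = c * (Φ x ⬝ᵥ y) := by
    intro c x y hx hy
    rw [hsymm _ _ (hmidsmul c x hx) hy, dotProduct_smul, smul_eq_mul, hsymm y x hy hx]
  have hadd : ∀ x y z, mid x → mid y → mid z → Φ (x + y) ⬝ᵥ z = Φ x ⬝ᵥ z + Φ y ⬝ᵥ z := by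
    intro x y z hx hy hz
    rw [hsymm _ _ (hmidadd x y hx hy) hz, dotProduct_add, hsymm z x hz hx, hsymm z y hz hy]
  -- nondegeneracy
  have hnd : ∀ x, mid x → x ≠ 0 → ∃ i, i ≠ i0 ∧ i ≠ iL ∧ Φ x ⬝ᵥ Pi.single i 1 ≠ 0 := by
    intro x hx hx0
    by_contra hc
    push Not at hc
    have hform : Φ x = Φ x iL • eL := by
      funext i
      by_cases hi : i = iL
      · subst hi; simp [eL]
      · have h0 : Φ x i = 0 := by
          by_cases hi0 : i = i0
          · subst hi0; simpa [e0, i0] using hΦ0 x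
          · simpa using hc i hi0 hi
        simp [eL, hi, h0]
    set c := Φ x iL
    have h := hΦ x
    rw [hform] at h
    change tv e0 (c • eL) * tv x eL ∈ H at h
    rw [← tv_smul c hLe0, tv_add_left (by rw [dotProduct_smul, hLe0, smul_zero]) (horth x hx)] at h
    refine hno (c • e0 + x) eL ?_ heL ?_ h
    · intro h0
      apply hx0
      have h1 := congrFun h0 i0
      simp [e0, hx.1] at h1
      simpa [h1] using h0
    · rw [dotProduct_add, dotProduct_smul, hLe0, horth x hx, smul_zero, add_zero]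
  -- equivariance
  have hequiv : ∀ (d : SLn) (a c : F), c ≠ 0 →
      (d : Matrix (Fin n) (Fin n) F) *ᵥ e0 = a • e0 →
      eL ᵥ* (d : Matrix (Fin n) (Fin n) F) = c • eL →
      ∀ x w, mid x → mid w → mid ((d : Matrix (Fin n) (Fin n) F) *ᵥ w) →
        Φ (c⁻¹ • ((d : Matrix (Fin n) (Fin n) F) *ᵥ x)) ⬝ᵥ ((d : Matrix (Fin n) (Fin n) F) *ᵥ w) =
          a * (Φ x ⬝ᵥ w) := by
    intro d a c hc hde hLd x w hx hw hdw
    set M := (d : Matrix (Fin n) (Fin n) F) with hM
    set M' := ((d⁻¹ : SLn) : Matrix (Fin n) (Fin n) F) with hM'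
    have hLd' : eL ᵥ* M' = c⁻¹ • eL := by
      have h := congrArg (· ᵥ* M') hLd
      simp only [vecMul_vecMul, hM, hM', coe_mul_inv, vecMul_one, smul_vecMul] at h
      conv_rhs => rw [h, smul_smul, inv_mul_cancel₀ hc, one_smul]
    have ha : a ≠ 0 := by
      rintro rfl
      rw [zero_smul] at hde
      have h := congrArg (M' *ᵥ ·) hde
      simp only [mulVec_mulVec, hM, hM', coe_inv_mul, one_mulVec, mulVec_zero] at h
      exact he0 h
    obtain ⟨u, hu0, hu⟩ := hreg d
    change u ⬝ᵥ e0 = 0 at hu0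
    change tv e0 u * d ∈ H at hu
    set y := c⁻¹ • (M *ᵥ x) with hy
    have hdL : (eL ᵥ* M') ⬝ᵥ (M *ᵥ x) = 0 := by
      rw [← dotProduct_mulVec, mulVec_mulVec, hM, hM', coe_inv_mul, one_mulVec, horth x hx]
    have hyL : eL ⬝ᵥ y = 0 := by
      rw [hy, dotProduct_smul, ← smul_dotProduct, ← hLd', hdL]
    have he : (Φ x ᵥ* M') ⬝ᵥ (a • e0) = 0 := by
      rw [← hde, ← dotProduct_mulVec, mulVec_mulVec, hM, hM', coe_inv_mul, one_mulVec]
      exact hΦ0 x
    have he' : (Φ x ᵥ* M') ⬝ᵥ e0 = 0 := by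
      rw [dotProduct_smul, smul_eq_mul] at he
      exact (mul_eq_zero.mp he).resolve_left ha
    have he'' : (a • (Φ x ᵥ* M')) ⬝ᵥ e0 = 0 := by rw [smul_dotProduct, he', smul_zero]
    have c1 : d * tv e0 (Φ x) * d⁻¹ = tv e0 (a • (Φ x ᵥ* M')) := by
      rw [tv_conj d (hΦ0 x), ← hM, ← hM', hde, tv_smul a he']
    have c2 : d * tv x eL * d⁻¹ = tv y eL := by
      rw [tv_conj d (horth x hx), ← hM, ← hM', hLd', hy, tv_smul _ ?_]
      have := hdL
      rw [hLd', smul_dotProduct, smul_eq_mul] at this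
      exact (mul_eq_zero.mp this).resolve_left (inv_ne_zero hc)
    have hu' : (-u) ⬝ᵥ e0 = 0 := by rw [neg_dotProduct, hu0, neg_zero]
    have hlast : (-u - ((-u) ⬝ᵥ y) • eL) ⬝ᵥ e0 = 0 := by
      rw [sub_dotProduct, smul_dotProduct, hu', hLe0, smul_zero, sub_zero]
    have h := H.mul_mem (H.mul_mem hu (hΦ x)) (H.inv_mem hu)
    have e : tv e0 u * d * (tv e0 (Φ x) * tv x eL) * (tv e0 u * d)⁻¹ =
        tv e0 u * (d * tv e0 (Φ x) * d⁻¹) *
          (d * tv x eL * d⁻¹ * (tv e0 u)⁻¹ * (d * tv x eL * d⁻¹)⁻¹) * (d * tv x eL * d⁻¹) := by group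
    rw [show (tv e0 u * d * (tv (Pi.single (⟨0, by omega⟩ : Fin n) 1) (Φ x) * tv x eL) *
      (tv e0 u * d)⁻¹) = _ from e, c1, c2, tv_inv hu0, tv_conj_tv hu' hyL, hLe0, zero_smul, add_zero,
      ← tv_add hu0 he'', ← tv_add (by rw [add_dotProduct, hu0, he'', add_zero]) hlast] at h
    rw [hchar y _ (by rw [add_dotProduct, add_dotProduct, hu0, he'', hlast, add_zero, add_zero]) h]
    simp only [add_dotProduct, sub_dotProduct, smul_dotProduct, neg_dotProduct, horth _ hdw,
      smul_eq_mul, mul_zero, sub_zero]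
    rw [← dotProduct_mulVec, mulVec_mulVec, hM, hM', coe_inv_mul, one_mulVec]
    ring
  -- transvections on the middle coordinates
  have hT : ∀ l j, l ≠ i0 → l ≠ iL → j ≠ i0 → j ≠ iL → l ≠ j → ∀ x w, mid x → mid w →
      Φ (x + x j • Pi.single l 1) ⬝ᵥ (w + w j • Pi.single l 1) = Φ x ⬝ᵥ w := by
    intro l j hl hl' hj hj' hlj x w hx hw
    have h0 : (Pi.single j 1 : Fin n → F) ⬝ᵥ Pi.single l 1 = 0 := by simp [hlj]
    have hval : ∀ z : Fin n → F, ((tv (Pi.single l 1) (Pi.single j 1) : SLn) :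
        Matrix (Fin n) (Fin n) F) *ᵥ z = z + z j • Pi.single l 1 := by
      intro z
      rw [coe_tv h0, add_mulVec, one_mulVec, vecMulVec_mulVec, op_smul_eq_smul, single_one_dotProduct]
    have h := hequiv (tv (Pi.single l 1) (Pi.single j 1)) 1 1 one_ne_zero
      (by rw [hval, one_smul]; simp [e0, hj])
      (by rw [coe_tv h0, vecMul_add, vecMul_one, vecMul_vecMulVec, hLdot, one_smul]; simp [hl'.symm])
      x w hx hw (by rw [hval]; exact hmidadd _ _ hw (hmidsmul _ _ (hmidone l hl hl')))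
    rwa [inv_one, one_smul, one_mul, hval, hval] at h
  let E : Fin n → Fin n → F := fun i j => Φ (Pi.single i 1) ⬝ᵥ Pi.single j 1
  have hEll : ∀ l j, l ≠ i0 → l ≠ iL → j ≠ i0 → j ≠ iL → l ≠ j → E l l = 0 := by
    intro l j hl hl' hj hj' hlj
    have hml := hmidone l hl hl'
    have hmj := hmidone j hj hj'
    have h := hT l j hl hl' hj hj' hlj _ _ hml hmj
    simp [hlj.symm, dotProduct_add] at h
    simpa [E] using h
  have hElm : ∀ l m j, l ≠ i0 → l ≠ iL → m ≠ i0 → m ≠ iL → j ≠ i0 → j ≠ iL → l ≠ j → m ≠ j →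
      E l m = 0 := by
    intro l m j hl hl' hm hm' hj hj' hlj hmj'
    have hml := hmidone l hl hl'
    have hmj := hmidone j hj hj'
    have hmm := hmidone m hm hm'
    have h := hT l j hl hl' hj hj' hlj _ _ hmj hmm
    simp [hmj'.symm, hadd _ _ _ hmj hml hmm] at h
    simpa [E] using h
  have hE2 : ∀ l j, l ≠ i0 → l ≠ iL → j ≠ i0 → j ≠ iL → l ≠ j → 2 * E l j = 0 := by
    intro l j hl hl' hj hj' hlj
    have hml := hmidone l hl hl'
    have hmj := hmidone j hj hj'
    have h := hT l j hl hl' hj hj' hlj _ _ hmj hmj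
    simp only [Pi.single_eq_same, one_smul] at h
    rw [hadd _ _ _ hmj hml (hmidadd _ _ hmj hml), dotProduct_add, dotProduct_add,
      hsymm _ _ hmj hml] at h
    linear_combination h - (hEll l j hl hl' hj hj' hlj)
  -- diagonal elements
  have hdiag : ∀ (f : Fin n → F) (hf : ∏ i, f i = 1), f i0 = 1 → ∀ l m, l ≠ i0 → l ≠ iL →
      m ≠ i0 → m ≠ iL → (f iL)⁻¹ * f l * f m * E l m = E l m := by
    intro f hf hf0 l m hl hl' hm hm'
    let d : SLn := ⟨diagonal f, by rw [det_diagonal, hf]⟩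
    have hd : ∀ i, (d : Matrix (Fin n) (Fin n) F) *ᵥ Pi.single i 1 = f i • Pi.single i 1 := by
      intro i
      show diagonal f *ᵥ _ = _
      rw [diagonal_mulVec_single, ← Pi.single_smul, smul_eq_mul, mul_one]
    have hfL : f iL ≠ 0 := fun h => by
      rw [Finset.prod_eq_zero (Finset.mem_univ iL) h] at hf
      exact zero_ne_one hf
    have hml := hmidone l hl hl'
    have hmm := hmidone m hm hm'
    have h := hequiv d 1 (f iL) hfL (by rw [hd, hf0])
      (by
        funext i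
        show (eL ᵥ* diagonal f) i = _
        rw [vecMul_diagonal]
        by_cases hi : i = iL
        · subst hi; simp [eL]
        · simp [eL, hi])
      _ _ hml hmm (by rw [hd]; exact hmidsmul _ _ hmm)
    rw [hd, hd, smul_smul, dotProduct_smul, smul_eq_mul, hsmul _ _ _ hml hmm, one_mul] at h
    linear_combination h
  -- conclusion
  let i1 : Fin n := ⟨1, by omega⟩
  have h10 : i1 ≠ i0 := by simp [i0, i1, Fin.ext_iff]
  have h1L : i1 ≠ iL := by simp [iL, i1, Fin.ext_iff]; omega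
  obtain ⟨i2, h20, h2L, hne⟩ := hnd (Pi.single i1 1) (hmidone i1 h10 h1L) (by simp)
  change E i1 i2 ≠ 0 at hne
  by_cases h12 : i2 = i1
  · subst h12
    rcases Nat.lt_or_ge 3 n with h4 | h4
    · exact hne (hEll i1 ⟨2, by omega⟩ h10 h1L (by simp [i0, Fin.ext_iff])
        (by simp [iL, Fin.ext_iff]; omega) (by simp [i1, Fin.ext_iff]))
    obtain rfl : n = 3 := by omega
    have h2 : (2 : F) * E i1 i1 = 0 := by
      have h := hdiag ![1, -1, -1] (by simp [Fin.prod_univ_three]) (by simp [i0]) i1 i1 h10 h1L h10 h1L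
      rw [show (![1, -1, -1] : Fin 3 → F) iL = -1 from rfl, show (![1, -1, -1] : Fin 3 → F) i1 = -1 from rfl,
        inv_neg, inv_one] at h
      linear_combination -h
    have htwo : (2 : F) = 0 := (mul_eq_zero.mp h2).resolve_right hne
    have hm1 := hmidone i1 h10 h1L
    have hm0 : mid 0 := ⟨rfl, rfl⟩
    have hz : Φ 0 = 0 := by
      have h := hlaw 0 0 hm0 hm0
      rw [add_zero, dotProduct_zero, zero_smul, sub_zero] at h
      simpa using h
    have h := hlaw _ _ hm1 hm1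
    have hxx : (Pi.single i1 1 + Pi.single i1 1 : Fin 3 → F) = 0 := by
      rw [← two_smul F, htwo, zero_smul]
    rw [hxx, hz] at h
    have h' := congrFun h iL
    simp [eL] at h'
    refine hne ?_
    show Φ (Pi.single i1 1) ⬝ᵥ Pi.single i1 1 = 0
    rw [dotProduct_single, mul_one]
    linear_combination h' + (Φ (Pi.single i1 1) iL) * htwo
  rcases Nat.lt_or_ge 4 n with h5 | h5
  · obtain ⟨j, hj0, hjL, hj1, hj2⟩ : ∃ j : Fin n, j ≠ i0 ∧ j ≠ iL ∧ j ≠ i1 ∧ j ≠ i2 := by
      by_cases h : i2 = (⟨2, by omega⟩ : Fin n)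
      · exact ⟨⟨3, by omega⟩, by simp [i0, Fin.ext_iff], by simp [iL, Fin.ext_iff]; omega,
          by simp [i1, Fin.ext_iff], by rw [h]; simp [Fin.ext_iff]⟩
      · exact ⟨⟨2, by omega⟩, by simp [i0, Fin.ext_iff], by simp [iL, Fin.ext_iff]; omega,
          by simp [i1, Fin.ext_iff], Ne.symm h⟩
    exact hne (hElm i1 i2 j h10 h1L h20 h2L hj0 hjL hj1.symm hj2.symm)
  have hn4 : n = 4 := by
    have h1 : i2.val ≠ 0 := fun h => h20 (Fin.ext h)
    have h2 : i2.val ≠ n - 1 := fun h => h2L (Fin.ext h)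
    have h3 : i2.val ≠ 1 := fun h => h12 (Fin.ext h)
    have := i2.isLt
    omega
  subst hn4
  have hi2 : i2 = 2 := by
    have h1 : i2.val ≠ 0 := fun h => h20 (Fin.ext h)
    have h2 : i2.val ≠ 3 := fun h => h2L (Fin.ext h)
    have h3 : i2.val ≠ 1 := fun h => h12 (Fin.ext h)
    have := i2.isLt
    apply Fin.ext
    show i2.val = 2
    omega
  have htwo : (2 : F) = 0 :=
    (mul_eq_zero.mp (hE2 i1 i2 h10 h1L h20 h2L (Ne.symm h12))).resolve_right hne
  refine hexc ⟨rfl, ?_⟩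
  have hunit : ∀ ν : F, ν ≠ 0 → ν = 1 := by
    intro ν hν
    have h := hdiag ![1, ν, 1, ν⁻¹] (by simp [Fin.prod_univ_four, hν]) (by simp [i0]) i1 i2
      h10 h1L h20 h2L
    rw [show (![1, ν, 1, ν⁻¹] : Fin 4 → F) iL = ν⁻¹ from rfl, show (![1, ν, 1, ν⁻¹] : Fin 4 → F) i1 = ν from rfl,
      show (![1, ν, 1, ν⁻¹] : Fin 4 → F) i2 = 1 by rw [hi2]; rfl, inv_inv, mul_one] at h
    have h' : (ν - 1) * (ν - 1) = 0 := by
      have hh : ν * ν = 1 := by
        refine mul_right_cancel₀ hne ?_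
        rw [one_mul]
        exact h
      linear_combination hh + (1 - ν) * htwo
    exact sub_eq_zero.mp (mul_self_eq_zero.mp h')
  have huniv : (Finset.univ : Finset F) = {0, 1} := by
    ext x
    simp only [Finset.mem_univ, Finset.mem_insert, Finset.mem_singleton, true_iff]
    exact (em (x = 0)).imp id (hunit x)
  rw [← Finset.card_univ, huniv, Finset.card_pair zero_ne_one]

/-- The index of a proper subgroup of `SL_n(q)` is at least the number of points. -/
theorem index_ge (hn : 3 ≤ n) (hexc : ¬ (n = 4 ∧ Fintype.card F = 2)) (hH : H ≠ ⊤) :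
    (Fintype.card F ^ n - 1) / (Fintype.card F - 1) ≤ H.index := by
  by_contra hc
  rw [not_le] at hc
  obtain ⟨K, hK⟩ : Fintype.card F - 1 ∣ Fintype.card F ^ n - 1 := by
    simpa using Nat.sub_dvd_pow_sub_pow (Fintype.card F) 1 n
  have hpos : 0 < Fintype.card F - 1 := by have := Fintype.one_lt_card (α := F); omega
  rw [hK, Nat.mul_div_cancel_left _ hpos] at hc
  have hlt : H.index * (Fintype.card F - 1) < Fintype.card F ^ n - 1 := by
    rw [hK, mul_comm]
    exact Nat.mul_lt_mul_of_pos_left hc hpos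
  exact heisenberg_false H hn hexc (fun v φ hv hφ h => tv_not_mem H hn hH hlt hv hφ h)
    (fun g => exists_tv_mul_mem H hn hH hlt (by simp) g)

end CfsgLib.Known.PSLMinIndex
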