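import Mathlib

/-!
# Element orders of symplectic and orthogonal groups

A self-reciprocal polynomial of degree `2m` or `2m + 1` divides `X ^ N ∓ 1` with
`(q - 1) * N ≤ q ^ (m + 1)`: the semisimple parts are `q ^ d ± 1`, their least common multiple is
controlled by grouping the `d` by 2-adic valuation, and the unipotent part is paid for by multiplicities.
-/

set_option autoImplicit false

namespace CfsgLib.Known.ClassicalOrderBound

open Polynomial

/-- `(x - 1) ∏ (x ^ 2 ^ v + 1) + 1 = x ^ 2 ^ B`. -/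
theorem telescope (x : ℕ) : ∀ B, x * (∏ v ∈ Finset.range B, (x ^ 2 ^ v + 1)) + 1 =
    (∏ v ∈ Finset.range B, (x ^ 2 ^ v + 1)) + x ^ 2 ^ B
  | 0 => by simp [add_comm]
  | B + 1 => by
    have ih := telescope x B
    rw [Finset.prod_range_succ, pow_succ 2 B, pow_mul]
    linear_combination (x ^ 2 ^ B + 1) * ih

theorem prod_pow_two (q : ℕ) : ∀ B, q * ∏ v ∈ Finset.range B, q ^ 2 ^ v = q ^ 2 ^ B
  | 0 => by simp
  | B + 1 => by
    rw [Finset.prod_range_succ, ← mul_assoc, prod_pow_two q B, ← pow_add, ← two_mul, ← pow_succ']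

/-- The least common multiple of numbers `q ^ d ± 1`. -/
theorem lcm_weights {ι : Type*} {q : ℕ} (hq : 2 ≤ q) (s : Finset ι) (d : ι → ℕ)
    (plus : ι → Prop) [DecidablePred plus] (hd : ∀ i ∈ s, 1 ≤ d i) :
    (q - 1) * s.lcm (fun i => if plus i then q ^ d i + 1 else q ^ d i - 1) ≤ q ^ (∑ i ∈ s, d i) * q := by
  classical
  have key : ∃ V : Finset ℕ,
      (∀ v ∈ V, q ^ 2 ^ v + 1 ∣ s.lcm (fun i => if plus i then q ^ d i + 1 else q ^ d i - 1)) ∧
      s.lcm (fun i => if plus i then q ^ d i + 1 else q ^ d i - 1) * ∏ v ∈ V, q ^ 2 ^ v ≤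
        q ^ (∑ i ∈ s, d i) * ∏ v ∈ V, (q ^ 2 ^ v + 1) := by
    induction s using Finset.induction_on with
    | empty => exact ⟨∅, by simp, by simp⟩
    | insert i t hit ih =>
      obtain ⟨V, hV, hle⟩ := ih fun j hj => hd j (Finset.mem_insert_of_mem hj)
      have hdi := hd i (Finset.mem_insert_self _ _)
      rw [Finset.lcm_insert, Finset.sum_insert hit]
      set L := t.lcm (fun i => if plus i then q ^ d i + 1 else q ^ d i - 1)
      by_cases hp : plus i
      · rw [if_pos hp]
        obtain ⟨v, o, ho, hvo⟩ := Nat.exists_eq_two_pow_mul_odd (show d i ≠ 0 by omega)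
        have hQ : q ^ 2 ^ v + 1 ∣ q ^ d i + 1 := by
          have := ho.nat_add_dvd_pow_add_pow (q ^ 2 ^ v) 1
          rwa [one_pow, ← pow_mul, ← hvo] at this
        have hle2 : q ^ 2 ^ v ≤ q ^ d i := Nat.pow_le_pow_right (by omega) (by
          rw [hvo]; exact Nat.le_mul_of_pos_right _ ho.pos)
        by_cases hv : v ∈ V
        · refine ⟨V, fun w hw => dvd_trans (hV w hw) (dvd_lcm_right _ _), ?_⟩
          have hlcm : GCDMonoid.lcm (q ^ d i + 1) L ≤ q ^ d i * L := by
            rcases Nat.eq_zero_or_pos L with h0 | h0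
            · rw [h0, mul_zero]; simp
            have h1 := Nat.gcd_mul_lcm (q ^ d i + 1) L
            have h2 : q ^ 2 ^ v + 1 ≤ Nat.gcd (q ^ d i + 1) L :=
              Nat.le_of_dvd (Nat.gcd_pos_of_pos_right _ h0) (Nat.dvd_gcd hQ (hV v hv))
            rw [lcm_eq_nat_lcm]
            refine Nat.le_of_mul_le_mul_left ?_ (show 0 < q ^ 2 ^ v + 1 by omega)
            calc (q ^ 2 ^ v + 1) * Nat.lcm (q ^ d i + 1) L
                ≤ (q ^ d i + 1) * L := h1 ▸ Nat.mul_le_mul_right _ h2
              _ ≤ (q ^ 2 ^ v + 1) * (q ^ d i * L) := by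
                rw [← mul_assoc]
                refine Nat.mul_le_mul_right _ ?_
                have : 1 ≤ q ^ d i := Nat.one_le_pow _ _ (by omega)
                have : 2 ≤ q ^ 2 ^ v + 1 := by
                  have := Nat.one_le_pow (2 ^ v) q (by omega)
                  omega
                calc q ^ d i + 1 ≤ 2 * q ^ d i := by omega
                  _ ≤ (q ^ 2 ^ v + 1) * q ^ d i := Nat.mul_le_mul_right _ this
          calc GCDMonoid.lcm (q ^ d i + 1) L * ∏ v ∈ V, q ^ 2 ^ v
              ≤ q ^ d i * L * ∏ v ∈ V, q ^ 2 ^ v := Nat.mul_le_mul_right _ hlcm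
            _ ≤ q ^ d i * (q ^ (∑ i ∈ t, d i) * ∏ v ∈ V, (q ^ 2 ^ v + 1)) := by
              rw [mul_assoc]; exact Nat.mul_le_mul_left _ hle
            _ = _ := by rw [pow_add, mul_assoc]
        · refine ⟨insert v V, fun w hw => ?_, ?_⟩
          · rcases Finset.mem_insert.1 hw with rfl | hw
            · exact dvd_trans hQ (dvd_lcm_left _ _)
            · exact dvd_trans (hV w hw) (dvd_lcm_right _ _)
          rw [Finset.prod_insert hv, Finset.prod_insert hv]
          have hlcm : GCDMonoid.lcm (q ^ d i + 1) L ≤ (q ^ d i + 1) * L := by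
            rcases Nat.eq_zero_or_pos L with h0 | h0
            · simp [h0]
            · rw [lcm_eq_nat_lcm]
              exact Nat.le_of_dvd (Nat.mul_pos (by omega) h0) (Nat.lcm_dvd_mul _ _)
          calc GCDMonoid.lcm (q ^ d i + 1) L * (q ^ 2 ^ v * ∏ v ∈ V, q ^ 2 ^ v)
              ≤ (q ^ d i + 1) * L * (q ^ 2 ^ v * ∏ v ∈ V, q ^ 2 ^ v) := Nat.mul_le_mul_right _ hlcm
            _ = ((q ^ d i + 1) * q ^ 2 ^ v) * (L * ∏ v ∈ V, q ^ 2 ^ v) := by ring
            _ ≤ (q ^ d i * (q ^ 2 ^ v + 1)) * (q ^ (∑ i ∈ t, d i) * ∏ v ∈ V, (q ^ 2 ^ v + 1)) := by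
              refine Nat.mul_le_mul ?_ hle
              rw [add_mul, one_mul, mul_add, mul_one]
              exact Nat.add_le_add_left hle2 _
            _ = _ := by rw [pow_add]; ring
      · rw [if_neg hp]
        refine ⟨V, fun w hw => dvd_trans (hV w hw) (dvd_lcm_right _ _), ?_⟩
        have hlcm : GCDMonoid.lcm (q ^ d i - 1) L ≤ q ^ d i * L := by
          rw [lcm_eq_nat_lcm]
          rcases Nat.eq_zero_or_pos L with h0 | h0
          · simp [h0]
          · have h1 : 0 < q ^ d i - 1 := Nat.sub_pos_of_lt (Nat.one_lt_pow (by omega) (by omega))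
            exact (Nat.le_of_dvd (Nat.mul_pos h1 h0) (Nat.lcm_dvd_mul _ _)).trans
              (Nat.mul_le_mul_right _ (Nat.sub_le _ _))
        calc GCDMonoid.lcm (q ^ d i - 1) L * ∏ v ∈ V, q ^ 2 ^ v
            ≤ q ^ d i * L * ∏ v ∈ V, q ^ 2 ^ v := Nat.mul_le_mul_right _ hlcm
          _ ≤ q ^ d i * (q ^ (∑ i ∈ t, d i) * ∏ v ∈ V, (q ^ 2 ^ v + 1)) := by
            rw [mul_assoc]; exact Nat.mul_le_mul_left _ hle
          _ = _ := by rw [pow_add, mul_assoc]
  obtain ⟨V, -, hle⟩ := key
  set L := s.lcm (fun i => if plus i then q ^ d i + 1 else q ^ d i - 1)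
  set S := ∑ i ∈ s, d i
  set R := Finset.range (V.sup id + 1) with hR
  have hVR : V ⊆ R := fun v hv => Finset.mem_range.2 (Nat.lt_succ_of_le (Finset.le_sup (f := id) hv))
  have h1 : (q - 1) * ∏ v ∈ R, (q ^ 2 ^ v + 1) ≤ q ^ 2 ^ (V.sup id + 1) := by
    have h := telescope q (V.sup id + 1)
    rw [← hR] at h
    rw [Nat.sub_mul, one_mul]
    omega
  have h3 : (∏ v ∈ V, (q ^ 2 ^ v + 1)) * ∏ v ∈ R \ V, q ^ 2 ^ v ≤ ∏ v ∈ R, (q ^ 2 ^ v + 1) := by
    rw [← Finset.prod_sdiff (f := fun v => q ^ 2 ^ v + 1) hVR, mul_comm]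
    exact Nat.mul_le_mul_right _ (Finset.prod_le_prod' fun v _ => Nat.le_succ _)
  refine Nat.le_of_mul_le_mul_right ?_ (show 0 < ∏ v ∈ R, q ^ 2 ^ v from
    Finset.prod_pos fun v _ => pow_pos (by omega) _)
  calc (q - 1) * L * ∏ v ∈ R, q ^ 2 ^ v
      = (q - 1) * ((L * ∏ v ∈ V, q ^ 2 ^ v) * ∏ v ∈ R \ V, q ^ 2 ^ v) := by
        rw [← Finset.prod_sdiff (f := fun v => q ^ 2 ^ v) hVR]; ring
    _ ≤ (q - 1) * ((q ^ S * ∏ v ∈ V, (q ^ 2 ^ v + 1)) * ∏ v ∈ R \ V, q ^ 2 ^ v) :=
        Nat.mul_le_mul_left _ (Nat.mul_le_mul_right _ hle)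
    _ = (q - 1) * ((∏ v ∈ V, (q ^ 2 ^ v + 1)) * ∏ v ∈ R \ V, q ^ 2 ^ v) * q ^ S := by ring
    _ ≤ q ^ 2 ^ (V.sup id + 1) * q ^ S :=
        Nat.mul_le_mul_right _ ((Nat.mul_le_mul_left _ h3).trans h1)
    _ = q ^ S * q * ∏ v ∈ R, q ^ 2 ^ v := by rw [← prod_pow_two q]; ring

/-- The exponent of a unipotent block. -/
theorem pow_le_of_mult {p k j : ℕ} (hp : 2 ≤ p) (h : p ^ (k - 1) ≤ 2 * j - 1) (hk : 1 ≤ k) :
    p ^ k ≤ p ^ j := by
  refine Nat.pow_le_pow_right (by omega) ?_
  by_contra hlt
  have h1 : p ^ j ≤ p ^ (k - 1) := Nat.pow_le_pow_right (by omega) (by omega)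
  have h2 : 2 ^ j ≤ p ^ j := Nat.pow_le_pow_left hp j
  have h3 : j < 2 ^ j := Nat.lt_two_pow_self
  rcases j with _ | j
  · have : 1 ≤ p ^ (k - 1) := Nat.one_le_pow _ _ (by omega)
    omega
  · have h4 : j + 1 ≤ 2 ^ j := Nat.lt_two_pow_self
    rw [pow_succ] at h2
    omega

section Roots

variable {F : Type*} [Field F] [Fintype F]

/-- An irreducible polynomial with nonzero constant term divides `X ^ (q ^ d - 1) - 1`. -/
theorem dvd_X_pow_sub {f : F[X]} (hf : Irreducible f) (hm : f.Monic) (h0 : f.eval 0 ≠ 0) :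
    f ∣ X ^ (Fintype.card F ^ f.natDegree - 1) - 1 := by
  have : Fact (Irreducible f) := ⟨hf⟩
  have : Module.Finite F (AdjoinRoot f) := hm.finite_adjoinRoot
  have : Finite (AdjoinRoot f) := Module.finite_of_finite F
  let _ : Fintype (AdjoinRoot f) := Fintype.ofFinite _
  have hr : AdjoinRoot.root f ≠ 0 := fun h => h0 <| by
    have h1 := AdjoinRoot.eval₂_root f
    rw [h, Polynomial.eval₂_at_zero] at h1
    rw [← Polynomial.coeff_zero_eq_eval_zero]
    exact (AdjoinRoot.of f).injective (by rw [h1, map_zero])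
  rw [← AdjoinRoot.mk_eq_zero, map_sub, map_pow, AdjoinRoot.mk_X, map_one, sub_eq_zero,
    show Fintype.card F ^ f.natDegree = Fintype.card (AdjoinRoot f) by
      rw [Module.card_eq_pow_finrank (K := F) (V := AdjoinRoot f),
        (AdjoinRoot.powerBasis hf.ne_zero).finrank, AdjoinRoot.powerBasis_dim]]
  exact FiniteField.pow_card_sub_one_eq_one _ hr

/-- A self-reciprocal irreducible polynomial other than `X ± 1`. -/
theorem dvd_X_pow_add {f : F[X]} (hf : Irreducible f) (hm : f.Monic) (h0 : f.eval 0 ≠ 0)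
    (hrev : f ∣ f.reverse) (h1 : f.eval 1 ≠ 0) (h1' : f.eval (-1) ≠ 0) :
    ∃ i, f.natDegree = 2 * i ∧ f ∣ X ^ (Fintype.card F ^ i + 1) - 1 := by
  have : Fact (Irreducible f) := ⟨hf⟩
  have : Module.Finite F (AdjoinRoot f) := hm.finite_adjoinRoot
  have : Finite (AdjoinRoot f) := Module.finite_of_finite F
  set K := AdjoinRoot f
  set r : K := AdjoinRoot.root f with hr
  have hr0 : r ≠ 0 := fun h => h0 <| by
    have h1 := AdjoinRoot.eval₂_root f
    rw [← hr, h, Polynomial.eval₂_at_zero] at h1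
    rw [← Polynomial.coeff_zero_eq_eval_zero]
    exact (AdjoinRoot.of f).injective (by rw [h1, map_zero])
  have hinv : aeval r⁻¹ f = 0 := by
    have hrev0 : aeval r f.reverse = 0 := by
      obtain ⟨g, hg⟩ := hrev
      rw [hg, map_mul, hr, AdjoinRoot.aeval_eq, AdjoinRoot.mk_self, zero_mul]
    have : Invertible r⁻¹ := invertibleOfNonzero (inv_ne_zero hr0)
    rw [aeval_def] at hrev0 ⊢
    rw [← Polynomial.eval₂_reverse_eq_zero_iff, invOf_eq_inv, inv_inv]
    exact hrev0
  let φ : K →ₐ[F] K := AdjoinRoot.liftAlgHom f (Algebra.ofId F K) r⁻¹ (by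
    simpa [aeval_def, Algebra.ofId] using hinv)
  have hφr : φ r = r⁻¹ := AdjoinRoot.liftAlgHom_root _ _ _ _
  let φe : K ≃ₐ[F] K := AlgEquiv.ofBijective φ ⟨φ.toRingHom.injective,
    (Finite.injective_iff_surjective).1 φ.toRingHom.injective⟩
  have hsq : φe * φe = 1 := by
    refine AlgEquiv.ext fun x => ?_
    have : φ.comp φ = AlgHom.id F K := AdjoinRoot.algHom_ext (by
      rw [AlgHom.comp_apply, ← hr, hφr, map_inv₀, hφr, inv_inv, AlgHom.id_apply])
    exact AlgHom.congr_fun this x
  have hφ1 : φe ≠ 1 := fun h => by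
    have h2 : φe r = r := by rw [h]; rfl
    change φ r = r at h2
    rw [hφr] at h2
    have h3 : r * r = 1 := by
      nth_rw 1 [← h2]
      exact inv_mul_cancel₀ hr0
    have he : ∀ c : F, r = algebraMap F K c → f.eval c = 0 := fun c hc => by
      have h4 : aeval r f = 0 := by rw [hr, AdjoinRoot.aeval_eq, AdjoinRoot.mk_self]
      rw [hc, aeval_algebraMap_apply_eq_algebraMap_eval] at h4
      exact (algebraMap F K).injective (by rw [h4, map_zero])
    rcases mul_self_eq_one_iff.1 h3 with h4 | h4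
    · exact h1 (he 1 (by rw [h4, map_one]))
    · exact h1' (he (-1) (by rw [h4, map_neg, map_one]))
  obtain ⟨⟨i, hi⟩, hφi⟩ := (FiniteField.bijective_frobeniusAlgEquivOfAlgebraic_pow F K).2 φe
  have hd : Module.finrank F K = f.natDegree := by
    rw [(AdjoinRoot.powerBasis hf.ne_zero).finrank, AdjoinRoot.powerBasis_dim]
  have hord : Module.finrank F K ∣ 2 * i := by
    rw [← FiniteField.orderOf_frobeniusAlgEquivOfAlgebraic F K, orderOf_dvd_iff_pow_eq_one, two_mul, pow_add]
    simp only at hφi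
    rw [hφi, hsq]
  have hi0 : i ≠ 0 := fun h => hφ1 (by rw [← hφi]; simp [h])
  obtain ⟨c, hc⟩ := hord
  have hc1 : c = 1 := by
    rcases c with _ | _ | c
    · omega
    · rfl
    · exfalso; nlinarith
  subst hc1
  refine ⟨i, by omega, ?_⟩
  rw [← AdjoinRoot.mk_eq_zero, map_sub, map_pow, AdjoinRoot.mk_X, map_one, sub_eq_zero, ← hr, pow_succ]
  have h5 : φe r = r ^ Fintype.card F ^ i := by
    rw [← hφi]
    simp only [AlgEquiv.coe_pow, FiniteField.coe_frobeniusAlgEquivOfAlgebraic_iterate]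
  change φ r = _ at h5
  rw [← h5, hφr, inv_mul_cancel₀ hr0]

end Roots

section Polynomials

variable {F : Type*} [Field F] [DecidableEq F]

omit [DecidableEq F] in
theorem reverse_deg {f : F[X]} (h0 : f.eval 0 ≠ 0) : f.reverse.natDegree = f.natDegree := by
  rw [reverse_natDegree, natTrailingDegree_eq_zero.2 (Or.inr (by rwa [coeff_zero_eq_eval_zero])), Nat.sub_zero]

omit [DecidableEq F] in
theorem reverse_reverse {f : F[X]} (h0 : f.eval 0 ≠ 0) : f.reverse.reverse = f :=
  Polynomial.ext fun i => by rw [coeff_reverse, coeff_reverse, reverse_deg h0, revAt_invol]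

omit [DecidableEq F] in
theorem reverse_irreducible {f : F[X]} (hf : Irreducible f) (h0 : f.eval 0 ≠ 0) :
    Irreducible f.reverse := by
  refine ⟨fun hu => hf.not_isUnit ?_, fun a b hab => ?_⟩
  · have hne := hf.ne_zero
    rw [isUnit_iff_degree_eq_zero, degree_eq_natDegree hne, ← reverse_deg h0,
      natDegree_eq_zero_of_isUnit hu, Nat.cast_zero]
  · have h1 : f = a.reverse * b.reverse := by rw [← reverse_mul_of_domain, ← hab, reverse_reverse h0]
    have h2 : a.eval 0 * b.eval 0 ≠ 0 := by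
      rw [← eval_mul, ← hab, ← coeff_zero_eq_eval_zero, coeff_zero_reverse]
      exact leadingCoeff_ne_zero.2 hf.ne_zero
    have key : ∀ c : F[X], c.eval 0 ≠ 0 → IsUnit c.reverse → IsUnit c := fun c hc hu => by
      have hne : c ≠ 0 := fun h => hc (by rw [h, eval_zero])
      rw [isUnit_iff_degree_eq_zero, degree_eq_natDegree hne, ← reverse_deg hc,
        natDegree_eq_zero_of_isUnit hu, Nat.cast_zero]
    exact (hf.isUnit_or_isUnit h1).imp (key a (left_ne_zero_of_mul h2)) (key b (right_ne_zero_of_mul h2))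

/-- The reciprocal monic polynomial. -/
noncomputable def star (f : F[X]) : F[X] := normalize f.reverse

theorem star_associated (f : F[X]) : Associated f.reverse (star f) := associated_normalize _

theorem natDegree_star {f : F[X]} (h0 : f.eval 0 ≠ 0) : (star f).natDegree = f.natDegree := by
  rw [star, natDegree_eq_of_degree_eq degree_normalize, reverse_deg h0]

theorem star_eval_zero {f : F[X]} (h0 : f.eval 0 ≠ 0) : (star f).eval 0 ≠ 0 := fun h => by
  have hne : f ≠ 0 := fun h => h0 (by rw [h, eval_zero])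
  obtain ⟨u, hu⟩ := (star_associated f).symm
  have h1 := congrArg (eval 0) hu
  rw [eval_mul, h, zero_mul, ← coeff_zero_eq_eval_zero, coeff_zero_reverse] at h1
  exact leadingCoeff_ne_zero.2 hne h1.symm

theorem star_star {f : F[X]} (hm : f.Monic) (h0 : f.eval 0 ≠ 0) : star (star f) = f := by
  have h : Associated (star f).reverse f := by
    obtain ⟨u, hu⟩ := (star_associated f).symm
    obtain ⟨c, hc, hcu⟩ := Polynomial.isUnit_iff.1 u.isUnit
    refine ⟨(isUnit_C.2 hc).unit, ?_⟩
    have h1 := congrArg reverse hu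
    rw [reverse_reverse h0, ← hcu, reverse_mul_of_domain, reverse_C] at h1
    exact h1
  rw [star, normalize_eq_normalize h.dvd h.symm.dvd, hm.normalize_eq_self]

/-- Multiplicities of irreducible factors of a self-reciprocal polynomial. -/
theorem exists_factors {P : F[X]} (hP : P.Monic) (h0 : P.eval 0 ≠ 0) (hrev : P ∣ P.reverse) :
    ∃ (s : Finset F[X]) (e : F[X] → ℕ),
      (∀ f ∈ s, Irreducible f ∧ f.Monic ∧ f.eval 0 ≠ 0 ∧ 1 ≤ e f) ∧ P = ∏ f ∈ s, f ^ e f ∧
      (∀ f ∈ s, star f ∈ s ∧ e (star f) = e f) := by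
  classical
  set M := UniqueFactorizationMonoid.normalizedFactors P
  have hprod : M.prod = P :=
    (UniqueFactorizationMonoid.prod_normalizedFactors_eq hP.ne_zero).trans hP.normalize_eq_self
  have hmem : ∀ f ∈ M, Irreducible f ∧ f.Monic ∧ f.eval 0 ≠ 0 := fun f hf => by
    have hi := UniqueFactorizationMonoid.irreducible_of_normalized_factor f hf
    refine ⟨hi, ?_, fun h => h0 ?_⟩
    · rw [← UniqueFactorizationMonoid.normalize_normalized_factor f hf]
      exact monic_normalize hi.ne_zero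
    · obtain ⟨g, hg⟩ : f ∣ P := hprod ▸ Multiset.dvd_prod hf
      rw [hg, eval_mul, h, zero_mul]
  have hrevP : normalize P.reverse = P := by
    refine Polynomial.eq_of_monic_of_dvd_of_natDegree_le hP (monic_normalize ?_)
      (dvd_normalize_iff.2 hrev) (by rw [natDegree_eq_of_degree_eq degree_normalize, reverse_deg h0])
    rw [Ne, reverse_eq_zero]
    exact hP.ne_zero
  have hrevprod : ∀ N : Multiset F[X], N.prod.reverse = (N.map reverse).prod := by
    intro N
    induction N using Multiset.induction_on with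
    | empty => rw [Multiset.map_zero, Multiset.prod_zero, ← map_one (Polynomial.C : F →+* F[X]), reverse_C]
    | cons a N ih => rw [Multiset.prod_cons, Multiset.map_cons, Multiset.prod_cons, reverse_mul_of_domain, ih]
  have hMstar : M.map star = M := by
    have h1 : UniqueFactorizationMonoid.normalizedFactors P.reverse = M.map star := by
      rw [← hprod, hrevprod, UniqueFactorizationMonoid.normalizedFactors_prod_eq, Multiset.map_map]
      · rfl
      · intro a ha
        obtain ⟨f, hf, rfl⟩ := Multiset.mem_map.1 ha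
        exact reverse_irreducible (hmem f hf).1 (hmem f hf).2.2
    rw [← h1]
    exact ((UniqueFactorizationMonoid.associated_iff_normalizedFactors_eq_normalizedFactors
      (fun h => hP.ne_zero (reverse_eq_zero.1 h)) hP.ne_zero).1
      (by rw [← normalize_eq_normalize_iff_associated, hrevP, hP.normalize_eq_self]))
  refine ⟨M.toFinset, fun f => M.count f, fun f hf => ?_, ?_, fun f hf => ?_⟩
  · have hf' := Multiset.mem_toFinset.1 hf
    exact ⟨(hmem f hf').1, (hmem f hf').2.1, (hmem f hf').2.2, Multiset.one_le_count_iff_mem.2 hf'⟩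
  · conv_lhs => rw [← hprod, Finset.prod_multiset_count]
  · have hf' := Multiset.mem_toFinset.1 hf
    refine ⟨Multiset.mem_toFinset.2 (hMstar ▸ Multiset.mem_map_of_mem star hf'), ?_⟩
    show M.count (star f) = M.count f
    conv_lhs => rw [← hMstar]
    refine Multiset.count_map_eq_count star M (fun a ha b hb hab => ?_) f hf'
    rw [← star_star (hmem a ha).2.1 (hmem a ha).2.2, hab, star_star (hmem b hb).2.1 (hmem b hb).2.2]

end Polynomials

section Bound

theorem halves {u w n m c : ℕ} (h : u + w = n) (hn : n = 2 * m ∨ n = 2 * m + 1) (hc : w = c + c) :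
    u / 2 + w / 2 ≤ m ∧ (1 ≤ u → 1 ≤ w → u / 2 ≤ m - 1) ∧
      (1 ≤ u → 1 ≤ w → w / 2 ≤ m - 1 ∨ u = 1) := by omega

variable {F : Type*} [Field F] [Fintype F]

/-- The order bound for a self-reciprocal polynomial. -/
theorem poly_bound {P : F[X]} {n m : ℕ} (hP : P.Monic) (hdeg : P.natDegree = n)
    (hn : n = 2 * m ∨ n = 2 * m + 1 ∧ (2 : F) ≠ 0 ∧ 3 ≤ m) (h0 : P.eval 0 = (-1) ^ n) (hrev : P ∣ P.reverse) :
    ∃ N, 0 < N ∧ (Fintype.card F - 1) * N ≤ Fintype.card F ^ (m + 1) ∧
      (P ∣ X ^ N - 1 ∨ P ∣ X ^ N + 1) := by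
  classical
  obtain ⟨p, hchar⟩ := CharP.exists F
  obtain ⟨⟨a, ha⟩, hp, hqa⟩ := FiniteField.card F p
  have : Fact p.Prime := ⟨hp⟩
  set q := Fintype.card F with hqdef
  have hq2 : 2 ≤ q := Fintype.one_lt_card
  have hp2 : 2 ≤ p := hp.two_le
  have hpq : p ≤ q := hqa ▸ Nat.le_self_pow (by positivity) p
  have hP0 : P.eval 0 ≠ 0 := h0 ▸ pow_ne_zero _ (neg_ne_zero.2 one_ne_zero)
  obtain ⟨s, e, hs, hprod, hstar⟩ := exists_factors hP hP0 hrev
  set A : F[X] := X - C 1 with hA
  set B : F[X] := X + C 1 with hB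
  set s₀ := s.filter fun f => f ≠ A ∧ f ≠ B with hs₀
  set u := if A ∈ s then e A else 0 with hu
  set w := if B ∈ s ∧ B ≠ A then e B else 0 with hw
  have hsplit : ∑ f ∈ s, e f * f.natDegree = (∑ f ∈ s₀, e f * f.natDegree) + (u + w) := by
    rw [← Finset.sum_filter_add_sum_filter_not s (fun f => f ≠ A ∧ f ≠ B), ← hs₀]
    congr 1
    have hAB : s.filter (fun f => ¬(f ≠ A ∧ f ≠ B)) = s.filter (fun f => f = A) ∪ s.filter (fun f => f = B ∧ B ≠ A) := by
      ext f
      simp only [Finset.mem_filter, Finset.mem_union, not_and_or, not_not]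
      by_cases hfA : f = A
      · subst hfA; constructor <;> rintro h <;> tauto
      · by_cases hfB : f = B
        · subst hfB; simp [hfA]
        · simp [hfA, hfB]
    rw [hAB, Finset.sum_union (Finset.disjoint_filter.2 fun f _ h1 h2 => h2.2 (h2.1.symm.trans h1)),
      Finset.sum_filter, Finset.sum_ite_eq', hu, hw]
    congr 1
    · rw [hA, natDegree_X_sub_C, mul_one]
    · by_cases h : B ≠ A
      · simp only [eq_true h, and_true, Finset.sum_filter, Finset.sum_ite_eq']
        rw [hB, natDegree_X_add_C, mul_one]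
      · simp [h]
  have hdegsum : ∑ f ∈ s, e f * f.natDegree = n := by
    rw [← hdeg, hprod, natDegree_prod_of_monic _ _ fun f hf => (hs f hf).2.1.pow _]
    exact Finset.sum_congr rfl fun f _ => (natDegree_pow f (e f)).symm
  -- the exponent of the unipotent part
  set E := s.sup e with hE
  obtain ⟨k, hk, hkmin⟩ : ∃ k, E ≤ p ^ k ∧ (1 ≤ k → p ^ (k - 1) < E) := by
    have hex : ∃ k, E ≤ p ^ k := ⟨E, (Nat.lt_pow_self hp2).le⟩
    exact ⟨Nat.find hex, Nat.find_spec hex, fun h => not_le.1 (Nat.find_min hex (by omega))⟩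
  have hdvd : ∀ N, (∀ f ∈ s, f ∣ X ^ N - 1) → P ∣ X ^ (N * p ^ k) - 1 := by
    intro N hN
    have hpow : (X : F[X]) ^ (N * p ^ k) - 1 = (X ^ N - 1) ^ p ^ k := by
      rw [sub_pow_char_pow, one_pow, ← pow_mul]
    rw [hprod, hpow]
    refine Finset.prod_dvd_of_coprime (fun f hf g hg hfg => ?_) fun f hf => ?_
    · refine IsCoprime.pow ((hs f hf).1.coprime_iff_not_dvd.2 fun h => hfg ?_)
      exact eq_of_monic_of_associated (hs f hf).2.1 (hs g hg).2.1 ((hs f hf).1.associated_of_dvd (hs g hg).1 h)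
    · exact (pow_dvd_pow f ((Finset.le_sup hf).trans hk)).trans (pow_dvd_pow_of_dvd (hN f hf) _)
  -- slack for the unipotent part
  have hE1 : ∀ {x : ℕ}, 1 ≤ k → E = x → p ^ k ≤ q ^ (x - 1) := fun {x} hk1 hx => by
    have h1 : p ^ (k - 1) < x := hx ▸ hkmin hk1
    have h2 : k - 1 < x - 1 := by
      rcases x with _ | _ | x
      · omega
      · have := Nat.one_le_pow (k - 1) p (by omega)
        omega
      · by_contra hlt
        have h3 : p ^ (x + 1) ≤ p ^ (k - 1) := Nat.pow_le_pow_right (by omega) (by omega)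
        have h4 : x + 1 < 2 ^ (x + 1) := Nat.lt_two_pow_self
        have h5 : 2 ^ (x + 1) ≤ p ^ (x + 1) := Nat.pow_le_pow_left hp2 _
        omega
    exact (Nat.pow_le_pow_right (by omega) (by omega)).trans (Nat.pow_le_pow_left hpq _)
  have hE2 : ∀ {x : ℕ}, 1 ≤ k → E = x → (p = 2 → Even x) → p ^ k ≤ q ^ (x / 2) := fun {x} hk1 hx hev => by
    have h1 : p ^ (k - 1) < x := hx ▸ hkmin hk1
    refine (pow_le_of_mult (j := x / 2) hp2 ?_ hk1).trans (Nat.pow_le_pow_left hpq _)
    by_cases h2 : p = 2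
    · obtain ⟨c, rfl⟩ := hev h2
      omega
    · rcases Nat.lt_or_ge 1 k with hk2 | hk2
      · have hodd := Nat.odd_iff.1 ((hp.odd_of_ne_two h2).pow (n := k - 1))
        omega
      · rw [show k - 1 = 0 by omega, pow_zero] at h1 ⊢
        omega
  -- the blocks
  let blk : F[X] → Finset F[X] := fun f => {f, star f}
  set Ps := s₀.image blk
  let D : Finset F[X] → ℕ := fun b => (∑ f ∈ b, f.natDegree) / 2
  have hrootA : ∀ f ∈ s, f ∈ s₀ → f.eval 1 ≠ 0 ∧ f.eval (-1) ≠ 0 := fun f hf hf0 => by
    have hne := (Finset.mem_filter.1 hf0).2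
    constructor <;> intro h <;> [refine hne.1 ?_; refine hne.2 ?_]
    · exact eq_of_monic_of_associated (hs f hf).2.1 (monic_X_sub_C 1)
        ((irreducible_X_sub_C 1).associated_of_dvd (hs f hf).1 (dvd_iff_isRoot.2 h)).symm
    · rw [hB, show (X : F[X]) + C 1 = X - C (-1) by rw [map_neg, sub_neg_eq_add]]
      exact eq_of_monic_of_associated (hs f hf).2.1 (monic_X_sub_C _)
        ((irreducible_X_sub_C _).associated_of_dvd (hs f hf).1 (dvd_iff_isRoot.2 h)).symm
  have hstarA : star A = A := by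
    have hr : A.reverse = -A := by
      rw [hA, sub_eq_add_neg, ← map_neg C, reverse_add_C, ← pow_one X]
      simp [reverse]
    rw [star, hr, normalize_eq_normalize (neg_dvd.2 dvd_rfl) (dvd_neg.2 dvd_rfl)]
    exact (monic_X_sub_C 1).normalize_eq_self
  have hstarB : star B = B := by
    have hr : B.reverse = B := by
      rw [hB, reverse_add_C, ← pow_one X]
      simp [reverse]
      ring
    rw [star, hr]
    exact (monic_X_add_C 1).normalize_eq_self
  have hstar₀ : ∀ f ∈ s₀, star f ∈ s₀ := fun f hf => by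
    obtain ⟨hfs, hfA, hfB⟩ := Finset.mem_filter.1 hf
    refine Finset.mem_filter.2 ⟨(hstar f hfs).1, fun h => hfA ?_, fun h => hfB ?_⟩
    · rw [← star_star (hs f hfs).2.1 (hs f hfs).2.2.1, h, hstarA]
    · rw [← star_star (hs f hfs).2.1 (hs f hfs).2.2.1, h, hstarB]
  have hblk : ∀ f ∈ s₀, ∀ g ∈ blk f, blk g = blk f := fun f hf g hg => by
    have hfs := (Finset.mem_filter.1 hf).1
    rcases Finset.mem_insert.1 hg with rfl | hg
    · rfl
    · rw [Finset.mem_singleton.1 hg]
      show ({star f, star (star f)} : Finset F[X]) = {f, star f}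
      rw [star_star (hs f hfs).2.1 (hs f hfs).2.2.1, Finset.pair_comm]
  have hblock : ∀ b ∈ Ps, 1 ≤ D b ∧ ∀ f ∈ b, f ∣ X ^ (if b.card = 1 then q ^ D b + 1 else q ^ D b - 1) - 1 := by
    intro b hb
    obtain ⟨f, hf, rfl⟩ := Finset.mem_image.1 hb
    have hfs := (Finset.mem_filter.1 hf).1
    obtain ⟨hi, hm, hne, -⟩ := hs f hfs
    show 1 ≤ (∑ g ∈ ({f, star f} : Finset F[X]), g.natDegree) / 2 ∧ ∀ g ∈ ({f, star f} : Finset F[X]),
      g ∣ X ^ (if ({f, star f} : Finset F[X]).card = 1 then q ^ ((∑ g ∈ ({f, star f} : Finset F[X]), g.natDegree) / 2) + 1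
        else q ^ ((∑ g ∈ ({f, star f} : Finset F[X]), g.natDegree) / 2) - 1) - 1
    by_cases hsf : star f = f
    · have hdv : f ∣ f.reverse := by
        conv_lhs => rw [← hsf]
        exact (star_associated f).symm.dvd
      obtain ⟨i, hi', hdd⟩ := dvd_X_pow_add hi hm hne hdv (hrootA f hfs hf).1 (hrootA f hfs hf).2
      have hpos := hi.natDegree_pos
      rw [hsf, Finset.insert_eq_of_mem (Finset.mem_singleton_self f), Finset.sum_singleton,
        Finset.card_singleton, if_pos rfl, hi', Nat.mul_div_cancel_left _ two_pos]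
      exact ⟨by omega, fun g hg => Finset.mem_singleton.1 hg ▸ hdd⟩
    · have hpos := hi.natDegree_pos
      rw [Finset.sum_pair (Ne.symm hsf), Finset.card_pair (Ne.symm hsf), if_neg (by norm_num),
        natDegree_star hne, ← two_mul, Nat.mul_div_cancel_left _ two_pos]
      refine ⟨hpos, fun g hg => ?_⟩
      rcases Finset.mem_insert.1 hg with rfl | hg
      · exact dvd_X_pow_sub hi hm hne
      · rw [Finset.mem_singleton.1 hg, ← natDegree_star hne]
        obtain ⟨hi', hm', hne', -⟩ := hs _ (hstar f hfs).1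
        exact dvd_X_pow_sub hi' hm' hne'
  have hsum : ∀ c : F[X] → ℕ, ∑ f ∈ s₀, c f = ∑ b ∈ Ps, ∑ f ∈ b, c f := fun c => by
    rw [← Finset.sum_fiberwise_of_maps_to (g := blk) (t := Ps) fun f hf => Finset.mem_image_of_mem _ hf]
    refine Finset.sum_congr rfl fun b hb => Finset.sum_congr ?_ fun _ _ => rfl
    obtain ⟨f, hf, rfl⟩ := Finset.mem_image.1 hb
    ext g
    rw [Finset.mem_filter]
    refine ⟨fun h => h.2 ▸ Finset.mem_insert_self _ _, fun h => ⟨?_, hblk f hf g h⟩⟩
    rcases Finset.mem_insert.1 h with rfl | h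
    · exact hf
    · exact Finset.mem_singleton.1 h ▸ hstar₀ f hf
  have hcost : ∀ b ∈ Ps, ∃ x, 1 ≤ x ∧ (∀ f ∈ b, e f = x) ∧ ∑ f ∈ b, e f * f.natDegree = 2 * (x * D b) := by
    intro b hb
    obtain ⟨f, hf, rfl⟩ := Finset.mem_image.1 hb
    have hfs := (Finset.mem_filter.1 hf).1
    obtain ⟨hi, hm, hne, he⟩ := hs f hfs
    have hall : ∀ g ∈ ({f, star f} : Finset F[X]), e g = e f := fun g hg => by
      rcases Finset.mem_insert.1 hg with rfl | hg
      · rfl
      · rw [Finset.mem_singleton.1 hg]; exact (hstar f hfs).2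
    refine ⟨e f, he, hall, ?_⟩
    show ∑ g ∈ ({f, star f} : Finset F[X]), e g * g.natDegree =
      2 * (e f * ((∑ g ∈ ({f, star f} : Finset F[X]), g.natDegree) / 2))
    rw [Finset.sum_congr rfl fun g hg => by rw [hall g hg], ← Finset.mul_sum]
    have heven : 2 ∣ ∑ g ∈ ({f, star f} : Finset F[X]), g.natDegree := by
      by_cases hsf : star f = f
      · have hdv : f ∣ f.reverse := by
          conv_lhs => rw [← hsf]
          exact (star_associated f).symm.dvd
        obtain ⟨i, hi', -⟩ := dvd_X_pow_add hi hm hne hdv (hrootA f hfs hf).1 (hrootA f hfs hf).2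
        rw [hsf, Finset.insert_eq_of_mem (Finset.mem_singleton_self f), Finset.sum_singleton, hi']
        exact dvd_mul_right _ _
      · rw [Finset.sum_pair (Ne.symm hsf), natDegree_star hne, ← two_mul]
        exact dvd_mul_right _ _
    rw [mul_left_comm, Nat.mul_div_cancel' heven]
  choose! X' hX1 hXe hXc using hcost
  set T := ∑ b ∈ Ps, X' b * D b
  have hT : ∑ f ∈ s₀, e f * f.natDegree = 2 * T := by
    rw [hsum, Finset.mul_sum]
    exact Finset.sum_congr rfl fun b hb => hXc b hb
  have htotal : 2 * T + (u + w) = n := by rw [← hT, ← hsplit, hdegsum]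
  have hchar2 : p = 2 → n = 2 * m ∧ w = 0 := fun h => by
    subst h
    have h20 : (2 : F) = 0 := by exact_mod_cast CharP.cast_eq_zero F 2
    refine ⟨hn.resolve_right fun h' => h'.2.1 h20, ?_⟩
    rw [hw, if_neg]
    rintro ⟨-, h⟩
    refine h ?_
    have hchar' : CharP F[X] 2 := inferInstance
    rw [hA, hB, CharTwo.sub_eq_add]
  have hEmem : 1 ≤ k → (∃ b ∈ Ps, E = X' b) ∨ E = u ∨ E = w := fun hk1 => by
    have hne : s.Nonempty := by
      rw [Finset.nonempty_iff_ne_empty]
      intro h
      have hlt := hkmin hk1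
      simp [hE, h] at hlt
    obtain ⟨f, hf, hfe⟩ := Finset.exists_mem_eq_sup s hne e
    by_cases hfA : f = A
    · exact Or.inr (Or.inl (by rw [hu, if_pos (hfA ▸ hf), hE, hfe, hfA]))
    by_cases hfB : f = B
    · refine Or.inr (Or.inr ?_)
      rw [hw, if_pos ⟨hfB ▸ hf, fun h => hfA (hfB.trans h)⟩, hE, hfe, hfB]
    · have hf₀ : f ∈ s₀ := Finset.mem_filter.2 ⟨hf, hfA, hfB⟩
      refine Or.inl ⟨blk f, Finset.mem_image_of_mem _ hf₀, ?_⟩
      rw [hE, hfe]
      exact hXe _ (Finset.mem_image_of_mem _ hf₀) f (Finset.mem_insert_self _ _)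
  rcases Finset.eq_empty_or_nonempty s₀ with hemp | hne₀
  · -- only the eigenvalues `±1`
    have hT0 : T = 0 := by
      have := hT
      rw [hemp, Finset.sum_empty] at this
      omega
    have hk' : p ^ k ≤ q ^ m ∧ (1 ≤ u → 1 ≤ w → p ^ k ≤ q ^ (m - 1)) := by
      rcases Nat.eq_zero_or_pos k with hk0 | hk1
      · subst hk0
        simp only [pow_zero]
        exact ⟨Nat.one_le_pow _ _ (by omega), fun _ _ => Nat.one_le_pow _ _ (by omega)⟩
      have hw2 : Even w := by
        have h1 : P.eval 0 = (-1) ^ u := by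
          rw [hprod, eval_prod]
          simp only [eval_pow]
          have hsub : ∀ f ∈ s, f = A ∨ f = B := fun f hf => by
            by_contra h
            push Not at h
            have : f ∈ s₀ := Finset.mem_filter.2 ⟨hf, h⟩
            rw [hemp] at this
            exact Finset.notMem_empty f this
          rw [← Finset.prod_filter_mul_prod_filter_not s (fun f => f = A), Finset.prod_eq_one (s := s.filter fun f => ¬ f = A)]
          · rw [mul_one, Finset.filter_eq', hu]
            split_ifs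
            · rw [Finset.prod_singleton, hA, eval_sub, eval_X, eval_C, zero_sub]
            · simp
          · intro f hf
            obtain ⟨hf1, hf2⟩ := Finset.mem_filter.1 hf
            rw [(hsub f hf1).resolve_left hf2, hB, eval_add, eval_X, eval_C, zero_add, one_pow]
        rcases eq_or_ne p 2 with h2 | h2
        · rw [(hchar2 h2).2]; exact ⟨0, rfl⟩
        have hne1 : (-1 : F) ≠ 1 := fun h => h2 <| by
          have : ((2 : ℕ) : F) = 0 := by push_cast; linear_combination -h
          rw [CharP.cast_eq_zero_iff F p] at this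
          exact (Nat.prime_dvd_prime_iff_eq hp Nat.prime_two).1 this
        rw [h0, show n = u + w by omega, pow_add] at h1
        exact (neg_one_pow_eq_one_iff_even hne1).1
          (mul_left_cancel₀ (pow_ne_zero u (neg_ne_zero.2 one_ne_zero)) (h1.trans (mul_one _).symm))
      have hev : p = 2 → Even u := fun h => by
        obtain ⟨hn2, hw0⟩ := hchar2 h
        exact ⟨m, by omega⟩
      obtain ⟨c, hc⟩ := hw2
      have hmu : u / 2 + w / 2 ≤ m ∧ (1 ≤ u → 1 ≤ w → u / 2 ≤ m - 1) ∧
          (1 ≤ u → 1 ≤ w → w / 2 ≤ m - 1 ∨ u = 1) :=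
        halves (by rw [← htotal, hT0, mul_zero, zero_add]) (hn.imp_right And.left) hc
      rcases hEmem hk1 with ⟨b, hb, -⟩ | hEu | hEw
      · simp [Ps, hemp] at hb
      · refine ⟨(hE2 hk1 hEu hev).trans (Nat.pow_le_pow_right (by omega) (by omega)), fun h1 h2 => ?_⟩
        exact (hE2 hk1 hEu hev).trans (Nat.pow_le_pow_right (by omega) (hmu.2.1 h1 h2))
      · refine ⟨(hE2 hk1 hEw fun h => by rw [(hchar2 h).2]; exact ⟨0, rfl⟩).trans
          (Nat.pow_le_pow_right (by omega) (by omega)), fun h1 h2 => ?_⟩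
        rcases hmu.2.2 h1 h2 with h | h
        · exact (hE2 hk1 hEw fun h => by rw [(hchar2 h).2]; exact ⟨0, rfl⟩).trans (Nat.pow_le_pow_right (by omega) h)
        · -- `u = 1` forces odd dimension at least `7`
          rcases hn with hn | ⟨hn, h2F, hm3⟩
          · omega
          have hp3 : 3 ≤ p := by
            rcases Nat.lt_or_ge 2 p with h | h
            · exact h
            · exfalso
              have : p = 2 := by omega
              subst this
              exact h2F (by exact_mod_cast CharP.cast_eq_zero F 2)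
          refine (Nat.pow_le_pow_right (by omega) ?_).trans (Nat.pow_le_pow_left hpq _)
          by_contra hlt
          have h3 : p ^ (m - 1) ≤ p ^ (k - 1) := Nat.pow_le_pow_right (by omega) (by omega)
          have h4 : ∀ j, 2 ≤ j → 2 * (j + 1) ≤ 3 ^ j := fun j hj => by
            induction j, hj using Nat.le_induction with
            | base => norm_num
            | succ j hj ih => rw [pow_succ]; omega
          have h5 := (h4 (m - 1) (by omega)).trans (Nat.pow_le_pow_left hp3 _)
          have h6 : p ^ (k - 1) < w := hEw ▸ hkmin hk1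
          omega
    have hmono : ∀ f ∈ s, f = A ∨ f = B := fun f hf => by
      by_contra h
      push Not at h
      have : f ∈ s₀ := Finset.mem_filter.2 ⟨hf, h⟩
      rw [hemp] at this
      exact Finset.notMem_empty f this
    by_cases hBs : B ∈ s ∧ B ≠ A
    swap
    · refine ⟨p ^ k, pow_pos (by omega) _, ?_, Or.inl ?_⟩
      · exact (Nat.mul_le_mul (Nat.sub_le q 1) hk'.1).trans (le_of_eq (pow_succ' q m).symm)
      · have := hdvd 1 fun f hf => by
          have hfA : f = A := (hmono f hf).elim id fun h => by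
            by_contra hne
            exact hBs ⟨h ▸ hf, fun h' => hne (h.trans h')⟩
          rw [hfA, hA, pow_one, map_one]
        rwa [one_mul] at this
    by_cases hAs : A ∈ s
    · refine ⟨2 * p ^ k, Nat.mul_pos two_pos (pow_pos (by omega) _), ?_, Or.inl (hdvd 2 fun f hf => ?_)⟩
      · have h1 := hk'.2 (by rw [hu, if_pos hAs]; exact (hs A hAs).2.2.2)
          (by rw [hw, if_pos hBs]; exact (hs B hBs.1).2.2.2)
        have hm1 : 1 ≤ m := by
          have hu1 : 1 ≤ u := by rw [hu, if_pos hAs]; exact (hs A hAs).2.2.2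
          have hw1 : 1 ≤ w := by rw [hw, if_pos hBs]; exact (hs B hBs.1).2.2.2
          omega
        obtain ⟨m', rfl⟩ : ∃ m', m = m' + 1 := ⟨m - 1, by omega⟩
        rw [Nat.add_sub_cancel] at h1
        calc (q - 1) * (2 * p ^ k) ≤ q * (q * q ^ m') :=
              Nat.mul_le_mul (Nat.sub_le q 1) (Nat.mul_le_mul hq2 h1)
          _ = q ^ (m' + 1 + 1) := by ring
      · have e2 : (X : F[X]) ^ 2 - 1 = A * B := by rw [hA, hB, map_one]; ring
        rcases hmono f hf with h | h <;> rw [h, e2]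
        exacts [dvd_mul_right _ _, dvd_mul_left _ _]
    · refine ⟨p ^ k, pow_pos (by omega) _, ?_, Or.inr ?_⟩
      · exact (Nat.mul_le_mul (Nat.sub_le q 1) hk'.1).trans (le_of_eq (pow_succ' q m).symm)
      · have hs1 : s = {B} := Finset.eq_singleton_iff_unique_mem.2 ⟨hBs.1, fun f hf =>
          (hmono f hf).resolve_left fun h => hAs (h ▸ hf)⟩
        rw [hprod, hs1, Finset.prod_singleton,
          show (X : F[X]) ^ p ^ k + 1 = B ^ p ^ k by rw [hB, map_one, add_pow_char_pow, one_pow]]
        exact pow_dvd_pow _ ((Finset.le_sup hBs.1).trans hk)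
  · -- other eigenvalues occur
    set L := Ps.lcm fun b => if b.card = 1 then q ^ D b + 1 else q ^ D b - 1
    have hPne : Ps.Nonempty := hne₀.image _
    have hL0 : 0 < L := Nat.pos_of_ne_zero fun h => by
      rw [Finset.lcm_eq_zero_iff] at h
      obtain ⟨b, hb, h⟩ := h
      have h1 := (hblock b hb).1
      have := Nat.one_lt_pow (show D b ≠ 0 by omega) (show 1 < q by omega)
      split_ifs at h <;> omega
    have hslack : p ^ k * q ^ (∑ b ∈ Ps, D b) ≤ q ^ m := by
      have hTm : T + u / 2 + w / 2 ≤ m := by omega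
      rcases Nat.eq_zero_or_pos k with hk0 | hk1
      · subst hk0
        rw [pow_zero, one_mul]
        refine Nat.pow_le_pow_right (by omega) (le_trans (Finset.sum_le_sum fun b hb => ?_)
          (le_trans (Nat.le_add_right T (u / 2 + w / 2)) (by omega)))
        exact Nat.le_mul_of_pos_left _ (hX1 b hb)
      have hle : ∑ b ∈ Ps, D b ≤ T := Finset.sum_le_sum fun b hb => Nat.le_mul_of_pos_left _ (hX1 b hb)
      rcases hEmem hk1 with ⟨b, hb, hEb⟩ | hEu | hEw
      · refine (Nat.mul_le_mul_right _ (hE1 hk1 hEb)).trans ?_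
        rw [← pow_add]
        refine Nat.pow_le_pow_right (by omega) (le_trans ?_ (show T ≤ m by omega))
        rw [← Finset.add_sum_erase _ _ hb, show T = X' b * D b + ∑ b' ∈ Ps.erase b, X' b' * D b' from
          (Finset.add_sum_erase _ _ hb).symm, ← add_assoc]
        refine Nat.add_le_add ?_ (Finset.sum_le_sum fun b' hb' =>
          Nat.le_mul_of_pos_left _ (hX1 b' (Finset.mem_of_mem_erase hb')))
        have h1 := hX1 b hb
        have h2 := (hblock b hb).1
        obtain ⟨y, hy⟩ : ∃ y, X' b = y + 1 := ⟨X' b - 1, by omega⟩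
        rw [hy, Nat.add_sub_cancel, Nat.succ_mul]
        exact Nat.add_le_add_right (Nat.le_mul_of_pos_right _ h2) _
      · refine (Nat.mul_le_mul_right _ (hE2 hk1 hEu fun h => ?_)).trans ?_
        · obtain ⟨h1, h2⟩ := hchar2 h
          exact ⟨m - T, by omega⟩
        rw [← pow_add]
        exact Nat.pow_le_pow_right (by omega) (by omega)
      · refine (Nat.mul_le_mul_right _ (hE2 hk1 hEw fun h => ?_)).trans ?_
        · rw [(hchar2 h).2]; exact ⟨0, rfl⟩
        rw [← pow_add]
        exact Nat.pow_le_pow_right (by omega) (by omega)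
    refine ⟨L * p ^ k, Nat.mul_pos hL0 (pow_pos (by omega) _), ?_, Or.inl (hdvd L fun f hf => ?_)⟩
    · calc (q - 1) * (L * p ^ k) = (q - 1) * L * p ^ k := (mul_assoc _ _ _).symm
        _ ≤ q ^ (∑ b ∈ Ps, D b) * q * p ^ k :=
          Nat.mul_le_mul_right _ (lcm_weights hq2 Ps D (fun b => b.card = 1) fun b hb => (hblock b hb).1)
        _ = p ^ k * q ^ (∑ b ∈ Ps, D b) * q := by ring
        _ ≤ q ^ m * q := Nat.mul_le_mul_right _ hslack
        _ = q ^ (m + 1) := (pow_succ q m).symm
    · have hdiv : ∀ b ∈ Ps, (X : F[X]) ^ (if b.card = 1 then q ^ D b + 1 else q ^ D b - 1) - 1 ∣ X ^ L - 1 := by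
        intro b hb
        obtain ⟨c, hc⟩ : (if b.card = 1 then q ^ D b + 1 else q ^ D b - 1) ∣ L :=
          Finset.dvd_lcm (f := fun b => if b.card = 1 then q ^ D b + 1 else q ^ D b - 1) hb
        rw [hc, pow_mul]
        exact sub_one_dvd_pow_sub_one _ _
      by_cases hf₀ : f ∈ s₀
      · exact ((hblock _ (Finset.mem_image_of_mem _ hf₀)).2 f (Finset.mem_insert_self _ _)).trans
          (hdiv _ (Finset.mem_image_of_mem _ hf₀))
      have hfAB : f = A ∨ f = B := by
        by_contra h
        push Not at h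
        exact hf₀ (Finset.mem_filter.2 ⟨hf, h⟩)
      rcases hfAB with h | h
      · rw [h, hA, map_one]
        simpa using sub_one_dvd_pow_sub_one (X : F[X]) L
      · obtain ⟨b, hb⟩ := hPne
        have hLeven : Odd q → Even L := fun hq => by
          refine (even_iff_two_dvd).2 (dvd_trans ?_ (Finset.dvd_lcm hb))
          have hodd := Nat.odd_iff.1 (hq.pow (n := D b))
          split_ifs <;> omega
        rcases Nat.even_or_odd q with hq | hq
        · have h2 : p = 2 := by
            rw [hqa, Nat.even_pow] at hq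
            exact (hp.even_iff).1 hq.1
          subst h2
          rw [h, hB, map_one, show (X : F[X]) + 1 = X - 1 from (CharTwo.sub_eq_add _ _).symm]
          simpa using sub_one_dvd_pow_sub_one (X : F[X]) L
        · obtain ⟨c, hc⟩ := hLeven hq
          rw [h, hB, map_one, hc, ← two_mul, pow_mul]
          exact dvd_trans ⟨X - 1, by ring⟩ (sub_one_dvd_pow_sub_one _ _)

end Bound

end CfsgLib.Known.ClassicalOrderBound
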