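import Cfsg.Agent.Lib.Known.ClassicalOrderBound
import Cfsg.Agent.Lib.Classical.SylowTwo.Main
import Cfsg.Prelude.Def_Classical

/-!
# Orders of elements modulo the centre in groups with an invariant form
-/

set_option autoImplicit false

namespace CfsgLib.Known.ClassicalOrderBound

open Matrix Polynomial

variable {F : Type*} [Field F] {ι : Type*} [Fintype ι] [DecidableEq ι]

theorem eval_zero_charpoly {M : Matrix ι ι F} (hM : M.det = 1) :
    M.charpoly.eval 0 = (-1) ^ Fintype.card ι := by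
  have h := M.det_eq_sign_charpoly_coeff
  rw [hM] at h
  rw [← coeff_zero_eq_eval_zero]
  have h2 : (-1 : F) ^ Fintype.card ι * (-1 : F) ^ Fintype.card ι = 1 := by
    rw [← mul_pow, neg_mul_neg, one_mul, one_pow]
  linear_combination -(M.charpoly.coeff 0) * h2 - (-1 : F) ^ Fintype.card ι * h

theorem charpoly_dvd_reverse {M G : Matrix ι ι F} (hG : G.det ≠ 0) (hM : M.det = 1)
    (hinv : Mᵀ * G * M = G) : M.charpoly ∣ M.charpoly.reverse := by
  let U : (Matrix ι ι F)ˣ := Matrix.nonsingInvUnit G (isUnit_iff_ne_zero.2 hG)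
  have hU : (U : Matrix ι ι F) = G := rfl
  have hMi : M⁻¹ = (↑U⁻¹ : Matrix ι ι F) * Mᵀ * (U : Matrix ι ι F) := by
    refine Matrix.inv_eq_left_inv ?_
    rw [hU, mul_assoc, mul_assoc, ← mul_assoc Mᵀ G M, hinv, ← hU, Units.inv_mul]
  have h1 : M⁻¹.charpoly = M.charpoly := by
    rw [hMi, show (↑U⁻¹ : Matrix ι ι F) = (U : Matrix ι ι F)⁻¹ from Matrix.coe_units_inv U,
      Matrix.charpoly_units_conj', charpoly_transpose]
  rw [charpoly_inv M ((Matrix.isUnit_iff_isUnit_det M).2 (hM ▸ isUnit_one)), hM, Ring.inverse_one,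
    map_one, mul_one, ← reverse_charpoly] at h1
  exact ⟨(-1) ^ Fintype.card ι, by
    nth_rw 2 [← h1]
    rw [mul_right_comm, ← mul_pow, neg_mul_neg, one_mul, one_pow, one_mul]⟩

variable [Fintype F]

/-- The bound for a group with an invariant non-degenerate bilinear form and determinant one. -/
theorem orderOf_quotient_le {G₀ : Type*} [Group G₀] (φ : G₀ →* Matrix ι ι F)
    (hφ : Function.Injective φ) {Gm : Matrix ι ι F} (hG : Gm.det ≠ 0)
    (hinv : ∀ g, (φ g)ᵀ * Gm * φ g = Gm) (hdet : ∀ g, (φ g).det = 1) {m : ℕ}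
    (hn : Fintype.card ι = 2 * m ∨ Fintype.card ι = 2 * m + 1 ∧ (2 : F) ≠ 0 ∧ 3 ≤ m)
    (x : G₀ ⧸ Subgroup.center G₀) :
    (Fintype.card F - 1) * orderOf x ≤ Fintype.card F ^ (m + 1) := by
  obtain ⟨g, rfl⟩ := QuotientGroup.mk'_surjective _ x
  obtain ⟨N, hN, hbound, hdvd⟩ := poly_bound (φ g).charpoly_monic (φ g).charpoly_natDegree_eq_dim hn
    (eval_zero_charpoly (hdet g)) (charpoly_dvd_reverse hG (hdet g) (hinv g))
  have hpm : φ (g ^ N) = 1 ∨ φ (g ^ N) = -1 := by
    rw [map_pow]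
    rcases hdvd with ⟨R, hR⟩ | ⟨R, hR⟩
    · left
      have h := congrArg (aeval (φ g)) hR
      rw [map_mul, aeval_self_charpoly, zero_mul, map_sub, map_one, map_pow, aeval_X, sub_eq_zero] at h
      exact h
    · right
      have h := congrArg (aeval (φ g)) hR
      rw [map_mul, aeval_self_charpoly, zero_mul, map_add, map_one, map_pow, aeval_X,
        add_eq_zero_iff_eq_neg] at h
      exact h
  have hcen : g ^ N ∈ Subgroup.center G₀ := Subgroup.mem_center_iff.2 fun h => hφ <| by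
    rw [map_mul, map_mul]
    rcases hpm with e | e <;> rw [e] <;> simp
  refine le_trans (Nat.mul_le_mul_left _ (Nat.le_of_dvd hN (orderOf_dvd_of_pow_eq_one ?_))) hbound
  rw [← map_pow]
  exact (QuotientGroup.eq_one_iff _).2 hcen

/-- The bound for `Ω(Q)`. -/
theorem orderOf_POmega_le {κ : Type} [Fintype κ] [DecidableEq κ] (Q : QuadraticForm F (κ → F))
    (hQ : CfsgLib.Classical.PolarNondeg Q) {m : ℕ}
    (hn : Fintype.card κ = 2 * m ∨ Fintype.card κ = 2 * m + 1 ∧ (2 : F) ≠ 0 ∧ 3 ≤ m)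
    (x : Cfsg.POmega F ⇑Q) : (Fintype.card F - 1) * orderOf x ≤ Fintype.card F ^ (m + 1) := by
  refine orderOf_quotient_le ((Units.coeHom (Matrix κ κ F)).comp
    ((Cfsg.isometryGroup F ⇑Q).subtype.comp (Cfsg.Omega F ⇑Q).subtype))
    (Units.val_injective.comp (Subtype.val_injective.comp Subtype.val_injective))
    (CfsgLib.Classical.SylowTwo.det_polarGram_ne Q hQ) (fun g => ?_) (fun g => ?_) hn x
  · set M := ((g.1 : GL κ F) : Matrix κ κ F)
    have hform : ∀ v, Q (M *ᵥ v) = Q v := fun v => g.1.2 v v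
    refine Matrix.ext fun i j => ?_
    show (Mᵀ * CfsgLib.Classical.polarGram Q * M) i j = _
    have h1 : QuadraticMap.polar Q (M *ᵥ Pi.single i 1) (M *ᵥ Pi.single j 1) =
        QuadraticMap.polar Q (Pi.single i 1) (Pi.single j 1) := by
      simp only [QuadraticMap.polar, ← mulVec_add, hform]
    rw [CfsgLib.Classical.SylowTwo.polarGram_form Q (M *ᵥ Pi.single i 1), mulVec_mulVec, ← vecMul_transpose,
      ← dotProduct_mulVec, mulVec_mulVec, ← Matrix.mul_assoc] at h1
    simpa [Matrix.mulVec_single_one, dotProduct, Pi.single_apply, CfsgLib.Classical.polarGram] using h1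
  · exact congrArg Units.val (MonoidHom.mem_ker.1 (Abelianization.commutator_subset_ker
      (GeneralLinearGroup.det.comp (Cfsg.isometryGroup F ⇑Q).subtype) g.2))

end CfsgLib.Known.ClassicalOrderBound
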