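import Cfsg.Agent.Lib.Chev.Twist.D4Main
import Cfsg.Agent.Lib.Known.ChevG2Centralizer

/-!
# The involution classes of the twisted groups of type 3D4 in characteristic two

The positive unipotent group of `D4` over a field of characteristic two has an explicit
multiplication in coordinates grouped by the orbits of triality.  An involution of the twisted
group is conjugate to a root element of the twisted root system, long or short.
-/

set_option autoImplicit false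
set_option synthInstance.maxSize 4000

namespace CfsgLib.Chev.D4Invol

open Cfsg.Lie

universe v

variable {K : Type v} [Field K]

local notation "hD" => DataD4.facts
local notation "X" => xU chevD4

/-- The noncommuting pairs of positive roots, with their sums. -/
def pairs : List (ℕ × ℕ × ℕ) :=
  [(12, 14, 15), (12, 16, 17), (12, 19, 20), (12, 21, 22), (13, 14, 16), (13, 15, 17), (13, 19, 21),
    (13, 20, 22), (14, 18, 19), (14, 22, 23), (15, 18, 20), (15, 21, 23), (16, 18, 21), (16, 20, 23),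
    (17, 18, 22), (17, 19, 23)]

theorem pairs_ok : ∀ p ∈ pairs, p.1 < chevD4.nroots ∧ p.2.1 < chevD4.nroots ∧ p.2.1 ≠ p.1 ∧
    p.2.1 ≠ chevD4.neg p.1 ∧ p.1 ≠ chevD4.neg p.2.1 ∧ p.2.2 < chevD4.nroots ∧
    ((chevD4.commTerms p.1 p.2.1).map fun c => (c.1, c.2.1 * c.2.1, c.2.2.1, c.2.2.2)) = [(p.2.2, 1, 1, 1)] ∧
    ((chevD4.commTerms p.2.1 p.1).map fun c => (c.1, c.2.1 * c.2.1, c.2.2.1, c.2.2.2)) = [(p.2.2, 1, 1, 1)] := by
  decide +kernel

theorem nil_ok : ∀ r < chevD4.nroots, 12 ≤ r → ∀ s < chevD4.nroots, 12 ≤ s → r ≠ s →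
    (∀ p ∈ pairs, ¬ (p.1 = r ∧ p.2.1 = s) ∧ ¬ (p.1 = s ∧ p.2.1 = r)) →
    s ≠ chevD4.neg r ∧ chevD4.commTerms r s = [] := by
  decide +kernel

theorem lt24 {r : ℕ} (h : r < 24) : r < chevD4.nroots := by rwa [TwD4.tables.1]

/-- Root elements without commutator terms commute. -/
theorem swap_nil {r s : ℕ} (h : r < 24 ∧ s < 24 ∧ 12 ≤ r ∧ 12 ≤ s ∧ r ≠ s ∧
      ∀ p ∈ pairs, ¬ (p.1 = r ∧ p.2.1 = s) ∧ ¬ (p.1 = s ∧ p.2.1 = r)) (t u : K) (z : GL chevD4.Idx K) :
    X s u * (X r t * z) = X r t * (X s u * z) := by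
  obtain ⟨hr, hs, hr', hs', hne, hp⟩ := h
  obtain ⟨hn, hc⟩ := nil_ok r (lt24 hr) hr' s (lt24 hs) hs' hne hp
  rw [← mul_assoc, (hD).xU_comm good_D4.comm (lt24 hr) (lt24 hs) (Ne.symm hne) hn]
  simp [cwR, wU, hc, mul_assoc]

variable [CharP K 2]

theorem cast_unit {n : ℤ} (h : n * n = 1) : (n : K) = 1 := by
  rcases mul_self_eq_one_iff.1 h with rfl | rfl <;> simp [CharTwo.neg_eq]

/-- The commutator rule. -/
theorem swap {r s c : ℕ} (h : (r, s, c) ∈ pairs ∨ (s, r, c) ∈ pairs) (t u : K) (z : GL chevD4.Idx K) :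
    X s u * (X r t * z) = X r t * (X s u * (X c (t * u) * z)) := by
  have key : r < chevD4.nroots ∧ s < chevD4.nroots ∧ s ≠ r ∧ s ≠ chevD4.neg r ∧
      ((chevD4.commTerms r s).map fun d => (d.1, d.2.1 * d.2.1, d.2.2.1, d.2.2.2)) = [(c, 1, 1, 1)] := by
    rcases h with h | h <;> obtain ⟨h1, h2, h3, h4, h5, -, h6, h7⟩ := pairs_ok _ h
    · exact ⟨h1, h2, h3, h4, h6⟩
    · exact ⟨h2, h1, Ne.symm h3, h5, h7⟩
  obtain ⟨hr, hs, hne, hn, ht⟩ := key
  rw [← mul_assoc, (hD).xU_comm good_D4.comm hr hs hne hn]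
  obtain ⟨d, hd, he⟩ : ∃ d, chevD4.commTerms r s = [d] ∧ (d.1, d.2.1 * d.2.1, d.2.2.1, d.2.2.2) = (c, 1, 1, 1) := by
    obtain ⟨d, l, hd, he, hl⟩ := List.map_eq_cons_iff.1 ht
    rw [List.map_eq_nil_iff] at hl
    exact ⟨d, hl ▸ hd, he⟩
  simp only [Prod.mk.injEq] at he
  obtain ⟨e1, e2, e3, e4⟩ := he
  simp [cwR, wU, hd, e1, e3, e4, cast_unit e2, CharTwo.neg_eq, mul_assoc]

omit [CharP K 2] in
theorem merge {r : ℕ} (hr : r < 24) (t u : K) (z : GL chevD4.Idx K) :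
    X r t * (X r u * z) = X r (t + u) * z := by
  rw [← mul_assoc, (hD).xU_add (lt24 hr)]

omit [CharP K 2] in
theorem kill {r : ℕ} (hr : r < 24) (z : GL chevD4.Idx K) : X r (0 : K) * z = z := by
  rw [(hD).xU_zero (lt24 hr), one_mul]

/-- The ordered product, by orbits. -/
noncomputable def Qw (a x0 x1 x2 y0 y1 y2 z0 z1 z2 e f : K) : GL chevD4.Idx K :=
  X 14 a * (X 18 x0 * (X 13 x1 * (X 12 x2 * (X 19 y0 * (X 16 y1 * (X 15 y2 * (X 20 z0 * (X 21 z1 *
    (X 17 z2 * (X 22 e * (X 23 f * 1)))))))))))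

theorem coord_ok : coordB chevD4 [14, 18, 13, 12, 19, 16, 15, 20, 21, 17, 22, 23] = true := by
  decide +kernel

set_option maxHeartbeats 1600000 in
theorem Qw_mul (a x0 x1 x2 y0 y1 y2 z0 z1 z2 e f a' x0' x1' x2' y0' y1' y2' z0' z1' z2' e' f' : K) :
    Qw a x0 x1 x2 y0 y1 y2 z0 z1 z2 e f * Qw a' x0' x1' x2' y0' y1' y2' z0' z1' z2' e' f' =
      Qw (a + a') (x0 + x0') (x1 + x1') (x2 + x2') (a' * x0 + (y0 + y0')) (a' * x1 + (y1 + y1'))
        (a' * x2 + (y2 + y2'))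
        ((x2 + x2') * (a' * x0) + (x0' * (a' * x2) + (x2' * y0 + (x0' * y2 + (z0 + z0')))))
        ((x1 + x1') * (a' * x0) + (x0' * (a' * x1) + (x1' * y0 + (x0' * y1 + (z1 + z1')))))
        ((x2 + x2') * (a' * x1) + (x1' * (a' * x2) + (x2' * y1 + (x1' * y2 + (z2 + z2')))))
        ((x2 + x2') * ((x1 + x1') * (a' * x0)) + ((x2 + x2') * (x0' * (a' * x1)) + (x1' * (x0' * (a' * x2)) +
          (x2' * (x1' * y0) + (x2' * (x0' * y1) + (x1' * (x0' * y2) + (x1' * z0 + (x2' * z1 +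
          (x0' * z2 + (e + e'))))))))))
        ((a' * x1 + (y1 + y1')) * ((x2 + x2') * (a' * x0)) + ((a' * x2 + (y2 + y2')) * ((x1 + x1') * (a' * x0)) +
          ((y0 + y0') * ((x2 + x2') * (a' * x1)) + ((a' * x2 + (y2 + y2')) * (x0' * (a' * x1)) +
          ((y0 + y0') * (x1' * (a' * x2)) + ((y1 + y1') * (x0' * (a' * x2)) + ((y1 + y1') * (x2' * y0) +
          ((y2 + y2') * (x1' * y0) + (y0' * (x2' * y1) + ((y2 + y2') * (x0' * y1) + (y0' * (x1' * y2) +
          (y1' * (x0' * y2) + (y1' * z0 + (y2' * z1 + (y0' * z2 + (a' * e + (f + f'))))))))))))))))) := by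
  have n {r s : ℕ} (h : r < 24 ∧ s < 24 ∧ 12 ≤ r ∧ 12 ≤ s ∧ r ≠ s ∧
      ∀ p ∈ pairs, ¬ (p.1 = r ∧ p.2.1 = s) ∧ ¬ (p.1 = s ∧ p.2.1 = r)) := swap_nil (K := K) h
  simp only [Qw, mul_assoc, one_mul,
    swap (r := 14) (s := 12) (c := 15) (by decide),
    swap (r := 12) (s := 16) (c := 17) (by decide), swap (r := 12) (s := 19) (c := 20) (by decide),
    swap (r := 12) (s := 21) (c := 22) (by decide), swap (r := 14) (s := 13) (c := 16) (by decide),
    swap (r := 13) (s := 15) (c := 17) (by decide), swap (r := 13) (s := 19) (c := 21) (by decide),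
    swap (r := 13) (s := 20) (c := 22) (by decide), swap (r := 14) (s := 18) (c := 19) (by decide),
    swap (r := 14) (s := 22) (c := 23) (by decide), swap (r := 18) (s := 15) (c := 20) (by decide),
    swap (r := 15) (s := 21) (c := 23) (by decide), swap (r := 18) (s := 16) (c := 21) (by decide),
    swap (r := 16) (s := 20) (c := 23) (by decide), swap (r := 18) (s := 17) (c := 22) (by decide),
    swap (r := 19) (s := 17) (c := 23) (by decide),
    n (r := 14) (s := 19) (by decide), n (r := 14) (s := 16) (by decide), n (r := 14) (s := 15) (by decide),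
    n (r := 14) (s := 20) (by decide), n (r := 14) (s := 21) (by decide), n (r := 14) (s := 17) (by decide),
    n (r := 14) (s := 23) (by decide),
    n (r := 18) (s := 13) (by decide), n (r := 18) (s := 12) (by decide), n (r := 13) (s := 12) (by decide),
    n (r := 18) (s := 19) (by decide), n (r := 18) (s := 20) (by decide), n (r := 18) (s := 21) (by decide),
    n (r := 18) (s := 22) (by decide), n (r := 18) (s := 23) (by decide),
    n (r := 13) (s := 16) (by decide), n (r := 13) (s := 21) (by decide), n (r := 13) (s := 17) (by decide),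
    n (r := 13) (s := 22) (by decide), n (r := 13) (s := 23) (by decide),
    n (r := 12) (s := 15) (by decide), n (r := 12) (s := 20) (by decide), n (r := 12) (s := 17) (by decide),
    n (r := 12) (s := 22) (by decide), n (r := 12) (s := 23) (by decide),
    n (r := 19) (s := 16) (by decide), n (r := 19) (s := 15) (by decide), n (r := 19) (s := 20) (by decide),
    n (r := 19) (s := 21) (by decide), n (r := 19) (s := 22) (by decide), n (r := 19) (s := 23) (by decide),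
    n (r := 16) (s := 15) (by decide), n (r := 16) (s := 21) (by decide), n (r := 16) (s := 17) (by decide),
    n (r := 16) (s := 22) (by decide), n (r := 16) (s := 23) (by decide),
    n (r := 15) (s := 20) (by decide), n (r := 15) (s := 17) (by decide), n (r := 15) (s := 22) (by decide),
    n (r := 15) (s := 23) (by decide),
    n (r := 20) (s := 21) (by decide), n (r := 20) (s := 17) (by decide), n (r := 20) (s := 22) (by decide),
    n (r := 20) (s := 23) (by decide), n (r := 21) (s := 17) (by decide), n (r := 21) (s := 22) (by decide),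
    n (r := 21) (s := 23) (by decide), n (r := 17) (s := 22) (by decide), n (r := 17) (s := 23) (by decide),
    n (r := 22) (s := 23) (by decide),
    merge (r := 14) (by decide), merge (r := 18) (by decide), merge (r := 13) (by decide),
    merge (r := 12) (by decide), merge (r := 19) (by decide), merge (r := 16) (by decide),
    merge (r := 15) (by decide), merge (r := 20) (by decide), merge (r := 21) (by decide),
    merge (r := 17) (by decide), merge (r := 22) (by decide), merge (r := 23) (by decide)]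

omit [CharP K 2] in
theorem Qw_inj [Finite K] {a x0 x1 x2 y0 y1 y2 z0 z1 z2 e f a' x0' x1' x2' y0' y1' y2' z0' z1' z2' e' f' : K}
    (h : Qw a x0 x1 x2 y0 y1 y2 z0 z1 z2 e f = Qw a' x0' x1' x2' y0' y1' y2' z0' z1' z2' e' f') :
    a = a' ∧ (x0 = x0' ∧ x1 = x1' ∧ x2 = x2') ∧ (y0 = y0' ∧ y1 = y1' ∧ y2 = y2') ∧
      (z0 = z0' ∧ z1 = z1' ∧ z2 = z2') ∧ e = e' ∧ f = f' := by
  have := (hD).coords_unique good_D4.comm coord_ok (ts := [a, x0, x1, x2, y0, y1, y2, z0, z1, z2, e, f])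
    (ts' := [a', x0', x1', x2', y0', y1', y2', z0', z1', z2', e', f']) rfl rfl
    (by simpa [Qw, wU, mul_assoc] using h)
  simpa [and_assoc] using this

omit [CharP K 2] in
theorem Qw_mem (a x0 x1 x2 y0 y1 y2 z0 z1 z2 e f : K) :
    Qw a x0 x1 x2 y0 y1 y2 z0 z1 z2 e f ∈ rootClosure chevD4 K (12 ≤ ·) := by
  have h : ∀ r, r < 24 → 12 ≤ r → ∀ t : K, X r t ∈ rootClosure chevD4 K (12 ≤ ·) :=
    fun r hr hr' t => xU_mem_rootClosure (lt24 hr) hr' t
  exact Subgroup.mul_mem _ (h 14 (by norm_num) (by norm_num) a) (Subgroup.mul_mem _ (h 18 (by norm_num) (by norm_num) x0)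
    (Subgroup.mul_mem _ (h 13 (by norm_num) (by norm_num) x1) (Subgroup.mul_mem _ (h 12 (by norm_num) (by norm_num) x2)
    (Subgroup.mul_mem _ (h 19 (by norm_num) (by norm_num) y0) (Subgroup.mul_mem _ (h 16 (by norm_num) (by norm_num) y1)
    (Subgroup.mul_mem _ (h 15 (by norm_num) (by norm_num) y2) (Subgroup.mul_mem _ (h 20 (by norm_num) (by norm_num) z0)
    (Subgroup.mul_mem _ (h 21 (by norm_num) (by norm_num) z1) (Subgroup.mul_mem _ (h 17 (by norm_num) (by norm_num) z2)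
    (Subgroup.mul_mem _ (h 22 (by norm_num) (by norm_num) e) (Subgroup.mul_mem _ (h 23 (by norm_num) (by norm_num) f)
    (Subgroup.one_mem _))))))))))))

omit [CharP K 2] in
theorem Qw_congr {a x0 x1 x2 y0 y1 y2 z0 z1 z2 e f a' x0' x1' x2' y0' y1' y2' z0' z1' z2' e' f' : K}
    (ha : a = a') (hx0 : x0 = x0') (hx1 : x1 = x1') (hx2 : x2 = x2') (hy0 : y0 = y0') (hy1 : y1 = y1')
    (hy2 : y2 = y2') (hz0 : z0 = z0') (hz1 : z1 = z1') (hz2 : z2 = z2') (he : e = e') (hf : f = f') :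
    Qw a x0 x1 x2 y0 y1 y2 z0 z1 z2 e f = Qw a' x0' x1' x2' y0' y1' y2' z0' z1' z2' e' f' := by
  subst_vars; rfl

/-! ### The twisted group -/

variable [Fintype K] {q : ℕ} (C : TwD4.Ctx K q)
include C

omit [CharP K 2] in
theorem f3 (t : K) : C.f (C.f (C.f t)) = t := C.pow_three t

/-- An element of the twisted positive unipotent group in coordinates. -/
noncomputable def Qt (a x y z e f : K) : GL chevD4.Idx K :=
  Qw a x (C.f x) (C.f (C.f x)) y (C.f y) (C.f (C.f y)) z (C.f z) (C.f (C.f z)) e f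

omit [Fintype K] C in
theorem rho_vals : parD4.rho 14 = 14 ∧ parD4.rho 18 = 13 ∧ parD4.rho 13 = 12 ∧ parD4.rho 12 = 18 ∧
    parD4.rho 19 = 16 ∧ parD4.rho 16 = 15 ∧ parD4.rho 15 = 19 ∧ parD4.rho 20 = 21 ∧ parD4.rho 21 = 17 ∧
    parD4.rho 17 = 20 ∧ parD4.rho 22 = 22 ∧ parD4.rho 23 = 23 := by
  decide +kernel

theorem img (r : ℕ) (hr : r < 24) (t : K) : Img C.σ (X r t) (X (parD4.rho r) (C.f t)) := by
  have h := C.sig.img_xU (r := r) (lt24 hr) t
  rcases parD4_ok.eps_pm r (lt24 hr) with he | he <;>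
    simpa [TwPar.coef, he, show parD4.lam r = 1 from rfl, CharTwo.neg_eq] using h

theorem Qt_fixed {a x y z e f : K} (ha : C.f a = a) (he : C.f e = e) (hf : C.f f = f) :
    Qt C a x y z e f ∈ fixS C.σ := by
  obtain ⟨r14, r18, r13, r12, r19, r16, r15, r20, r21, r17, r22, r23⟩ := rho_vals
  refine mem_fixS.2 ?_
  have h := ((img C 14 (by norm_num) a).mul ((img C 18 (by norm_num) x).mul ((img C 13 (by norm_num) (C.f x)).mul
    ((img C 12 (by norm_num) (C.f (C.f x))).mul ((img C 19 (by norm_num) y).mul ((img C 16 (by norm_num) (C.f y)).mul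
    ((img C 15 (by norm_num) (C.f (C.f y))).mul ((img C 20 (by norm_num) z).mul ((img C 21 (by norm_num) (C.f z)).mul
    ((img C 17 (by norm_num) (C.f (C.f z))).mul ((img C 22 (by norm_num) e).mul
    ((img C 23 (by norm_num) f).mul Img.one))))))))))))
  rw [r14, r18, r13, r12, r19, r16, r15, r20, r21, r17, r22, r23, ha, he, hf, f3, f3, f3] at h
  have n {r s : ℕ} (h : r < 24 ∧ s < 24 ∧ 12 ≤ r ∧ 12 ≤ s ∧ r ≠ s ∧
      ∀ p ∈ pairs, ¬ (p.1 = r ∧ p.2.1 = s) ∧ ¬ (p.1 = s ∧ p.2.1 = r)) := swap_nil (K := K) h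
  simp only [n (r := 18) (s := 12) (by decide), n (r := 18) (s := 13) (by decide),
    n (r := 19) (s := 15) (by decide), n (r := 19) (s := 16) (by decide),
    n (r := 20) (s := 17) (by decide), n (r := 20) (s := 21) (by decide)] at h
  exact h

theorem Qt_mem {a x y z e f : K} (ha : C.f a = a) (he : C.f e = e) (hf : C.f f = f) :
    Qt C a x y z e f ∈ twistedD4 K q :=
  C.sys.posU_le ⟨Qt_fixed C ha he hf, by
    rw [show chevD4.nroots / 2 = 12 by decide +kernel]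
    exact Qw_mem _ _ _ _ _ _ _ _ _ _ _ _⟩

/-- The positive elements of the twisted group have twisted coordinates. -/
theorem exists_Qt {g : GL chevD4.Idx K} (hg : g ∈ twistedD4 K q) (hp : g ∈ rootClosure chevD4 K (12 ≤ ·)) :
    ∃ a x y z e f : K, C.f a = a ∧ C.f e = e ∧ C.f f = f ∧ g = Qt C a x y z e f := by
  classical
  set Fq := {t : K // C.f t = t}
  have hq : Nat.card Fq = q := by
    rw [← card_field_fix C.q_gt C.card]
    exact Nat.card_congr (Equiv.subtypeEquivRight fun t => by rw [C.hf])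
  set U : Subgroup (GL chevD4.Idx K) := chevD4.posUnipotent K ⊓ twistedD4 K q
  have hU : ∀ v, v ∈ rootClosure chevD4 K (12 ≤ ·) → v ∈ chevD4.posUnipotent K := fun v hv => by
    rwa [DataD4.facts.posUnipotent_eq, show chevD4.nroots / 2 = 12 by decide +kernel]
  let Φ : (Fq × K × K × K × Fq × Fq) → U := fun p =>
    ⟨Qt C p.1.1 p.2.1 p.2.2.1 p.2.2.2.1 p.2.2.2.2.1.1 p.2.2.2.2.2.1,
      hU _ (Qw_mem _ _ _ _ _ _ _ _ _ _ _ _), Qt_mem C p.1.2 p.2.2.2.2.1.2 p.2.2.2.2.2.2⟩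
  have hinj : Function.Injective Φ := by
    rintro ⟨⟨a, ha⟩, x, y, z, ⟨e, he⟩, ⟨f, hf⟩⟩ ⟨⟨a', ha'⟩, x', y', z', ⟨e', he'⟩, ⟨f', hf'⟩⟩ h
    obtain ⟨h1, ⟨h2, -⟩, ⟨h3, -⟩, ⟨h4, -⟩, h5, h6⟩ := Qw_inj (Subtype.mk.inj h)
    simp only at h1 h2 h3 h4 h5 h6
    subst h1 h2 h3 h4 h5 h6
    rfl
  have hcard : Nat.card U ≤ Nat.card (Fq × K × K × K × Fq × Fq) := by
    rw [C.card_posU]
    simp only [Nat.card_prod, hq, Nat.card_eq_fintype_card (α := K), C.card]
    exact le_of_eq (by ring)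
  obtain ⟨⟨a, x, y, z, e, f⟩, h⟩ := (hinj.bijective_of_nat_card_le hcard).2 ⟨g, hU g hp, hg⟩
  exact ⟨a.1, x, y, z, e.1, f.1, a.2, e.2, f.2, (congrArg Subtype.val h).symm⟩

/-- A positive element of the twisted group is determined by six of its coordinates. -/
theorem of_coords {a x0 x1 x2 y0 y1 y2 z0 z1 z2 e f : K}
    (h : Qw a x0 x1 x2 y0 y1 y2 z0 z1 z2 e f ∈ twistedD4 K q) :
    C.f a = a ∧ C.f e = e ∧ C.f f = f ∧
      Qw a x0 x1 x2 y0 y1 y2 z0 z1 z2 e f = Qt C a x0 y0 z0 e f := by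
  obtain ⟨a', x', y', z', e', f', ha, he, hf, hg⟩ := exists_Qt C h (Qw_mem _ _ _ _ _ _ _ _ _ _ _ _)
  obtain ⟨rfl, ⟨rfl, -⟩, ⟨rfl, -⟩, ⟨rfl, -⟩, rfl, rfl⟩ := Qw_inj hg
  exact ⟨ha, he, hf, hg⟩

/-- Fixed by the field endomorphism. -/
def Fx (a e f : K) : Prop := C.f a = a ∧ C.f e = e ∧ C.f f = f

/-- The twisted multiplication. -/
theorem Qt_mul {a x y z e f a' x' y' z' e' f' : K} (h : Fx C a e f) (h' : Fx C a' e' f') :
    Qt C a x y z e f * Qt C a' x' y' z' e' f' =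
      Qt C (a + a') (x + x') (a' * x + (y + y'))
        ((C.f (C.f x) + C.f (C.f x')) * (a' * x) + (x' * (a' * C.f (C.f x)) + (C.f (C.f x') * y +
          (x' * C.f (C.f y) + (z + z')))))
        ((C.f (C.f x) + C.f (C.f x')) * ((C.f x + C.f x') * (a' * x)) +
          ((C.f (C.f x) + C.f (C.f x')) * (x' * (a' * C.f x)) + (C.f x' * (x' * (a' * C.f (C.f x))) +
          (C.f (C.f x') * (C.f x' * y) + (C.f (C.f x') * (x' * C.f y) + (C.f x' * (x' * C.f (C.f y)) +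
          (C.f x' * z + (C.f (C.f x') * C.f z + (x' * C.f (C.f z) + (e + e'))))))))))
        ((a' * C.f x + (C.f y + C.f y')) * ((C.f (C.f x) + C.f (C.f x')) * (a' * x)) +
          ((a' * C.f (C.f x) + (C.f (C.f y) + C.f (C.f y'))) * ((C.f x + C.f x') * (a' * x)) +
          ((y + y') * ((C.f (C.f x) + C.f (C.f x')) * (a' * C.f x)) +
          ((a' * C.f (C.f x) + (C.f (C.f y) + C.f (C.f y'))) * (x' * (a' * C.f x)) +
          ((y + y') * (C.f x' * (a' * C.f (C.f x))) + ((C.f y + C.f y') * (x' * (a' * C.f (C.f x))) +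
          ((C.f y + C.f y') * (C.f (C.f x') * y) + ((C.f (C.f y) + C.f (C.f y')) * (C.f x' * y) +
          (y' * (C.f (C.f x') * C.f y) + ((C.f (C.f y) + C.f (C.f y')) * (x' * C.f y) +
          (y' * (C.f x' * C.f (C.f y)) + (C.f y' * (x' * C.f (C.f y)) + (C.f y' * z +
          (C.f (C.f y') * C.f z + (y' * C.f (C.f z) + (a' * e + (f + f'))))))))))))))))) := by
  have hm := Subgroup.mul_mem _ (Qt_mem C (x := x) (y := y) (z := z) h.1 h.2.1 h.2.2)
    (Qt_mem C (x := x') (y := y') (z := z') h'.1 h'.2.1 h'.2.2)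
  rw [Qt, Qt, Qw_mul] at hm ⊢
  exact (of_coords C hm).2.2.2

theorem Qt_congr {a x y z e f a' x' y' z' e' f' : K} (ha : a = a') (hx : x = x') (hy : y = y')
    (hz : z = z') (he : e = e') (hf : f = f') : Qt C a x y z e f = Qt C a' x' y' z' e' f' := by
  subst_vars; rfl

theorem Qt_zero : Qt C 0 0 0 0 0 0 = 1 := by
  simp [Qt, Qw, (hD).xU_zero, TwD4.tables.1]

theorem Qt_inj {a x y z e f a' x' y' z' e' f' : K} (h : Qt C a x y z e f = Qt C a' x' y' z' e' f') :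
    a = a' ∧ x = x' ∧ y = y' ∧ z = z' ∧ e = e' ∧ f = f' := by
  obtain ⟨h1, ⟨h2, -⟩, ⟨h3, -⟩, ⟨h4, -⟩, h5, h6⟩ := Qw_inj h
  exact ⟨h1, h2, h3, h4, h5, h6⟩

/-- Conjugacy in the twisted group. -/
def Conj' (_C : TwD4.Ctx K q) (g g' : GL chevD4.Idx K) : Prop := ∃ h ∈ twistedD4 K q, h * g * h⁻¹ = g'

theorem Conj'.trans {g g' g'' : GL chevD4.Idx K} (h : Conj' C g g') (h' : Conj' C g' g'') :
    Conj' C g g'' := by
  obtain ⟨x, hx, rfl⟩ := h
  obtain ⟨y, hy, rfl⟩ := h'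
  exact ⟨y * x, Subgroup.mul_mem _ hy hx, by group⟩

theorem conj_of_invol {s g g' : GL chevD4.Idx K} (hs : s ∈ twistedD4 K q) (h2 : s * s = 1)
    (e : s * g * s = g') : Conj' C g g' :=
  ⟨s, hs, by rw [inv_eq_of_mul_eq_one_right h2, e]⟩

theorem sq_one_of_conj {g g' : GL chevD4.Idx K} (h : g * g = 1) (hc : Conj' C g g') : g' * g' = 1 := by
  obtain ⟨x, -, rfl⟩ := hc
  rw [show x * g * x⁻¹ * (x * g * x⁻¹) = x * (g * g) * x⁻¹ by group, h]
  group

/-- The conditions on an involution. -/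
theorem sq_Qt {a x y z e f : K} (h : Fx C a e f) (h2 : Qt C a x y z e f * Qt C a x y z e f = 1) :
    a * x = 0 ∧ (a = 0 → C.f (C.f x) * y + x * C.f (C.f y) = 0) ∧
      (a = 0 → y = 0 → C.f x * z + C.f (C.f x) * C.f z + x * C.f (C.f z) = 0) ∧
      (x = 0 → C.f y * z + C.f (C.f y) * C.f z + y * C.f (C.f z) + a * e = 0) := by
  rw [Qt_mul C h h, ← Qt_zero C] at h2
  obtain ⟨-, -, e3, e4, e5, e6⟩ := Qt_inj C h2
  refine ⟨?_, ?_, ?_, ?_⟩
  · linear_combination e3 - y * (CharTwo.two_eq_zero : (2 : K) = 0)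
  · rintro rfl
    linear_combination e4 - z * (CharTwo.two_eq_zero : (2 : K) = 0)
  · rintro rfl rfl
    simp only [map_zero, mul_zero, zero_add] at e5
    linear_combination e5 - e * (CharTwo.two_eq_zero : (2 : K) = 0)
  · rintro rfl
    simp only [map_zero, mul_zero, zero_mul, zero_add, add_zero] at e6
    linear_combination e6 - f * (CharTwo.two_eq_zero : (2 : K) = 0)

theorem fx_sqrt {t : K} (h : C.f (t ^ 2) = t ^ 2) : C.f t = t := by
  rw [map_pow] at h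
  exact CharTwo.sq_injective h

theorem exists_sqrt (x : K) : ∃ y : K, y ^ 2 = x :=
  (Finite.injective_iff_surjective.1 fun _ _ h => CharTwo.sq_injective h :
    Function.Surjective fun y : K => y ^ 2) x

theorem fne {t : K} (h : t ≠ 0) : C.f t ≠ 0 := (map_ne_zero C.f).2 h

/-- The root elements that remain. -/
def Target (g : GL chevD4.Idx K) : Prop :=
  (∃ x : K, x ≠ 0 ∧ Conj' C g (Qt C 0 x 0 0 0 0)) ∨ (∃ y : K, y ≠ 0 ∧ Conj' C g (Qt C 0 0 y 0 0 0)) ∨
    (∃ z : K, z ≠ 0 ∧ Conj' C g (Qt C 0 0 0 z 0 0)) ∨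
    (∃ e : K, e ≠ 0 ∧ C.f e = e ∧ Conj' C g (Qt C 0 0 0 0 e 0)) ∨
    (∃ f : K, f ≠ 0 ∧ C.f f = f ∧ Conj' C g (Qt C 0 0 0 0 0 f))

theorem Target.of_conj {g g' : GL chevD4.Idx K} (h : Conj' C g g') (h' : Target C g') : Target C g := by
  rcases h' with ⟨x, hx, hc⟩ | ⟨x, hx, hc⟩ | ⟨x, hx, hc⟩ | ⟨x, hx, hx', hc⟩ | ⟨x, hx, hx', hc⟩
  · exact Or.inl ⟨x, hx, h.trans C hc⟩
  · exact Or.inr (Or.inl ⟨x, hx, h.trans C hc⟩)
  · exact Or.inr (Or.inr (Or.inl ⟨x, hx, h.trans C hc⟩))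
  · exact Or.inr (Or.inr (Or.inr (Or.inl ⟨x, hx, hx', h.trans C hc⟩)))
  · exact Or.inr (Or.inr (Or.inr (Or.inr ⟨x, hx, hx', h.trans C hc⟩)))

theorem conj_self (g : GL chevD4.Idx K) : Conj' C g g := ⟨1, Subgroup.one_mem _, by simp⟩

omit [Fintype K] C in
theorem six : (6 : K) = 0 := by linear_combination 3 * (CharTwo.two_eq_zero : (2 : K) = 0)

omit [Fintype K] C in
theorem four : (4 : K) = 0 := by linear_combination 2 * (CharTwo.two_eq_zero : (2 : K) = 0)

omit [Fintype K] C in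
theorem three : (3 : K) = 1 := by linear_combination (CharTwo.two_eq_zero : (2 : K) = 0)

/-- Conjugation by an involutory root element of the twisted group. -/
theorem conj_Qt {s x' y' z' : K} (hs : C.f s = s) (hcase : s = 0 ∧ (x' = 0 ∧ y' = 0 ∨ x' = 0 ∧ z' = 0 ∨
      y' = 0 ∧ z' = 0) ∨ x' = 0 ∧ y' = 0 ∧ z' = 0) {g g' : GL chevD4.Idx K}
    (e : Qt C s x' y' z' 0 0 * g * Qt C s x' y' z' 0 0 = g') : Conj' C g g' := by
  have h0 : Fx C s 0 0 := ⟨hs, map_zero _, map_zero _⟩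
  refine conj_of_invol C (Qt_mem C hs (map_zero _) (map_zero _)) ?_ e
  rw [Qt_mul C h0 h0, ← Qt_zero C]
  rcases hcase with ⟨rfl, ⟨rfl, rfl⟩ | ⟨rfl, rfl⟩ | ⟨rfl, rfl⟩⟩ | ⟨rfl, rfl, rfl⟩ <;>
    refine Qt_congr C ?_ ?_ ?_ ?_ ?_ ?_ <;> simp [CharTwo.add_self_eq_zero] <;> ring_nf <;>
    simp [CharTwo.two_eq_zero]

/-- Case `a = 0`, `x = 0`. -/
theorem target_yz {y z e f : K} (h : Fx C 0 e f) (hn : Qt C 0 0 y z e f ≠ 1)
    (hi : Qt C 0 0 y z e f * Qt C 0 0 y z e f = 1) : Target C (Qt C 0 0 y z e f) := by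
  obtain ⟨-, he, hf⟩ := h
  have h00 : C.f (0 : K) = 0 := map_zero _
  have hrel := (sq_Qt C ⟨h00, he, hf⟩ hi).2.2.2 rfl
  have F3 := f3 C
  by_cases hy : y = 0
  · subst hy
    by_cases hz : z = 0
    · subst hz
      by_cases he0 : e = 0
      · subst he0
        have hf0 : f ≠ 0 := fun e0 => hn (by rw [e0, Qt_zero])
        exact Or.inr (Or.inr (Or.inr (Or.inr ⟨f, hf0, hf, conj_self C _⟩)))
      · have hs : C.f (f / e) = f / e := by rw [map_div₀, hf, he]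
        refine Target.of_conj C (conj_Qt C (s := f / e) (x' := 0) (y' := 0) (z' := 0) hs
          (Or.inr ⟨rfl, rfl, rfl⟩) (g' := Qt C 0 0 0 0 e 0) ?_)
          (Or.inr (Or.inr (Or.inr (Or.inl ⟨e, he0, he, conj_self C _⟩))))
        rw [Qt_mul C ⟨hs, h00, h00⟩ ⟨h00, he, hf⟩, Qt_mul C ⟨?_, ?_, ?_⟩ ⟨hs, h00, h00⟩]
        · refine Qt_congr C ?_ ?_ ?_ ?_ ?_ ?_ <;> simp [field, CharTwo.add_self_eq_zero] <;> ring_nf <;>
            simp [CharTwo.two_eq_zero]
        all_goals (simp [hs, he, hf] <;> try ring)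
    · have nz := fne C hz
      have nz2 := fne C nz
      refine Target.of_conj C (conj_Qt C (s := 0) (x' := e / C.f (C.f z)) (y' := 0) (z' := 0) h00
        (Or.inl ⟨rfl, Or.inr (Or.inr ⟨rfl, rfl⟩)⟩) (g' := Qt C 0 0 0 z 0 f) ?_) ?_
      · rw [Qt_mul C ⟨h00, h00, h00⟩ ⟨h00, he, hf⟩, Qt_mul C ⟨?_, ?_, ?_⟩ ⟨h00, h00, h00⟩]
        · refine Qt_congr C ?_ ?_ ?_ ?_ ?_ ?_ <;> simp [F3, he, field, CharTwo.add_self_eq_zero] <;> ring_nf <;>
            simp [CharTwo.two_eq_zero, three, four]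
        all_goals (simp [F3, he, hf] <;> try ring)
      refine Target.of_conj C (conj_Qt C (s := 0) (x' := 0) (y' := f / C.f (C.f z)) (z' := 0) h00
        (Or.inl ⟨rfl, Or.inr (Or.inl ⟨rfl, rfl⟩)⟩) (g' := Qt C 0 0 0 z 0 0) ?_)
        (Or.inr (Or.inr (Or.inl ⟨z, hz, conj_self C _⟩)))
      rw [Qt_mul C ⟨h00, h00, h00⟩ ⟨h00, h00, hf⟩, Qt_mul C ⟨?_, ?_, ?_⟩ ⟨h00, h00, h00⟩]
      · refine Qt_congr C ?_ ?_ ?_ ?_ ?_ ?_ <;> simp [F3, hf, field, CharTwo.add_self_eq_zero] <;> ring_nf <;>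
          simp [CharTwo.two_eq_zero, three, four]
      all_goals (simp [F3, he, hf] <;> try ring)
  · have ny := fne C hy
    have ny2 := fne C ny
    set s := C.f (C.f z) / (C.f (C.f y) * C.f y) * y with hs
    obtain ⟨e', f', hef, e1⟩ : ∃ e' f', Fx C 0 e' f' ∧ Conj' C (Qt C 0 0 y z e f) (Qt C 0 0 y 0 e' f') := by
      refine ⟨_, _, ?_, conj_Qt C (s := 0) (x' := s) (y' := 0) (z' := 0) h00
        (Or.inl ⟨rfl, Or.inr (Or.inr ⟨rfl, rfl⟩)⟩) (by
          rw [Qt_mul C ⟨h00, h00, h00⟩ ⟨h00, he, hf⟩, Qt_mul C ⟨?_, ?_, ?_⟩ ⟨h00, h00, h00⟩]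
          · refine Qt_congr C ?_ ?_ ?_ ?_ rfl rfl
            · simp
            · simp [CharTwo.add_self_eq_zero]
            · simp
            · simp [hs, F3, field]
              linear_combination hrel
          all_goals (simp [F3, he, hf] <;> try ring))⟩
      refine ⟨h00, ?_, ?_⟩ <;> simp [hs, F3, he, hf] <;> ring
    obtain ⟨-, he', hf'⟩ := hef
    obtain ⟨l, hl⟩ := exists_sqrt C (e' / (y * C.f y * C.f (C.f y)))
    have hl' : C.f l = l := fx_sqrt C (by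
      rw [hl]; simp [F3, he']; ring)
    obtain ⟨f'', hf'', e2⟩ : ∃ f'', C.f f'' = f'' ∧ Conj' C (Qt C 0 0 y 0 e' f') (Qt C 0 0 y 0 0 f'') := by
      refine ⟨_, ?_, conj_Qt C (s := 0) (x' := l * y) (y' := 0) (z' := 0) h00
        (Or.inl ⟨rfl, Or.inr (Or.inr ⟨rfl, rfl⟩)⟩) (by
          rw [Qt_mul C ⟨h00, h00, h00⟩ ⟨h00, he', hf'⟩, Qt_mul C ⟨?_, ?_, ?_⟩ ⟨h00, h00, h00⟩]
          · refine Qt_congr C ?_ ?_ ?_ ?_ ?_ rfl
            · simp
            · simp [CharTwo.add_self_eq_zero]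
            · simp
            · simp [hl']; ring_nf; simp [CharTwo.two_eq_zero]
            · have hN : l ^ 2 * (y * C.f y * C.f (C.f y)) = e' := by rw [hl]; field_simp
              simp [hl']
              rw [← hN]; ring_nf; simp [CharTwo.two_eq_zero, three, four, six, F3]
          all_goals (simp [F3, hl', he', hf'] <;> try ring))⟩
      simp [F3, hl', hf']
      ring
    refine Target.of_conj C (e1.trans C (e2.trans C (conj_Qt C (s := 0) (x' := 0) (y' := 0)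
      (z' := f'' / C.f y) h00 (Or.inl ⟨rfl, Or.inl ⟨rfl, rfl⟩⟩) (g' := Qt C 0 0 y 0 0 0) ?_)))
      (Or.inr (Or.inl ⟨y, hy, conj_self C _⟩))
    rw [Qt_mul C ⟨h00, h00, h00⟩ ⟨h00, h00, hf''⟩, Qt_mul C ⟨?_, ?_, ?_⟩ ⟨h00, h00, h00⟩]
    · refine Qt_congr C ?_ ?_ ?_ ?_ ?_ ?_ <;> simp [F3, hf'', field, CharTwo.add_self_eq_zero] <;> ring_nf <;>
        simp [CharTwo.two_eq_zero, three, four]
    all_goals (simp [F3, hf''] <;> try ring)

/-- Case `x ≠ 0`. -/
theorem target_x {x y z e f : K} (h : Fx C 0 e f) (hx : x ≠ 0)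
    (hi : Qt C 0 x y z e f * Qt C 0 x y z e f = 1) : Target C (Qt C 0 x y z e f) := by
  obtain ⟨-, he, hf⟩ := h
  have h00 : C.f (0 : K) = 0 := map_zero _
  have F3 := f3 C
  have nx := fne C hx
  have nx2 := fne C nx
  have hrel := (sq_Qt C ⟨h00, he, hf⟩ hi).2.1 rfl
  set l := y / x with hl
  have hl' : C.f l = l := by
    have := congrArg C.f hrel
    simp only [map_add, map_mul, map_zero, F3] at this
    rw [hl, map_div₀, div_eq_div_iff nx hx]
    linear_combination this - C.f x * y * (CharTwo.two_eq_zero : (2 : K) = 0)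
  obtain ⟨z', e', f', hef, e1⟩ : ∃ z' e' f', Fx C 0 e' f' ∧
      Conj' C (Qt C 0 x y z e f) (Qt C 0 x 0 z' e' f') := by
    refine ⟨_, _, _, ?_, conj_Qt C (s := l) (x' := 0) (y' := 0) (z' := 0) hl'
      (Or.inr ⟨rfl, rfl, rfl⟩) (by
        rw [Qt_mul C ⟨hl', h00, h00⟩ ⟨h00, he, hf⟩, Qt_mul C ⟨?_, ?_, ?_⟩ ⟨hl', h00, h00⟩]
        · refine Qt_congr C ?_ ?_ ?_ rfl rfl rfl
          · simp [CharTwo.add_self_eq_zero]
          · simp
          · simp [hl, field, CharTwo.add_self_eq_zero]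
        all_goals (simp [F3, hl', he, hf] <;> try ring))⟩
    refine ⟨h00, ?_, ?_⟩ <;> simp [F3, hl', he, hf] <;> ring
  obtain ⟨-, he', hf'⟩ := hef
  have hrel' := (sq_Qt C ⟨h00, he', hf'⟩ (sq_one_of_conj C hi e1)).2.2.1 rfl rfl
  set w := C.f (C.f z') / (C.f (C.f x) * C.f x) * x with hw
  obtain ⟨e'', f'', hef, e2⟩ : ∃ e'' f'', Fx C 0 e'' f'' ∧
      Conj' C (Qt C 0 x 0 z' e' f') (Qt C 0 x 0 0 e'' f'') := by
    refine ⟨_, _, ?_, conj_Qt C (s := 0) (x' := 0) (y' := w) (z' := 0) h00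
      (Or.inl ⟨rfl, Or.inr (Or.inl ⟨rfl, rfl⟩)⟩) (by
        rw [Qt_mul C ⟨h00, h00, h00⟩ ⟨h00, he', hf'⟩, Qt_mul C ⟨?_, ?_, ?_⟩ ⟨h00, h00, h00⟩]
        · refine Qt_congr C ?_ ?_ ?_ ?_ rfl rfl
          · simp
          · simp
          · simp [CharTwo.add_self_eq_zero]
          · simp [hw, F3, field]
            linear_combination hrel'
        all_goals (simp [F3, he', hf'] <;> try ring))⟩
    refine ⟨h00, ?_, ?_⟩ <;> simp [hw, F3, he', hf'] <;> ring
  obtain ⟨-, he2, hf2⟩ := hef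
  obtain ⟨m, hm⟩ := exists_sqrt C (f'' / (x * C.f x * C.f (C.f x)))
  have hm' : C.f m = m := fx_sqrt C (by rw [hm]; simp [F3, hf2]; ring)
  obtain ⟨e3', he3, e3⟩ : ∃ e3', C.f e3' = e3' ∧ Conj' C (Qt C 0 x 0 0 e'' f'') (Qt C 0 x 0 0 e3' 0) := by
    refine ⟨_, ?_, conj_Qt C (s := 0) (x' := 0) (y' := m * x) (z' := 0) h00
      (Or.inl ⟨rfl, Or.inr (Or.inl ⟨rfl, rfl⟩)⟩) (by
        rw [Qt_mul C ⟨h00, h00, h00⟩ ⟨h00, he2, hf2⟩, Qt_mul C ⟨?_, ?_, ?_⟩ ⟨h00, h00, h00⟩]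
        · refine Qt_congr C ?_ ?_ ?_ ?_ rfl ?_
          · simp
          · simp
          · simp [CharTwo.add_self_eq_zero]
          · simp [hm']; ring_nf; simp [CharTwo.two_eq_zero]
          · have hN : m ^ 2 * (x * C.f x * C.f (C.f x)) = f'' := by rw [hm]; field_simp
            simp [hm']
            rw [← hN]; ring_nf; simp [CharTwo.two_eq_zero, three, four, six, F3]
        all_goals (simp [F3, hm', he2, hf2] <;> try ring))⟩
    simp [F3, hm', he2]
    ring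
  refine Target.of_conj C (e1.trans C (e2.trans C (e3.trans C (conj_Qt C (s := 0) (x' := 0) (y' := 0)
    (z' := e3' / C.f x) h00 (Or.inl ⟨rfl, Or.inl ⟨rfl, rfl⟩⟩) (g' := Qt C 0 x 0 0 0 0) ?_))))
    (Or.inl ⟨x, hx, conj_self C _⟩)
  rw [Qt_mul C ⟨h00, h00, h00⟩ ⟨h00, he3, h00⟩, Qt_mul C ⟨?_, ?_, ?_⟩ ⟨h00, h00, h00⟩]
  · refine Qt_congr C ?_ ?_ ?_ ?_ ?_ ?_ <;> simp [F3, he3, field, CharTwo.add_self_eq_zero] <;> ring_nf <;>
      simp [CharTwo.two_eq_zero, three, four]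
  all_goals (simp [F3, he3] <;> try ring)

omit [CharP K 2] [Fintype K] C in
theorem refl_tables :
    (∀ p ∈ [(14, 22), (20, 16), (21, 15), (17, 19), (23, 23), (19, 17), (16, 20), (15, 21)],
      chevD4.reflectRoot 0 (chevD4.reflectRoot 2 (chevD4.reflectRoot 3 p.1)) = p.2) ∧
    (∀ p ∈ [(18, 19), (13, 16), (12, 15), (22, 23)], chevD4.reflectRoot 1 p.1 = p.2) ∧
    chevD4.cartan 0 20 = 1 ∧ chevD4.cartan 1 20 = 0 ∧ chevD4.cartan 2 20 = -1 ∧ chevD4.cartan 3 20 = 1 ∧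
    chevD4.cartan 0 23 = 0 ∧ chevD4.cartan 1 23 = 1 ∧ chevD4.cartan 2 23 = 0 ∧ chevD4.cartan 3 23 = 0 := by
  decide +kernel

/-- The two fundamental Weyl elements of the twisted group. -/
theorem exists_weyl :
    (∃ n ∈ twistedD4 K q, ∀ r r' : ℕ, (r, r') ∈ [(14, 22), (20, 16), (21, 15), (17, 19), (23, 23), (19, 17),
      (16, 20), (15, 21)] → ∃ c : K, c ≠ 0 ∧ ∀ t, n * X r t * n⁻¹ = X r' (c * t)) ∧
    (∃ n ∈ twistedD4 K q, ∀ r r' : ℕ, (r, r') ∈ [(18, 19), (13, 16), (12, 15), (22, 23)] →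
      ∃ c : K, c ≠ 0 ∧ ∀ t, n * X r t * n⁻¹ = X r' (c * t)) := by
  obtain ⟨s0, s1, s2, s3, -⟩ := TwD4.torus_tables
  have h4 : chevD4.rank = 4 := TwD4.tables.2.1
  let i0 : Fin chevD4.rank := ⟨0, by omega⟩
  let i1 : Fin chevD4.rank := ⟨1, by omega⟩
  let i2 : Fin chevD4.rank := ⟨2, by omega⟩
  let i3 : Fin chevD4.rank := ⟨3, by omega⟩
  refine ⟨⟨nS chevD4 K i0 * (nS chevD4 K i2 * nS chevD4 K i3), ?_, fun r r' h => ?_⟩,
    ⟨nS chevD4 K i1, ?_, fun r r' h => ?_⟩⟩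
  · have := C.nU_triple 1
    simpa [nS, i0, i2, i3, s0, s2, s3] using this
  · have hr : r < chevD4.nroots := lt24 (by simp at h; omega)
    obtain ⟨c, hc, e, -⟩ := (hD).permAct_mul ((hD).permAct_nS i0)
      ((hD).permAct_mul ((hD).permAct_nS (F := K) i2) ((hD).permAct_nS i3)) ⟨r, hr⟩
    refine ⟨c, hc, fun t => ?_⟩
    rw [show r' = ((sP chevD4 i0 * (sP chevD4 i2 * sP chevD4 i3)) ⟨r, hr⟩).val by
      simp only [Equiv.Perm.mul_apply, (hD).sP_val]
      exact (refl_tables.1 _ h).symm]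
    exact e t
  · simpa [nS, i1, s1] using C.nU_p2 (t := (1 : K)) (one_pow q)
  · have hr : r < chevD4.nroots := lt24 (by simp at h; omega)
    obtain ⟨c, hc, e, -⟩ := (hD).permAct_nS (F := K) i1 ⟨r, hr⟩
    refine ⟨c, hc, fun t => ?_⟩
    rw [show r' = (sP chevD4 i1 ⟨r, hr⟩).val by
      rw [(hD).sP_val]
      exact (refl_tables.2.1 _ h).symm]
    exact e t

/-- An involution of the positive unipotent group is conjugate to a root element. -/
theorem target_pos {a x y z e f : K} (h : Fx C a e f) (hn : Qt C a x y z e f ≠ 1)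
    (hi : Qt C a x y z e f * Qt C a x y z e f = 1) : Target C (Qt C a x y z e f) := by
  by_cases ha0 : a = 0
  · subst ha0
    by_cases hx : x = 0
    · subst hx; exact target_yz C h hn hi
    · exact target_x C h hx hi
  obtain ⟨ha, he, hf⟩ := h
  obtain rfl : x = 0 := (mul_eq_zero.1 (sq_Qt C ⟨ha, he, hf⟩ hi).1).resolve_left ha0
  have h00 : C.f (0 : K) = 0 := map_zero _
  have F3 := f3 C
  obtain ⟨z', e', f', hef, e1⟩ : ∃ z' e' f', Fx C a e' f' ∧
      Conj' C (Qt C a 0 y z e f) (Qt C a 0 0 z' e' f') := by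
    refine ⟨_, _, _, ?_, conj_Qt C (s := 0) (x' := y / a) (y' := 0) (z' := 0) h00
      (Or.inl ⟨rfl, Or.inr (Or.inr ⟨rfl, rfl⟩)⟩) (by
        rw [Qt_mul C ⟨h00, h00, h00⟩ ⟨ha, he, hf⟩, Qt_mul C ⟨?_, ?_, ?_⟩ ⟨h00, h00, h00⟩]
        · refine Qt_congr C ?_ ?_ ?_ rfl rfl rfl
          · simp
          · simp [CharTwo.add_self_eq_zero]
          · simp [field, CharTwo.add_self_eq_zero]
        all_goals (simp [F3, ha, he, hf] <;> try ring))⟩
    refine ⟨ha, ?_, ?_⟩ <;> simp [F3, ha, he, hf] <;> ring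
  obtain ⟨-, he', hf'⟩ := hef
  have hi' := sq_one_of_conj C hi e1
  obtain rfl : e' = 0 := by
    have := (sq_Qt C ⟨ha, he', hf'⟩ hi').2.2.2 rfl
    simpa [ha0] using this
  obtain ⟨n, hn', hact⟩ := (exists_weyl C).1
  obtain ⟨c1, hc1, n1⟩ := hact 14 22 (by decide)
  obtain ⟨c2, -, n2⟩ := hact 20 16 (by decide)
  obtain ⟨c3, -, n3⟩ := hact 21 15 (by decide)
  obtain ⟨c4, -, n4⟩ := hact 17 19 (by decide)
  obtain ⟨c5, -, n5⟩ := hact 23 23 (by decide)
  have nn {r s : ℕ} (h : r < 24 ∧ s < 24 ∧ 12 ≤ r ∧ 12 ≤ s ∧ r ≠ s ∧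
      ∀ p ∈ pairs, ¬ (p.1 = r ∧ p.2.1 = s) ∧ ¬ (p.1 = s ∧ p.2.1 = r)) := swap_nil (K := K) h
  have e2 : n * Qt C a 0 0 z' 0 f' * n⁻¹ =
      Qw 0 0 0 0 (c4 * C.f (C.f z')) (c2 * z') (c3 * C.f z') 0 0 0 (c1 * a) (c5 * f') := by
    rw [Qt, Qw]
    simp only [map_zero, kill (r := 14) (by decide), kill (r := 18) (by decide), kill (r := 13) (by decide),
      kill (r := 12) (by decide), kill (r := 19) (by decide), kill (r := 16) (by decide),
      kill (r := 15) (by decide), kill (r := 22) (by decide)]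
    calc n * (X 14 a * (X 20 z' * (X 21 (C.f z') * (X 17 (C.f (C.f z')) * (X 23 f' * 1))))) * n⁻¹
        = (n * X 14 a * n⁻¹) * ((n * X 20 z' * n⁻¹) * ((n * X 21 (C.f z') * n⁻¹) *
          ((n * X 17 (C.f (C.f z')) * n⁻¹) * ((n * X 23 f' * n⁻¹) * 1)))) := by group
      _ = _ := by
        rw [n1, n2, n3, n4, n5]
        simp only [Qw, kill (r := 14) (by decide), kill (r := 18) (by decide), kill (r := 13) (by decide),
          kill (r := 12) (by decide), kill (r := 20) (by decide), kill (r := 21) (by decide),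
          kill (r := 17) (by decide), nn (r := 19) (s := 16) (by decide), nn (r := 19) (s := 15) (by decide),
          nn (r := 16) (s := 15) (by decide), nn (r := 19) (s := 22) (by decide),
          nn (r := 16) (s := 22) (by decide), nn (r := 15) (s := 22) (by decide)]
  have hm : n * Qt C a 0 0 z' 0 f' * n⁻¹ ∈ twistedD4 K q :=
    Subgroup.mul_mem _ (Subgroup.mul_mem _ hn' (Qt_mem C ha he' hf')) (Subgroup.inv_mem _ hn')
  rw [e2] at hm
  obtain ⟨-, gE, gF, gQ⟩ := of_coords C hm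
  have e3 : Conj' C (Qt C a 0 y z e f) (Qt C 0 0 (c4 * C.f (C.f z')) 0 (c1 * a) (c5 * f')) :=
    e1.trans C ⟨n, hn', e2.trans gQ⟩
  refine Target.of_conj C e3 (target_yz C ⟨h00, gE, gF⟩ (fun h1 => ?_) (sq_one_of_conj C hi e3))
  rw [← Qt_zero C] at h1
  exact mul_ne_zero hc1 ha0 (Qt_inj C h1).2.2.2.2.1

/-- The long representative. -/
noncomputable def repL : GL chevD4.Idx K := Qt C 0 0 0 0 0 1

/-- The short representative. -/
noncomputable def repS : GL chevD4.Idx K := Qt C 0 0 0 1 0 0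

/-- The torus element with given parameters, as an element of the twisted group. -/
theorem conj_scale_short {z : K} (hz : z ≠ 0) : Conj' C (Qt C 0 0 0 z 0 0) (repS C) := by
  obtain ⟨r, hr⟩ := exists_sqrt C (z⁻¹ * C.f z⁻¹)
  have hr0 : r ≠ 0 := by
    intro e; rw [e] at hr; simp [hz] at hr
  set a : Kˣ := Units.mk0 r hr0
  have hb : (1 : Kˣ) ^ (q - 1) = 1 := one_pow _
  refine ⟨hT chevD4 (C.vec a 1), C.vec_mem a hb, ?_⟩
  have hm : hT chevD4 (C.vec a 1) * Qt C 0 0 0 z 0 0 * (hT chevD4 (C.vec a 1))⁻¹ ∈ twistedD4 K q :=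
    Subgroup.mul_mem _ (Subgroup.mul_mem _ (C.vec_mem a hb) (Qt_mem C (map_zero _) (map_zero _) (map_zero _)))
      (Subgroup.inv_mem _ (C.vec_mem a hb))
  set h := hT chevD4 (C.vec a 1)
  set p : ℕ → K := fun r => ((∏ i ∈ Finset.range chevD4.rank, C.vec a 1 i ^ chevD4.cartan i r : Kˣ) : K)
  have e : h * Qt C 0 0 0 z 0 0 * h⁻¹ =
      Qw 0 0 0 0 0 0 0 (p 20 * z) (p 21 * C.f z) (p 17 * C.f (C.f z)) 0 0 := by
    rw [Qt, Qw, Qw]
    simp only [map_zero, kill (r := 14) (by decide), kill (r := 18) (by decide), kill (r := 13) (by decide),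
      kill (r := 12) (by decide), kill (r := 19) (by decide), kill (r := 16) (by decide),
      kill (r := 15) (by decide), kill (r := 22) (by decide), kill (r := 23) (by decide)]
    calc h * (X 20 z * (X 21 (C.f z) * (X 17 (C.f (C.f z)) * 1))) * h⁻¹
        = (h * X 20 z * h⁻¹) * ((h * X 21 (C.f z) * h⁻¹) * ((h * X 17 (C.f (C.f z)) * h⁻¹) * 1)) := by group
      _ = _ := by
        rw [(hD).hT_conj_xU _ (lt24 (by norm_num)), (hD).hT_conj_xU _ (lt24 (by norm_num)),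
          (hD).hT_conj_xU _ (lt24 (by norm_num))]
  rw [e] at hm ⊢
  rw [(of_coords C hm).2.2.2, repS]
  refine Qt_congr C rfl rfl rfl ?_ rfl rfl
  obtain ⟨-, -, c0, c1, c2, c3, -⟩ := refl_tables
  have hp : p 20 = r * (C.f r)⁻¹ * C.f (C.f r) := by
    simp only [p, show Finset.range chevD4.rank = Finset.range 4 from congrArg _ TwD4.tables.2.1,
      Finset.prod_range_succ, Finset.prod_range_zero, c0, c1, c2, c3]
    simp [TwD4.Ctx.vec, C.fu_val, C.hf, a]
  refine CharTwo.sq_injective ?_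
  show (p 20 * z) ^ 2 = 1 ^ 2
  have nr := fne C hr0
  have nz := fne C hz
  have nz2 := fne C nz
  rw [hp, show (r * (C.f r)⁻¹ * C.f (C.f r) * z) ^ 2 =
    r ^ 2 * (C.f (r ^ 2))⁻¹ * C.f (C.f (r ^ 2)) * z ^ 2 by simp [map_pow, mul_pow, inv_pow], hr]
  simp [f3 C, field]

theorem conj_scale_long {f : K} (hf0 : f ≠ 0) (hf : C.f f = f) : Conj' C (Qt C 0 0 0 0 0 f) (repL C) := by
  set b : Kˣ := (Units.mk0 f hf0)⁻¹
  have hb : b ^ (q - 1) = 1 := by
    rw [inv_pow, inv_eq_one]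
    refine Units.ext (mul_right_cancel₀ hf0 ?_)
    rw [Units.val_pow_eq_pow_val, Units.val_one, one_mul, Units.val_mk0, ← pow_succ,
      Nat.sub_add_cancel C.q_gt.le, ← C.hf, hf]
  refine ⟨hT chevD4 (C.vec 1 b), C.vec_mem 1 hb, ?_⟩
  obtain ⟨-, -, -, -, -, -, c0, c1, c2, c3⟩ := refl_tables
  rw [repL, Qt, Qt, Qw, Qw]
  simp only [map_zero, kill (r := 14) (by decide), kill (r := 18) (by decide), kill (r := 13) (by decide),
    kill (r := 12) (by decide), kill (r := 19) (by decide), kill (r := 16) (by decide),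
    kill (r := 15) (by decide), kill (r := 20) (by decide), kill (r := 21) (by decide),
    kill (r := 17) (by decide), kill (r := 22) (by decide), mul_one]
  rw [(hD).hT_conj_xU _ (lt24 (by norm_num))]
  congr 1
  simp only [show Finset.range chevD4.rank = Finset.range 4 from congrArg _ TwD4.tables.2.1,
      Finset.prod_range_succ, Finset.prod_range_zero, c0, c1, c2, c3]
  simp [TwD4.Ctx.vec, b, inv_mul_cancel₀ hf0]

/-- The remaining root elements are conjugate to one of the representatives. -/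
theorem target_classes {g : GL chevD4.Idx K} (h : Target C g) :
    Conj' C g (repL C) ∨ Conj' C g (repS C) := by
  have h00 : C.f (0 : K) = 0 := map_zero _
  have nn {r s : ℕ} (h : r < 24 ∧ s < 24 ∧ 12 ≤ r ∧ 12 ≤ s ∧ r ≠ s ∧
      ∀ p ∈ pairs, ¬ (p.1 = r ∧ p.2.1 = s) ∧ ¬ (p.1 = s ∧ p.2.1 = r)) := swap_nil (K := K) h
  have hY : ∀ y : K, y ≠ 0 → Conj' C (Qt C 0 0 y 0 0 0) (repS C) := by
    intro y hy
    obtain ⟨n, hn, hact⟩ := (exists_weyl C).1
    obtain ⟨c1, -, n1⟩ := hact 19 17 (by decide)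
    obtain ⟨c2, hc2, n2⟩ := hact 16 20 (by decide)
    obtain ⟨c3, -, n3⟩ := hact 15 21 (by decide)
    have e : n * Qt C 0 0 y 0 0 0 * n⁻¹ =
        Qw 0 0 0 0 0 0 0 (c2 * C.f y) (c3 * C.f (C.f y)) (c1 * y) 0 0 := by
      rw [Qt, Qw]
      simp only [map_zero, kill (r := 14) (by decide), kill (r := 18) (by decide), kill (r := 13) (by decide),
        kill (r := 12) (by decide), kill (r := 20) (by decide), kill (r := 21) (by decide),
        kill (r := 17) (by decide), kill (r := 22) (by decide), kill (r := 23) (by decide)]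
      calc n * (X 19 y * (X 16 (C.f y) * (X 15 (C.f (C.f y)) * 1))) * n⁻¹
          = (n * X 19 y * n⁻¹) * ((n * X 16 (C.f y) * n⁻¹) * ((n * X 15 (C.f (C.f y)) * n⁻¹) * 1)) := by group
        _ = _ := by
          rw [n1, n2, n3]
          simp only [Qw, kill (r := 14) (by decide), kill (r := 18) (by decide), kill (r := 13) (by decide),
            kill (r := 12) (by decide), kill (r := 19) (by decide), kill (r := 16) (by decide),
            kill (r := 15) (by decide), kill (r := 22) (by decide), kill (r := 23) (by decide),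
            nn (r := 20) (s := 17) (by decide), nn (r := 20) (s := 21) (by decide),
            nn (r := 21) (s := 17) (by decide)]
    have hm : n * Qt C 0 0 y 0 0 0 * n⁻¹ ∈ twistedD4 K q :=
      Subgroup.mul_mem _ (Subgroup.mul_mem _ hn (Qt_mem C h00 h00 h00)) (Subgroup.inv_mem _ hn)
    rw [e] at hm
    exact Conj'.trans C ⟨n, hn, e.trans (of_coords C hm).2.2.2⟩
      (conj_scale_short C (mul_ne_zero hc2 (fne C hy)))
  rcases h with ⟨x, hx, hc⟩ | ⟨y, hy, hc⟩ | ⟨z, hz, hc⟩ | ⟨e, he0, he, hc⟩ | ⟨f, hf0, hf, hc⟩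
  · right
    obtain ⟨n, hn, hact⟩ := (exists_weyl C).2
    obtain ⟨c1, hc1, n1⟩ := hact 18 19 (by decide)
    obtain ⟨c2, -, n2⟩ := hact 13 16 (by decide)
    obtain ⟨c3, -, n3⟩ := hact 12 15 (by decide)
    have e : n * Qt C 0 x 0 0 0 0 * n⁻¹ =
        Qw 0 0 0 0 (c1 * x) (c2 * C.f x) (c3 * C.f (C.f x)) 0 0 0 0 0 := by
      rw [Qt, Qw, Qw]
      simp only [map_zero, kill (r := 14) (by decide), kill (r := 18) (by decide), kill (r := 13) (by decide),
        kill (r := 12) (by decide), kill (r := 19) (by decide), kill (r := 16) (by decide),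
        kill (r := 15) (by decide), kill (r := 20) (by decide), kill (r := 21) (by decide),
        kill (r := 17) (by decide), kill (r := 22) (by decide), kill (r := 23) (by decide)]
      calc n * (X 18 x * (X 13 (C.f x) * (X 12 (C.f (C.f x)) * 1))) * n⁻¹
          = (n * X 18 x * n⁻¹) * ((n * X 13 (C.f x) * n⁻¹) * ((n * X 12 (C.f (C.f x)) * n⁻¹) * 1)) := by group
        _ = _ := by rw [n1, n2, n3]
    have hm : n * Qt C 0 x 0 0 0 0 * n⁻¹ ∈ twistedD4 K q :=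
      Subgroup.mul_mem _ (Subgroup.mul_mem _ hn (Qt_mem C h00 h00 h00)) (Subgroup.inv_mem _ hn)
    rw [e] at hm
    exact hc.trans C (Conj'.trans C ⟨n, hn, e.trans (of_coords C hm).2.2.2⟩ (hY _ (mul_ne_zero hc1 hx)))
  · exact Or.inr (hc.trans C (hY y hy))
  · exact Or.inr (hc.trans C (conj_scale_short C hz))
  · left
    obtain ⟨n, hn, hact⟩ := (exists_weyl C).2
    obtain ⟨c1, hc1, n1⟩ := hact 22 23 (by decide)
    have e' : n * Qt C 0 0 0 0 e 0 * n⁻¹ = Qw 0 0 0 0 0 0 0 0 0 0 0 (c1 * e) := by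
      rw [Qt, Qw, Qw]
      simp only [map_zero, kill (r := 14) (by decide), kill (r := 18) (by decide), kill (r := 13) (by decide),
        kill (r := 12) (by decide), kill (r := 19) (by decide), kill (r := 16) (by decide),
        kill (r := 15) (by decide), kill (r := 20) (by decide), kill (r := 21) (by decide),
        kill (r := 17) (by decide), kill (r := 22) (by decide), kill (r := 23) (by decide), mul_one]
      exact n1 e
    have hm : n * Qt C 0 0 0 0 e 0 * n⁻¹ ∈ twistedD4 K q :=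
      Subgroup.mul_mem _ (Subgroup.mul_mem _ hn (Qt_mem C h00 he h00)) (Subgroup.inv_mem _ hn)
    rw [e'] at hm
    obtain ⟨-, -, hf, hq⟩ := of_coords C hm
    exact hc.trans C (Conj'.trans C ⟨n, hn, e'.trans hq⟩ (conj_scale_long C (mul_ne_zero hc1 he0) hf))
  · exact Or.inl (hc.trans C (conj_scale_long C hf0 hf))

/-- An involution lies in a conjugate of the positive unipotent group. -/
theorem exists_conj_pos {g : GL chevD4.Idx K} (hg : g ∈ twistedD4 K q) (h : g * g = 1) :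
    ∃ u, u ∈ rootClosure chevD4 K (12 ≤ ·) ∧ u ∈ twistedD4 K q ∧ Conj' C g u := by
  have : Fact (Nat.Prime 2) := ⟨Nat.prime_two⟩
  obtain ⟨n, -, hc⟩ := FiniteField.card K 2
  rw [C.card] at hc
  obtain ⟨k, -, hk⟩ := (Nat.dvd_prime_pow Nat.prime_two).1 (hc ▸ dvd_pow_self q (by norm_num) : q ∣ 2 ^ (n : ℕ))
  have hk0 : k ≠ 0 := by
    rintro rfl
    have := C.q_gt
    simp [hk] at this
  set U : Subgroup (GL chevD4.Idx K) := chevD4.posUnipotent K ⊓ twistedD4 K q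
  set U' := U.subgroupOf (twistedD4 K q)
  have hcU : Nat.card U' = 2 ^ (k * 12) := by
    rw [Nat.card_congr (Subgroup.subgroupOfEquivOfLe inf_le_right).toEquiv, C.card_posU, hk, ← pow_mul]
  have hidx : ¬ 2 ∣ U'.index := by
    have e := U'.card_mul_index
    rw [hcU, C.card_twisted, pow_mul, ← hk, mul_assoc, mul_assoc] at e
    rw [Nat.eq_of_mul_eq_mul_left (pow_pos (by have := C.q_gt; omega) _) e]
    have hq2 : 2 ∣ q := hk ▸ dvd_pow_self 2 hk0
    have odd : ∀ j, 0 < j → ¬ 2 ∣ q ^ j - 1 := fun j hj => by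
      have := dvd_pow hq2 hj.ne'
      have := pow_pos (show 0 < q by have := C.q_gt; omega) j
      omega
    have odd' : ¬ 2 ∣ q ^ 8 + q ^ 4 + 1 := by
      have := dvd_pow hq2 (show 8 ≠ 0 by norm_num)
      have := dvd_pow hq2 (show 4 ≠ 0 by norm_num)
      omega
    simp only [Nat.prime_two.dvd_mul, not_or]
    exact ⟨odd 2 (by norm_num), odd 6 (by norm_num), odd'⟩
  let S : Sylow 2 ↥(twistedD4 K q) := (IsPGroup.of_card hcU).toSylow hidx
  have hz : IsPGroup 2 (Subgroup.zpowers (⟨g, hg⟩ : ↥(twistedD4 K q))) := by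
    rintro ⟨x, m, rfl⟩
    refine ⟨1, Subtype.ext (Subtype.ext ?_)⟩
    have : (g ^ m) ^ (2 : ℕ) = 1 := by
      rw [← zpow_natCast, ← zpow_mul, mul_comm, zpow_mul, Nat.cast_two, zpow_two, h, one_zpow]
    simpa using this
  obtain ⟨P, hP⟩ := hz.exists_le_sylow
  obtain ⟨y, hy⟩ := MulAction.exists_smul_eq ↥(twistedD4 K q) P S
  have h1 : MulAut.conj y ⟨g, hg⟩ ∈ (S : Subgroup ↥(twistedD4 K q)) := by
    rw [← hy, Sylow.coe_subgroup_smul]
    exact ⟨⟨g, hg⟩, hP (Subgroup.mem_zpowers _), rfl⟩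
  refine ⟨(y : GL chevD4.Idx K) * g * (y : GL chevD4.Idx K)⁻¹, ?_, h1.2, y, y.2, rfl⟩
  have h2 := h1.1
  rwa [DataD4.facts.posUnipotent_eq, show chevD4.nroots / 2 = 12 by decide +kernel] at h2

/-- Every involution is conjugate to one of the representatives. -/
theorem involution_classes {g : GL chevD4.Idx K} (hg : g ∈ twistedD4 K q) (h : g * g = 1) (h1 : g ≠ 1) :
    Conj' C g (repL C) ∨ Conj' C g (repS C) := by
  obtain ⟨u, hu, huT, hgu⟩ := exists_conj_pos C hg h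
  obtain ⟨a, x, y, z, e, f, ha, he, hf, rfl⟩ := exists_Qt C huT hu
  have hne : Qt C a x y z e f ≠ 1 := by
    obtain ⟨w, -, hw⟩ := hgu
    rw [← hw]
    intro e'
    exact h1 (by simpa using e')
  exact (target_classes C (target_pos C ⟨ha, he, hf⟩ hne (sq_one_of_conj C h hgu))).imp
    (hgu.trans C) (hgu.trans C)

omit [CharP K 2] [Fintype K] C in
theorem row_tables : ∀ p ∈ [20, 21, 17, 22, 23], ∀ r ∈ [20, 21, 17, 22, 23], p ≠ r →
    RowFix chevD4 p r := by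
  unfold RowFix
  decide +kernel

omit [CharP K 2] [Fintype K] C in
/-- A root element is not a product along `20, 21, 17, 22, 23` meeting two short positions. -/
theorem row_ne {s : Fin chevD4.nroots} {c t0 t1 t2 e f : K} (h0 : t0 ≠ 0) (h1 : t1 ≠ 0)
    (h : X s.val c = X 20 t0 * (X 21 t1 * (X 17 t2 * (X 22 e * (X 23 f * 1))))) : False := by
  obtain ⟨p, hp, t, ht, hs, hp5⟩ : ∃ p, p < 24 ∧ ∃ t : K, t ≠ 0 ∧ s.val ≠ p ∧
      ((p = 20 ∧ t = t0) ∨ (p = 21 ∧ t = t1)) := by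
    by_cases hs : s.val = 20
    · exact ⟨21, by norm_num, t1, h1, by omega, Or.inr ⟨rfl, rfl⟩⟩
    · exact ⟨20, by norm_num, t0, h0, hs, Or.inl ⟨rfl, rfl⟩⟩
  have hpl : p ∈ [20, 21, 17, 22, 23] := by rcases hp5 with ⟨rfl, -⟩ | ⟨rfl, -⟩ <;> simp
  obtain ⟨i, hi, hcor⟩ := (hD).exists_cor_ne (F := K) (lt24 hp)
  set col : chevD4.Idx := Sum.inr ⟨chevD4.neg p, (hD).neg_lt (lt24 hp)⟩ with hcol
  have e1 : ∀ (r : ℕ) (hr : r < chevD4.nroots) (u : K) (M : Matrix chevD4.Idx chevD4.Idx K),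
      (xR chevD4 r u * M) (Sum.inl ⟨i, hi⟩) col =
        M (Sum.inl ⟨i, hi⟩) col +
          u * (cor chevD4 r i : K) * M (Sum.inr ⟨chevD4.neg r, (hD).neg_lt hr⟩) col := by
    intro r hr u M
    rw [Matrix.mul_apply]
    simp only [xR_row_inl, add_mul, Finset.sum_add_distrib, Matrix.one_apply, ite_mul, one_mul, zero_mul]
    rw [Finset.sum_ite_eq, if_pos (Finset.mem_univ _),
      Finset.sum_eq_single (Sum.inr ⟨chevD4.neg r, (hD).neg_lt hr⟩)]
    · simp [adRoot_inl_inr]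
    · intro x _ hne
      rcases x with j | v
      · simp [adRoot_inl_inl]
      · have : v.val ≠ chevD4.neg r := fun e => hne (congrArg Sum.inr (Fin.ext e))
        simp [adRoot_inl_inr, this]
    · simp
  have e2 : ∀ (r v : ℕ) (hr : r < chevD4.nroots) (hv : v < chevD4.nroots), RowFix chevD4 r v → ∀ (u : K)
      (M : Matrix chevD4.Idx chevD4.Idx K),
      (xR chevD4 v u * M) (Sum.inr ⟨chevD4.neg r, (hD).neg_lt hr⟩) col =
        M (Sum.inr ⟨chevD4.neg r, (hD).neg_lt hr⟩) col := by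
    intro r v hr hv hR u M
    rw [Matrix.mul_apply]
    simp only [(hD).xR_row_neg hr hv hR, Matrix.one_apply, ite_mul, one_mul, zero_mul]
    rw [Finset.sum_ite_eq, if_pos (Finset.mem_univ _)]
  have := congrArg (fun g : GL chevD4.Idx K => (g : Matrix chevD4.Idx chevD4.Idx K) (Sum.inl ⟨i, hi⟩) col) h
  have L : ∀ r, r ∈ [20, 21, 17, 22, 23] → r < chevD4.nroots := fun r hr => lt24 (by simp at hr; omega)
  simp only [Units.val_mul, Units.val_one, (hD).xU_val' s.isLt, (hD).xU_val' (L 20 (by decide)),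
    (hD).xU_val' (L 21 (by decide)), (hD).xU_val' (L 17 (by decide)), (hD).xU_val' (L 22 (by decide)),
    (hD).xU_val' (L 23 (by decide))] at this
  have R : ∀ r v, r ∈ [20, 21, 17, 22, 23] → v ∈ [20, 21, 17, 22, 23] → r ≠ v → RowFix chevD4 r v :=
    fun r v hr hv hne => row_tables r hr v hv hne
  rw [e1 20 (L 20 (by decide)), e1 21 (L 21 (by decide)), e1 17 (L 17 (by decide)),
    e1 22 (L 22 (by decide)), e1 23 (L 23 (by decide)),
    e2 20 21 (L 20 (by decide)) (L 21 (by decide)) (R 20 21 (by decide) (by decide) (by decide)),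
    e2 20 17 (L 20 (by decide)) (L 17 (by decide)) (R 20 17 (by decide) (by decide) (by decide)),
    e2 20 22 (L 20 (by decide)) (L 22 (by decide)) (R 20 22 (by decide) (by decide) (by decide)),
    e2 20 23 (L 20 (by decide)) (L 23 (by decide)) (R 20 23 (by decide) (by decide) (by decide)),
    e2 21 17 (L 21 (by decide)) (L 17 (by decide)) (R 21 17 (by decide) (by decide) (by decide)),
    e2 21 22 (L 21 (by decide)) (L 22 (by decide)) (R 21 22 (by decide) (by decide) (by decide)),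
    e2 21 23 (L 21 (by decide)) (L 23 (by decide)) (R 21 23 (by decide) (by decide) (by decide)),
    e2 17 22 (L 17 (by decide)) (L 22 (by decide)) (R 17 22 (by decide) (by decide) (by decide)),
    e2 17 23 (L 17 (by decide)) (L 23 (by decide)) (R 17 23 (by decide) (by decide) (by decide)),
    e2 22 23 (L 22 (by decide)) (L 23 (by decide)) (R 22 23 (by decide) (by decide) (by decide)),
    xR_row_inl] at this
  have nn : chevD4.neg p ≠ chevD4.neg s.val := fun e => hs (by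
    rw [← (hD).neg_neg s.isLt, ← e, (hD).neg_neg (lt24 hp)])
  obtain ⟨m1, m2⟩ : (∀ r ∈ [21, 17, 22, 23], chevD4.neg r ≠ chevD4.neg 20) ∧
      (∀ r ∈ [20, 17, 22, 23], chevD4.neg r ≠ chevD4.neg 21) := by decide +kernel
  rcases hp5 with ⟨rfl, rfl⟩ | ⟨rfl, rfl⟩ <;>
    simp [hcol, Matrix.one_apply, adRoot_inl_inr, nn, m1, m2, hcor, ht] at this

/-- The representatives are not conjugate. -/
theorem not_conj : ¬ Conj' C (repL C) (repS C) := by
  rintro ⟨g, hg, hgt⟩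
  obtain ⟨b, hb, n, hnm, τ, hτ, u, hu, rfl⟩ := (hD).bruhat_exists good_D4.comm (C.sys.le_group hg)
  obtain ⟨u1, hu1, h, hh, rfl⟩ := (hD).mem_borel_iff.1 hb
  have h12 : chevD4.nroots / 2 = 12 := by decide +kernel
  have hu' : u ∈ rootClosure chevD4 K (12 ≤ ·) := rootClosure_mono (fun r _ h => h12 ▸ h.2.1) hu
  have hu1' : u1 ∈ rootClosure chevD4 K (12 ≤ ·) := rootClosure_mono (fun r _ h => h12 ▸ h) hu1
  have L : X 23 (1 : K) = repL C := by
    simp [repL, Qt, Qw, kill]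
  have hQ : ∀ v, v ∈ rootClosure chevD4 K (12 ≤ ·) → ∃ a x0 x1 x2 y0 y1 y2 z0 z1 z2 e f : K,
      v = Qw a x0 x1 x2 y0 y1 y2 z0 z1 z2 e f := by
    intro v hv
    obtain ⟨ts, hts, rfl⟩ := (hD).exists_coords good_D4.comm coord_ok v
      (rootClosure_mono (fun r hr h => by
        have : r < 24 := TwD4.tables.1 ▸ hr
        simp only [List.mem_cons, List.not_mem_nil, or_false]; omega) hv)
    match ts, hts with
    | [a, x0, x1, x2, y0, y1, y2, z0, z1, z2, e, f], _ =>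
      exact ⟨a, x0, x1, x2, y0, y1, y2, z0, z1, z2, e, f, by simp [Qw, wU, mul_assoc]⟩
  obtain ⟨a, x0, x1, x2, y0, y1, y2, z0, z1, z2, e, f, rfl⟩ := hQ u hu'
  have hfix : Qw a x0 x1 x2 y0 y1 y2 z0 z1 z2 e f * repL C =
      repL C * Qw a x0 x1 x2 y0 y1 y2 z0 z1 z2 e f := by
    rw [repL, Qt, Qw_mul, Qw_mul]
    refine Qw_congr ?_ ?_ ?_ ?_ ?_ ?_ ?_ ?_ ?_ ?_ ?_ ?_ <;> simp [add_comm]
  obtain ⟨b0, w0, w1, w2, v0, v1, v2, p0, p1, p2, e0, f0, hW⟩ := hQ _ (Subgroup.inv_mem _ hu1')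
  obtain ⟨E, F, hconj⟩ : ∃ E F, Qw b0 w0 w1 w2 v0 v1 v2 p0 p1 p2 e0 f0 * repS C =
      Qw 0 0 0 0 0 0 0 1 1 1 E F * Qw b0 w0 w1 w2 v0 v1 v2 p0 p1 p2 e0 f0 := by
    refine ⟨w0 + w1 + w2, v0 + v1 + v2 + b0 * (w0 + w1 + w2), ?_⟩
    rw [repS, Qt, Qw_mul, Qw_mul]
    refine Qw_congr ?_ ?_ ?_ ?_ ?_ ?_ ?_ ?_ ?_ ?_ ?_ ?_ <;> simp [add_comm] <;> ring_nf <;>
      simp [CharTwo.two_eq_zero]
  obtain ⟨l, k, hk, hlk⟩ := (hD).exists_nW hnm
  obtain ⟨c, -, e1, -⟩ := hτ ⟨23, lt24 (by norm_num)⟩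
  obtain ⟨cc, hcc⟩ := (hD).mem_diagonal_iff.1 (Subgroup.inv_mem _ hh)
  set W := Qw a x0 x1 x2 y0 y1 y2 z0 z1 z2 e f
  have hconj' : u1⁻¹ * repS C * u1⁻¹⁻¹ = Qw 0 0 0 0 0 0 0 1 1 1 E F := by
    rw [hW]; exact mul_inv_eq_iff_eq_mul.2 hconj
  have hmain : n * X 23 1 * n⁻¹ = h⁻¹ * (u1⁻¹ * repS C * u1⁻¹⁻¹) * h⁻¹⁻¹ := by
    calc _ = n * (W * repL C * W⁻¹) * n⁻¹ := by rw [L, mul_inv_eq_iff_eq_mul.2 hfix]
      _ = h⁻¹ * u1⁻¹ * (u1 * h * n * W * repL C * (u1 * h * n * W)⁻¹) * u1 * h := by group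
      _ = _ := by rw [hgt]; group
  rw [hconj', hcc, Qw] at hmain
  simp only [kill (r := 14) (by decide), kill (r := 18) (by decide), kill (r := 13) (by decide),
    kill (r := 12) (by decide), kill (r := 19) (by decide), kill (r := 16) (by decide),
    kill (r := 15) (by decide)] at hmain
  rw [e1, show hT chevD4 cc * (X 20 1 * (X 21 1 * (X 17 1 * (X 22 E * (X 23 F * 1))))) * (hT chevD4 cc)⁻¹ =
      hT chevD4 cc * X 20 1 * (hT chevD4 cc)⁻¹ * (hT chevD4 cc * X 21 1 * (hT chevD4 cc)⁻¹ *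
        (hT chevD4 cc * X 17 1 * (hT chevD4 cc)⁻¹ * (hT chevD4 cc * X 22 E * (hT chevD4 cc)⁻¹ *
        (hT chevD4 cc * X 23 F * (hT chevD4 cc)⁻¹ * 1)))) by group,
    (hD).hT_conj_xU cc (lt24 (by norm_num)), (hD).hT_conj_xU cc (lt24 (by norm_num)),
    (hD).hT_conj_xU cc (lt24 (by norm_num)), (hD).hT_conj_xU cc (lt24 (by norm_num)),
    (hD).hT_conj_xU cc (lt24 (by norm_num))] at hmain
  exact row_ne (mul_ne_zero (Units.ne_zero _) one_ne_zero) (mul_ne_zero (Units.ne_zero _) one_ne_zero) hmain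

theorem rep_mem : repL C ∈ twistedD4 K q ∧ repS C ∈ twistedD4 K q ∧
    repL C * repL C = 1 ∧ repS C * repS C = 1 ∧ repL C ≠ 1 ∧ repS C ≠ 1 := by
  have h00 : C.f (0 : K) = 0 := map_zero _
  have h11 : C.f (1 : K) = 1 := map_one _
  refine ⟨Qt_mem C h00 h00 h11, Qt_mem C h00 h00 h00, ?_, ?_, ?_, ?_⟩
  · rw [repL, Qt_mul C ⟨h00, h00, h11⟩ ⟨h00, h00, h11⟩, ← Qt_zero C]
    refine Qt_congr C ?_ ?_ ?_ ?_ ?_ ?_ <;> simp [CharTwo.add_self_eq_zero]
  · rw [repS, Qt_mul C ⟨h00, h00, h00⟩ ⟨h00, h00, h00⟩, ← Qt_zero C]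
    refine Qt_congr C ?_ ?_ ?_ ?_ ?_ ?_ <;> simp [CharTwo.add_self_eq_zero]
  · rw [repL, ← Qt_zero C]
    exact fun e => one_ne_zero (Qt_inj C e).2.2.2.2.2
  · rw [repS, ← Qt_zero C]
    exact fun e => one_ne_zero (Qt_inj C e).2.2.2.1

/-- The twisted group has two classes of involutions. -/
theorem ncard_classes :
    (ConjClasses.mk '' {g : ↥(twistedD4 K q) | orderOf g = 2}).ncard = 2 := by
  obtain ⟨hL, hS, hL2, hS2, hL1, hS1⟩ := rep_mem C
  have hord : ∀ g : ↥(twistedD4 K q), orderOf g = 2 ↔ (g : GL chevD4.Idx K) * g = 1 ∧ (g : GL chevD4.Idx K) ≠ 1 := by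
    intro g
    have : Fact (Nat.Prime 2) := ⟨Nat.prime_two⟩
    rw [← Subgroup.orderOf_coe, orderOf_eq_prime_iff, sq]
  have e : ConjClasses.mk '' {g : ↥(twistedD4 K q) | orderOf g = 2} =
      {ConjClasses.mk ⟨repL C, hL⟩, ConjClasses.mk ⟨repS C, hS⟩} := by
    ext c
    constructor
    · rintro ⟨g, hg, rfl⟩
      obtain ⟨h2, h1⟩ := (hord g).1 hg
      rcases involution_classes C g.2 h2 h1 with ⟨x, hx, hxe⟩ | ⟨x, hx, hxe⟩
      · exact Or.inl (ConjClasses.mk_eq_mk_iff_isConj.2 (isConj_iff.2 ⟨⟨x, hx⟩, Subtype.ext hxe⟩))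
      · exact Or.inr (ConjClasses.mk_eq_mk_iff_isConj.2 (isConj_iff.2 ⟨⟨x, hx⟩, Subtype.ext hxe⟩))
    · rintro (rfl | rfl)
      · exact ⟨_, (hord _).2 ⟨hL2, hL1⟩, rfl⟩
      · exact ⟨_, (hord _).2 ⟨hS2, hS1⟩, rfl⟩
  rw [e, Set.ncard_pair]
  intro h
  obtain ⟨x, hx⟩ := isConj_iff.1 (ConjClasses.mk_eq_mk_iff_isConj.1 h)
  exact not_conj C ⟨x, x.2, congrArg Subtype.val hx⟩

end CfsgLib.Chev.D4Invol
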