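import Cfsg.Agent.Lib.Known.TwAutPerm
import Cfsg.Agent.Lib.Known.ChevAutCoeff
import Cfsg.Agent.Lib.Chev.Twist.E6Torus

/-!
# The automorphisms of the groups of type ²E₆
-/

set_option autoImplicit false
set_option maxRecDepth 20000
set_option linter.unusedSectionVars false

namespace CfsgLib.Chev.TwE6

open Cfsg.Lie

universe v

theorem long_table :
    let l : List ℕ := [1, 3, 2, 4, 0, 5, 1, 3, 2, 4, 0, 5, 1, 3, 2, 4, 0, 5,
      1, 3, 2, 4, 0, 5, 1, 3, 2, 4, 0, 5, 1, 3, 2, 4, 0, 5]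
    ∀ r : Fin chevE6.nroots,
      (36 ≤ r.val → l.foldr (fun i x => chevE6.reflectRoot i x) r.val < 36) ∧
      ∀ o : Fin spec.length, (l ++ (O o).word.map Fin.val).foldr (fun i x => chevE6.reflectRoot i x) r.val =
        ((O o).word.map Fin.val ++ l).foldr (fun i x => chevE6.reflectRoot i x) r.val := by
  decide +kernel

theorem neg_tables : chevE6.neg e6p1 = e6m1 ∧ chevE6.neg e6p2 = e6m2 ∧ chevE6.neg e6p3 = e6m3 ∧
    chevE6.neg e6p4 = e6m4 ∧ chevE6.neg e6p5 = e6m5 ∧ chevE6.neg e6p6 = e6m6 ∧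
    chevE6.nroots / 2 = 36 := by
  decide +kernel

theorem far_tables :
    (∀ a ∈ [e6m2], ∀ b ∈ [e6m3, e6m5], parE6.commB chevE6 a b = true) ∧
    (∀ a ∈ [e6m2], ∀ b ∈ [e6m1, e6m6], parE6.commB chevE6 a b = true) ∧
    (∀ a ∈ [e6m4], ∀ b ∈ [e6m1, e6m6], parE6.commB chevE6 a b = true) ∧
    (∀ r ∈ [e6m1, e6m2, e6m3, e6m4, e6m5, e6m6], r < chevE6.nroots) ∧
    parE6.commB chevE6 e6p4 43 = true ∧ parE6.commB chevE6 e6p4 40 = true ∧
    coordB chevE6 [43, e6p5, 40, 44] = true ∧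
    chevE6.commTerms e6p3 e6p4 = [(43, -1, 1, 1)] ∧
    chevE6.commTerms e6p5 e6p4 = [(40, 1, 1, 1)] ∧
    (e6p4 ≠ e6p3 ∧ e6p4 ≠ chevE6.neg e6p3) ∧ (e6p4 ≠ e6p5 ∧ e6p4 ≠ chevE6.neg e6p5) := by
  decide +kernel

/-- The only permutation of the nodes compatible with orders and commutation. -/
theorem perm_table : ∀ π : Fin 4 → Fin 4, (∀ i : Fin 4, (π i).val < 2 ↔ i.val < 2) →
    π 0 ≠ π 1 → π 2 ≠ π 3 → ¬ (π 0 = 1 ∧ π 2 = 2) → ¬ (π 0 = 1 ∧ π 3 = 2) →
    ¬ (π 1 = 1 ∧ π 3 = 2) → ∀ i, π i = i := by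
  decide +kernel

variable {K : Type v} [Field K] [Fintype K] {q : ℕ} (C : Ctx K q)
include C

theorem Ctx.long_comm (o : Fin spec.length) :
    sW chevE6 C.sys.l0 * (O o).wO = (O o).wO * sW chevE6 C.sys.l0 := by
  have hF := DataE6.facts
  set l : List (Fin chevE6.rank) := [⟨1, by decide⟩, ⟨3, by decide⟩, ⟨2, by decide⟩, ⟨4, by decide⟩,
    ⟨0, by decide⟩, ⟨5, by decide⟩, ⟨1, by decide⟩, ⟨3, by decide⟩, ⟨2, by decide⟩, ⟨4, by decide⟩,
    ⟨0, by decide⟩, ⟨5, by decide⟩, ⟨1, by decide⟩, ⟨3, by decide⟩, ⟨2, by decide⟩, ⟨4, by decide⟩,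
    ⟨0, by decide⟩, ⟨5, by decide⟩, ⟨1, by decide⟩, ⟨3, by decide⟩, ⟨2, by decide⟩, ⟨4, by decide⟩,
    ⟨0, by decide⟩, ⟨5, by decide⟩, ⟨1, by decide⟩, ⟨3, by decide⟩, ⟨2, by decide⟩, ⟨4, by decide⟩,
    ⟨0, by decide⟩, ⟨5, by decide⟩, ⟨1, by decide⟩, ⟨3, by decide⟩, ⟨2, by decide⟩, ⟨4, by decide⟩,
    ⟨0, by decide⟩, ⟨5, by decide⟩] with hl
  have e : sW chevE6 C.sys.l0 = sW chevE6 l :=
    hF.long_unique C.sys.l0_long fun r hr => by
      rw [neg_tables.2.2.2.2.2.2] at hr ⊢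
      rw [hF.sW_val_foldr]
      exact (long_table r).1 hr
  refine Equiv.ext fun r => Fin.ext ?_
  rw [e, Orb.wO, ← sW_append, ← sW_append, hF.sW_val_foldr, hF.sW_val_foldr, List.map_append,
    List.map_append]
  exact (long_table r).2 o

/-- The frame. -/
theorem Ctx.frame (p : ℕ) [Fact p.Prime] [CharP K p] :
    TwAut.Frame C.sys.bnPair C.sys.uSub C.sys.nG C.sys.n0G :=
  C.sys.frame p (fun _ hh hc => C.sep hh hc) C.long_comm

/-- The fixed field. -/
abbrev Ctx.fld : Subfield K := C.f.eqLocusField (RingHom.id K)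

theorem Ctx.mem_fld {t : K} : t ∈ C.fld ↔ t ^ q = t := by
  show C.f t = t ↔ _
  rw [C.hf]

/-- A single root element with a fixed parameter. -/
noncomputable def Ctx.x2 (t : C.fld) : ↥(twistedE6 K q) :=
  ⟨xU chevE6 e6p2 (t : K), C.one_mem (by simp) (C.mem_fld.1 t.2)⟩

/-- The other single root element. -/
noncomputable def Ctx.x4 (t : C.fld) : ↥(twistedE6 K q) :=
  ⟨xU chevE6 e6p4 (t : K), C.one_mem (by simp) (C.mem_fld.1 t.2)⟩

/-- A paired root element. -/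
noncomputable def Ctx.x35 (t : K) : ↥(twistedE6 K q) :=
  ⟨xU chevE6 e6p3 t * xU chevE6 e6p5 (C.f t), C.two_mem (rs := (e6p3, e6p5)) (by simp) t⟩

/-- The other paired root element. -/
noncomputable def Ctx.x16 (t : K) : ↥(twistedE6 K q) :=
  ⟨xU chevE6 e6p1 t * xU chevE6 e6p6 (C.f t), C.two_mem (rs := (e6p1, e6p6)) (by simp) t⟩

/-- The orbit of the root 2. -/
abbrev oB : Fin spec.length := ⟨0, by decide⟩
/-- The orbit of the root 4. -/
abbrev oD : Fin spec.length := ⟨1, by decide⟩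
/-- The orbit of the roots 3 and 5. -/
abbrev oE : Fin spec.length := ⟨2, by decide⟩
/-- The orbit of the roots 1 and 6. -/
abbrev oA : Fin spec.length := ⟨3, by decide⟩

theorem Ctx.x2_add (a b : C.fld) : C.x2 (a + b) = C.x2 a * C.x2 b :=
  Subtype.ext (DataE6.facts.xU_add (by decide) (a : K) (b : K)).symm

theorem Ctx.x4_add (a b : C.fld) : C.x4 (a + b) = C.x4 a * C.x4 b :=
  Subtype.ext (DataE6.facts.xU_add (by decide) (a : K) (b : K)).symm

theorem Ctx.x35_add (a b : K) : C.x35 (a + b) = C.x35 a * C.x35 b := Subtype.ext (by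
  show _ = xU chevE6 e6p3 a * xU chevE6 e6p5 (C.f a) * (xU chevE6 e6p3 b * xU chevE6 e6p5 (C.f b))
  rw [((C.commute_pair (rs := (e6p3, e6p5)) (by simp)).1 _ _).mul_mul_mul_comm,
    DataE6.facts.xU_add (by decide), DataE6.facts.xU_add (by decide), ← map_add]
  rfl)

theorem Ctx.x16_add (a b : K) : C.x16 (a + b) = C.x16 a * C.x16 b := Subtype.ext (by
  show _ = xU chevE6 e6p1 a * xU chevE6 e6p6 (C.f a) * (xU chevE6 e6p1 b * xU chevE6 e6p6 (C.f b))
  rw [((C.commute_pair (rs := (e6p1, e6p6)) (by simp)).1 _ _).mul_mul_mul_comm,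
    DataE6.facts.xU_add (by decide), DataE6.facts.xU_add (by decide), ← map_add]
  rfl)

theorem Ctx.x2_inj : Function.Injective C.x2 := fun a b e =>
  Subtype.ext (DataE6.facts.xU_left_inj (by decide) (congrArg Subtype.val e))

theorem Ctx.x4_inj : Function.Injective C.x4 := fun a b e =>
  Subtype.ext (DataE6.facts.xU_left_inj (by decide) (congrArg Subtype.val e))

theorem Ctx.x35_inj : Function.Injective C.x35 := fun a b e => by
  have := DataE6.facts.coords_unique C.sig.hC coords.2.2.1 (ts := [a, C.f a]) (ts' := [b, C.f b])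
    rfl rfl (by simpa [wU, Ctx.x35, Ctx.x16] using congrArg Subtype.val e)
  simp only [List.cons.injEq] at this
  exact this.1

theorem Ctx.x16_inj : Function.Injective C.x16 := fun a b e => by
  have := DataE6.facts.coords_unique C.sig.hC coords.2.2.2 (ts := [a, C.f a]) (ts' := [b, C.f b])
    rfl rfl (by simpa [wU, Ctx.x35, Ctx.x16] using congrArg Subtype.val e)
  simp only [List.cons.injEq] at this
  exact this.1

theorem Ctx.root2 (g : ↥(twistedE6 K q)) :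
    g ∈ TwAut.rootU C.sys.uSub C.sys.n0G (C.sys.nG oB) ↔ ∃ t, C.x2 t = g := by
  rw [C.sys.mem_rootU_iff]
  constructor
  · intro h
    obtain ⟨t, ht, e⟩ := C.posO_single (r := e6p2) (by simp) coords.1 (C.sys.le_fix g.2)
      (rootClosure_mono (fun r hr => (posO_iff_list DataE6.chk_arrays pos_lists.1 r hr).1) h)
    exact ⟨⟨t, C.mem_fld.2 ht⟩, Subtype.ext (by rw [e]; simp [Ctx.x2, wU])⟩
  · rintro ⟨t, rfl⟩
    exact rootClosure_mono (fun r hr h => (posO_iff_list DataE6.chk_arrays pos_lists.1 r hr).2 h)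
      (xU_mem_rootClosure (P := (· ∈ [e6p2])) (by decide) (by simp) _)

theorem Ctx.root4 (g : ↥(twistedE6 K q)) :
    g ∈ TwAut.rootU C.sys.uSub C.sys.n0G (C.sys.nG oD) ↔ ∃ t, C.x4 t = g := by
  rw [C.sys.mem_rootU_iff]
  constructor
  · intro h
    obtain ⟨t, ht, e⟩ := C.posO_single (r := e6p4) (by simp) coords.2.1 (C.sys.le_fix g.2)
      (rootClosure_mono (fun r hr => (posO_iff_list DataE6.chk_arrays pos_lists.2.1 r hr).1) h)
    exact ⟨⟨t, C.mem_fld.2 ht⟩, Subtype.ext (by rw [e]; simp [Ctx.x4, wU])⟩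
  · rintro ⟨t, rfl⟩
    exact rootClosure_mono (fun r hr h => (posO_iff_list DataE6.chk_arrays pos_lists.2.1 r hr).2 h)
      (xU_mem_rootClosure (P := (· ∈ [e6p4])) (by decide) (by simp) _)

theorem Ctx.root35 (g : ↥(twistedE6 K q)) :
    g ∈ TwAut.rootU C.sys.uSub C.sys.n0G (C.sys.nG oE) ↔ ∃ t, C.x35 t = g := by
  rw [C.sys.mem_rootU_iff]
  constructor
  · intro h
    obtain ⟨t, e⟩ := C.posO_pair (rs := (e6p3, e6p5)) (by simp) coords.2.2.1 (C.sys.le_fix g.2)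
      (rootClosure_mono (fun r hr => (posO_iff_list DataE6.chk_arrays pos_lists.2.2.1 r hr).1) h)
    exact ⟨t, Subtype.ext (by rw [e]; simp [Ctx.x35, wU, C.hf])⟩
  · rintro ⟨t, rfl⟩
    exact rootClosure_mono (fun r hr h => (posO_iff_list DataE6.chk_arrays pos_lists.2.2.1 r hr).2 h)
      (Subgroup.mul_mem _ (xU_mem_rootClosure (P := (· ∈ [e6p3, e6p5])) (by decide) (by simp) _)
        (xU_mem_rootClosure (P := (· ∈ [e6p3, e6p5])) (by decide) (by simp) _))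

theorem Ctx.root16 (g : ↥(twistedE6 K q)) :
    g ∈ TwAut.rootU C.sys.uSub C.sys.n0G (C.sys.nG oA) ↔ ∃ t, C.x16 t = g := by
  rw [C.sys.mem_rootU_iff]
  constructor
  · intro h
    obtain ⟨t, e⟩ := C.posO_pair (rs := (e6p1, e6p6)) (by simp) coords.2.2.2 (C.sys.le_fix g.2)
      (rootClosure_mono (fun r hr => (posO_iff_list DataE6.chk_arrays pos_lists.2.2.2 r hr).1) h)
    exact ⟨t, Subtype.ext (by rw [e]; simp [Ctx.x16, wU, C.hf])⟩
  · rintro ⟨t, rfl⟩
    exact rootClosure_mono (fun r hr h => (posO_iff_list DataE6.chk_arrays pos_lists.2.2.2 r hr).2 h)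
      (Subgroup.mul_mem _ (xU_mem_rootClosure (P := (· ∈ [e6p1, e6p6])) (by decide) (by simp) _)
        (xU_mem_rootClosure (P := (· ∈ [e6p1, e6p6])) (by decide) (by simp) _))

theorem Ctx.card_fld : Nat.card C.fld = q :=
  (Nat.card_congr (Equiv.subtypeEquivRight fun _ => C.mem_fld)).trans (card_field_fix C.q_gt C.card)

theorem Ctx.card_root (o : Fin spec.length) :
    Nat.card ↥(TwAut.rootU C.sys.uSub C.sys.n0G (C.sys.nG o)) = if o.val < 2 then q else q ^ 2 := by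
  have h := C.card_orbit o
  rw [pow_one, ← C.sys.card_rootU, Orb.wO, flipW_eq DataE6.chk_arrays DataE6.chk_chain DataE6.facts,
    flips o] at h
  rw [h]
  split_ifs <;> simp

/-- The orbits next to each other in the middle do not commute. -/
theorem Ctx.not_commute : ¬ Commute (C.x4 1) (C.x35 1) := by
  intro h
  obtain ⟨-, -, -, -, k43, k40, hc, t3, t5, ⟨n3, n3'⟩, ⟨n5, n5'⟩⟩ := far_tables
  have hF := DataE6.facts
  have h' : Commute (xU chevE6 e6p4 (1 : K)) (xU chevE6 e6p3 (1 : K) * xU chevE6 e6p5 (1 : K)) := by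
    have := h.map (twistedE6 K q).subtype
    simpa [Ctx.x4, Ctx.x35] using this
  have c3 : xU chevE6 e6p4 (1 : K) * xU chevE6 e6p3 (1 : K) =
      xU chevE6 e6p3 (1 : K) * xU chevE6 e6p4 (1 : K) *
        wU chevE6 (cwR chevE6 e6p3 e6p4 (1 : K) (1 : K)) :=
    hF.xU_comm C.sig.hC (by decide) (by decide) n3 n3' 1 1
  have c5 : xU chevE6 e6p4 (1 : K) * xU chevE6 e6p5 (1 : K) =
      xU chevE6 e6p5 (1 : K) * xU chevE6 e6p4 (1 : K) *
        wU chevE6 (cwR chevE6 e6p5 e6p4 (1 : K) (1 : K)) :=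
    hF.xU_comm C.sig.hC (by decide) (by decide) n5 n5' 1 1
  obtain ⟨c, hc0, w3⟩ : ∃ c : K, c ≠ 0 ∧
      wU chevE6 (cwR chevE6 e6p3 e6p4 (1 : K) (1 : K)) = xU chevE6 43 c :=
    ⟨1, one_ne_zero, by simp [cwR, t3, wU]⟩
  obtain ⟨d, w5⟩ : ∃ d : K, wU chevE6 (cwR chevE6 e6p5 e6p4 (1 : K) (1 : K)) = xU chevE6 40 d :=
    ⟨-1, by simp [cwR, t5, wU]⟩
  rw [w3] at c3
  rw [w5] at c5
  have p43 := C.sig.commute_xU (t := (1 : K)) (u := c) (a := e6p4) (b := 43) (by decide) (by decide) k43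
  have p40 := C.sig.commute_xU (t := (1 : K)) (u := d) (a := e6p4) (b := 40) (by decide) (by decide) k40
  set x3 := xU chevE6 e6p3 (1 : K)
  set x5 := xU chevE6 e6p5 (1 : K)
  set y := xU chevE6 e6p4 (1 : K)
  have e3 : y * x3 * y⁻¹ = x3 * xU chevE6 43 c := by
    rw [c3, mul_assoc x3 y, p43.eq]; group
  have e5 : y * x5 * y⁻¹ = x5 * xU chevE6 40 d := by
    rw [c5, mul_assoc x5 y, p40.eq]; group
  have e : xU chevE6 43 c * (x5 * xU chevE6 40 d) = x5 := by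
    refine mul_left_cancel (a := x3) ?_
    rw [← mul_assoc, ← e3, ← e5, show y * x3 * y⁻¹ * (y * x5 * y⁻¹) = y * (x3 * x5) * y⁻¹ by group,
      h'.eq]
    group
  have := hF.coords_unique C.sig.hC hc (ts := [c, 1, d, 0]) (ts' := [0, 1, 0, 0]) rfl rfl
    (by simpa [wU, hF.xU_zero (show 43 < chevE6.nroots by decide),
      hF.xU_zero (show 40 < chevE6.nroots by decide),
      hF.xU_zero (show 44 < chevE6.nroots by decide)] using! e)
  simp only [List.cons.injEq] at this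
  exact hc0 this.1

theorem Ctx.hperm (p : ℕ) [Fact p.Prime] [CharP K p] : ∀ θ : MulAut ↥(twistedE6 K q),
    TwAut.Fixes θ C.sys.uSub → TwAut.Fixes θ (TwAut.opU C.sys.uSub C.sys.n0G) → ∀ o o',
    (C.sys.bnPair.parabolic {C.sys.nG o}).map θ.toMonoidHom = C.sys.bnPair.parabolic {C.sys.nG o'} →
      o = o' := by
  intro θ hU hV
  have hFr := C.frame p
  choose π hπ using hFr.exists_parabolic_image (hFr.fixB hU)
  have hinj : ∀ i j, π i = π j → i = j := fun i j e => hFr.parabolic_inj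
    (Subgroup.map_injective (f := θ.toMonoidHom) θ.injective (by rw [hπ, hπ, e]))
  have hsize : ∀ i : Fin spec.length, (π i).val < 2 ↔ i.val < 2 := fun i => by
    have h := hFr.card_rootU_eq hV (hπ i)
    rw [C.card_root, C.card_root] at h
    have hne : q ≠ q ^ 2 := by
      have := C.q_gt
      nlinarith
    split_ifs at h with h1 h2 h2 <;> omega
  obtain ⟨f23, f24, f44, hlt, -⟩ := far_tables
  have hm : ∀ (o : Fin spec.length) (L : List ℕ), (∀ r < chevE6.nroots,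
      (O o).negO DataE6.co r → r ∈ L) → ∀ v ∈ TwAut.opU C.sys.uSub C.sys.n0G ⊓
        C.sys.bnPair.parabolic {C.sys.nG o},
      (v : GL chevE6.Idx K) ∈ rootClosure chevE6 K (· ∈ L) := fun o L hL v hv =>
    rootClosure_mono hL (C.sys.mem_negO_of o hFr hv)
  have hfar : ∀ {o o' : Fin spec.length} (L L' : List ℕ),
      (∀ r < chevE6.nroots, (O o).negO DataE6.co r → r ∈ L) →
      (∀ r < chevE6.nroots, (O o').negO DataE6.co r → r ∈ L') →
      (∀ a ∈ L, a < chevE6.nroots) → (∀ a ∈ L', a < chevE6.nroots) →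
      (∀ a ∈ L, ∀ b ∈ L', parE6.commB chevE6 a b = true) → ¬ (π o = oD ∧ π o' = oE) := by
    rintro o o' L L' hL hL' hlL hlL' hcomm ⟨e1, e2⟩
    refine C.not_commute (hFr.commute_image hV (hπ o) (hπ o') (fun v hv w hw => ?_)
      (e1 ▸ (C.root4 _).2 ⟨1, rfl⟩) (e2 ▸ (C.root35 _).2 ⟨1, rfl⟩))
    exact Subtype.ext (C.sys.commute_lists hlL hlL' hcomm (hm o L hL v hv) (hm o' L' hL' w hw)).eq
  have key := perm_table π hsize (fun e => absurd (Fin.val_eq_of_eq (hinj _ _ e)) (by decide))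
    (fun e => absurd (Fin.val_eq_of_eq (hinj _ _ e)) (by decide))
    (hfar (o := oB) (o' := oE) [e6m2] [e6m3, e6m5]
      (fun r hr => (negO_iff_list DataE6.chk_arrays neg_lists.1 r hr).1)
      (fun r hr => (negO_iff_list DataE6.chk_arrays neg_lists.2.2.1 r hr).1)
      (by simpa using hlt e6m2 (by simp)) (by simp [hlt e6m3, hlt e6m5]) f23)
    (hfar (o := oB) (o' := oA) [e6m2] [e6m1, e6m6]
      (fun r hr => (negO_iff_list DataE6.chk_arrays neg_lists.1 r hr).1)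
      (fun r hr => (negO_iff_list DataE6.chk_arrays neg_lists.2.2.2 r hr).1)
      (by simpa using hlt e6m2 (by simp)) (by simp [hlt e6m1, hlt e6m6]) f24)
    (hfar (o := oD) (o' := oA) [e6m4] [e6m1, e6m6]
      (fun r hr => (negO_iff_list DataE6.chk_arrays neg_lists.2.1 r hr).1)
      (fun r hr => (negO_iff_list DataE6.chk_arrays neg_lists.2.2.2 r hr).1)
      (by simpa using hlt e6m4 (by simp)) (by simp [hlt e6m1, hlt e6m6]) f44)
  intro o o' e
  rw [hπ] at e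
  exact (key o).symm.trans (hFr.parabolic_inj e)

theorem Ctx.hgen : Subgroup.closure {g : ↥(twistedE6 K q) | ∃ o,
    g ∈ TwAut.rootU C.sys.uSub C.sys.n0G (C.sys.nG o) ∨
      (g ∈ TwAut.opU C.sys.uSub C.sys.n0G ∧ g ∈ C.sys.bnPair.parabolic {C.sys.nG o})} = ⊤ :=
  C.sys.closure_root (S := {g | ∃ w ∈ e6Words K q, g = wU chevE6 w}) C.gen_eq.le
    fun _ hg => C.gen_orbit hg

theorem Ctx.gMap_inv (φ : K ≃+* K) : ∀ g ∈ twistedE6 K q,
    FixedPoints.gMap chevE6 (φ : K →+* K) g ∈ twistedE6 K q := by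
  have key : twistedE6 K q ≤
      (twistedE6 K q).comap (FixedPoints.gMap chevE6 (φ : K →+* K)) := by
    conv_lhs => rw [C.gen_eq]
    refine (Subgroup.closure_le _).2 ?_
    rintro g ⟨w, hw, rfl⟩
    show FixedPoints.gMap chevE6 (φ : K →+* K) (wU chevE6 w) ∈ twistedE6 K q
    have hlt := (C.gen_fixed w hw).2
    have e : FixedPoints.gMap chevE6 (φ : K →+* K) (wU chevE6 w) =
        wU chevE6 (w.map fun p => (p.1, φ p.2)) := by
      simp only [wU, map_list_prod, List.map_map]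
      refine congrArg List.prod (List.map_congr_left fun p hp => ?_)
      exact FixedPoints.gMap_xU DataE6.facts _ (hlt p hp) p.2
    rw [e]
    refine C.mem_gen ?_
    rcases hw with ⟨t, ht, r, hr, rfl⟩ | ⟨t, rs, hrs, rfl⟩
    · exact Or.inl ⟨φ t, by rw [← map_pow, ht], r, hr, rfl⟩
    · exact Or.inr ⟨φ t, rs, hrs, by simp⟩
  exact fun g hg => key hg

/-- The field automorphisms. -/
noncomputable def Ctx.fld' : (K ≃+* K) →* MulAut ↥(twistedE6 K q) :=
  fieldHom (twistedE6 K q) C.gMap_inv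

theorem Ctx.field_norm (p : ℕ) [Fact p.Prime] [CharP K p] (φ : K ≃+* K) :
    TwAut.Norm C.sys.bnPair C.sys.uSub C.sys.nG C.sys.n0G (C.fld' φ) :=
  (C.frame p).norm_of_perm (C.hperm p) (C.sys.fieldHom_fix C.gMap_inv φ).1
    (C.sys.fieldHom_fix C.gMap_inv φ).2

/-- The units of the fixed field, as a subgroup of all units. -/
abbrev Fq (K : Type v) [Field K] (q : ℕ) : Subgroup Kˣ := (powMonoidHom (α := Kˣ) (q - 1)).ker

/-- The parameters of the diagonal automorphisms, indexed by the orbits 16, 35, 2, 4. -/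
abbrev TorT (K : Type v) [Field K] (q : ℕ) : Type v := (Kˣ × Kˣ) × (Fq K q × Fq K q)

theorem Ctx.fq_fix (b : Fq K q) : C.fu (b : Kˣ) = b := (C.fu_fix_iff _).2 b.2

theorem Ctx.fq_pow (b : Fq K q) : ((b : Kˣ) : K) ^ q = ((b : Kˣ) : K) :=
  (C.fu_val _).symm.trans (congrArg Units.val (C.fq_fix b))

theorem Ctx.fq_mem (b : Fq K q) : ((b : Kˣ) : K) ∈ C.fld := C.mem_fld.2 (C.fq_pow b)

/-- The weights on the fundamental roots. -/
noncomputable def Ctx.wv : TorT K q →* (Fin chevE6.rank → Kˣ) :=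
  MonoidHom.mk' (fun x i => six x.1.1 x.2.1 x.1.2 x.2.2 (C.fu x.1.2) (C.fu x.1.1) i.val) fun x y => by
    funext i
    have hi : i.val < 6 := i.isLt
    simp only [Pi.mul_apply]
    interval_cases i.val <;> simp [six]

/-- The diagonal matrices. -/
noncomputable def Ctx.dW : TorT K q →* GL chevE6.Idx K :=
  MonoidHom.mk' (fun x => dU chevE6 (AutThm.chi chevE6 DataE6.co (C.wv x))) fun x y => by
    rw [map_mul, AutThm.dU_chi_mul DataE6.facts]

/-- The weight of a root. -/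
noncomputable def Ctx.wt (x : TorT K q) (r : ℕ) : Kˣ := AutThm.chi chevE6 DataE6.co (C.wv x) r

theorem Ctx.dW_conj (x : TorT K q) {r : ℕ} (hr : r < chevE6.nroots) (t : K) :
    C.dW x * xU chevE6 r t * (C.dW x)⁻¹ = xU chevE6 r ((C.wt x r : K) * t) := by
  have hF := DataE6.facts
  show dU chevE6 (AutThm.chi chevE6 DataE6.co (C.wv x)) * _ * _ = _
  rw [hF.dU_conj (AutThm.isWeight_chi hF _) hr]
  exact mul_inv_cancel_right _ _

theorem Ctx.wt_simple (x : TorT K q) :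
    C.wt x e6p1 = x.1.1 ∧ C.wt x e6p2 = x.2.1 ∧ C.wt x e6p3 = x.1.2 ∧ C.wt x e6p4 = x.2.2 ∧
    C.wt x e6p5 = C.fu x.1.2 ∧ C.wt x e6p6 = C.fu x.1.1 := by
  obtain ⟨s0, s1, s2, s3, s4, s5, -⟩ := torus_tables
  have key : ∀ i : Fin chevE6.rank, C.wt x (chevE6.simple i) = C.wv x i :=
    AutThm.chi_simple DataE6.facts _
  rw [← s0, ← s1, ← s2, ← s3, ← s4, ← s5]
  have h6 : chevE6.rank = 6 := by decide +kernel
  have kk : ∀ i (hi : i < chevE6.rank), C.wt x (chevE6.simple i) =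
      six x.1.1 x.2.1 x.1.2 x.2.2 (C.fu x.1.2) (C.fu x.1.1) i := fun i hi => key ⟨i, hi⟩
  exact ⟨kk 0 (by omega), kk 1 (by omega), kk 2 (by omega), kk 3 (by omega), kk 4 (by omega),
    kk 5 (by omega)⟩

theorem Ctx.wt_neg (x : TorT K q) :
    C.wt x e6m1 = x.1.1⁻¹ ∧ C.wt x e6m2 = (x.2.1 : Kˣ)⁻¹ ∧ C.wt x e6m3 = x.1.2⁻¹ ∧
    C.wt x e6m4 = (x.2.2 : Kˣ)⁻¹ ∧ C.wt x e6m5 = (C.fu x.1.2)⁻¹ ∧ C.wt x e6m6 = (C.fu x.1.1)⁻¹ := by
  obtain ⟨g1, g2, g3, g4, g5, g6, -⟩ := neg_tables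
  obtain ⟨w1, w2, w3, w4, w5, w6⟩ := C.wt_simple x
  have key : ∀ {r : ℕ}, r < chevE6.nroots → C.wt x (chevE6.neg r) = (C.wt x r)⁻¹ :=
    AutThm.chi_neg DataE6.facts _
  rw [← g1, ← g2, ← g3, ← g4, ← g5, ← g6, key (by decide), key (by decide), key (by decide),
    key (by decide), key (by decide), key (by decide), w1, w2, w3, w4, w5, w6]
  exact ⟨rfl, rfl, rfl, rfl, rfl, rfl⟩

theorem Ctx.dW_mem (x : TorT K q) : ∀ g ∈ twistedE6 K q, C.dW x * g * (C.dW x)⁻¹ ∈ twistedE6 K q := by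
  have key : twistedE6 K q ≤ (twistedE6 K q).comap (MulAut.conj (C.dW x)).toMonoidHom := by
    conv_lhs => rw [C.gen_eq]
    refine (Subgroup.closure_le _).2 ?_
    rintro g ⟨w, hw, rfl⟩
    show C.dW x * wU chevE6 w * (C.dW x)⁻¹ ∈ twistedE6 K q
    obtain ⟨w1, w2, w3, w4, w5, w6⟩ := C.wt_simple x
    obtain ⟨v1, v2, v3, v4, v5, v6⟩ := C.wt_neg x
    rcases hw with ⟨t, ht, r, hr, rfl⟩ | ⟨t, rs, hrs, rfl⟩
    · rw [show wU chevE6 [(r, t)] = xU chevE6 r t by simp [wU],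
        C.dW_conj x (single_tables r hr).1]
      refine C.one_mem hr ?_
      rw [mul_pow, ht]
      congr 1
      have hfix : C.fu (C.wt x r) = C.wt x r := by
        simp only [List.mem_cons, List.not_mem_nil, or_false] at hr
        rcases hr with rfl | rfl | rfl | rfl
        · rw [w2, C.fq_fix]
        · rw [v2, map_inv, C.fq_fix]
        · rw [w4, C.fq_fix]
        · rw [v4, map_inv, C.fq_fix]
      exact (C.fu_val _).symm.trans (congrArg Units.val hfix)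
    · obtain ⟨h1, h2, -⟩ := pair_tables rs hrs
      rw [show wU chevE6 [(rs.1, t), (rs.2, t ^ q)] = xU chevE6 rs.1 t * xU chevE6 rs.2 (t ^ q) by
          simp [wU],
        show ∀ h a b : GL chevE6.Idx K, h * (a * b) * h⁻¹ = h * a * h⁻¹ * (h * b * h⁻¹) from
          fun h a b => by group,
        C.dW_conj x h1, C.dW_conj x h2]
      have hfix : C.wt x rs.2 = C.fu (C.wt x rs.1) := by
        simp only [List.mem_cons, List.not_mem_nil, or_false] at hrs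
        rcases hrs with rfl | rfl | rfl | rfl
        · rw [w1, w6]
        · rw [v1, v6, map_inv]
        · rw [w3, w5]
        · rw [v3, v5, map_inv]
      rw [hfix, C.fu_val, ← mul_pow, ← C.hf]
      exact C.two_mem hrs _
  exact fun g hg => key hg

/-- The diagonal automorphisms. -/
noncomputable def Ctx.dA : TorT K q →* MulAut ↥(twistedE6 K q) :=
  MonoidHom.mk' (fun x =>
    { toFun := fun g => ⟨_, C.dW_mem x g.1 g.2⟩
      invFun := fun g => ⟨_, C.dW_mem x⁻¹ g.1 g.2⟩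
      left_inv := fun g => Subtype.ext (by simp only [map_inv]; group)
      right_inv := fun g => Subtype.ext (by simp only [map_inv]; group)
      map_mul' := fun g h => Subtype.ext (by simp only [Subgroup.coe_mul]; group) })
    fun x y => MulEquiv.ext fun g => Subtype.ext (by
      show C.dW (x * y) * _ * (C.dW (x * y))⁻¹ = C.dW x * (C.dW y * _ * (C.dW y)⁻¹) * (C.dW x)⁻¹
      rw [map_mul]; group)

theorem Ctx.dA_val (x : TorT K q) (g : ↥(twistedE6 K q)) :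
    (C.dA x g : GL chevE6.Idx K) = C.dW x * g * (C.dW x)⁻¹ := rfl

theorem Ctx.dA_norm (p : ℕ) [Fact p.Prime] [CharP K p] (x : TorT K q) :
    TwAut.Norm C.sys.bnPair C.sys.uSub C.sys.nG C.sys.n0G (C.dA x) := by
  have h := C.sys.fix_of_rootClosure (θ := C.dA x) (MulAut.conj (C.dW x)).toMonoidHom
    (fun g => rfl) fun P g hg => conj_closure (fun y hy => by
      obtain ⟨r, t, hr, hP, rfl⟩ := hy
      rw [C.dW_conj x hr]
      exact xU_mem_rootClosure hr hP _) hg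
  exact (C.frame p).norm_of_perm (C.hperm p) h.1 h.2

/-- An automorphism acts on the root subgroups by given scalars and a field automorphism. -/
structure Ctx.Acts (θ : MulAut ↥(twistedE6 K q)) (x : TorT K q) (φ : K ≃+* K) : Prop where
  a16 : ∀ t, θ (C.x16 t) = C.x16 ((x.1.1 : K) * φ t)
  a35 : ∀ t, θ (C.x35 t) = C.x35 ((x.1.2 : K) * φ t)
  a2 : ∀ t : C.fld, (θ (C.x2 t) : GL chevE6.Idx K) =
    xU chevE6 e6p2 (((x.2.1 : Kˣ) : K) * φ (t : K))
  a4 : ∀ t : C.fld, (θ (C.x4 t) : GL chevE6.Idx K) =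
    xU chevE6 e6p4 (((x.2.2 : Kˣ) : K) * φ (t : K))

theorem Ctx.fld_map (φ : K ≃+* K) (b : Fq K q) (t : C.fld) :
    ((b : Kˣ) : K) * φ (t : K) ∈ C.fld :=
  C.fld.mul_mem (C.fq_mem b) (C.mem_fld.2 (by rw [← map_pow, C.mem_fld.1 t.2]))

theorem Ctx.Acts.comp {θ ψ : MulAut ↥(twistedE6 K q)} {x y : TorT K q} {φ : K ≃+* K}
    (h : C.Acts θ x 1) (h' : C.Acts ψ y φ) : C.Acts (θ * ψ) (x * y) φ := by
  refine ⟨fun t => ?_, fun t => ?_, fun t => ?_, fun t => ?_⟩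
  · rw [MulAut.mul_apply, h'.a16, h.a16, Prod.fst_mul, Prod.fst_mul, Units.val_mul, mul_assoc]
    rfl
  · rw [MulAut.mul_apply, h'.a35, h.a35, Prod.fst_mul, Prod.snd_mul, Units.val_mul, mul_assoc]
    rfl
  · rw [MulAut.mul_apply, show ψ (C.x2 t) = C.x2 ⟨_, C.fld_map φ y.2.1 t⟩ from Subtype.ext (h'.a2 t),
      h.a2]
    simp [mul_assoc]
  · rw [MulAut.mul_apply, show ψ (C.x4 t) = C.x4 ⟨_, C.fld_map φ y.2.2 t⟩ from Subtype.ext (h'.a4 t),
      h.a4]
    simp [mul_assoc]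

theorem Ctx.Acts.eq {θ ψ : MulAut ↥(twistedE6 K q)} {x : TorT K q} {φ : K ≃+* K}
    (h : C.Acts θ x φ) (h' : C.Acts ψ x φ) (p : ℕ) [Fact p.Prime] [CharP K p]
    (hn : TwAut.Norm C.sys.bnPair C.sys.uSub C.sys.nG C.sys.n0G θ)
    (hn' : TwAut.Norm C.sys.bnPair C.sys.uSub C.sys.nG C.sys.n0G ψ) : θ = ψ := by
  refine hn.ext_root (C.frame p) hn' C.hgen (fin_cases_spec ?_ ?_ ?_ ?_) <;> intro g hg
  · obtain ⟨t, rfl⟩ := (C.root2 g).1 hg
    exact Subtype.ext ((h.a2 t).trans (h'.a2 t).symm)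
  · obtain ⟨t, rfl⟩ := (C.root4 g).1 hg
    exact Subtype.ext ((h.a4 t).trans (h'.a4 t).symm)
  · obtain ⟨t, rfl⟩ := (C.root35 g).1 hg
    rw [h.a35, h'.a35]
  · obtain ⟨t, rfl⟩ := (C.root16 g).1 hg
    rw [h.a16, h'.a16]

theorem Ctx.Acts.unique {θ : MulAut ↥(twistedE6 K q)} {x y : TorT K q} {φ φ' : K ≃+* K}
    (h : C.Acts θ x φ) (h' : C.Acts θ y φ') : x = y ∧ φ = φ' := by
  have e1 : ∀ t, (x.1.1 : K) * φ t = (y.1.1 : K) * φ' t := fun t =>
    C.x16_inj ((h.a16 t).symm.trans (h'.a16 t))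
  have u1 : x.1.1 = y.1.1 := Units.ext (by simpa using e1 1)
  have hφ : φ = φ' := RingEquiv.ext fun t => by
    have := e1 t
    rw [u1] at this
    exact mul_left_cancel₀ y.1.1.ne_zero this
  subst hφ
  refine ⟨Prod.ext (Prod.ext u1 (Units.ext ?_))
    (Prod.ext (Subtype.ext (Units.ext ?_)) (Subtype.ext (Units.ext ?_))), rfl⟩
  · simpa using C.x35_inj ((h.a35 1).symm.trans (h'.a35 1))
  · simpa using DataE6.facts.xU_left_inj (show e6p2 < chevE6.nroots by decide)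
      ((h.a2 1).symm.trans (h'.a2 1))
  · simpa using DataE6.facts.xU_left_inj (show e6p4 < chevE6.nroots by decide)
      ((h.a4 1).symm.trans (h'.a4 1))

theorem Ctx.acts_of_conj {θ : MulAut ↥(twistedE6 K q)} {x : TorT K q} (h : GL chevE6.Idx K)
    (hθ : ∀ g, (θ g : GL chevE6.Idx K) = h * g * h⁻¹)
    (hx : ∀ r ∈ [e6p1, e6p2, e6p3, e6p4, e6p5, e6p6], ∀ t,
      h * xU chevE6 r t * h⁻¹ = xU chevE6 r ((C.wt x r : K) * t)) : C.Acts θ x 1 := by
  obtain ⟨w1, w2, w3, w4, w5, w6⟩ := C.wt_simple x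
  refine ⟨fun t => Subtype.ext ?_, fun t => Subtype.ext ?_, fun t => ?_, fun t => ?_⟩
  · rw [hθ]
    show h * (xU chevE6 e6p1 t * xU chevE6 e6p6 (C.f t)) * h⁻¹ = _
    rw [show ∀ a b : GL chevE6.Idx K, h * (a * b) * h⁻¹ = h * a * h⁻¹ * (h * b * h⁻¹) from
      fun a b => by group, hx _ (by simp), hx _ (by simp), w1, w6]
    show _ = xU chevE6 e6p1 _ * xU chevE6 e6p6 (C.f ((x.1.1 : K) * t))
    rw [map_mul]
    rfl
  · rw [hθ]
    show h * (xU chevE6 e6p3 t * xU chevE6 e6p5 (C.f t)) * h⁻¹ = _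
    rw [show ∀ a b : GL chevE6.Idx K, h * (a * b) * h⁻¹ = h * a * h⁻¹ * (h * b * h⁻¹) from
      fun a b => by group, hx _ (by simp), hx _ (by simp), w3, w5]
    show _ = xU chevE6 e6p3 _ * xU chevE6 e6p5 (C.f ((x.1.2 : K) * t))
    rw [map_mul]
    rfl
  · rw [hθ]
    show h * xU chevE6 e6p2 (t : K) * h⁻¹ = _
    rw [hx _ (by simp), w2]
    rfl
  · rw [hθ]
    show h * xU chevE6 e6p4 (t : K) * h⁻¹ = _
    rw [hx _ (by simp), w4]
    rfl

theorem Ctx.dA_acts (x : TorT K q) : C.Acts (C.dA x) x 1 :=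
  C.acts_of_conj (C.dW x) (fun _ => rfl) fun r hr t => C.dW_conj x (by
    simp only [List.mem_cons, List.not_mem_nil, or_false] at hr
    rcases hr with rfl | rfl | rfl | rfl | rfl | rfl <;> decide) t

theorem Ctx.fld_acts (φ : K ≃+* K) : C.Acts (C.fld' φ) 1 φ := by
  have hg : ∀ {r : ℕ}, r < chevE6.nroots → ∀ t : K,
      FixedPoints.gMap chevE6 (φ : K →+* K) (xU chevE6 r t) = xU chevE6 r (φ t) := fun hr t =>
    FixedPoints.gMap_xU DataE6.facts _ hr t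
  have hcomm : ∀ t : K, φ (C.f t) = C.f (φ t) := fun t => by rw [C.hf, C.hf, map_pow]
  refine ⟨fun t => Subtype.ext ?_, fun t => Subtype.ext ?_, fun t => ?_, fun t => ?_⟩
  · show FixedPoints.gMap chevE6 (φ : K →+* K) (xU chevE6 e6p1 t * xU chevE6 e6p6 (C.f t)) = _
    rw [map_mul, hg (by decide), hg (by decide), hcomm]
    simp [Ctx.x16]
  · show FixedPoints.gMap chevE6 (φ : K →+* K) (xU chevE6 e6p3 t * xU chevE6 e6p5 (C.f t)) = _
    rw [map_mul, hg (by decide), hg (by decide), hcomm]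
    simp [Ctx.x35]
  · show FixedPoints.gMap chevE6 (φ : K →+* K) (xU chevE6 e6p2 (t : K)) = _
    rw [hg (by decide)]
    simp
  · show FixedPoints.gMap chevE6 (φ : K →+* K) (xU chevE6 e6p4 (t : K)) = _
    rw [hg (by decide)]
    simp

/-- The characters of the torus on the orbits. -/
noncomputable def Ctx.chiT : TorT K q →* TorT K q :=
  MonoidHom.mk' (fun p => ((p.1.1 * p.1.1 / p.1.2, p.1.2 * p.1.2 / (p.1.1 * p.2.2)),
    (p.2.1 * p.2.1 / p.2.2, ⟨(p.2.2 : Kˣ) * p.2.2 / (p.2.1 * p.1.2 * C.fu p.1.2),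
      (C.fu_fix_iff _).1 (by
        rw [map_div, map_mul, map_mul, map_mul, C.fq_fix, C.fq_fix, C.fu_two, mul_assoc,
          mul_comm (C.fu p.1.2), ← mul_assoc])⟩))) fun x y => by
    simp only [Prod.fst_mul, Prod.snd_mul, map_mul, Prod.mk_mul_mk, div_mul_div_comm,
      MulMemClass.mk_mul_mk, Subgroup.coe_mul]
    refine Prod.ext (Prod.ext ?_ ?_) (Prod.ext ?_ (Subtype.ext ?_)) <;>
      (dsimp only; congr 1 <;> ac_rfl)

/-- The torus element. -/
noncomputable def Ctx.parG (p : TorT K q) : ↥(twistedE6 K q) :=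
  ⟨C.par p, (C.range_le ⟨p, rfl⟩).2⟩

theorem Ctx.parG_mem (p : TorT K q) : C.parG p ∈ C.sys.bnPair.B ⊓ C.sys.bnPair.N :=
  C.sys.mem_bnH.2 (C.range_le ⟨p, rfl⟩).1

theorem Ctx.exists_parG {h : ↥(twistedE6 K q)} (hh : h ∈ C.sys.bnPair.B ⊓ C.sys.bnPair.N) :
    ∃ p, h = C.parG p := by
  obtain ⟨p, e⟩ : (h : GL chevE6.Idx K) ∈ C.par.range :=
    C.diag_eq ▸ ⟨C.sys.mem_bnH.1 hh, h.2⟩
  exact ⟨p, Subtype.ext e.symm⟩

theorem Ctx.par_conj (p : TorT K q) : ∀ r ∈ [e6p1, e6p2, e6p3, e6p4, e6p5, e6p6],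
    ∏ m ∈ Finset.range chevE6.rank,
      six p.1.1 p.2.1 p.1.2 p.2.2 (C.fu p.1.2) (C.fu p.1.1) m ^ chevE6.cartan m r =
        C.wt (C.chiT p) r := by
  obtain ⟨e0, e1, e2, e3, e4, e5⟩ :=
    char_six (K := K) p.1.1 p.2.1 p.1.2 p.2.2 (C.fu p.1.2) (C.fu p.1.1)
  obtain ⟨w1, w2, w3, w4, w5, w6⟩ := C.wt_simple (C.chiT p)
  obtain ⟨s0, s1, s2, s3, s4, s5, -⟩ := torus_tables
  rw [s0] at e0
  rw [s1] at e1
  rw [s2] at e2
  rw [s3] at e3
  rw [s4] at e4
  rw [s5] at e5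
  intro r hr
  simp only [List.mem_cons, List.not_mem_nil, or_false] at hr
  rcases hr with rfl | rfl | rfl | rfl | rfl | rfl
  · rw [e0, w1]; rfl
  · rw [e1, w2]; rfl
  · rw [e2, w3]; rfl
  · rw [e3, w4]; rfl
  · rw [e4, w5]
    show _ = C.fu (p.1.2 * p.1.2 / (p.1.1 * p.2.2))
    rw [map_div, map_mul, map_mul, C.fq_fix, mul_comm (C.fu p.1.1)]
  · rw [e5, w6]
    show _ = C.fu (p.1.1 * p.1.1 / p.1.2)
    rw [map_div, map_mul]

theorem Ctx.parG_acts (p : TorT K q) : C.Acts (MulAut.conj (C.parG p)) (C.chiT p) 1 := by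
  refine C.acts_of_conj (C.par p) (fun g => rfl) fun r hr t => ?_
  have hr' : r < chevE6.nroots := by
    simp only [List.mem_cons, List.not_mem_nil, or_false] at hr
    rcases hr with rfl | rfl | rfl | rfl | rfl | rfl <;> decide
  rw [show C.par p = hT chevE6 (six p.1.1 p.2.1 p.1.2 p.2.2 (C.fu p.1.2) (C.fu p.1.1)) from rfl,
    DataE6.facts.hT_conj_xU _ hr', C.par_conj p r hr]

theorem Ctx.ker_chiT : C.chiT.ker = C.par.ker := by
  ext p
  rw [MonoidHom.mem_ker, MonoidHom.mem_ker]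
  constructor
  · intro h
    refine DataE6.facts.hT_eq_one_of_simple _ fun i hi => ?_
    obtain ⟨s0, s1, s2, s3, s4, s5, -⟩ := torus_tables
    have h1 : C.wv 1 = 1 := map_one _
    have hw : ∀ r, C.wt (C.chiT p) r = 1 := fun r => by
      rw [h, Ctx.wt, h1]
      simp [AutThm.chi]
    have hmem : chevE6.simple i ∈ [e6p1, e6p2, e6p3, e6p4, e6p5, e6p6] := by
      have : i < 6 := hi
      interval_cases i <;> simp [s0, s1, s2, s3, s4, s5]
    have := congrArg Units.val ((C.par_conj p _ hmem).trans (hw _))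
    exact this
  · intro h
    have e1 : C.parG p = 1 := Subtype.ext h
    have ha := C.parG_acts p
    rw [e1, map_one] at ha
    exact (ha.unique C (y := 1) (φ' := 1) ⟨fun t => by simp, fun t => by simp,
      fun t => by simp [Ctx.x2], fun t => by simp [Ctx.x4]⟩).1

theorem Ctx.index_chiT : C.chiT.range.index = Nat.gcd 3 (q + 1) := by
  have h1 := Subgroup.card_mul_index C.chiT.range
  have h2 := Subgroup.card_mul_index C.chiT.ker
  rw [Subgroup.index_ker, mul_comm] at h2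
  rw [← C.card_ker, ← C.ker_chiT]
  exact Nat.eq_of_mul_eq_mul_left Nat.card_pos (h1.trans h2.symm)

/-- A non-zero element of the fixed field, as a unit of order dividing `q - 1`. -/
noncomputable def Ctx.toFq (t : C.fld) (ht : (t : K) ≠ 0) : Fq K q :=
  ⟨Units.mk0 (t : K) ht, (C.fu_fix_iff _).1 (Units.ext ((C.hf _).trans (C.mem_fld.1 t.2)))⟩

theorem Ctx.chiT_val (a e : Kˣ) (b d : Fq K q) :
    (C.chiT ((a, e), (b, d))).1.1 = a * a / e ∧ (C.chiT ((a, e), (b, d))).1.2 = e * e / (a * d) ∧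
    ((C.chiT ((a, e), (b, d))).2.1 : Kˣ) = b * b / d ∧
    ((C.chiT ((a, e), (b, d))).2.2 : Kˣ) = d * d / (b * e * C.fu e) :=
  ⟨rfl, rfl, rfl, rfl⟩

theorem Ctx.parG_conj2 (p : TorT K q) (t : C.fld) :
    C.parG p * C.x2 t * (C.parG p)⁻¹ = C.x2 (⟨_, C.fq_mem (C.chiT p).2.1⟩ * t) :=
  Subtype.ext ((C.parG_acts p).a2 t)

theorem Ctx.parG_conj4 (p : TorT K q) (t : C.fld) :
    C.parG p * C.x4 t * (C.parG p)⁻¹ = C.x4 (⟨_, C.fq_mem (C.chiT p).2.2⟩ * t) :=
  Subtype.ext ((C.parG_acts p).a4 t)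

theorem Ctx.parG_conj35 (p : TorT K q) (t : K) :
    C.parG p * C.x35 t * (C.parG p)⁻¹ = C.x35 (((C.chiT p).1.2 : K) * t) :=
  (C.parG_acts p).a35 t

theorem Ctx.parG_conj16 (p : TorT K q) (t : K) :
    C.parG p * C.x16 t * (C.parG p)⁻¹ = C.x16 (((C.chiT p).1.1 : K) * t) :=
  (C.parG_acts p).a16 t

/-- The matrices of the fixed elements. -/
noncomputable def fixedW {G : Subgroup (GL chevE6.Idx K)} (θ : MulAut ↥G) :
    Subgroup (GL chevE6.Idx K) :=
  (θ.toMonoidHom.eqLocus (MonoidHom.id _)).map G.subtype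

theorem Ctx.mem_fixedW {θ : MulAut ↥(twistedE6 K q)} {g : ↥(twistedE6 K q)} :
    (g : GL chevE6.Idx K) ∈ fixedW θ ↔ θ g = g := by
  constructor
  · rintro ⟨y, hy, e⟩
    obtain rfl : y = g := Subtype.ext e
    exact hy
  · exact fun h => ⟨g, h, rfl⟩

/-- An automorphism trivial on a root subgroup fixes its positive and negative root elements. -/
theorem Ctx.orbit_fixed (p : ℕ) [Fact p.Prime] [CharP K p] {θ : MulAut ↥(twistedE6 K q)}
    (h : TwAut.Norm C.sys.bnPair C.sys.uSub C.sys.nG C.sys.n0G θ) (o : Fin spec.length)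
    (hid : ∀ c ∈ TwAut.rootU C.sys.uSub C.sys.n0G (C.sys.nG o), θ c = c)
    {g : GL chevE6.Idx K} (hg : g ∈ twistedE6 K q)
    (hmem : g ∈ rootClosure chevE6 K ((O o).posO DataE6.co) ∨
      g ∈ rootClosure chevE6 K ((O o).negO DataE6.co)) : g ∈ fixedW θ := by
  refine C.mem_fixedW (g := ⟨g, hg⟩).2 ?_
  rcases hmem with h1 | h1
  · exact hid _ ((C.sys.mem_rootU_iff o).2 h1)
  · have h2 := C.sys.mem_negO hg h1
    exact h.fix_neg (C.frame p) o hid h2.1 h2.2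

theorem Ctx.pair_torus_mem {W : Subgroup (GL chevE6.Idx K)} {rs : ℕ × ℕ}
    (h : rs ∈ [(e6p3, e6p5), (e6p1, e6p6)])
    (hP : ∀ t : K, xU chevE6 rs.1 t * xU chevE6 rs.2 (C.f t) ∈ W)
    (hM : ∀ t : K, xU chevE6 (chevE6.neg rs.1) t * xU chevE6 (chevE6.neg rs.2) (C.f t) ∈ W)
    (u : K) : hU chevE6 rs.1 u * hU chevE6 rs.2 (C.f u) ∈ W := by
  obtain ⟨A, B, A', D⟩ := C.commute_pair h
  have hn : ∀ u : K, nU chevE6 rs.1 u * nU chevE6 rs.2 (C.f u) ∈ W := fun u => by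
    have h1 := hP u
    have h2 := hM (-u⁻¹)
    rw [map_neg, map_inv₀] at h2
    have := Subgroup.mul_mem _ (Subgroup.mul_mem _ h1 h2) h1
    rwa [sandwich (A _ _) (B _ _) (A' _ _)] at this
  have h1 := Subgroup.mul_mem _ (hn u) (hn (-1))
  rw [map_neg, map_one, (D _ _).mul_mul_mul_comm] at h1
  exact h1

theorem Ctx.fix_torus16 (p : ℕ) [Fact p.Prime] [CharP K p] {θ : MulAut ↥(twistedE6 K q)}
    (h : TwAut.Norm C.sys.bnPair C.sys.uSub C.sys.nG C.sys.n0G θ)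
    (hid : ∀ t, θ (C.x16 t) = C.x16 t) (a : Kˣ) :
    θ (C.parG ((a, 1), (1, 1))) = C.parG ((a, 1), (1, 1)) := by
  have hF := DataE6.facts
  have hid' : ∀ c ∈ TwAut.rootU C.sys.uSub C.sys.n0G (C.sys.nG oA), θ c = c := fun c hc => by
    obtain ⟨t, rfl⟩ := (C.root16 c).1 hc
    exact hid t
  obtain ⟨g1, -, -, -, -, g6, -⟩ := neg_tables
  refine C.mem_fixedW.1 ?_
  have := C.pair_torus_mem (W := fixedW θ) (rs := (e6p1, e6p6)) (by simp)
    (fun t => C.mem_fixedW (g := C.x16 t).2 (hid t)) (fun t => by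
      rw [g1, g6]
      refine C.orbit_fixed p h oA hid' (C.two_mem (rs := (e6m1, e6m6)) (by simp) t) (Or.inr ?_)
      exact rootClosure_mono
        (fun r hr h => (negO_iff_list DataE6.chk_arrays neg_lists.2.2.2 r hr).2 h)
        (Subgroup.mul_mem _ (xU_mem_rootClosure (P := (· ∈ [e6m1, e6m6])) (by decide) (by simp) _)
          (xU_mem_rootClosure (P := (· ∈ [e6m1, e6m6])) (by decide) (by simp) _))) (a : K)
  refine (congrArg (· ∈ fixedW θ) ?_).mp this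
  obtain ⟨s0, -, -, -, -, s5, -, -, -, -, -, -, h6⟩ := torus_tables
  show hU chevE6 e6p1 (a : K) * hU chevE6 e6p6 ((C.fu a : Kˣ) : K) =
    hT chevE6 (six a (1 : Fq K q) 1 (1 : Fq K q) (C.fu 1) (C.fu a))
  rw [← s0, ← s5, hF.hU_single (by omega), hF.hU_single (by omega), ← hF.hT_mul]
  refine hF.hT_congr fun i hi => ?_
  have : i < 6 := hi
  interval_cases i <;> simp [six]

theorem Ctx.fix_torus35 (p : ℕ) [Fact p.Prime] [CharP K p] {θ : MulAut ↥(twistedE6 K q)}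
    (h : TwAut.Norm C.sys.bnPair C.sys.uSub C.sys.nG C.sys.n0G θ)
    (hid : ∀ t, θ (C.x35 t) = C.x35 t) (e : Kˣ) :
    θ (C.parG ((1, e), (1, 1))) = C.parG ((1, e), (1, 1)) := by
  have hF := DataE6.facts
  have hid' : ∀ c ∈ TwAut.rootU C.sys.uSub C.sys.n0G (C.sys.nG oE), θ c = c := fun c hc => by
    obtain ⟨t, rfl⟩ := (C.root35 c).1 hc
    exact hid t
  obtain ⟨-, -, g3, -, g5, -, -⟩ := neg_tables
  refine C.mem_fixedW.1 ?_
  have := C.pair_torus_mem (W := fixedW θ) (rs := (e6p3, e6p5)) (by simp)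
    (fun t => C.mem_fixedW (g := C.x35 t).2 (hid t)) (fun t => by
      rw [g3, g5]
      refine C.orbit_fixed p h oE hid' (C.two_mem (rs := (e6m3, e6m5)) (by simp) t) (Or.inr ?_)
      exact rootClosure_mono
        (fun r hr h => (negO_iff_list DataE6.chk_arrays neg_lists.2.2.1 r hr).2 h)
        (Subgroup.mul_mem _ (xU_mem_rootClosure (P := (· ∈ [e6m3, e6m5])) (by decide) (by simp) _)
          (xU_mem_rootClosure (P := (· ∈ [e6m3, e6m5])) (by decide) (by simp) _))) (e : K)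
  refine (congrArg (· ∈ fixedW θ) ?_).mp this
  obtain ⟨-, -, s2, -, s4, -, -, -, -, -, -, -, h6⟩ := torus_tables
  show hU chevE6 e6p3 (e : K) * hU chevE6 e6p5 ((C.fu e : Kˣ) : K) =
    hT chevE6 (six 1 (1 : Fq K q) e (1 : Fq K q) (C.fu e) (C.fu 1))
  rw [← s2, ← s4, hF.hU_single (by omega), hF.hU_single (by omega), ← hF.hT_mul]
  refine hF.hT_congr fun i hi => ?_
  have : i < 6 := hi
  interval_cases i <;> simp [six]

theorem Ctx.fix_torus4 (p : ℕ) [Fact p.Prime] [CharP K p] {θ : MulAut ↥(twistedE6 K q)}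
    (h : TwAut.Norm C.sys.bnPair C.sys.uSub C.sys.nG C.sys.n0G θ)
    (hid : ∀ t, θ (C.x4 t) = C.x4 t) (d : Fq K q) :
    θ (C.parG ((1, 1), (1, d))) = C.parG ((1, 1), (1, d)) := by
  have hF := DataE6.facts
  have hid' : ∀ c ∈ TwAut.rootU C.sys.uSub C.sys.n0G (C.sys.nG oD), θ c = c := fun c hc => by
    obtain ⟨t, rfl⟩ := (C.root4 c).1 hc
    exact hid t
  obtain ⟨-, -, -, g4, -, -, -⟩ := neg_tables
  refine C.mem_fixedW.1 ?_
  have hx : ∀ t : K, t ^ q = t → xU chevE6 e6p4 t ∈ fixedW θ ∧ xU chevE6 e6m4 t ∈ fixedW θ :=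
    fun t ht => ⟨C.mem_fixedW (g := C.x4 ⟨t, C.mem_fld.2 ht⟩).2 (hid _),
      C.orbit_fixed p h oD hid' (C.one_mem (by simp) ht) (Or.inr (rootClosure_mono
        (fun r hr h => (negO_iff_list DataE6.chk_arrays neg_lists.2.1 r hr).2 h)
        (xU_mem_rootClosure (P := (· ∈ [e6m4])) (by decide) (by simp) _)))⟩
  have hn : ∀ t : K, t ^ q = t → nU chevE6 e6p4 t ∈ fixedW θ := fun t ht => by
    have ht' : (-t⁻¹) ^ q = -t⁻¹ := by
      have ht0 : C.f t = t := (C.hf t).trans ht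
      rw [← C.hf, map_neg, map_inv₀, ht0]
    show xU chevE6 e6p4 t * xU chevE6 (chevE6.neg e6p4) (-t⁻¹) * xU chevE6 e6p4 t ∈ _
    rw [g4]
    exact Subgroup.mul_mem _ (Subgroup.mul_mem _ (hx t ht).1 (hx _ ht').2) (hx t ht).1
  have : hU chevE6 e6p4 ((d : Kˣ) : K) ∈ fixedW θ :=
    Subgroup.mul_mem _ (hn _ (C.fq_pow d)) (hn _ (by rw [← C.hf, map_neg, map_one]))
  refine (congrArg (· ∈ fixedW θ) ?_).mp this
  obtain ⟨-, -, -, s3, -, -, -, -, -, -, -, -, h6⟩ := torus_tables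
  show hU chevE6 e6p4 ((d : Kˣ) : K) =
    hT chevE6 (six 1 (1 : Fq K q) 1 d (C.fu 1) (C.fu 1))
  rw [← s3, hF.hU_single (by omega)]
  refine hF.hT_congr fun i hi => ?_
  have : i < 6 := hi
  interval_cases i <;> simp [six]

/-- The norm to the fixed field is surjective. -/
theorem Ctx.exists_norm_eq (v : Fq K q) : ∃ e : Kˣ, e * C.fu e = v := by
  set N : Kˣ →* Kˣ := powMonoidHom (q + 1) with hN
  have hle : N.range ≤ Fq K q := by
    rintro _ ⟨u, rfl⟩
    rw [MonoidHom.mem_ker, powMonoidHom_apply, hN, powMonoidHom_apply, ← pow_mul]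
    have : (q + 1) * (q - 1) = Nat.card Kˣ := by
      rw [Nat.card_units, Nat.card_eq_fintype_card, C.card, ← Nat.sq_sub_sq, one_pow]
    rw [this, pow_card_eq_one']
  have hc : Nat.card (Fq K q) ≤ Nat.card N.range := by
    have hU : Nat.card Kˣ = (q - 1) * (q + 1) := by
      rw [Nat.card_units, Nat.card_eq_fintype_card, C.card, mul_comm, ← Nat.sq_sub_sq, one_pow]
    have h1 : Nat.card (Fq K q) = q - 1 := by
      rw [IsCyclic.card_powMonoidHom_ker, hU, Nat.gcd_mul_right_left]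
    have h2 : Nat.card N.ker = q + 1 := by
      rw [hN, IsCyclic.card_powMonoidHom_ker, hU, Nat.gcd_mul_left_left]
    have h3 := Subgroup.card_mul_index N.ker
    rw [Subgroup.index_ker, h2, hU, mul_comm (q - 1)] at h3
    rw [h1, Nat.eq_of_mul_eq_mul_left (by omega) h3]
  have hv : (v : Kˣ) ∈ N.range := by
    rw [Subgroup.eq_of_le_of_card_ge hle hc]
    exact v.2
  obtain ⟨e, he⟩ := hv
  exact ⟨e, by rw [C.fu_eq_pow, ← pow_succ']; exact he⟩

/-- A normalised automorphism is a diagonal one times a field automorphism. -/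
theorem Ctx.acts_of_norm (p : ℕ) [Fact p.Prime] [CharP K p] {θ : MulAut ↥(twistedE6 K q)}
    (h : TwAut.Norm C.sys.bnPair C.sys.uSub C.sys.nG C.sys.n0G θ) :
    ∃ x φ, C.Acts θ x φ := by
  have hFr := C.frame p
  obtain ⟨c1, σ1, h16⟩ := h.exists_coef hFr oA C.x16_add C.x16_inj C.root16 (fun χ hχ =>
      ⟨_, C.parG_mem ((1, (Units.mk0 χ hχ)⁻¹), (1, 1)), fun t => by
        rw [C.parG_conj16, (C.chiT_val _ _ _ _).1]; simp⟩)
    fun g hg => by obtain ⟨r, rfl⟩ := C.exists_parG hg; exact ⟨_, C.parG_conj16 r⟩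
  obtain ⟨c3, σ3, h35⟩ := h.exists_coef hFr oE C.x35_add C.x35_inj C.root35 (fun χ hχ =>
      ⟨_, C.parG_mem (((Units.mk0 χ hχ)⁻¹, 1), (1, 1)), fun t => by
        rw [C.parG_conj35, (C.chiT_val _ _ _ _).2.1]; simp⟩)
    fun g hg => by obtain ⟨r, rfl⟩ := C.exists_parG hg; exact ⟨_, C.parG_conj35 r⟩
  have hne : ∀ χ : C.fld, χ ≠ 0 → (χ : K) ≠ 0 := fun χ hχ e => hχ (Subtype.ext e)
  obtain ⟨c2, σ2, h2⟩ := h.exists_coef hFr oB C.x2_add C.x2_inj C.root2 (fun χ hχ =>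
      ⟨_, C.parG_mem ((1, 1), (1, (C.toFq χ (hne χ hχ))⁻¹)), fun t => by
        rw [C.parG_conj2]
        congr 2
        exact Subtype.ext (by simp [(C.chiT_val _ _ _ _).2.2.1, Ctx.toFq])⟩)
    fun g hg => by obtain ⟨r, rfl⟩ := C.exists_parG hg; exact ⟨_, C.parG_conj2 r⟩
  obtain ⟨c4, σ4, h4⟩ := h.exists_coef hFr oD C.x4_add C.x4_inj C.root4 (fun χ hχ =>
      ⟨_, C.parG_mem ((1, 1), ((C.toFq χ (hne χ hχ))⁻¹, 1)), fun t => by
        rw [C.parG_conj4]
        congr 2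
        exact Subtype.ext (by simp [(C.chiT_val _ _ _ _).2.2.2, Ctx.toFq])⟩)
    fun g hg => by obtain ⟨r, rfl⟩ := C.exists_parG hg; exact ⟨_, C.parG_conj4 r⟩
  set x : TorT K q := ((c1, c3), (C.toFq (c2 : C.fld) (hne _ c2.ne_zero),
    C.toFq (c4 : C.fld) (hne _ c4.ne_zero))) with hx
  set ψ := C.fld' σ1⁻¹ * (C.dA x⁻¹ * θ) with hψ
  have hn : TwAut.Norm C.sys.bnPair C.sys.uSub C.sys.nG C.sys.n0G ψ :=
    TwAut.Norm.mul hFr (C.field_norm p _) (TwAut.Norm.mul hFr (C.dA_norm p _) h)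
  have dd := C.dA_acts x⁻¹
  have ff := C.fld_acts σ1⁻¹
  have p16 : ∀ t, ψ (C.x16 t) = C.x16 t := fun t => by
    rw [hψ, MulAut.mul_apply, MulAut.mul_apply, h16, dd.a16, ff.a16]
    congr 1
    simp [hx]
  have p35 : ∀ t, ψ (C.x35 t) = C.x35 (σ1.symm (σ3 t)) := fun t => by
    rw [hψ, MulAut.mul_apply, MulAut.mul_apply, h35, dd.a35, ff.a35]
    congr 1
    simp [hx]
  have p35' : ∀ t, ψ (C.x35 t) = C.x35 t := fun t => by
    by_cases ht : t = 0
    · rw [p35, ht, map_zero, map_zero]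
    set a := (Units.mk0 t ht)⁻¹
    have e := congrArg ψ (C.parG_conj35 ((a, 1), (1, 1)) 1)
    rw [map_mul, map_mul, map_inv, C.fix_torus16 p hn p16, p35, p35, map_one, map_one,
      C.parG_conj35, (C.chiT_val _ _ _ _).2.1] at e
    have e' := C.x35_inj e
    simp [a] at e'
    rw [p35, ← e']
  obtain ⟨g4, hg4⟩ : ∃ g : C.fld → C.fld, ∀ t, ψ (C.x4 t) = C.x4 (g t) ∧
      ((g t : C.fld) : K) = σ1.symm ((σ4 t : C.fld) : K) := by
    refine ⟨fun t => ⟨σ1.symm ((σ4 t : C.fld) : K), C.mem_fld.2 (by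
      rw [← map_pow, C.mem_fld.1 (σ4 t).2])⟩, fun t => ⟨Subtype.ext ?_, rfl⟩⟩
    rw [hψ, MulAut.mul_apply, MulAut.mul_apply, h4,
      show C.dA x⁻¹ (C.x4 ((c4 : C.fld) * σ4 t)) = C.x4 (σ4 t) from Subtype.ext (by
        rw [dd.a4]; simp [hx, Ctx.x4, Ctx.toFq]),
      ff.a4]
    simp [Ctx.x4]
  have p4 : ∀ t, ψ (C.x4 t) = C.x4 t := fun t => by
    by_cases ht : t = 0
    · subst ht
      rw [(hg4 0).1]
      exact congrArg C.x4 (Subtype.ext (by rw [(hg4 0).2]; simp))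
    obtain ⟨e, he⟩ := C.exists_norm_eq (C.toFq t (hne t ht))⁻¹
    have h1 : g4 1 = 1 := Subtype.ext (by rw [(hg4 1).2]; simp)
    have hchi : (⟨_, C.fq_mem (C.chiT ((1, e), (1, 1))).2.2⟩ : C.fld) = t := Subtype.ext (by
      simp only [(C.chiT_val _ _ _ _).2.2.2]
      simp [he, Ctx.toFq])
    have e' := congrArg ψ (C.parG_conj4 ((1, e), (1, 1)) 1)
    rw [map_mul, map_mul, map_inv, C.fix_torus35 p hn p35', (hg4 _).1, h1, C.parG_conj4, mul_one,
      hchi] at e'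
    exact e'.symm
  obtain ⟨g2, hg2⟩ : ∃ g : C.fld → C.fld, ∀ t, ψ (C.x2 t) = C.x2 (g t) ∧
      ((g t : C.fld) : K) = σ1.symm ((σ2 t : C.fld) : K) := by
    refine ⟨fun t => ⟨σ1.symm ((σ2 t : C.fld) : K), C.mem_fld.2 (by
      rw [← map_pow, C.mem_fld.1 (σ2 t).2])⟩, fun t => ⟨Subtype.ext ?_, rfl⟩⟩
    rw [hψ, MulAut.mul_apply, MulAut.mul_apply, h2,
      show C.dA x⁻¹ (C.x2 ((c2 : C.fld) * σ2 t)) = C.x2 (σ2 t) from Subtype.ext (by
        rw [dd.a2]; simp [hx, Ctx.x2, Ctx.toFq]),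
      ff.a2]
    simp [Ctx.x2]
  have p2 : ∀ t, ψ (C.x2 t) = C.x2 t := fun t => by
    by_cases ht : t = 0
    · subst ht
      rw [(hg2 0).1]
      exact congrArg C.x2 (Subtype.ext (by rw [(hg2 0).2]; simp))
    have h1 : g2 1 = 1 := Subtype.ext (by rw [(hg2 1).2]; simp)
    set d := (C.toFq t (hne t ht))⁻¹
    have hchi : (⟨_, C.fq_mem (C.chiT ((1, 1), (1, d))).2.1⟩ : C.fld) = t := Subtype.ext (by
      simp only [(C.chiT_val _ _ _ _).2.2.1]
      simp [d, Ctx.toFq])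
    have e' := congrArg ψ (C.parG_conj2 ((1, 1), (1, d)) 1)
    rw [map_mul, map_mul, map_inv, C.fix_torus4 p hn p4, (hg2 _).1, h1, C.parG_conj2, mul_one,
      hchi] at e'
    exact e'.symm
  have hone : ψ = 1 := by
    refine Ctx.Acts.eq C (x := 1) (φ := 1) ⟨fun t => ?_, fun t => ?_, fun t => ?_, fun t => ?_⟩
      ⟨fun t => by simp, fun t => by simp, fun t => by simp [Ctx.x2], fun t => by simp [Ctx.x4]⟩
      p hn (hFr.norm_conj (t := 1) (OneMemClass.one_mem _) |> fun h => by simpa using h)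
    · simpa using p16 t
    · simpa using p35' t
    · rw [p2]; simp [Ctx.x2]
    · rw [p4]; simp [Ctx.x4]
  refine ⟨x, σ1, ?_⟩
  have e : θ = C.dA x * C.fld' σ1 := by
    rw [hψ, map_inv C.fld', map_inv C.dA, inv_mul_eq_one, eq_inv_mul_iff_mul_eq] at hone
    exact hone.symm
  rw [e]
  have := (C.dA_acts x).comp C (C.fld_acts σ1)
  rwa [mul_one] at this

/-- The order of the outer automorphism group. -/
theorem Ctx.card_out (p : ℕ) [Fact p.Prime] [CharP K p] :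
    Nat.card (Cfsg.Out ↥(twistedE6 K q)) = Nat.gcd 3 (q + 1) * Nat.card (K ≃+* K) := by
  have hFr := C.frame p
  rw [← C.index_chiT, Subgroup.index, ← Nat.card_prod]
  symm
  have hΦ : ∀ (x : TorT K q) (φ : K ≃+* K), C.Acts (C.dA x * C.fld' φ) x φ := fun x φ => by
    have := (C.dA_acts x).comp C (C.fld_acts φ)
    rwa [mul_one] at this
  have hN : ∀ (x : TorT K q) (φ : K ≃+* K),
      TwAut.Norm C.sys.bnPair C.sys.uSub C.sys.nG C.sys.n0G (C.dA x * C.fld' φ) := fun x φ =>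
    TwAut.Norm.mul hFr (C.dA_norm p x) (C.field_norm p φ)
  refine Nat.card_eq_of_bijective (fun c : (TorT K q ⧸ C.chiT.range) × (K ≃+* K) =>
    QuotientGroup.mk' (Cfsg.Inn ↥(twistedE6 K q)) (C.dA c.1.out * C.fld' c.2)) ⟨?_, ?_⟩
  · rintro ⟨c, φ⟩ ⟨c', φ'⟩ e
    obtain ⟨y, hy, ey⟩ := (QuotientGroup.mk'_eq_mk' _).1 e
    obtain ⟨x, rfl⟩ := hy
    set A := C.dA c.out * C.fld' φ
    set B := C.dA c'.out * C.fld' φ'
    have hc : MulAut.conj x = A⁻¹ * B := by rw [← ey]; group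
    have hx : TwAut.Norm C.sys.bnPair C.sys.uSub C.sys.nG C.sys.n0G (MulAut.conj x) :=
      hc ▸ TwAut.Norm.mul hFr (TwAut.Norm.inv' hFr (hN _ _)) (hN _ _)
    have hz : A * MulAut.conj x = MulAut.conj (A x) * A :=
      MulEquiv.ext fun g => by simp [MulAut.mul_apply]
    have hAx : A x ∈ C.sys.bnPair.B ⊓ C.sys.bnPair.N :=
      (hN c.out φ).fixH x (TwAut.Norm.mem_H hFr hx)
    obtain ⟨r, hr⟩ := C.exists_parG hAx
    have h1 := (C.parG_acts r).comp C (hΦ c.out φ)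
    rw [← hr, ← hz, ey] at h1
    obtain ⟨e1, e2⟩ := h1.unique C (hΦ c'.out φ')
    refine Prod.ext ?_ e2
    show c = c'
    rw [← c.out_eq', ← c'.out_eq', ← e1]
    rw [mul_comm (C.chiT r)]
    exact (QuotientGroup.mk_mul_of_mem c.out (show C.chiT r ∈ C.chiT.range from ⟨r, rfl⟩)).symm
  · intro y
    induction y using QuotientGroup.induction_on with
    | H θ =>
      obtain ⟨z, hz⟩ := hFr.exists_norm (C.hperm p) θ
      obtain ⟨x, φ, hx⟩ := C.acts_of_norm p hz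
      obtain ⟨⟨w, r, rfl⟩, hw⟩ := QuotientGroup.mk_out_eq_mul C.chiT.range x
      refine ⟨(QuotientGroup.mk x, φ), ?_⟩
      have h1 := (C.parG_acts r).comp C hx
      have h2 : C.dA (x * C.chiT r) * C.fld' φ = MulAut.conj (C.parG r) * (MulAut.conj z * θ) := by
        refine (hΦ _ φ).eq C ?_ p (hN _ _)
          (TwAut.Norm.mul hFr (hFr.norm_conj (C.parG_mem r)) hz)
        rwa [mul_comm x]
      show QuotientGroup.mk' _ _ = QuotientGroup.mk' _ θ
      simp only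
      rw [hw, h2, ← mul_assoc, ← map_mul, map_mul (QuotientGroup.mk' _), QuotientGroup.mk'_apply,
        (QuotientGroup.eq_one_iff (MulAut.conj _)).2 (by exact ⟨_, rfl⟩), one_mul]

end CfsgLib.Chev.TwE6
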