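import Mathlib.LinearAlgebra.Matrix.SpecialLinearGroup
import Mathlib.LinearAlgebra.Matrix.SchurComplement
import Mathlib.LinearAlgebra.Matrix.Rank
import Mathlib.FieldTheory.Finite.Basic
import Mathlib.Tactic

/-!
# Conjugacy of square-zero perturbations of the identity

Square-zero endomorphisms of equal rank are similar; in characteristic two over a finite field the
determinant of the conjugating element can be corrected inside the centralizer.
-/

set_option autoImplicit false

namespace CfsgLib.Known.InvolutionRank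

open Matrix

variable {F : Type*} [Field F] {V : Type*} [AddCommGroup V] [Module F V] [FiniteDimensional F V]

/-- Normal form of a square-zero endomorphism. -/
theorem exists_normal (N : V →ₗ[F] V) (hN : ∀ x, N (N x) = 0) {k d : ℕ}
    (hk : Module.finrank F (LinearMap.range N) = k) (hd : Module.finrank F V = 2 * k + d) :
    ∃ e : ((Fin k → F) × (Fin k → F) × (Fin d → F)) ≃ₗ[F] V, ∀ p, N (e p) = e (0, p.1, 0) := by
  obtain ⟨r⟩ : Nonempty ((Fin k → F) ≃ₗ[F] LinearMap.range N) :=
    FiniteDimensional.nonempty_linearEquiv_of_finrank_eq (by rw [Module.finrank_fin_fun, hk])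
  obtain ⟨sec, hsec⟩ := LinearMap.exists_rightInverse_of_surjective N.rangeRestrict
    (LinearMap.range_rangeRestrict N)
  let R : Submodule F (LinearMap.ker N) :=
    (LinearMap.range N).comap (LinearMap.ker N).subtype
  obtain ⟨D, hD⟩ := Submodule.exists_isCompl R
  have hle : LinearMap.range N ≤ LinearMap.ker N := by
    rintro _ ⟨x, rfl⟩
    exact hN x
  have hRdim : Module.finrank F R = k :=
    hk ▸ (Submodule.comapSubtypeEquivOfLe hle).finrank_eq
  have hDdim : Module.finrank F D = d := by
    have h1 := Submodule.finrank_add_eq_of_isCompl hD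
    have h2 := LinearMap.finrank_range_add_finrank_ker N
    omega
  obtain ⟨δ⟩ : Nonempty ((Fin d → F) ≃ₗ[F] D) :=
    FiniteDimensional.nonempty_linearEquiv_of_finrank_eq (by rw [Module.finrank_fin_fun, hDdim])
  let lift : (Fin k → F) →ₗ[F] V := sec ∘ₗ r.toLinearMap
  have hlift : ∀ x, N (lift x) = (r x : V) := fun x =>
    congrArg Subtype.val (LinearMap.congr_fun hsec (r x))
  let Ψ : ((Fin k → F) × (Fin k → F) × (Fin d → F)) →ₗ[F] V :=
    lift.coprod ((((LinearMap.range N).subtype ∘ₗ r.toLinearMap)).coprod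
      ((LinearMap.ker N).subtype ∘ₗ D.subtype ∘ₗ δ.toLinearMap))
  have hval : ∀ x y z, Ψ (x, y, z) = lift x + ((r y : V) + ((δ z : LinearMap.ker N) : V)) :=
    fun x y z => rfl
  have hNΨ : ∀ x y z, N (Ψ (x, y, z)) = (r x : V) := by
    intro x y z
    rw [hval, map_add, map_add, hlift, hle (r y).2, LinearMap.mem_ker.mp (δ z : LinearMap.ker N).2,
      add_zero, add_zero]
  have hinj : Function.Injective Ψ := by
    refine (injective_iff_map_eq_zero Ψ).mpr ?_
    rintro ⟨x, y, z⟩ h
    have hx : x = 0 := by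
      have := congrArg N h
      rw [hNΨ, map_zero] at this
      exact r.map_eq_zero_iff.mp (Subtype.ext this)
    subst hx
    rw [hval, map_zero, zero_add] at h
    have hy : (⟨(r y : V), hle (r y).2⟩ : LinearMap.ker N) = -(δ z : LinearMap.ker N) :=
      Subtype.ext (eq_neg_of_add_eq_zero_left h)
    have h0 : (δ z : LinearMap.ker N) = 0 := by
      refine Submodule.disjoint_def.mp hD.disjoint _ ?_ (δ z).2
      have : (⟨(r y : V), hle (r y).2⟩ : LinearMap.ker N) ∈ R := (r y).2
      rw [hy] at this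
      exact neg_mem_iff.mp this
    have hz : z = 0 := δ.map_eq_zero_iff.mp (Subtype.ext h0)
    rw [hz, map_zero, ZeroMemClass.coe_zero, ZeroMemClass.coe_zero, add_zero] at h
    rw [r.map_eq_zero_iff.mp (Subtype.ext h), hz]
    rfl
  have hdim : Module.finrank F ((Fin k → F) × (Fin k → F) × (Fin d → F)) = Module.finrank F V := by
    rw [Module.finrank_prod, Module.finrank_prod, Module.finrank_fin_fun, Module.finrank_fin_fun, hd]
    omega
  let e := LinearEquiv.ofInjectiveOfFinrankEq Ψ hinj hdim
  have he : ∀ p, e p = Ψ p := fun p => rfl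
  refine ⟨e, fun p => ?_⟩
  rw [he, he, show p = (p.1, p.2.1, p.2.2) from rfl, hNΨ, hval]
  simp

/-- Square-zero endomorphisms of equal rank are similar. -/
theorem exists_similar (N M : V →ₗ[F] V) (hN : ∀ x, N (N x) = 0) (hM : ∀ x, M (M x) = 0)
    (h : Module.finrank F (LinearMap.range N) = Module.finrank F (LinearMap.range M)) :
    ∃ g : V ≃ₗ[F] V, ∀ x, g (N x) = M (g x) := by
  have h1 := LinearMap.finrank_range_add_finrank_ker N
  have h2 : LinearMap.range N ≤ LinearMap.ker N := by
    rintro _ ⟨x, rfl⟩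
    exact hN x
  have h3 := Submodule.finrank_mono h2
  obtain ⟨d, hd⟩ : ∃ d, Module.finrank F V = 2 * Module.finrank F (LinearMap.range N) + d :=
    ⟨Module.finrank F V - 2 * Module.finrank F (LinearMap.range N), by omega⟩
  obtain ⟨e, he⟩ := exists_normal N hN rfl hd
  obtain ⟨e', he'⟩ := exists_normal M hM h.symm hd
  refine ⟨e.symm.trans e', fun x => ?_⟩
  obtain ⟨p, rfl⟩ := e.surjective x
  simp [he, he']

variable {n : ℕ}

/-- An element of any square determinant commuting with a nonzero square-zero matrix. -/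
theorem exists_centralizer_det (N : Matrix (Fin n) (Fin n) F) (hN : N * N = 0) (h0 : N ≠ 0) (c : F) :
    ∃ h : Matrix (Fin n) (Fin n) F, h * N = N * h ∧ h.det = c * c := by
  classical
  obtain ⟨e, he⟩ : ∃ e, N *ᵥ e ≠ 0 := by
    by_contra hc
    push Not at hc
    exact h0 (Matrix.ext_of_mulVec_single fun i => by rw [hc, zero_mulVec])
  set w := N *ᵥ e with hw
  obtain ⟨φ, hφw, hφe⟩ : ∃ φ : Fin n → F, φ ⬝ᵥ w = 1 ∧ φ ⬝ᵥ e = 0 := by
    let f : (Fin n → F) →ₗ[F] F × F := (dotProductBilin F F w).prod (dotProductBilin F F e)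
    suffices hs : Function.Surjective f by
      obtain ⟨φ, hφ⟩ := hs (1, 0)
      exact ⟨φ, (dotProduct_comm _ _).trans (congrArg Prod.fst hφ),
        (dotProduct_comm _ _).trans (congrArg Prod.snd hφ)⟩
    rw [← LinearMap.range_eq_top]
    by_contra htop
    obtain ⟨g, hg, hle⟩ := Submodule.exists_le_ker_of_lt_top _ (lt_top_iff_ne_top.mpr htop)
    have hg0 : ∀ x, g (w ⬝ᵥ x, e ⬝ᵥ x) = 0 := fun x => hle (LinearMap.mem_range_self f x)
    set a := g (1, 0) with ha
    set b := g (0, 1) with hb
    have hlin : ∀ u v : F, g (u, v) = u * a + v * b := fun u v => by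
      rw [show ((u, v) : F × F) = u • (1, 0) + v • (0, 1) by simp, map_add, map_smul, map_smul,
        smul_eq_mul, smul_eq_mul]
    have hz : a • w + b • e = 0 := by
      funext i
      have := hg0 (Pi.single i 1)
      rw [hlin, dotProduct_single, dotProduct_single, mul_one, mul_one] at this
      simp only [Pi.add_apply, Pi.smul_apply, smul_eq_mul, Pi.zero_apply]
      linear_combination this
    have hb0 : b = 0 := by
      have := congrArg (N *ᵥ ·) hz
      simp only [mulVec_add, mulVec_smul, mulVec_zero, hw, mulVec_mulVec, hN, zero_mulVec, smul_zero,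
        zero_add] at this
      exact (smul_eq_zero.mp this).resolve_right he
    rw [hb0, zero_smul, add_zero] at hz
    have ha0 : a = 0 := (smul_eq_zero.mp hz).resolve_right he
    exact hg (LinearMap.ext fun ⟨u, v⟩ => by rw [hlin, ha0, hb0, mul_zero, mul_zero, add_zero]; rfl)
  let U : Matrix (Fin n) (Fin 2) F := Matrix.of fun i j => if j = 0 then e i else w i
  let W : Matrix (Fin 2) (Fin n) F := Matrix.of fun j i => if j = 0 then (φ ᵥ* N) i else φ i
  refine ⟨1 + ((c - 1) • U) * W, ?_, ?_⟩
  · have hUW : U * W * N = N * (U * W) := by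
      have hNN : ∀ i, ((φ ᵥ* N) ᵥ* N) i = 0 := fun i => by
        rw [vecMul_vecMul, hN, vecMul_zero]; rfl
      have hNw : N *ᵥ w = 0 := by rw [hw, mulVec_mulVec, hN, zero_mulVec]
      have e1 : U * W = vecMulVec e (φ ᵥ* N) + vecMulVec w φ := by
        ext i j
        simp [U, W, Matrix.mul_apply, Fin.sum_univ_two, vecMulVec_apply]
      rw [e1, add_mul, mul_add, vecMulVec_mul, vecMulVec_mul, mul_vecMulVec, mul_vecMulVec, hNw, ← hw,
        show (φ ᵥ* N) ᵥ* N = 0 from funext hNN, vecMulVec_zero, zero_vecMulVec, zero_add, add_zero]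
    rw [Matrix.smul_mul, add_mul, mul_add, one_mul, mul_one, Matrix.smul_mul, Matrix.mul_smul, hUW]
  · rw [det_one_add_mul_comm, Matrix.mul_smul]
    have e2 : W * U = 1 := by
      have hNw : N *ᵥ w = 0 := by rw [hw, mulVec_mulVec, hN, zero_mulVec]
      ext i j
      fin_cases i <;> fin_cases j <;>
        simp [U, W, Matrix.mul_apply]
      · show (φ ᵥ* N) ⬝ᵥ e = 1
        rw [← dotProduct_mulVec, ← hw, hφw]
      · show (φ ᵥ* N) ⬝ᵥ w = 0
        rw [← dotProduct_mulVec, hNw, dotProduct_zero]
      · exact hφe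
      · exact hφw
    rw [e2, show (1 : Matrix (Fin 2) (Fin 2) F) + (c - 1) • 1 = c • 1 by
      rw [sub_smul, one_smul, add_sub_cancel], det_smul, det_one, Fintype.card_fin, mul_one, pow_two]

/-- Conjugacy of involutions of `SL` in characteristic two is governed by the rank of `a - 1`. -/
theorem isConj_iff_rank [Fintype F] [CharP F 2] (a b : Matrix.SpecialLinearGroup (Fin n) F)
    (ha : orderOf a = 2) (hb : orderOf b = 2) :
    IsConj a b ↔
      ((a : Matrix (Fin n) (Fin n) F) - 1).rank = ((b : Matrix (Fin n) (Fin n) F) - 1).rank := by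
  classical
  set A := (a : Matrix (Fin n) (Fin n) F) with hA
  set B := (b : Matrix (Fin n) (Fin n) F) with hB
  constructor
  · intro h
    obtain ⟨c, hc⟩ := isConj_iff.mp h
    set C := (c : Matrix (Fin n) (Fin n) F) with hC
    set C' := ((c⁻¹ : Matrix.SpecialLinearGroup (Fin n) F) : Matrix (Fin n) (Fin n) F) with hC'
    have h1 : C * A * C' = B := congrArg Subtype.val hc
    have h2 : C * C' = 1 := congrArg Subtype.val (mul_inv_cancel c)
    have h3 : B - 1 = C * (A - 1) * C' := by rw [mul_sub, sub_mul, mul_one, h1, h2]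
    rw [h3, Matrix.rank_mul_eq_left_of_isUnit_det _ _ (by rw [hC', (c⁻¹).2]; exact isUnit_one),
      Matrix.rank_mul_eq_right_of_isUnit_det _ _ (by rw [hC, c.2]; exact isUnit_one)]
  · intro hr
    have hsq : ∀ x : Matrix.SpecialLinearGroup (Fin n) F, orderOf x = 2 →
        ((x : Matrix (Fin n) (Fin n) F) - 1) * ((x : Matrix (Fin n) (Fin n) F) - 1) = 0 := by
      intro x hx
      have h := congrArg Subtype.val (show x * x = 1 by rw [← pow_two, ← hx, pow_orderOf_eq_one])
      change (x : Matrix (Fin n) (Fin n) F) * (x : Matrix (Fin n) (Fin n) F) = 1 at h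
      rw [sub_mul, mul_sub, h, one_mul, mul_one]
      ext i j
      have h2 : (2 : F) = 0 := CharTwo.two_eq_zero
      simp only [Matrix.sub_apply, Matrix.zero_apply]
      linear_combination ((1 : Matrix (Fin n) (Fin n) F) i j - (x : Matrix (Fin n) (Fin n) F) i j) * h2
    have hA0 : A - 1 ≠ 0 := by
      intro h
      have : a = 1 := Subtype.ext (sub_eq_zero.mp h)
      rw [this, orderOf_one] at ha
      omega
    obtain ⟨g, hg⟩ := exists_similar (A - 1).mulVecLin (B - 1).mulVecLin
      (fun x => by rw [mulVecLin_apply, mulVecLin_apply, mulVec_mulVec, hsq a ha, zero_mulVec])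
      (fun x => by rw [mulVecLin_apply, mulVecLin_apply, mulVec_mulVec, hsq b hb, zero_mulVec]) hr
    set G := LinearMap.toMatrix' g.toLinearMap with hG
    have hGv : ∀ x, G *ᵥ x = g x := fun x => by rw [hG, LinearMap.toMatrix'_mulVec]; rfl
    have hGA : G * (A - 1) = (B - 1) * G := by
      refine Matrix.ext_of_mulVec_single fun i => ?_
      rw [← mulVec_mulVec, ← mulVec_mulVec, hGv, hGv]
      exact hg _
    have hdet : G.det ≠ 0 := by
      intro h
      obtain ⟨x, hx, hx0⟩ := Matrix.exists_mulVec_eq_zero_iff.mpr h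
      rw [hGv] at hx0
      exact hx (g.map_eq_zero_iff.mp hx0)
    obtain ⟨c, hc⟩ := FiniteField.isSquare_of_char_two (by rw [ringChar.eq F 2]) G.det⁻¹
    obtain ⟨h, hhN, hhdet⟩ := exists_centralizer_det (A - 1) (hsq a ha) hA0 c
    let k : Matrix.SpecialLinearGroup (Fin n) F :=
      ⟨G * h, by rw [det_mul, hhdet, ← hc, mul_inv_cancel₀ hdet]⟩
    refine isConj_iff.mpr ⟨k, mul_inv_eq_iff_eq_mul.mpr (Subtype.ext ?_)⟩
    show G * h * A = B * (G * h)
    have h1 : G * h * (A - 1) = (B - 1) * (G * h) := by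
      rw [mul_assoc, hhN, ← mul_assoc, hGA, mul_assoc]
    rw [mul_sub, sub_mul, mul_one, one_mul] at h1
    exact sub_left_inj.mp h1

end CfsgLib.Known.InvolutionRank
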