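import Cfsg.Agent.Lib.Known.InvolutionTorus
import Cfsg.Agent.Lib.BlockArith.GLWreathSylow
import Cfsg.Prelude.Def_Transfer

/-!
# The normal 2-rank of a Sylow 2-subgroup

`Good G r`: some Sylow 2-subgroup has a normal elementary abelian subgroup of order `2 ^ r` and no
larger one.  Models are wreath products; in `GL` with `q ≡ 3 mod 4` the quaternion elements of the
blocks leave at most one one-dimensional common eigenspace.
-/

set_option autoImplicit false

namespace CfsgLib.Known.NormalTwoRank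

open Cfsg

variable {G H : Type*} [Group G] [Group H]

/-- `K` normalises `E`, an elementary abelian subgroup of it. -/
def Normed (K E : Subgroup G) : Prop :=
  E ≤ K ∧ (∀ k ∈ K, ∀ e ∈ E, k * e * k⁻¹ ∈ E) ∧ (∀ a ∈ E, ∀ b ∈ E, a * b = b * a) ∧
    ∀ a ∈ E, a * a = 1

/-- A subgroup with the order of a Sylow 2-subgroup and a normed subgroup of order `2 ^ r`. -/
def HasRank (K : Subgroup G) (r : ℕ) : Prop :=
  Nat.card K = 2 ^ (Nat.card G).factorization 2 ∧ ∃ E, Normed K E ∧ Nat.card E = 2 ^ r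

/-- The normal 2-rank is `r`. -/
def Good (G : Type*) [Group G] (r : ℕ) : Prop :=
  ∃ K : Subgroup G, HasRank K r ∧ ∀ E, Normed K E → Nat.card E ≤ 2 ^ r

theorem Normed.map {K E : Subgroup G} (f : G →* H) (h : Normed K E) : Normed (K.map f) (E.map f) := by
  obtain ⟨h1, h2, h3, h4⟩ := h
  refine ⟨Subgroup.map_mono h1, ?_, ?_, ?_⟩
  · rintro _ ⟨k, hk, rfl⟩ _ ⟨e, he, rfl⟩
    exact ⟨_, h2 k hk e he, by simp⟩
  · rintro _ ⟨a, ha, rfl⟩ _ ⟨b, hb, rfl⟩
    rw [← map_mul, h3 a ha b hb, map_mul]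
  · rintro _ ⟨a, ha, rfl⟩
    rw [← map_mul, h4 a ha, map_one]

theorem Good.map {r : ℕ} (f : G ≃* H) (h : Good G r) : Good H r := by
  obtain ⟨K, ⟨hK, E, hE, hEc⟩, hb⟩ := h
  refine ⟨K.map f.toMonoidHom, ⟨?_, E.map f.toMonoidHom, hE.map _, ?_⟩, fun E' hE' => ?_⟩
  · rw [Subgroup.card_map_of_injective (f := f.toMonoidHom) f.injective, hK, Nat.card_congr f.toEquiv]
  · rw [Subgroup.card_map_of_injective (f := f.toMonoidHom) f.injective, hEc]
  · have h1 : Normed K (E'.map f.symm.toMonoidHom) := by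
      have h2 := hE'.map f.symm.toMonoidHom
      rwa [Subgroup.map_map, show f.symm.toMonoidHom.comp f.toMonoidHom = MonoidHom.id G from
        MonoidHom.ext f.symm_apply_apply, Subgroup.map_id] at h2
    have h3 := hb _ h1
    rwa [Subgroup.card_map_of_injective (f := f.symm.toMonoidHom) f.symm.injective] at h3

/-- The statement for every Sylow subgroup. -/
theorem Good.result [Finite G] {r : ℕ} (h : Good G r) (S : Sylow 2 G) :
    (∃ E : Subgroup (S : Subgroup G), E.Normal ∧ IsElementaryAbelian 2 E ∧ 2 ^ r ≤ Nat.card E) ∧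
      ∀ E : Subgroup (S : Subgroup G), E.Normal → IsElementaryAbelian 2 E → Nat.card E ≤ 2 ^ r := by
  have : Fact (Nat.Prime 2) := ⟨Nat.prime_two⟩
  obtain ⟨K, ⟨hK, E, ⟨hEK, hnorm, hcomm, hinv⟩, hEc⟩, hb⟩ := h
  let e : K ≃* (S : Subgroup G) := Sylow.equiv (Sylow.ofCard K hK) S
  refine ⟨⟨(E.subgroupOf K).map e.toMonoidHom, ?_, ⟨⟨⟨?_⟩⟩, ?_⟩, ?_⟩, fun E' hn hE' => ?_⟩
  · refine Subgroup.Normal.map ⟨fun a ha k => ?_⟩ e.toMonoidHom e.surjective
    exact hnorm k.1 k.2 a.1 ha
  · rintro ⟨_, a, ha, rfl⟩ ⟨_, b, hb', rfl⟩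
    refine Subtype.ext ?_
    show e a * e b = e b * e a
    rw [← map_mul, ← map_mul, show a * b = b * a from Subtype.ext (hcomm _ ha _ hb')]
  · rintro _ ⟨a, ha, rfl⟩
    rw [← map_pow, sq, show a * a = 1 from Subtype.ext (hinv _ ha), map_one]
  · rw [Subgroup.card_map_of_injective (f := e.toMonoidHom) e.injective,
      Nat.card_congr (Subgroup.subgroupOfEquivOfLe hEK).toEquiv, hEc]
  · let E₀ : Subgroup G := (E'.map e.symm.toMonoidHom).map K.subtype
    have h1 : Normed K E₀ := by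
      refine ⟨Subgroup.map_subtype_le _, ?_, ?_, ?_⟩
      · rintro k hk _ ⟨a, ha, rfl⟩
        exact ⟨_, (Subgroup.Normal.map hn e.symm.toMonoidHom e.symm.surjective).conj_mem a ha ⟨k, hk⟩, rfl⟩
      · rintro _ ⟨_, ⟨a, ha, rfl⟩, rfl⟩ _ ⟨_, ⟨b, hb', rfl⟩, rfl⟩
        rw [← map_mul, ← map_mul, ← map_mul, ← map_mul]
        exact congrArg _ (congrArg _ (congrArg Subtype.val (hE'.1.is_comm.comm ⟨a, ha⟩ ⟨b, hb'⟩)))
      · rintro _ ⟨_, ⟨a, ha, rfl⟩, rfl⟩
        rw [← map_mul, ← map_mul, ← sq, hE'.2 a ha, map_one, map_one]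
    have h2 := hb E₀ h1
    rwa [Subgroup.card_map_of_injective K.subtype_injective,
      Subgroup.card_map_of_injective (f := e.symm.toMonoidHom) e.symm.injective] at h2

section Product

variable {G₁ G₂ : Type*} [Group G₁] [Group G₂]

theorem HasRank.prod {K₁ : Subgroup G₁} {K₂ : Subgroup G₂} {r₁ r₂ : ℕ} (h₁ : HasRank K₁ r₁)
    (h₂ : HasRank K₂ r₂) (f : G₁ × G₂ →* G) (hf : Function.Injective f)
    (hv : (Nat.card G).factorization 2 = (Nat.card G₁).factorization 2 + (Nat.card G₂).factorization 2) :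
    HasRank ((K₁.prod K₂).map f) (r₁ + r₂) := by
  obtain ⟨c₁, E₁, ⟨a₁, b₁, k₁, i₁⟩, e₁⟩ := h₁
  obtain ⟨c₂, E₂, ⟨a₂, b₂, k₂, i₂⟩, e₂⟩ := h₂
  refine ⟨?_, (E₁.prod E₂).map f, Normed.map f
    ⟨fun x hx => ⟨a₁ hx.1, a₂ hx.2⟩, fun k hk e he => ⟨b₁ _ hk.1 _ he.1, b₂ _ hk.2 _ he.2⟩,
      fun a ha b hb => Prod.ext (k₁ _ ha.1 _ hb.1) (k₂ _ ha.2 _ hb.2),
      fun a ha => Prod.ext (i₁ _ ha.1) (i₂ _ ha.2)⟩, ?_⟩
  · rw [Subgroup.card_map_of_injective hf, Nat.card_congr (Subgroup.prodEquiv K₁ K₂).toEquiv,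
      Nat.card_prod, c₁, c₂, ← pow_add, hv]
  · rw [Subgroup.card_map_of_injective hf, Nat.card_congr (Subgroup.prodEquiv E₁ E₂).toEquiv,
      Nat.card_prod, e₁, e₂, ← pow_add]

end Product

section Wreath

open CfsgLib.WreathSquares

variable {ι : Type*} [Fintype ι] [DecidableEq ι] {A : Type*} [Group A] [Finite A]
  (B : (ι → A) →* G) (P : Equiv.Perm ι →* G)
  (hrel : ∀ w a, P w * B a = B (fun i => a (w.symm i)) * P w)

theorem sylow_mem_central {p : ℕ} [Fact p.Prime] (W : Sylow p A) {z : A} (hz : orderOf z = p)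
    (hc : ∀ a, a * z = z * a) : z ∈ (W : Subgroup A) := by
  have hp : IsPGroup p (Subgroup.zpowers z) := IsPGroup.of_card (n := 1) (by rw [Nat.card_zpowers, hz, pow_one])
  obtain ⟨T, hT⟩ := hp.exists_le_sylow
  obtain ⟨g, hg⟩ := MulAction.exists_smul_eq A T W
  rw [← hg]
  refine ⟨z, hT (Subgroup.mem_zpowers z), ?_⟩
  show g * z * g⁻¹ = z
  rw [hc, mul_inv_cancel_right]

theorem hasRank_wreath (hdis : ∀ z w, B z = P w → z = 1 ∧ w = 1) (W : Sylow 2 A) {z : A}
    (hz : orderOf z = 2) (hc : ∀ a, a * z = z * a)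
    (hv : (Nat.card G).factorization 2 =
      Fintype.card ι * (Nat.card A).factorization 2 + (Fintype.card ι).factorial.factorization 2)
    (S : Sylow 2 (Equiv.Perm ι)) :
    HasRank (wreathSub B P hrel (W : Subgroup A) (S : Subgroup (Equiv.Perm ι))) (Fintype.card ι) := by
  have : Fact (Nat.Prime 2) := ⟨Nat.prime_two⟩
  refine ⟨?_, (Subgroup.pi Set.univ fun _ : ι => Subgroup.zpowers z).map B, ?_, ?_⟩
  · rw [card_wreathSub B P hrel _ _ hdis, W.card_eq_multiplicity, S.card_eq_multiplicity,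
      Nat.card_eq_fintype_card (α := Equiv.Perm ι), Fintype.card_perm, ← pow_mul, ← pow_add, hv, mul_comm]
  · have hzW : Subgroup.zpowers z ≤ (W : Subgroup A) :=
      Subgroup.zpowers_le.2 (sylow_mem_central W hz hc)
    have hcz : ∀ x ∈ Subgroup.zpowers z, ∀ a : A, a * x = x * a := by
      rintro _ ⟨k, rfl⟩ a
      exact Commute.zpow_right (hc a) k
    refine ⟨?_, ?_, ?_, ?_⟩
    · rintro _ ⟨x, hx, rfl⟩
      exact base_mem_wreathSub B P hrel _ _ fun i => hzW (hx i (Set.mem_univ i))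
    · rintro _ ⟨a, -, w, -, rfl⟩ _ ⟨x, hx, rfl⟩
      refine ⟨fun i => x (w.symm i), fun i _ => hx _ (Set.mem_univ _), ?_⟩
      rw [_root_.mul_inv_rev, mul_assoc (B a), hrel]
      simp only [mul_assoc, mul_inv_cancel_left]
      rw [← map_inv, ← map_mul, ← map_mul]
      refine congrArg B (funext fun i => ?_)
      show x (w.symm i) = a i * (x (w.symm i) * (a i)⁻¹)
      rw [← mul_assoc, hcz _ (hx _ (Set.mem_univ _)), mul_inv_cancel_right]
    · rintro _ ⟨x, hx, rfl⟩ _ ⟨y, hy, rfl⟩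
      rw [← map_mul, ← map_mul]
      exact congrArg B (funext fun i => hcz _ (hy i (Set.mem_univ i)) (x i))
    · rintro _ ⟨x, hx, rfl⟩
      rw [← map_mul, show x * x = 1 from funext fun i => ?_, map_one]
      obtain ⟨k, hk⟩ := hx i (Set.mem_univ i)
      show x i * x i = 1
      rw [← hk]
      show z ^ k * z ^ k = 1
      rw [← zpow_add, ← two_mul, _root_.zpow_mul]
      rw [zpow_ofNat, show z ^ (2 : ℕ) = 1 from hz ▸ pow_orderOf_eq_one z, _root_.one_zpow]
  · have hinj : Function.Injective B := fun x y h => by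
      have h1 := hdis (y⁻¹ * x) 1 (by rw [map_mul, map_inv, h, inv_mul_cancel, map_one])
      exact (inv_mul_eq_one.1 h1.1).symm
    rw [Subgroup.card_map_of_injective hinj]
    let e : (Subgroup.pi Set.univ fun _ : ι => Subgroup.zpowers z) ≃ (ι → Subgroup.zpowers z) :=
      { toFun := fun x i => ⟨x.1 i, x.2 i (Set.mem_univ i)⟩
        invFun := fun x => ⟨fun i => (x i).1, fun i _ => (x i).2⟩
        left_inv := fun _ => rfl
        right_inv := fun _ => rfl }
    rw [Nat.card_congr e, Nat.card_fun, Nat.card_zpowers, hz, Nat.card_eq_fintype_card]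

end Wreath

section Bounds

open Matrix CfsgLib.Known.InvolutionTorus

variable {F : Type*} [Field F] {ι : Type*} [Fintype ι] [DecidableEq ι]
variable {A : Type*} [CommGroup A] [Finite A] (ρ : A →* Matrix ι ι F)

/-- The common eigenspace of a character. -/
def eig (χ : A →* F) : Submodule F (ι → F) where
  carrier := {v | ∀ a, ρ a *ᵥ v = χ a • v}
  zero_mem' := fun a => by simp
  add_mem' {u v} hu hv := fun a => by rw [mulVec_add, hu a, hv a, smul_add]
  smul_mem' c v hv := fun a => by rw [mulVec_smul, hv a, smul_comm]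

omit [Finite A] in
/-- Bases of the eigenspaces are independent together. -/
theorem sum_finrank_le [Fintype {χ : A →* F // Occurs ρ χ}] :
    ∑ χ : {χ : A →* F // Occurs ρ χ}, Module.finrank F (eig ρ χ.1) ≤ Fintype.card ι := by
  classical
  let u : (Σ χ : {χ : A →* F // Occurs ρ χ}, Fin (Module.finrank F (eig ρ χ.1))) → ι → F :=
    fun p => (Module.finBasis F (eig ρ p.1.1) p.2 : ι → F)
  have hli : LinearIndependent F u := by
    rw [Fintype.linearIndependent_iff]
    intro c hc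
    let w : {χ : A →* F // Occurs ρ χ} → ι → F :=
      fun χ => ((∑ j, c ⟨χ, j⟩ • Module.finBasis F (eig ρ χ.1) j : eig ρ χ.1) : ι → F)
    have hsum : ∑ χ, w χ = 0 := by
      rw [← hc, Fintype.sum_sigma]
      refine Finset.sum_congr rfl fun χ _ => ?_
      simp [w, u, Submodule.coe_sum]
    have hw : ∀ χ, w χ = 0 := by
      by_contra hne
      push Not at hne
      let s := Finset.univ.filter fun χ => w χ ≠ 0
      have hli' := linearIndependent_vectors ρ (fun χ : s => χ.1.1)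
        (fun a b h => Subtype.ext (Subtype.ext h)) (fun χ => w χ.1)
        (fun χ => (Finset.mem_filter.1 χ.2).2)
        (fun χ a => (∑ j, c ⟨χ.1, j⟩ • Module.finBasis F (eig ρ χ.1.1) j : eig ρ χ.1.1).2 a)
      obtain ⟨χ, hχ⟩ := hne
      have h1 := Fintype.linearIndependent_iff.1 hli' (fun _ => 1) (by
        simp only [one_smul]
        rw [Finset.sum_coe_sort s w, Finset.sum_filter_ne_zero, hsum])
        ⟨χ, Finset.mem_filter.2 ⟨Finset.mem_univ χ, hχ⟩⟩
      exact one_ne_zero h1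
    rintro ⟨χ, j⟩
    exact Fintype.linearIndependent_iff.1 (Module.finBasis F (eig ρ χ.1)).linearIndependent
      (fun j => c ⟨χ, j⟩) (Subtype.ext (hw χ)) j
  have h := hli.fintype_card_le_finrank
  rwa [Fintype.card_sigma, Module.finrank_fintype_fun_eq_card,
    Finset.sum_congr rfl (fun χ _ => Fintype.card_fin _)] at h

/-- The occurring characters form a finite set, and each has a nonzero eigenspace. -/
theorem occurs_finite : Finite {χ : A →* F // Occurs ρ χ} := by
  choose v hv hvχ using fun χ : {χ : A →* F // Occurs ρ χ} => χ.2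
  exact (linearIndependent_vectors ρ (fun χ : {χ : A →* F // Occurs ρ χ} => χ.1)
    Subtype.val_injective v hv hvχ).finite

theorem one_le_finrank (χ : {χ : A →* F // Occurs ρ χ}) : 1 ≤ Module.finrank F (eig ρ χ.1) := by
  obtain ⟨v, hv, h⟩ := χ.2
  rw [Nat.one_le_iff_ne_zero]
  intro h0
  rw [Submodule.finrank_eq_zero] at h0
  have : v ∈ eig ρ χ.1 := h
  rw [h0, Submodule.mem_bot] at this
  exact hv this

theorem card_le_dim (h2 : (2 : F) ≠ 0) (hexp : ∀ a : A, a * a = 1) (hinj : Function.Injective ρ) :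
    Nat.card A ≤ 2 ^ Fintype.card ι := by
  have := occurs_finite ρ
  have := Fintype.ofFinite {χ : A →* F // Occurs ρ χ}
  refine (card_le_pow ρ h2 hexp hinj (fun a (k : {χ : A →* F // Occurs ρ χ}) => k.1 a)
    (fun a k => occurs_sq hexp k.1 a) fun a b h χ hχ => congrFun h ⟨χ, hχ⟩).trans
    (Nat.pow_le_pow_right two_pos ?_)
  rw [Nat.card_eq_fintype_card]
  refine le_trans ?_ (sum_finrank_le ρ)
  rw [← Finset.card_univ, Finset.card_eq_sum_ones]
  exact Finset.sum_le_sum fun χ _ => one_le_finrank ρ χ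

omit [Finite A] in
/-- A vector spanning a common eigenspace. -/
def Lone (v : ι → F) : Prop :=
  v ≠ 0 ∧ ∃ χ : A →* F, v ∈ eig ρ χ ∧ eig ρ χ ≤ Submodule.span F {v}

/-- Normalising elements permute the one-dimensional eigenspaces. -/
theorem Lone.image {v : ι → F} (h : Lone ρ v) (g : GL ι F) (φ : A ≃* A)
    (hg : ∀ a, ρ a * g.1 = g.1 * ρ (φ a)) : Lone ρ (g.1 *ᵥ v) := by
  obtain ⟨hv, χ, hvχ, hle⟩ := h
  have hback : ∀ x, g⁻¹.1 *ᵥ (g.1 *ᵥ x) = x := fun x => by
    rw [mulVec_mulVec, Units.inv_mul, one_mulVec]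
  have hforth : ∀ x, g.1 *ᵥ (g⁻¹.1 *ᵥ x) = x := fun x => by
    rw [mulVec_mulVec, Units.mul_inv, one_mulVec]
  refine ⟨fun h0 => hv (by rw [← hback v, h0, mulVec_zero]), χ.comp φ.toMonoidHom, fun a => ?_, ?_⟩
  · show ρ a *ᵥ (g.1 *ᵥ v) = χ (φ a) • (g.1 *ᵥ v)
    rw [mulVec_mulVec, hg, ← mulVec_mulVec, hvχ (φ a), mulVec_smul]
  · intro w hw
    have h1 : g⁻¹.1 *ᵥ w ∈ eig ρ χ := fun b => by
      have h2 := hw (φ.symm b)
      change ρ (φ.symm b) *ᵥ w = χ (φ (φ.symm b)) • w at h2
      rw [φ.apply_symm_apply] at h2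
      have h3 : ρ b = g⁻¹.1 * (ρ (φ.symm b) * g.1) := by
        rw [hg, φ.apply_symm_apply, ← mul_assoc, Units.inv_mul, one_mul]
      rw [h3, ← mulVec_mulVec, ← mulVec_mulVec, hforth, h2, mulVec_smul]
    obtain ⟨c, hc⟩ := Submodule.mem_span_singleton.1 (hle h1)
    exact Submodule.mem_span_singleton.2 ⟨c, by rw [← mulVec_smul, hc, hforth]⟩

omit [Finite A] in
/-- Pairwise non-proportional such vectors are independent. -/
theorem lone_li {κ : Type*} (v : κ → ι → F) (hv : ∀ k, Lone ρ (v k))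
    (hne : ∀ i j, i ≠ j → v i ∉ Submodule.span F {v j}) : LinearIndependent F v := by
  choose h0 χ hχ hle using hv
  refine linearIndependent_vectors ρ χ (fun i j hij => ?_) v h0 fun k a => hχ k a
  by_contra hne'
  exact hne i j hne' (hle j (hij ▸ hχ i))

/-- Quaternion data of a block: a projection of rank at most two and two elements squaring to its
negative, as does their product, normalising the group. -/
def Quat (π : (ι → F) →ₗ[F] (ι → F)) : Prop :=
  (∀ v, π (π v) = π v) ∧ Module.finrank F (LinearMap.range π) ≤ 2 ∧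
    ∃ X Y : GL ι F, (∃ φ : A ≃* A, ∀ a, ρ a * X.1 = X.1 * ρ (φ a)) ∧
      (∃ φ : A ≃* A, ∀ a, ρ a * Y.1 = Y.1 * ρ (φ a)) ∧
      (∀ v, π v = 0 → X.1 *ᵥ v = v ∧ Y.1 *ᵥ v = v) ∧
      (∀ v, π v = v → π (X.1 *ᵥ v) = X.1 *ᵥ v ∧ π (Y.1 *ᵥ v) = Y.1 *ᵥ v) ∧
      ∀ v, π v = v → X.1 *ᵥ (X.1 *ᵥ v) = -v ∧ Y.1 *ᵥ (Y.1 *ᵥ v) = -v ∧
        X.1 *ᵥ (Y.1 *ᵥ (X.1 *ᵥ (Y.1 *ᵥ v))) = -v

/-- Such vectors vanish on quaternion blocks. -/
theorem lone_block (h2 : (2 : F) ≠ 0) (hsq : ¬ IsSquare (-1 : F)) {π : (ι → F) →ₗ[F] (ι → F)}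
    (hπ : Quat ρ π) {v : ι → F} (hv : Lone ρ v) : π v = 0 := by
  obtain ⟨hidem, hdim, X, Y, ⟨φ, hX⟩, ⟨ψ, hY⟩, hfix, hstab, hsquare⟩ := hπ
  by_contra hp
  set p := π v with hp'
  set r := v - p with hr
  have hπr : π r = 0 := by rw [hr, map_sub, hidem, sub_self]
  have hπp : π p = p := hidem v
  have hXp : π (X.1 *ᵥ p) = X.1 *ᵥ p := (hstab p hπp).1
  have hnosc : ∀ (g : GL ι F), g.1 *ᵥ (g.1 *ᵥ p) = -p → ∀ c : F, g.1 *ᵥ p ≠ c • p := by
    intro g hg c hc
    rw [hc, mulVec_smul, hc, smul_smul, ← neg_one_smul F p] at hg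
    exact hsq ⟨c, (smul_left_injective F hp hg).symm⟩
  have hneg : ∀ x : ι → F, x ≠ 0 → -x ≠ x := fun x hx h => hx <| by
    have : (2 : F) • x = 0 := by rw [two_smul]; nth_rw 1 [← h]; abel
    exact (smul_eq_zero.1 this).resolve_left h2
  by_cases hr0 : r = 0
  · have hvp : v = p := sub_eq_zero.1 (hr ▸ hr0)
    have hpl : Lone ρ p := hvp ▸ hv
    have hYp : π (Y.1 *ᵥ p) = Y.1 *ᵥ p := (hstab p hπp).2
    obtain ⟨sX, sY, sXY⟩ := hsquare p hπp
    have hYX : ∀ c : F, Y.1 *ᵥ p ≠ c • (X.1 *ᵥ p) := by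
      intro c hc
      simp only [hc, mulVec_smul, sX, mulVec_neg, smul_neg, neg_neg, smul_smul] at sXY
      rw [← neg_one_smul F p] at sXY
      exact hsq ⟨c, (smul_left_injective F hp sXY).symm⟩
    have hli : LinearIndependent F ![p, X.1 *ᵥ p, Y.1 *ᵥ p] := by
      refine lone_li ρ _ ?_ ?_
      · intro k
        fin_cases k
        exacts [hpl, hpl.image ρ X φ hX, hpl.image ρ Y ψ hY]
      · have hflip : ∀ a b : ι → F, a ≠ 0 → (∀ c : F, b ≠ c • a) → a ∉ Submodule.span F {b} := by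
          intro a b ha hab h
          obtain ⟨c, hc⟩ := Submodule.mem_span_singleton.1 h
          have hc0 : c ≠ 0 := by rintro rfl; exact ha (by simpa using hc.symm)
          exact hab c⁻¹ (by rw [← hc, inv_smul_smul₀ hc0])
        have hdir : ∀ a b : ι → F, (∀ c : F, a ≠ c • b) → a ∉ Submodule.span F {b} := by
          intro a b hab h
          obtain ⟨c, hc⟩ := Submodule.mem_span_singleton.1 h
          exact hab c hc.symm
        have n1 : X.1 *ᵥ p ≠ 0 := (hpl.image ρ X φ hX).1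
        intro i j hij
        fin_cases i <;> fin_cases j
        · exact absurd rfl hij
        · exact hflip _ _ hp (hnosc X sX)
        · exact hflip _ _ hp (hnosc Y sY)
        · exact hdir _ _ (hnosc X sX)
        · exact absurd rfl hij
        · exact hflip _ _ n1 hYX
        · exact hdir _ _ (hnosc Y sY)
        · exact hdir _ _ hYX
        · exact absurd rfl hij
    have hrange : ∀ k, ![p, X.1 *ᵥ p, Y.1 *ᵥ p] k ∈ LinearMap.range π := by
      intro k
      fin_cases k
      exacts [⟨p, hπp⟩, ⟨_, hXp⟩, ⟨_, hYp⟩]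
    have h3 : 3 ≤ Module.finrank F (LinearMap.range π) := by
      have hli' : LinearIndependent F (fun k => (⟨_, hrange k⟩ : LinearMap.range π)) :=
        LinearIndependent.of_comp (LinearMap.range π).subtype hli
      simpa using hli'.fintype_card_le_finrank
    omega
  · have hv' : v = p + r := by rw [hr, add_sub_cancel]
    obtain ⟨sX, -, -⟩ := hsquare p hπp
    set s := X.1 *ᵥ p with hs
    let w : Fin 4 → ι → F := ![p + r, s + r, -p + r, -s + r]
    have hXr : X.1 *ᵥ r = r := (hfix r hπr).1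
    have hlone : ∀ k, Lone ρ (w k) := by
      have h0 : Lone ρ (p + r) := hv' ▸ hv
      have h1 : Lone ρ (s + r) := by
        have := h0.image ρ X φ hX
        rwa [mulVec_add, hXr, ← hs] at this
      have h2' : Lone ρ (-p + r) := by
        have := h1.image ρ X φ hX
        rwa [mulVec_add, hXr, sX] at this
      have h3 : Lone ρ (-s + r) := by
        have := h2'.image ρ X φ hX
        rwa [mulVec_add, hXr, mulVec_neg, ← hs] at this
      intro k
      fin_cases k
      exacts [h0, h1, h2', h3]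
    let q : Fin 4 → ι → F := ![p, s, -p, -s]
    have hπq : ∀ k, π (q k) = q k := by
      intro k
      fin_cases k <;> simp [q, hπp, hXp]
    have hwq : ∀ k, w k = q k + r := by
      intro k
      fin_cases k <;> rfl
    have hq : Function.Injective q := by
      have e1 := hnosc X sX 1
      have e2 := hnosc X sX (-1)
      rw [one_smul] at e1
      rw [neg_one_smul] at e2
      have e3 := hneg p hp
      have hs0 : s ≠ 0 := fun h => by
        rw [h, mulVec_zero, eq_comm, neg_eq_zero] at sX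
        exact hp sX
      have e4 := hneg s hs0
      have e5 : -s ≠ p := fun h => e2 (by rw [← hs, ← h, neg_neg])
      have e6 : -s ≠ -p := fun h => e1 (neg_injective h)
      intro i j hij
      fin_cases i <;> fin_cases j <;> simp [q] at hij ⊢ <;>
        first
          | exact e1 hij | exact e1 hij.symm | exact e2 hij | exact e2 hij.symm
          | exact e3 hij | exact e3 hij.symm | exact e4 hij | exact e4 hij.symm
          | exact e5 hij | exact e5 hij.symm | exact e6 hij | exact e6 hij.symm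
    have hli : LinearIndependent F w := by
      refine lone_li ρ w hlone fun i j hij h => ?_
      obtain ⟨c, hc⟩ := Submodule.mem_span_singleton.1 h
      rw [hwq, hwq, smul_add] at hc
      have h1 : c • q j = q i := by simpa [hπq, hπr] using congrArg π hc
      have h4 : c = 1 := by
        rw [h1] at hc
        exact smul_left_injective F hr0 ((add_left_cancel hc).trans (one_smul F r).symm)
      rw [h4, one_smul] at h1
      exact hij (hq h1).symm
    have hmem : ∀ k, w k ∈ LinearMap.range π ⊔ Submodule.span F {r} := fun k => by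
      rw [hwq]
      exact Submodule.add_mem_sup ⟨q k, hπq k⟩ (Submodule.mem_span_singleton_self r)
    have h4 : 4 ≤ Module.finrank F ↥(LinearMap.range π ⊔ Submodule.span F {r}) := by
      have hli' : LinearIndependent F
          (fun k => (⟨_, hmem k⟩ : ↥(LinearMap.range π ⊔ Submodule.span F {r}))) :=
        LinearIndependent.of_comp (LinearMap.range π ⊔ Submodule.span F {r}).subtype hli
      simpa using hli'.fintype_card_le_finrank
    have h5 := Submodule.finrank_add_le_finrank_add_finrank (LinearMap.range π) (Submodule.span F {r})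
    have h6 := finrank_span_singleton (K := F) hr0
    omega

/-- The bound: at most one one-dimensional eigenspace. -/
theorem card_le_half (h2 : (2 : F) ≠ 0) (hsq : ¬ IsSquare (-1 : F)) (hexp : ∀ a : A, a * a = 1)
    (hinj : Function.Injective ρ) {κ : Type*} (π : κ → (ι → F) →ₗ[F] (ι → F))
    (hπ : ∀ i, Quat ρ (π i)) (e₀ : ι → F)
    (hrest : ∀ v, (∀ i, π i v = 0) → v ∈ Submodule.span F {e₀}) {r : ℕ}
    (hr : Fintype.card ι + 1 ≤ 2 * r + 1) : Nat.card A ≤ 2 ^ r := by
  classical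
  have := occurs_finite ρ
  have := Fintype.ofFinite {χ : A →* F // Occurs ρ χ}
  refine (card_le_pow ρ h2 hexp hinj (fun a (k : {χ : A →* F // Occurs ρ χ}) => k.1 a)
    (fun a k => occurs_sq hexp k.1 a) fun a b h χ hχ => congrFun h ⟨χ, hχ⟩).trans
    (Nat.pow_le_pow_right two_pos ?_)
  rw [Nat.card_eq_fintype_card]
  have hlone : ∀ χ : {χ : A →* F // Occurs ρ χ}, Module.finrank F (eig ρ χ.1) = 1 →
      eig ρ χ.1 = Submodule.span F {e₀} ∧ e₀ ≠ 0 := by
    intro χ hχ
    obtain ⟨v, hv, hmem⟩ := χ.2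
    have hle : Submodule.span F {v} = eig ρ χ.1 :=
      Submodule.eq_of_le_of_finrank_eq ((Submodule.span_singleton_le_iff_mem _ _).2 hmem)
        (by rw [finrank_span_singleton hv, hχ])
    have hve : v ∈ Submodule.span F {e₀} :=
      hrest v fun i => lone_block ρ h2 hsq (hπ i) ⟨hv, χ.1, hmem, hle.ge⟩
    obtain ⟨c, hc⟩ := Submodule.mem_span_singleton.1 hve
    have hc0 : c ≠ 0 := by rintro rfl; exact hv (by simpa using hc.symm)
    refine ⟨?_, fun h => hv (by rw [← hc, h, smul_zero])⟩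
    rw [← hle, ← hc, Submodule.span_singleton_smul_eq (IsUnit.mk0 c hc0)]
  have hone : (Finset.univ.filter fun χ : {χ : A →* F // Occurs ρ χ} =>
      Module.finrank F (eig ρ χ.1) = 1).card ≤ 1 := by
    refine Finset.card_le_one.2 fun χ hχ ψ hψ => Subtype.ext (MonoidHom.ext fun a => ?_)
    obtain ⟨h1, he⟩ := hlone χ (Finset.mem_filter.1 hχ).2
    obtain ⟨h1', -⟩ := hlone ψ (Finset.mem_filter.1 hψ).2
    have e1 : e₀ ∈ eig ρ χ.1 := h1 ▸ Submodule.mem_span_singleton_self e₀
    have e2 : e₀ ∈ eig ρ ψ.1 := h1' ▸ Submodule.mem_span_singleton_self e₀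
    exact smul_left_injective F he ((e1 a).symm.trans (e2 a))
  have h4 : ∀ χ : {χ : A →* F // Occurs ρ χ}, 2 ≤ Module.finrank F (eig ρ χ.1) +
      if Module.finrank F (eig ρ χ.1) = 1 then 1 else 0 := fun χ => by
    have := one_le_finrank ρ χ
    split_ifs <;> omega
  have h5 := Finset.sum_le_sum (s := Finset.univ) fun χ _ => h4 χ
  rw [Finset.sum_const, Finset.card_univ, smul_eq_mul, Finset.sum_add_distrib, Finset.sum_boole,
    Nat.cast_id] at h5
  have h6 := sum_finrank_le ρ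
  omega

end Bounds

end CfsgLib.Known.NormalTwoRank
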