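import Cfsg.Agent.Lib.Known.NormalTwoRank
import Cfsg.Agent.Lib.SymSylow.SpTwo

/-!
# Normal 2-rank models for `Sp` and `GL` in odd characteristic
-/

set_option autoImplicit false

namespace CfsgLib.Known.NormalTwoRank

open Matrix CfsgLib.GLWreathSylow CfsgLib.WreathSquares
open scoped MatrixGroups

variable {F : Type*} [Field F]

theorem neg_one_ne {n : Type*} [Fintype n] [DecidableEq n] [Nonempty n] (h2 : (2 : F) ≠ 0) :
    (-1 : Matrix n n F) ≠ 1 := fun h => h2 <| by
  have h1 := congrFun (congrFun h (Classical.arbitrary n)) (Classical.arbitrary n)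
  simp at h1
  linear_combination -h1

theorem orderOf_neg_one_gl {n : Type*} [Fintype n] [DecidableEq n] [Nonempty n] (h2 : (2 : F) ≠ 0) :
    orderOf (-1 : GL n F) = 2 :=
  orderOf_eq_prime (by rw [sq, neg_mul_neg, one_mul]) fun h =>
    neg_one_ne h2 (congrArg Units.val h)

theorem orderOf_neg_one_sl (h2 : (2 : F) ≠ 0) : orderOf (-1 : SpecialLinearGroup (Fin 2) F) = 2 :=
  orderOf_eq_prime (by rw [sq, neg_mul_neg, one_mul]) fun h =>
    neg_one_ne h2 (congrArg Subtype.val h)

theorem exists_normed_gl.{u, v} {F : Type u} [Field F] {n : Type v} [Fintype n] [DecidableEq n]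
    {K E : Subgroup (GL n F)}
    (hE : Normed K E) :
    ∃ (A : Type (max u v)) (_ : CommGroup A) (ρ : A →* Matrix n n F), (∀ a : A, a * a = 1) ∧
      Function.Injective ρ ∧ Nat.card A = Nat.card E ∧
      ∀ g ∈ K, ∃ φ : A ≃* A, ∀ a, ρ a * g.1 = g.1 * ρ (φ a) := by
  let _ : CommGroup E := { mul_comm := fun a b => Subtype.ext (hE.2.2.1 _ a.2 _ b.2) }
  refine ⟨E, inferInstance, (Units.coeHom _).comp E.subtype, fun a => Subtype.ext (hE.2.2.2 _ a.2),
    Units.val_injective.comp Subtype.val_injective, rfl, fun g hg => ?_⟩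
  refine ⟨{ toFun := fun a => ⟨g⁻¹ * a.1 * g, by simpa using hE.2.1 _ (inv_mem hg) _ a.2⟩
            invFun := fun a => ⟨g * a.1 * g⁻¹, hE.2.1 _ hg _ a.2⟩
            left_inv := fun a => Subtype.ext (show g * (g⁻¹ * a.1 * g) * g⁻¹ = a.1 by group)
            right_inv := fun a => Subtype.ext (show g⁻¹ * (g * a.1 * g⁻¹) * g = a.1 by group)
            map_mul' := fun a b => Subtype.ext
              (show g⁻¹ * (a.1 * b.1) * g = g⁻¹ * a.1 * g * (g⁻¹ * b.1 * g) by group) }, fun a => ?_⟩
  show a.1.1 * g.1 = g.1 * (g⁻¹ * a.1 * g).1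
  rw [← Units.val_mul, ← Units.val_mul]
  congr 1
  group

variable [Fintype F]

/-- `Sp`: the base of the wreath product. -/
theorem good_sp (hF : Odd (Fintype.card F)) (n : ℕ)
    (hub : Cfsg.PRankLE 2 n (Matrix.symplecticGroup (Fin n) F)) :
    Good (Matrix.symplecticGroup (Fin n) F) n := by
  classical
  have : Fact (Nat.Prime 2) := ⟨Nat.prime_two⟩
  let W : Sylow 2 (SpecialLinearGroup (Fin 2) F) := default
  let S : Sylow 2 (Equiv.Perm (Fin n)) := default
  refine ⟨wreathSub (SymSylow.spBlk (F := F) (n := n)) SymSylow.spPerm SymSylow.spPerm_mul_spBlk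
    (W : Subgroup _) (S : Subgroup _), ?_, fun E hE => hub E ⟨⟨fun a b => Subtype.ext (hE.2.2.1 _ a.2 _ b.2)⟩⟩
    fun a ha => (sq a).trans (hE.2.2.2 a ha)⟩
  have h := hasRank_wreath (SymSylow.spBlk (F := F) (n := n)) SymSylow.spPerm
    SymSylow.spPerm_mul_spBlk (fun _ _ h => SymSylow.spBlk_eq_spPerm h) W
    (orderOf_neg_one_sl (two_ne hF)) (fun a => by rw [mul_neg, neg_mul, one_mul, mul_one])
    (by rw [SymSylow.factorization_card_sp hF, Fintype.card_fin]) S
  rwa [Fintype.card_fin] at h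

theorem card_gl_congr {m n : Type*} [Fintype m] [DecidableEq m] [Fintype n] [DecidableEq n]
    (e : m ≃ n) : Nat.card (GL m F) = Nat.card (GL n F) :=
  Nat.card_congr (glReindex e).toEquiv

theorem v_gl_small (hF : Odd (Fintype.card F)) {r : ℕ} (hr : r ≤ 1) :
    (Nat.card (GL (Fin r) F)).factorization 2 =
      r * (Nat.card (GL (Fin 1) F)).factorization 2 + r.factorial.factorization 2 := by
  interval_cases r
  · rw [v_GL_zero]; simp
  · simp

/-- `GL`, `q ≡ 1 mod 4`. -/
theorem good_gl_one (hq : Fintype.card F % 4 = 1) (n : ℕ) : Good (GL (Fin n) F) n := by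
  classical
  have : Fact (Nat.Prime 2) := ⟨Nat.prime_two⟩
  have h2 := two_ne (F := F) (Nat.odd_iff.2 (by omega))
  refine Good.map (glReindex (Equiv.uniqueProd (Fin n) (Fin 1))) ?_
  let W : Sylow 2 (GL (Fin 1) F) := default
  let S : Sylow 2 (Equiv.Perm (Fin n)) := default
  have hv : (Nat.card (GL (Fin 1 × Fin n) F)).factorization 2 =
      n * (Nat.card (GL (Fin 1) F)).factorization 2 + n.factorial.factorization 2 := by
    rw [card_gl_congr (Equiv.uniqueProd (Fin n) (Fin 1)), v_GL_one_mod_four hq,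
      show (1 : ℕ) = 0 + 1 from rfl, v_GL_succ (Nat.odd_iff.2 (by omega)), v_GL_zero, pow_one,
      add_zero]
  refine ⟨wreathSub (blk (F := F) (d := Fin 1) (ι := Fin n)) blkPerm blkPerm_mul_blk (W : Subgroup _)
    (S : Subgroup _), ?_, fun E hE => ?_⟩
  · have h := hasRank_wreath (blk (F := F) (d := Fin 1) (ι := Fin n)) blkPerm blkPerm_mul_blk
      (fun _ _ h => blk_eq_blkPerm h) W (orderOf_neg_one_gl h2)
      (fun a => by rw [mul_neg, neg_mul, one_mul, mul_one]) (by rwa [Fintype.card_fin]) S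
    rwa [Fintype.card_fin] at h
  · obtain ⟨A, _, ρ, hexp, hinj, hcard, -⟩ := exists_normed_gl hE
    have : Finite A := Nat.finite_of_card_ne_zero (hcard ▸ Nat.card_pos.ne')
    have h := card_le_dim ρ h2 hexp hinj
    rwa [hcard, Fintype.card_prod, Fintype.card_fin, Fintype.card_fin, one_mul] at h

/-- Two quaternion elements of a Sylow subgroup of `GL₂`. -/
theorem exists_quat (h2 : (2 : F) ≠ 0) :
    ∃ (W : Sylow 2 (GL (Fin 2) F)) (x y : GL (Fin 2) F), x ∈ (W : Subgroup _) ∧ y ∈ (W : Subgroup _) ∧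
      x * x = -1 ∧ y * y = -1 ∧ x * y * (x * y) = -1 := by
  have : Fact (Nat.Prime 2) := ⟨Nat.prime_two⟩
  let P : Sylow 2 (SpecialLinearGroup (Fin 2) F) := default
  obtain ⟨k, hk, ⟨e⟩⟩ := Classical.SL2Q.sylow_two_quaternion h2 P
  let f : QuaternionGroup (2 ^ k) →* GL (Fin 2) F :=
    (SpecialLinearGroup.toGL.comp (P : Subgroup _).subtype).comp e.symm.toMonoidHom
  have hf : Function.Injective f :=
    (SpecialLinearGroup.toGL_injective.comp Subtype.val_injective).comp e.symm.injective
  obtain ⟨W, hW⟩ := (P.2.map (SpecialLinearGroup.toGL : _ →* GL (Fin 2) F)).exists_le_sylow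
  have hfW : ∀ u, f u ∈ (W : Subgroup _) := fun u => hW ⟨_, (e.symm u).2, rfl⟩
  set z : QuaternionGroup (2 ^ k) := QuaternionGroup.a ((2 ^ k : ℕ) : ZMod (2 * 2 ^ k)) with hz
  have hz1 : f z ≠ 1 := fun h => by
    have h0 := hf (h.trans (map_one f).symm)
    rw [hz, QuaternionGroup.one_def, QuaternionGroup.a.injEq, ZMod.natCast_eq_zero_iff] at h0
    have := Nat.le_of_dvd (Nat.two_pow_pos k) h0
    have := Nat.two_pow_pos k
    omega
  have hz2 : f z * f z = 1 := by
    rw [← map_mul, hz, QuaternionGroup.a_mul_a, ← Nat.cast_add, ← two_mul, ZMod.natCast_self,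
      ← QuaternionGroup.one_def, map_one]
  have hneg : f z = -1 := by
    obtain ⟨M, hM⟩ : ∃ M : SpecialLinearGroup (Fin 2) F, f z = SpecialLinearGroup.toGL M := ⟨_, rfl⟩
    rw [hM] at hz1 hz2 ⊢
    have hMM : M * M = 1 := SpecialLinearGroup.toGL_injective (by rw [map_mul, hz2, map_one])
    have hinv : M⁻¹ = M := inv_eq_of_mul_eq_one_right hMM
    have hadj : Matrix.adjugate M.1 = M.1 :=
      (Matrix.SpecialLinearGroup.coe_inv M).symm.trans (congrArg Subtype.val hinv)
    rw [Matrix.adjugate_fin_two] at hadj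
    have h00 := congrFun (congrFun hadj 0) 0
    have h01 := congrFun (congrFun hadj 0) 1
    have h10 := congrFun (congrFun hadj 1) 0
    have hd := M.2
    rw [Matrix.det_fin_two] at hd
    simp at h00 h01 h10
    have hb : M.1 0 1 = 0 :=
      (mul_eq_zero.1 (show 2 * M.1 0 1 = 0 by linear_combination -h01)).resolve_left h2
    have hc : M.1 1 0 = 0 :=
      (mul_eq_zero.1 (show 2 * M.1 1 0 = 0 by linear_combination -h10)).resolve_left h2
    rw [h00, hb, zero_mul, sub_zero] at hd
    rcases mul_self_eq_one_iff.1 hd with h | h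
    · refine absurd ?_ hz1
      refine Units.ext (Matrix.ext fun i j => ?_)
      show M.1 i j = (1 : Matrix (Fin 2) (Fin 2) F) i j
      fin_cases i <;> fin_cases j <;> simp [h, h00, hb, hc]
    · refine Units.ext (Matrix.ext fun i j => ?_)
      show M.1 i j = (-1 : Matrix (Fin 2) (Fin 2) F) i j
      fin_cases i <;> fin_cases j <;> simp [h, h00, hb, hc]
  have e2 : ((2 ^ (k - 1) : ℕ) : ZMod (2 * 2 ^ k)) + ((2 ^ (k - 1) : ℕ) : ZMod (2 * 2 ^ k)) =
      ((2 ^ k : ℕ) : ZMod (2 * 2 ^ k)) := by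
    rw [← Nat.cast_add, ← mul_two, ← pow_succ, Nat.sub_add_cancel hk]
  have hsq : ∀ u, u * u = z → f u * f u = -1 := fun u hu => by rw [← map_mul, hu, hneg]
  refine ⟨W, f (QuaternionGroup.a ((2 ^ (k - 1) : ℕ) : ZMod (2 * 2 ^ k))), f (QuaternionGroup.xa 0),
    hfW _, hfW _, hsq _ ?_, hsq _ ?_, ?_⟩
  · rw [QuaternionGroup.a_mul_a, e2]
  · rw [← sq, QuaternionGroup.xa_sq]
  · rw [← map_mul]
    refine hsq _ ?_
    rw [QuaternionGroup.a_mul_xa, ← sq, QuaternionGroup.xa_sq]

/-- `GL`, `q ≡ 3 mod 4`. -/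
theorem good_gl_three (hq : Fintype.card F % 4 = 3) (m r : ℕ) (hr : r ≤ 1) :
    Good (GL (Fin (2 * m + r)) F) (m + r) := by
  classical
  have : Fact (Nat.Prime 2) := ⟨Nat.prime_two⟩
  have hF : Odd (Fintype.card F) := Nat.odd_iff.2 (by omega)
  have h2 := two_ne (F := F) hF
  have hns : ¬ IsSquare (-1 : F) := by rw [FiniteField.isSquare_neg_one_iff]; omega
  let e : (Fin 2 × Fin m) ⊕ (Fin 1 × Fin r) ≃ Fin (2 * m + r) :=
    (Equiv.sumCongr finProdFinEquiv (Equiv.uniqueProd (Fin r) (Fin 1))).trans finSumFinEquiv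
  refine Good.map (glReindex e) ?_
  obtain ⟨W, x, y, hxW, hyW, hx, hy, hxy⟩ := exists_quat (F := F) h2
  let W₁ : Sylow 2 (GL (Fin 1) F) := default
  let S : Sylow 2 (Equiv.Perm (Fin m)) := default
  let S₁ : Sylow 2 (Equiv.Perm (Fin r)) := default
  let fM : GL (Fin 2 × Fin m) F × GL (Fin 1 × Fin r) F →*
      Matrix ((Fin 2 × Fin m) ⊕ (Fin 1 × Fin r)) ((Fin 2 × Fin m) ⊕ (Fin 1 × Fin r)) F :=
    { toFun := fun p => fromBlocks p.1.1 0 0 p.2.1
      map_one' := by simp
      map_mul' := fun p q => by simp [fromBlocks_multiply] }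
  let f := fM.toHomUnits
  have hfval : ∀ p, (f p).1 = fromBlocks p.1.1 0 0 p.2.1 := fun p => rfl
  have hfinj : Function.Injective f := fun p q h => by
    have h1 := congrArg Units.val h
    rw [hfval, hfval, fromBlocks_inj] at h1
    exact Prod.ext (Units.ext h1.1) (Units.ext h1.2.2.2)
  have hv1 : (Nat.card (GL (Fin 2 × Fin m) F)).factorization 2 =
      m * (Nat.card (GL (Fin 2) F)).factorization 2 + m.factorial.factorization 2 := by
    rw [card_gl_congr finProdFinEquiv, v_GL_three_mod_four hq]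
  have hv2 : (Nat.card (GL (Fin 1 × Fin r) F)).factorization 2 =
      r * (Nat.card (GL (Fin 1) F)).factorization 2 + r.factorial.factorization 2 := by
    rw [card_gl_congr (Equiv.uniqueProd (Fin r) (Fin 1)), v_gl_small hF hr]
  have hA := hasRank_wreath (blk (F := F) (d := Fin 2) (ι := Fin m)) blkPerm blkPerm_mul_blk
    (fun _ _ h => blk_eq_blkPerm h) W (orderOf_neg_one_gl h2)
    (fun a => by rw [mul_neg, neg_mul, one_mul, mul_one]) (by rwa [Fintype.card_fin]) S
  have hB := hasRank_wreath (blk (F := F) (d := Fin 1) (ι := Fin r)) blkPerm blkPerm_mul_blk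
    (fun _ _ h => blk_eq_blkPerm h) W₁ (orderOf_neg_one_gl h2)
    (fun a => by rw [mul_neg, neg_mul, one_mul, mul_one]) (by rwa [Fintype.card_fin]) S₁
  rw [Fintype.card_fin] at hA hB
  have hv : (Nat.card (GL ((Fin 2 × Fin m) ⊕ (Fin 1 × Fin r)) F)).factorization 2 =
      (Nat.card (GL (Fin 2 × Fin m) F)).factorization 2 +
        (Nat.card (GL (Fin 1 × Fin r) F)).factorization 2 := by
    rw [card_gl_congr e, card_gl_congr finProdFinEquiv, card_gl_congr (Equiv.uniqueProd (Fin r) (Fin 1))]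
    interval_cases r
    · rw [v_GL_zero, add_zero, add_zero]
    · have hodd : Fintype.card F ^ (2 * m + 1) % 4 = 3 := by
        rw [Nat.pow_mod, hq, pow_succ, pow_mul, Nat.mul_mod, Nat.pow_mod]
        norm_num
      rw [v_GL_succ hF, show Nat.card (GL (Fin 1) F) = Nat.card (GL (Fin (0 + 1)) F) from rfl,
        v_GL_succ hF, v_GL_zero, v_two_of_mod (a := Fintype.card F ^ (2 * m + 1) - 1) (by omega),
        v_two_of_mod (a := Fintype.card F ^ (0 + 1) - 1) (by rw [pow_one]; omega)]
      omega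
  refine ⟨_, hA.prod hB f hfinj hv, fun E hE => ?_⟩
  obtain ⟨A, _, ρ, hexp, hinj, hcard, hnorm⟩ := exists_normed_gl hE
  have : Finite A := Nat.finite_of_card_ne_zero (hcard ▸ Nat.card_pos.ne')
  rw [← hcard]
  let π : Fin m → ((Fin 2 × Fin m) ⊕ (Fin 1 × Fin r) → F) →ₗ[F] ((Fin 2 × Fin m) ⊕ (Fin 1 × Fin r) → F) :=
    fun i =>
      { toFun := fun v j => Sum.elim (fun p => if p.2 = i then v (.inl p) else 0) (fun _ => 0) j
        map_add' := fun u v => funext fun j => by
          rcases j with p | p <;> simp; split_ifs <;> simp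
        map_smul' := fun c v => funext fun j => by
          rcases j with p | p <;> simp }
  let em : Fin m → GL (Fin 2) F →* GL ((Fin 2 × Fin m) ⊕ (Fin 1 × Fin r)) F := fun i =>
    f.comp ((MonoidHom.inl _ _).comp (blk.comp (MonoidHom.mulSingle (fun _ => GL (Fin 2) F) i)))
  have hem : ∀ i g v, (em i g).1 *ᵥ v = fun j => Sum.elim
      (fun p => if p.2 = i then (g.1 *ᵥ fun s => v (.inl (s, i))) p.1 else v (.inl p))
      (fun p => v (.inr p)) j := by
    intro i g v
    show (f (blk (Pi.mulSingle i g), 1)).1 *ᵥ v = _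
    rw [hfval, blk_val, Units.val_one, fromBlocks_mulVec]
    funext j
    rcases j with ⟨s, t⟩ | p
    · simp only [Sum.elim_inl, zero_mulVec, add_zero, mulVec, dotProduct, Function.comp_apply,
        blockDiagonal_apply, Fintype.sum_prod_type, ite_mul, zero_mul, Finset.sum_ite_eq,
        Finset.mem_univ, if_true]
      by_cases ht : t = i
      · subst ht; simp
      · simp [ht, Matrix.one_apply]
    · simp
  have hemK : ∀ i g, g ∈ (W : Subgroup _) → em i g ∈
      ((wreathSub (blk (F := F)) blkPerm blkPerm_mul_blk (W : Subgroup _) (S : Subgroup _)).prod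
        (wreathSub (blk (F := F)) blkPerm blkPerm_mul_blk (W₁ : Subgroup _) (S₁ : Subgroup _))).map f :=
    fun i g hg => ⟨(blk (Pi.mulSingle i g), 1),
      ⟨base_mem_wreathSub _ _ _ _ _ (single_mem _ hg), one_mem _⟩, rfl⟩
  have hneg : ∀ i v, π i v = v → (em i (-1)).1 *ᵥ v = -v := by
    intro i v hv
    rw [hem]
    funext j
    have hj := congrFun hv j
    rcases j with ⟨s, t⟩ | p
    · by_cases ht : t = i
      · subst ht; simp [neg_mulVec]
      · simp [π, ht] at hj ⊢
        rw [← hj, neg_zero]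
    · simp [π] at hj ⊢
      rw [← hj, neg_zero]
  refine card_le_half ρ h2 hns hexp hinj π (fun i => ⟨?_, ?_, em i x, em i y, hnorm _ (hemK i x hxW),
    hnorm _ (hemK i y hyW), ?_, ?_, ?_⟩) (Sum.elim 0 1) (fun v hv => ?_) ?_
  · intro v
    funext j
    rcases j with p | p
    · by_cases hp : p.2 = i <;> simp [π, hp]
    · simp [π]
  · refine le_trans (LinearMap.finrank_le_finrank_of_injective
      (f := (LinearMap.funLeft F F (fun s : Fin 2 => (Sum.inl (s, i) : (Fin 2 × Fin m) ⊕ (Fin 1 × Fin r)))).comp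
        (LinearMap.range (π i)).subtype) ?_) (le_of_eq (Module.finrank_fin_fun F))
    rintro ⟨_, u, rfl⟩ ⟨_, v, rfl⟩ h
    refine Subtype.ext (funext fun j => ?_)
    rcases j with ⟨s, t⟩ | p
    · by_cases ht : t = i
      · subst ht; exact congrFun h s
      · simp [π, ht]
    · simp [π]
  · intro v hv
    have h0 : ∀ s, v (.inl (s, i)) = 0 := fun s => by simpa [π] using congrFun hv (.inl (s, i))
    constructor <;>
    · rw [hem]
      funext j
      rcases j with ⟨s, t⟩ | p
      · by_cases ht : t = i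
        · subst ht; simp [h0, show (fun _ : Fin 2 => (0 : F)) = 0 from rfl]
        · simp [ht]
      · simp
  · intro v hv
    constructor <;>
    · rw [hem]
      funext j
      have hj := congrFun hv j
      rcases j with ⟨s, t⟩ | p
      · by_cases ht : t = i
        · subst ht; simp [π]
        · simp [π, ht] at hj ⊢
          exact hj
      · simp [π] at hj ⊢
        exact hj
  · intro v hv
    simp only [mulVec_mulVec, ← Units.val_mul, ← map_mul]
    refine ⟨?_, ?_, ?_⟩
    · rw [hx]; exact hneg i v hv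
    · rw [hy]; exact hneg i v hv
    · rw [show x * (y * (x * y)) = x * y * (x * y) by simp [mul_assoc], hxy]; exact hneg i v hv
  · have hz : ∀ p, v (.inl p) = 0 := fun p => by simpa [π] using congrFun (hv p.2) (.inl p)
    rw [Submodule.mem_span_singleton]
    rcases Nat.eq_zero_or_pos r with h0 | h0
    · subst h0
      exact ⟨0, funext fun j => by rcases j with p | p; · simp [hz]
                                   exact p.2.elim0⟩
    · have : Subsingleton (Fin 1 × Fin r) := by
        have : Subsingleton (Fin r) := Fin.subsingleton_iff_le_one.2 hr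
        infer_instance
      refine ⟨v (.inr (0, ⟨0, h0⟩)), funext fun j => ?_⟩
      rcases j with p | p
      · simp [hz]
      · simp [Subsingleton.elim p (0, ⟨0, h0⟩)]
  · simp
    omega

end CfsgLib.Known.NormalTwoRank
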