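import Mathlib.LinearAlgebra.Matrix.SpecialLinearGroup
import Mathlib.GroupTheory.GroupAction.Quotient
import Cfsg.Agent.Lib.Classical.SLBasic
import Cfsg.Agent.Lib.KnownSimple.PSLAut.Stabilizers

/-!
# The minimal index of a proper subgroup of `SL_n(q)`

For a subgroup `H` of index `m < (q^n - 1)/(q - 1)` look at the orbits of the transvection groups
`Q(v)` with fixed centre.  All their nontrivial elements are conjugate, which forces either all point
stabilizers in `Q(v)` to be hyperplanes (impossible by a commutator argument) or all to be trivial or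
full; then either all transvections lie in `H` or `m = q^(n-1)`, and the latter leads to an equivariant
symmetric bijection between the natural module of `SL_(n-2)` and its dual, forcing `(n, q) = (4, 2)`.
-/

set_option autoImplicit false

namespace CfsgLib.Known.PSLMinIndex

open Matrix

section counting

variable {A Ω : Type*} [CommGroup A] [MulAction A Ω]

theorem card_mul_card_le [Finite A] (S T : Subgroup A) :
    Nat.card S * Nat.card T ≤ Nat.card A * Nat.card (S ⊓ T : Subgroup A) := by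
  have h1 : T.relIndex S ≤ T.index :=
    Nat.le_of_dvd (Nat.pos_of_ne_zero Subgroup.index_ne_zero_of_finite)
      (Subgroup.relIndex_dvd_index_of_normal (H := T) (K := S))
  have h2 : Nat.card S = Nat.card (S ⊓ T : Subgroup A) * T.relIndex S := by
    rw [← Subgroup.inf_relIndex_left S T]
    rw [Subgroup.relIndex, ← Subgroup.card_mul_index ((S ⊓ T).subgroupOf S),
      Nat.card_congr (Subgroup.subgroupOfEquivOfLe (inf_le_left : S ⊓ T ≤ S)).toEquiv]
  rw [h2, ← T.index_mul_card]
  calc Nat.card (S ⊓ T : Subgroup A) * T.relIndex S * Nat.card T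
      ≤ Nat.card (S ⊓ T : Subgroup A) * T.index * Nat.card T := by gcongr
    _ = _ := by ring

theorem stabilizer_smul_eq (t : A) (w : Ω) :
    MulAction.stabilizer A (t • w) = MulAction.stabilizer A w := by
  ext x
  simp only [MulAction.mem_stabilizer_iff, smul_smul, mul_comm x t]
  rw [← smul_smul, smul_left_cancel_iff]

variable [Fintype A] [Fintype Ω] [Fintype (MulAction.orbitRel.Quotient A Ω)]

omit [Fintype (MulAction.orbitRel.Quotient A Ω)] in
theorem sum_card_stabilizer :
    ∑ w : Ω, Nat.card (MulAction.stabilizer A w) = ∑ t : A, Nat.card (MulAction.fixedBy Ω t) := by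
  classical
  simp only [Nat.card_eq_fintype_card, Fintype.card_subtype]
  simp only [MulAction.mem_stabilizer_iff, MulAction.mem_fixedBy]
  simp only [Finset.card_filter]
  exact Finset.sum_comm

theorem sum_card_stabilizer_eq :
    ∑ w : Ω, Nat.card (MulAction.stabilizer A w) =
      Nat.card (MulAction.orbitRel.Quotient A Ω) * Nat.card A := by
  classical
  rw [sum_card_stabilizer]
  simp only [Nat.card_eq_fintype_card]
  exact MulAction.sum_card_fixedBy_eq_card_orbits_mul_card_group A Ω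

/-- When all nontrivial elements fix `f` points and `m - a = |A| - 1`, stabilizers in different
orbits generate `A`. -/
theorem stabilizers_generate {f : ℕ} (hf : ∀ t : A, t ≠ 1 → Nat.card (MulAction.fixedBy Ω t) = f)
    (hA : 1 < Nat.card A)
    (hma : Nat.card Ω + 1 = Nat.card (MulAction.orbitRel.Quotient A Ω) + Nat.card A)
    {w w' : Ω} (hw : w' ∉ MulAction.orbit A w) :
    Nat.card A * Nat.card (MulAction.stabilizer A w ⊓ MulAction.stabilizer A w' : Subgroup A) =
      Nat.card (MulAction.stabilizer A w) * Nat.card (MulAction.stabilizer A w') := by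
  classical
  set a := Nat.card (MulAction.orbitRel.Quotient A Ω) with ha
  set S := MulAction.stabilizer A w with hS
  let O : Finset Ω := Finset.univ.filter (· ∈ MulAction.orbit A w)
  have hO : O.card * Nat.card S = Nat.card A := by
    rw [← Subgroup.index_mul_card S, hS, MulAction.index_stabilizer]
    congr 1
    rw [← Nat.card_coe_set_eq, Nat.card_eq_fintype_card, Fintype.card_subtype]
  have hsame : ∀ x ∈ O, MulAction.stabilizer A x = S := by
    intro x hx
    obtain ⟨t, rfl⟩ := (Finset.mem_filter.mp hx).2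
    exact stabilizer_smul_eq t w
  have hsum := sum_card_stabilizer_eq (A := A) (Ω := Ω)
  rw [← ha] at hsum
  have hfe : f + 1 = a := by
    have h := sum_card_stabilizer (A := A) (Ω := Ω)
    rw [hsum, ← Finset.add_sum_erase _ _ (Finset.mem_univ (1 : A)),
      Finset.sum_congr rfl (fun t ht => hf t (Finset.ne_of_mem_erase ht)), Finset.sum_const,
      Finset.card_erase_of_mem (Finset.mem_univ _), Finset.card_univ, smul_eq_mul,
      ← Nat.card_eq_fintype_card, MulAction.fixedBy_one_eq_univ, Nat.card_univ] at h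
    obtain ⟨c, hc⟩ := Nat.exists_eq_add_of_le hA
    rw [hc] at h hma
    rw [show 1 + 1 + c - 1 = 1 + c by omega] at h
    simp only [Nat.succ_eq_add_one] at *
    nlinarith
  -- pairs `(t, x)` with `t` in `S` fixing `x`
  have hcount : ∑ x : Ω, Nat.card (S ⊓ MulAction.stabilizer A x : Subgroup A) + f =
      Nat.card Ω + Nat.card S * f := by
    have h : ∑ x : Ω, Nat.card (S ⊓ MulAction.stabilizer A x : Subgroup A) =
        ∑ t ∈ Finset.univ.filter (· ∈ S), Nat.card (MulAction.fixedBy Ω t) := by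
      simp only [Nat.card_eq_fintype_card, Fintype.card_subtype, Finset.card_filter]
      rw [Finset.sum_filter, Finset.sum_comm]
      refine Finset.sum_congr rfl fun t _ => ?_
      by_cases ht : t ∈ S <;>
        simp [Subgroup.mem_inf, ht, MulAction.mem_stabilizer_iff, MulAction.mem_fixedBy]
    have h1 : (1 : A) ∈ Finset.univ.filter (· ∈ S) := by simp
    rw [h, ← Finset.add_sum_erase _ _ h1,
      Finset.sum_congr rfl (fun t ht => hf t (Finset.ne_of_mem_erase ht)), Finset.sum_const,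
      Finset.card_erase_of_mem h1, MulAction.fixedBy_one_eq_univ, Nat.card_univ, smul_eq_mul]
    have hc : (Finset.univ.filter (· ∈ S)).card = Nat.card S := by
      rw [Nat.card_eq_fintype_card, Fintype.card_subtype]
    rw [hc]
    have hpos : 0 < Nat.card S := Nat.card_pos
    obtain ⟨c, hc'⟩ := Nat.exists_eq_add_of_le hpos
    rw [hc', show (Nat.succ 0 + c) - 1 = c by omega]
    ring
  have hle : ∀ x ∈ Oᶜ, Nat.card S * Nat.card (MulAction.stabilizer A x) ≤
      Nat.card A * Nat.card (S ⊓ MulAction.stabilizer A x : Subgroup A) :=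
    fun x _ => card_mul_card_le _ _
  have hin : ∑ x ∈ O, Nat.card (MulAction.stabilizer A x) = Nat.card A := by
    rw [Finset.sum_congr rfl (fun x hx => by rw [hsame x hx]), Finset.sum_const, smul_eq_mul, hO]
  have hin' : ∑ x ∈ O, Nat.card (S ⊓ MulAction.stabilizer A x : Subgroup A) = Nat.card A := by
    rw [Finset.sum_congr rfl (fun x hx => by rw [hsame x hx, inf_idem]), Finset.sum_const,
      smul_eq_mul, hO]
  have hsumle : ∑ x ∈ Oᶜ, Nat.card S * Nat.card (MulAction.stabilizer A x) =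
      ∑ x ∈ Oᶜ, Nat.card A * Nat.card (S ⊓ MulAction.stabilizer A x : Subgroup A) := by
    refine le_antisymm (Finset.sum_le_sum hle) ?_
    rw [← Finset.mul_sum, ← Finset.mul_sum]
    rw [← Finset.sum_add_sum_compl O, hin] at hsum
    rw [← Finset.sum_add_sum_compl O, hin'] at hcount
    set X := ∑ x ∈ Oᶜ, Nat.card (S ⊓ MulAction.stabilizer A x : Subgroup A)
    set Y := ∑ x ∈ Oᶜ, Nat.card (MulAction.stabilizer A x)
    obtain ⟨a', ha'⟩ : ∃ a', a = a' + 1 := ⟨f, hfe.symm⟩
    rw [ha'] at hfe hsum hma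
    have hY : Y = a' * Nat.card A := by linarith [hsum, show (a' + 1) * Nat.card A = a' * Nat.card A + Nat.card A by ring]
    have hf' : f = a' := by omega
    have hX : X = Nat.card S * a' := by
      rw [hf'] at hcount
      omega
    rw [hX, hY]
    exact le_of_eq (by ring)
  have := (Finset.sum_eq_sum_iff_of_le hle).mp hsumle w' (by simp [O, hw])
  exact this.symm

end counting

section transvections

variable {F : Type*} [Field F] {n : ℕ}

local notation "SLn" => Matrix.SpecialLinearGroup (Fin n) F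

theorem det_one_add_vecMulVec (v φ : Fin n → F) : (1 + vecMulVec v φ).det = 1 + φ ⬝ᵥ v := by
  rw [vecMulVec_eq Unit, det_one_add_replicateCol_mul_replicateRow]

theorem coe_mul' (a b : SLn) :
    ((a * b : SLn) : Matrix (Fin n) (Fin n) F) = (a : Matrix (Fin n) (Fin n) F) * b := rfl

theorem coe_inv_mul (g : SLn) :
    ((g⁻¹ : SLn) : Matrix (Fin n) (Fin n) F) * (g : Matrix (Fin n) (Fin n) F) = 1 :=
  congrArg Subtype.val (inv_mul_cancel g)

theorem coe_mul_inv (g : SLn) :
    (g : Matrix (Fin n) (Fin n) F) * ((g⁻¹ : SLn) : Matrix (Fin n) (Fin n) F) = 1 :=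
  congrArg Subtype.val (mul_inv_cancel g)

/-- The transvection with centre `v` and functional `φ`. -/
noncomputable def tv (v φ : Fin n → F) : SLn :=
  haveI := _root_.Classical.propDecidable (φ ⬝ᵥ v = 0)
  if h : φ ⬝ᵥ v = 0 then (⟨1 + vecMulVec v φ, by rw [det_one_add_vecMulVec, h, add_zero]⟩ : SLn) else 1

theorem coe_tv {v φ : Fin n → F} (h : φ ⬝ᵥ v = 0) :
    (tv v φ : Matrix (Fin n) (Fin n) F) = 1 + vecMulVec v φ := by
  exact congrArg Subtype.val (@dif_pos _ (_root_.Classical.propDecidable _) h SLn _ _)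

theorem vecMulVec_mul (v φ w ψ : Fin n → F) :
    vecMulVec v φ * vecMulVec w ψ = (φ ⬝ᵥ w) • vecMulVec v ψ := by
  rw [vecMulVec_mul_vecMulVec, vecMulVec_smul]

theorem tv_zero (v : Fin n → F) : tv v 0 = 1 := by
  apply Subtype.ext
  refine (coe_tv (zero_dotProduct v)).trans ?_
  rw [vecMulVec_zero, add_zero]
  rfl

theorem tv_add {v φ ψ : Fin n → F} (h : φ ⬝ᵥ v = 0) (h' : ψ ⬝ᵥ v = 0) :
    tv v (φ + ψ) = tv v φ * tv v ψ := by
  apply Subtype.ext
  rw [coe_mul', coe_tv h, coe_tv h', coe_tv (by rw [add_dotProduct, h, h', add_zero]),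
    mul_add, add_mul, add_mul, one_mul, one_mul, mul_one, vecMulVec_mul, h, zero_smul, vecMulVec_add]
  abel

theorem tv_conj (g : SLn) {v φ : Fin n → F} (h : φ ⬝ᵥ v = 0) :
    g * tv v φ * g⁻¹ =
      tv ((g : Matrix (Fin n) (Fin n) F) *ᵥ v) (φ ᵥ* ((g⁻¹ : SLn) : Matrix (Fin n) (Fin n) F)) := by
  have h1 := coe_inv_mul g
  have h2 := coe_mul_inv g
  apply Subtype.ext
  rw [coe_mul', coe_mul', coe_tv h,
    coe_tv (by rw [← dotProduct_mulVec, mulVec_mulVec, h1, one_mulVec, h]), mul_add, add_mul, mul_one,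
    h2, mul_vecMulVec, Matrix.vecMulVec_mul]

theorem exists_dot_pair {φ ψ : Fin n → F} (hφ : φ ≠ 0) (hψ : ∀ c : F, ψ ≠ c • φ) (a b : F) :
    ∃ u : Fin n → F, φ ⬝ᵥ u = a ∧ ψ ⬝ᵥ u = b := by
  obtain ⟨i, hi⟩ := Function.ne_iff.mp hφ
  obtain ⟨j, hj⟩ : ∃ j, ψ j ≠ (ψ i / φ i) * φ j := by
    by_contra hc
    push Not at hc
    exact hψ _ (funext hc)
  let d : F := φ i * ψ j - φ j * ψ i
  have hd : d ≠ 0 := by
    intro h
    refine hj ?_
    simp only [d] at h
    have hi' : φ i ≠ 0 := hi
    rw [div_mul_eq_mul_div, eq_div_iff hi']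
    linear_combination h
  refine ⟨Pi.single i ((a * ψ j - b * φ j) / d) + Pi.single j ((b * φ i - a * ψ i) / d), ?_, ?_⟩ <;>
    · rw [dotProduct_add, dotProduct_single, dotProduct_single, mul_div_assoc', mul_div_assoc',
        ← add_div, div_eq_iff hd]
      simp only [d]
      ring

theorem exists_dot_eq {φ : Fin n → F} (hφ : φ ≠ 0) (a : F) : ∃ u : Fin n → F, φ ⬝ᵥ u = a := by
  obtain ⟨i, hi⟩ := Function.ne_iff.mp hφ
  exact ⟨Pi.single i (a / φ i), by rw [dotProduct_single, mul_div_cancel₀ _ hi]⟩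

end transvections

section main

variable {F : Type*} [Field F] [Fintype F] {n : ℕ}

local notation "SLn" => Matrix.SpecialLinearGroup (Fin n) F

/-- The functionals killing `v`. -/
def perp (v : Fin n → F) : Submodule F (Fin n → F) where
  carrier := {φ | φ ⬝ᵥ v = 0}
  add_mem' {a b} ha hb := by
    show (a + b) ⬝ᵥ v = 0
    rw [add_dotProduct, ha, hb, add_zero]
  zero_mem' := zero_dotProduct v
  smul_mem' c a ha := by
    show (c • a) ⬝ᵥ v = 0
    rw [smul_dotProduct, ha, smul_zero]

omit [Fintype F] in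
theorem mem_perp {v φ : Fin n → F} : φ ∈ perp v ↔ φ ⬝ᵥ v = 0 := Iff.rfl

/-- The transvections with a given centre. -/
noncomputable def tvHom (v : Fin n → F) : Multiplicative (perp v) →* SLn where
  toFun φ := tv v (φ.toAdd : Fin n → F)
  map_one' := tv_zero v
  map_mul' φ ψ := tv_add φ.toAdd.2 ψ.toAdd.2

omit [Fintype F] in
theorem tvHom_apply (v : Fin n → F) (φ : Multiplicative (perp v)) :
    tvHom v φ = tv v (φ.toAdd : Fin n → F) := rfl

variable (H : Subgroup (Matrix.SpecialLinearGroup (Fin n) F))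

/-- The functionals of the transvections with centre `v` fixing the coset `w`. -/
def stab (v : Fin n → F) (w : SLn ⧸ H) : AddSubgroup (Fin n → F) where
  carrier := {φ | φ ⬝ᵥ v = 0 ∧ tv v φ • w = w}
  zero_mem' := ⟨zero_dotProduct v, by rw [tv_zero, one_smul]⟩
  add_mem' {a b} ha hb := ⟨by rw [add_dotProduct, ha.1, hb.1, add_zero],
    by rw [tv_add ha.1 hb.1, mul_smul, hb.2, ha.2]⟩
  neg_mem' {a} ha := by
    have h1 : (-a) ⬝ᵥ v = 0 := by rw [neg_dotProduct, ha.1, neg_zero]
    refine ⟨h1, ?_⟩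
    have h2 := tv_add h1 ha.1
    rw [neg_add_cancel, tv_zero] at h2
    calc tv v (-a) • w = tv v (-a) • tv v a • w := by rw [ha.2]
      _ = w := by rw [← mul_smul, ← h2, one_smul]

omit [Fintype F] in
theorem mem_stab {v φ : Fin n → F} {w : SLn ⧸ H} :
    φ ∈ stab H v w ↔ φ ⬝ᵥ v = 0 ∧ tv v φ • w = w := Iff.rfl

omit [Fintype F] in
theorem stab_smul (g : SLn) {v φ : Fin n → F} {w : SLn ⧸ H} (h : φ ∈ stab H v w) :
    φ ᵥ* ((g⁻¹ : SLn) : Matrix (Fin n) (Fin n) F) ∈
      stab H ((g : Matrix (Fin n) (Fin n) F) *ᵥ v) (g • w) := by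
  refine ⟨?_, ?_⟩
  · rw [← dotProduct_mulVec, mulVec_mulVec, coe_inv_mul, one_mulVec, h.1]
  · rw [← tv_conj g h.1, mul_smul, mul_smul, inv_smul_smul, h.2]

omit [Fintype F] in
/-- A nonzero functional killing two given vectors. -/
theorem exists_perp_ne (hn : 3 ≤ n) (a b : Fin n → F) :
    ∃ φ : Fin n → F, φ ≠ 0 ∧ φ ⬝ᵥ a = 0 ∧ φ ⬝ᵥ b = 0 := by
  let f : (Fin n → F) →ₗ[F] F × F := (dotProductBilin F F a).prod (dotProductBilin F F b)
  have hk : LinearMap.ker f ≠ ⊥ := LinearMap.ker_ne_bot_of_finrank_lt (by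
    rw [Module.finrank_prod, Module.finrank_self, Module.finrank_fin_fun]; omega)
  obtain ⟨φ, hφ, hne⟩ := Submodule.exists_mem_ne_zero_of_ne_bot hk
  exact ⟨φ, hne, (dotProduct_comm _ _).trans (congrArg Prod.fst hφ),
    (dotProduct_comm _ _).trans (congrArg Prod.snd hφ)⟩

/-- A determinant one basis change taking the standard centre and functional to given ones. -/
theorem exists_std (hn : 3 ≤ n) {v φ : Fin n → F} (hv : v ≠ 0) (hφ : φ ≠ 0) (h : φ ⬝ᵥ v = 0) :
    ∃ g : SLn, (g : Matrix (Fin n) (Fin n) F) *ᵥ Pi.single (⟨0, by omega⟩ : Fin n) 1 = v ∧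
      φ ᵥ* (g : Matrix (Fin n) (Fin n) F) = Pi.single (⟨1, by omega⟩ : Fin n) 1 := by
  classical
  let i0 : Fin n := ⟨0, by omega⟩
  let i1 : Fin n := ⟨1, by omega⟩
  let i2 : Fin n := ⟨2, by omega⟩
  obtain ⟨u, hu⟩ := exists_dot_eq hφ 1
  -- a basis `b` with `b i0 = v`, `φ (b i1) = 1` and the others in the kernel of `φ`
  let K : Submodule F (Fin n → F) := LinearMap.ker (dotProductBilin F F φ)
  have hvK : v ∈ K := h
  have hrangeK : Module.finrank F K = n - 1 := by
    have hsurj : Function.Surjective (dotProductBilin F F φ) := fun a => exists_dot_eq hφ a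
    have := LinearMap.finrank_range_add_finrank_ker (dotProductBilin F F φ)
    rw [LinearMap.range_eq_top.mpr hsurj, finrank_top, Module.finrank_self,
      Module.finrank_fin_fun] at this
    change _ + Module.finrank F K = _ at this
    omega
  have hli : LinearIndepOn F id ({⟨v, hvK⟩} : Set K) :=
    (linearIndepOn_singleton_iff (R := F)).mpr (fun h0 => hv (congrArg Subtype.val h0))
  let bK := Module.Basis.extend hli
  have hmem : (⟨v, hvK⟩ : K) ∈ hli.extend (Set.subset_univ _) :=
    hli.subset_extend _ rfl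
  have : Fintype (hli.extend (Set.subset_univ _)) := Fintype.ofFinite _
  have hcardK : Fintype.card (hli.extend (Set.subset_univ _)) = n - 1 := by
    rw [← Module.finrank_eq_card_basis bK, hrangeK]
  let vidx : hli.extend (Set.subset_univ _) := ⟨_, hmem⟩
  obtain ⟨e, he⟩ : ∃ e : {i : Fin n // i ≠ i1} ≃ hli.extend (Set.subset_univ _),
      e ⟨i0, by simp [i0, i1]⟩ = vidx := by
    have hc : Fintype.card {i : Fin n // i ≠ i1} =
        Fintype.card (hli.extend (Set.subset_univ _)) := by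
      rw [hcardK, Fintype.card_subtype_compl, Fintype.card_fin, Fintype.card_subtype_eq]
    let e0 := Fintype.equivOfCardEq hc
    exact ⟨e0.trans (Equiv.swap (e0 ⟨i0, by simp [i0, i1]⟩) vidx), by simp⟩
  let col : Fin n → (Fin n → F) := fun i => if hi : i = i1 then u else ((bK (e ⟨i, hi⟩) : K) : Fin n → F)
  let B : Matrix (Fin n) (Fin n) F := Matrix.of fun r c => col c r
  have hcol0 : col i0 = v := by
    simp only [col, dif_neg (show i0 ≠ i1 by simp [i0, i1]), he, bK, Module.Basis.extend_apply_self]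
    rfl
  have hφcol : ∀ i, φ ⬝ᵥ col i = if i = i1 then 1 else 0 := by
    intro i
    by_cases hi : i = i1
    · simp [col, hi, hu]
    · simp only [col, dif_neg hi, if_neg hi]
      exact (bK (e ⟨i, hi⟩) : K).2
  have hBdet : B.det ≠ 0 := by
    intro hdet
    obtain ⟨c, hc0, hc⟩ := Matrix.exists_mulVec_eq_zero_iff.mpr hdet
    have hsum : ∑ i, c i • col i = 0 := by
      funext r
      have := congrFun hc r
      simpa [B, mulVec, dotProduct, mul_comm] using this
    have h1 : c i1 = 0 := by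
      have := congrArg (fun x => φ ⬝ᵥ x) hsum
      simp only [dotProduct_sum, dotProduct_smul, hφcol, smul_eq_mul, mul_ite, mul_one, mul_zero,
        Finset.sum_ite_eq', Finset.mem_univ, if_true, dotProduct_zero] at this
      exact this
    have h2 : ∑ i : {i : Fin n // i ≠ i1}, c i.1 • bK (e i) = 0 := by
      apply Subtype.ext
      rw [AddSubmonoidClass.coe_finsetSum, ZeroMemClass.coe_zero, ← hsum,
        ← Finset.add_sum_erase _ _ (Finset.mem_univ i1), h1, zero_smul, zero_add]
      refine Finset.sum_bij (fun i _ => i.1) (fun i _ => by simp [i.2]) (fun _ _ _ _ h => Subtype.ext h)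
        (fun i hi => ⟨⟨i, Finset.ne_of_mem_erase hi⟩, Finset.mem_univ _, rfl⟩) (fun i _ => ?_)
      simp [col, i.2]
    have h3 := Fintype.linearIndependent_iff.mp (bK.linearIndependent.comp _ e.injective)
      (fun i => c i.1) h2
    refine hc0 (funext fun i => ?_)
    by_cases hi : i = i1
    · rw [hi, h1]; rfl
    · exact h3 ⟨i, hi⟩
  -- correct the determinant in the column `i2`
  let D : Matrix (Fin n) (Fin n) F := Matrix.diagonal fun i => if i = i2 then B.det⁻¹ else 1
  let g : SLn := ⟨B * D, by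
    simp only [D]
    rw [det_mul, det_diagonal, Finset.prod_ite_eq' , if_pos (Finset.mem_univ _),
      mul_inv_cancel₀ hBdet]⟩
  refine ⟨g, ?_⟩
  have hgv : (g : Matrix (Fin n) (Fin n) F) *ᵥ (Pi.single i0 1) = v := by
    show (B * D) *ᵥ _ = v
    rw [← mulVec_mulVec, diagonal_mulVec_single, if_neg (by simp [i0, i2]), one_mul]
    funext r
    simp [B, hcol0]
  have hφg : φ ᵥ* (g : Matrix (Fin n) (Fin n) F) = Pi.single i1 1 := by
    show φ ᵥ* (B * D) = _
    rw [← vecMul_vecMul]
    funext i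
    rw [vecMul_diagonal]
    change (φ ⬝ᵥ col i) * _ = _
    rw [hφcol]
    by_cases hi : i = i1
    · subst hi
      simp [i1, i2]
    · simp [hi]
  exact ⟨hgv, hφg⟩

/-- `SL` is transitive on nonzero vectors. -/
theorem exists_mulVec_eq (hn : 3 ≤ n) {v w : Fin n → F} (hv : v ≠ 0) (hw : w ≠ 0) :
    ∃ g : SLn, (g : Matrix (Fin n) (Fin n) F) *ᵥ v = w := by
  obtain ⟨φ, hφ, hφv, -⟩ := exists_perp_ne hn v v
  obtain ⟨ψ, hψ, hψw, -⟩ := exists_perp_ne hn w w
  obtain ⟨g, hg, -⟩ := exists_std hn hv hφ hφv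
  obtain ⟨g', hg', -⟩ := exists_std hn hw hψ hψw
  refine ⟨g' * g⁻¹, ?_⟩
  rw [coe_mul', ← mulVec_mulVec, ← hg, mulVec_mulVec _ _ (g : Matrix (Fin n) (Fin n) F), coe_inv_mul, one_mulVec, hg']

/-- All transvections are conjugate for `3 ≤ n`. -/
theorem exists_conj_tv (hn : 3 ≤ n) {v w φ ψ : Fin n → F} (hv : v ≠ 0) (hw : w ≠ 0) (hφ : φ ≠ 0)
    (hψ : ψ ≠ 0) (h : φ ⬝ᵥ v = 0) (h' : ψ ⬝ᵥ w = 0) :
    ∃ g : SLn, g * tv v φ * g⁻¹ = tv w ψ := by
  classical
  have key : ∀ v φ : Fin n → F, v ≠ 0 → φ ≠ 0 → φ ⬝ᵥ v = 0 →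
      ∃ g : SLn, g * tv (Pi.single (⟨0, by omega⟩ : Fin n) 1) (Pi.single (⟨1, by omega⟩ : Fin n) 1) * g⁻¹
        = tv v φ := by
    intro v φ hv hφ h
    obtain ⟨g, hgv, hφg⟩ := exists_std hn hv hφ h
    refine ⟨g, ?_⟩
    rw [tv_conj g (by simp [dotProduct_single]), hgv]
    congr 1
    rw [← hφg, vecMul_vecMul, coe_mul_inv, vecMul_one]
  obtain ⟨g, hg⟩ := key v φ hv hφ h
  obtain ⟨g', hg'⟩ := key w ψ hw hψ h'
  refine ⟨g' * g⁻¹, ?_⟩
  rw [← hg, ← hg']
  group

omit [Fintype F] in
theorem card_perp [Finite F] {v : Fin n → F} (hv : v ≠ 0) :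
    Nat.card (perp v) = Nat.card F ^ (n - 1) := by
  classical
  let f : (Fin n → F) →ₗ[F] F := dotProductBilin F F v
  have hk : LinearMap.ker f = perp v := by
    ext φ
    show v ⬝ᵥ φ = 0 ↔ φ ⬝ᵥ v = 0
    rw [dotProduct_comm]
  have hsurj : Function.Surjective f := fun a => exists_dot_eq hv a
  have := LinearMap.finrank_range_add_finrank_ker f
  rw [LinearMap.range_eq_top.mpr hsurj, finrank_top, Module.finrank_self, Module.finrank_fin_fun, hk] at this
  rw [Module.natCard_eq_pow_finrank (K := F)]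
  congr 1
  omega

/-- The dichotomy for one centre. -/
theorem stab_cases (hn : 3 ≤ n) (hH : H ≠ ⊤)
    (hlt : H.index * (Fintype.card F - 1) < Fintype.card F ^ n - 1) {v : Fin n → F} (hv : v ≠ 0) :
    (∀ w, stab H v w = ⊥ ∨ ∀ φ, φ ⬝ᵥ v = 0 → φ ∈ stab H v w) ∨
    ∀ w, (∀ (c : F), ∀ φ ∈ stab H v w, c • φ ∈ stab H v w) ∧
      Fintype.card F * Nat.card (stab H v w) = Fintype.card F ^ (n - 1) := by
  classical
  obtain ⟨q, hq⟩ : ∃ q, q = Fintype.card F := ⟨_, rfl⟩
  rw [← hq] at hlt ⊢
  have hq1 : 1 < q := hq ▸ Fintype.one_lt_card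
  let Ω := SLn ⧸ H
  let A := Multiplicative (perp v)
  letI : MulAction A Ω := MulAction.compHom Ω (tvHom v)
  have hsmul : ∀ (t : A) (w : Ω), t • w = tv v (t.toAdd : Fin n → F) • w := fun t w => rfl
  have := Fintype.ofFinite Ω
  have := Fintype.ofFinite A
  have := Fintype.ofFinite (MulAction.orbitRel.Quotient A Ω)
  obtain ⟨a, ha⟩ : ∃ a, a = Nat.card (MulAction.orbitRel.Quotient A Ω) := ⟨_, rfl⟩
  have hA : Nat.card A = q ^ (n - 1) := by
    rw [Nat.card_congr Multiplicative.toAdd, card_perp hv, Nat.card_eq_fintype_card, hq]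
  have hSeq : ∀ w : Ω, Nat.card (MulAction.stabilizer A w) = Nat.card (stab H v w) := fun w =>
    Nat.card_congr
      { toFun := fun t => ⟨(t.1.toAdd : Fin n → F), t.1.toAdd.2, t.2⟩
        invFun := fun φ => ⟨Multiplicative.ofAdd ⟨φ.1, φ.2.1⟩, φ.2.2⟩
        left_inv := fun t => rfl
        right_inv := fun φ => rfl }
  have hSinf : ∀ w w' : Ω,
      Nat.card (MulAction.stabilizer A w ⊓ MulAction.stabilizer A w' : Subgroup A) =
        Nat.card (stab H v w ⊓ stab H v w' : AddSubgroup (Fin n → F)) := fun w w' =>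
    Nat.card_congr
      { toFun := fun t => ⟨(t.1.toAdd : Fin n → F), ⟨t.1.toAdd.2, t.2.1⟩, ⟨t.1.toAdd.2, t.2.2⟩⟩
        invFun := fun φ => ⟨Multiplicative.ofAdd ⟨φ.1, φ.2.1.1⟩, φ.2.1.2, φ.2.2.2⟩
        left_inv := fun t => rfl
        right_inv := fun φ => rfl }
  -- constant fixed point numbers
  obtain ⟨φ₀, hφ₀⟩ : ∃ φ₀ : A, φ₀ ≠ 1 := by
    have : Nontrivial A := by
      rw [← Finite.one_lt_card_iff_nontrivial, hA]
      exact Nat.one_lt_pow (by omega) hq1
    exact exists_ne 1
  set f := Nat.card (MulAction.fixedBy Ω φ₀) with hf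
  have hne0 : ∀ t : A, t ≠ 1 → (t.toAdd : Fin n → F) ≠ 0 := fun t ht h0 =>
    ht (Multiplicative.toAdd.injective (Subtype.ext h0))
  have hfix : ∀ t : A, t ≠ 1 → Nat.card (MulAction.fixedBy Ω t) = f := by
    intro t ht
    obtain ⟨g, hg⟩ := exists_conj_tv hn hv hv (hne0 φ₀ hφ₀) (hne0 t ht) φ₀.toAdd.2 t.toAdd.2
    refine (Nat.card_congr (Equiv.subtypeEquiv (MulAction.toPerm g) fun w => ?_)).symm
    show tv v (φ₀.toAdd : Fin n → F) • w = w ↔ tv v (t.toAdd : Fin n → F) • g • w = g • w
    rw [← hg, mul_smul, mul_smul, inv_smul_smul, smul_left_cancel_iff]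
  have hm : Nat.card Ω = H.index := rfl
  have hburn : H.index + (q ^ (n - 1) - 1) * f = a * q ^ (n - 1) := by
    have h := MulAction.sum_card_fixedBy_eq_card_orbits_mul_card_group A Ω
    simp only [← Nat.card_eq_fintype_card] at h
    rw [hA, ← ha] at h
    rw [← h, ← Finset.add_sum_erase _ _ (Finset.mem_univ (1 : A)),
      Finset.sum_congr rfl (fun t ht => hfix t (Finset.ne_of_mem_erase ht)), Finset.sum_const,
      Finset.card_erase_of_mem (Finset.mem_univ _), Finset.card_univ, ← Nat.card_eq_fintype_card, hA,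
      smul_eq_mul, MulAction.fixedBy_one_eq_univ, Nat.card_univ, hm]
  have hfm : f < H.index := by
    refine lt_of_le_of_ne (hm ▸ (Nat.card_le_card_of_injective _ Subtype.val_injective)) fun hfe => hH ?_
    -- every transvection acts trivially
    have hall : ∀ w : Ω, φ₀ • w = w := by
      intro w
      have hu : MulAction.fixedBy Ω φ₀ = Set.univ := Set.eq_of_subset_of_ncard_le (Set.subset_univ _)
        (by rw [Set.ncard_univ, ← Nat.card_coe_set_eq, ← hf, hfe, hm])
      exact hu.ge (Set.mem_univ w)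
    refine CfsgLib.Classical.SL_le_of_transvections H (fun i j hij c => ?_)
    by_cases hc : c = 0
    · have : Matrix.SpecialLinearGroup.transvection hij c = 1 := Subtype.ext (by
        show Matrix.transvection i j c = 1
        simp [hc])
      rw [this]; exact H.one_mem
    have hne : (Pi.single j c : Fin n → F) ≠ 0 := by simp [hc]
    have hd : (Pi.single j c : Fin n → F) ⬝ᵥ Pi.single i 1 = 0 := by
      simp [dotProduct_single, Pi.single_eq_of_ne hij]
    have htr : (Matrix.SpecialLinearGroup.transvection hij c : SLn) = tv (Pi.single i 1) (Pi.single j c) := by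
      apply Subtype.ext
      rw [coe_tv hd]
      show Matrix.transvection i j c = _
      rw [Matrix.transvection, show vecMulVec (Pi.single i 1) (Pi.single j c) = Matrix.single i j c by
      ext r s
      simp only [vecMulVec_apply, Matrix.single_apply, Pi.single_apply]
      aesop]
    obtain ⟨g, hg⟩ := exists_conj_tv hn hv (show (Pi.single i 1 : Fin n → F) ≠ 0 by simp)
      (hne0 φ₀ hφ₀) hne φ₀.toAdd.2 hd
    rw [htr, ← hg]
    have h1 : tv v (φ₀.toAdd : Fin n → F) • g⁻¹ • ((1 : SLn) : Ω) = g⁻¹ • ((1 : SLn) : Ω) := (hsmul φ₀ _).symm.trans (hall _)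
    have h2 : (g * tv v (φ₀.toAdd : Fin n → F) * g⁻¹) • ((1 : SLn) : Ω) = ((1 : SLn) : Ω) := by
      rw [mul_smul, mul_smul, h1, smul_inv_smul]
    have h3 : ((g * tv v (φ₀.toAdd : Fin n → F) * g⁻¹ * 1 : SLn) : Ω) = ((1 : SLn) : Ω) := h2
    rw [mul_one, QuotientGroup.eq, mul_one, Subgroup.inv_mem_iff] at h3
    exact h3
  -- `m = a + |A| - 1`
  have hq2 : 2 ≤ q := hq1
  obtain ⟨K, hK⟩ : q - 1 ∣ q ^ (n - 1) - 1 := by simpa using Nat.sub_dvd_pow_sub_pow q 1 (n - 1)
  have hKpos : 0 < q ^ (n - 1) := pow_pos (by omega) _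
  have hN : q ^ n - 1 = (q * K + 1) * (q - 1) := by
    have e : q ^ n = q * q ^ (n - 1) := by rw [← pow_succ', Nat.sub_add_cancel (by omega)]
    have e2 : q ^ (n - 1) = (q - 1) * K + 1 := by omega
    rw [e, e2]
    obtain ⟨q', rfl⟩ := Nat.exists_eq_add_of_le hq2
    rw [show 2 + q' - 1 = 1 + q' by omega]
    have h3 : (2 + q') * ((1 + q') * K + 1) = ((2 + q') * K + 1) * (1 + q') + 1 := by ring
    rw [h3, Nat.add_sub_cancel]
  have hmN : H.index < q * K + 1 := by
    rw [hN] at hlt
    exact Nat.lt_of_mul_lt_mul_right hlt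
  obtain ⟨hma, haK⟩ : H.index + 1 = a + q ^ (n - 1) ∧ a ≤ K := by
    have e2 : q ^ (n - 1) = (q - 1) * K + 1 := by omega
    have hfa : f < a := by
      by_contra hc
      rw [not_lt] at hc
      have h1 : a * q ^ (n - 1) ≤ f * q ^ (n - 1) := Nat.mul_le_mul_right _ hc
      have h2 : (q ^ (n - 1) - 1) * f + f = f * q ^ (n - 1) := by
        conv_rhs => rw [mul_comm, show q ^ (n - 1) = (q ^ (n - 1) - 1) + 1 by omega, add_mul, one_mul]
      omega
    obtain ⟨b, rfl⟩ := Nat.exists_eq_add_of_lt hfa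
    have h2 : (f + b + 1) * q ^ (n - 1) = (q ^ (n - 1) - 1) * f + f + (b + 1) * q ^ (n - 1) := by
      conv_lhs => rw [show (f + b + 1) * q ^ (n-1) = f * q ^ (n - 1) + (b + 1) * q ^ (n - 1) by ring]
      congr 1
      conv_lhs => rw [mul_comm, show q ^ (n - 1) = (q ^ (n - 1) - 1) + 1 by omega, add_mul, one_mul]
    have hm' : H.index = f + (b + 1) * ((q - 1) * K + 1) := by rw [← e2]; omega
    have hb : b = 0 := by
      by_contra hb
      obtain ⟨b', rfl⟩ := Nat.exists_eq_succ_of_ne_zero hb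
      obtain ⟨q', rfl⟩ := Nat.exists_eq_add_of_le hq2
      rw [show 2 + q' - 1 = 1 + q' by omega] at hm'
      rw [hm'] at hmN
      have := Nat.mul_le_mul_right ((1 + q') * K + 1) (show 2 ≤ b'.succ + 1 by omega)
      nlinarith [Nat.zero_le (q' * K)]
    subst hb
    refine ⟨by omega, ?_⟩
    obtain ⟨q', rfl⟩ := Nat.exists_eq_add_of_le hq2
    rw [show 2 + q' - 1 = 1 + q' by omega] at hm'
    rw [hm'] at hmN
    nlinarith
  have hgen : ∀ {w w' : Ω}, w' ∉ MulAction.orbit A w →
      q ^ (n - 1) * Nat.card (stab H v w ⊓ stab H v w' : AddSubgroup (Fin n → F)) =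
        Nat.card (stab H v w) * Nat.card (stab H v w') := by
    intro w w' hw
    have h := stabilizers_generate (A := A) hfix
      (by rw [hA]; exact Nat.one_lt_pow (by omega) hq1)
      (by rw [hA, hm, ← ha]; exact hma) hw
    rwa [hA, hSinf, hSeq, hSeq] at h
  have horbit : ∀ {w w' : Ω}, w' ∈ MulAction.orbit A w → stab H v w' = stab H v w := by
    rintro w _ ⟨t, rfl⟩
    ext φ
    simp only [mem_stab]
    refine and_congr_right fun hφ => ?_
    show tv v φ • tv v (t.toAdd : Fin n → F) • w = tv v (t.toAdd : Fin n → F) • w ↔ _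
    rw [smul_smul, ← tv_add hφ t.toAdd.2, add_comm, tv_add t.toAdd.2 hφ, ← smul_smul, smul_left_cancel_iff]
  have hle_perp : ∀ w : Ω, Nat.card (stab H v w) ≤ q ^ (n - 1) := fun w => by
    rw [← hSeq, ← hA]
    exact Subgroup.card_le_card_group _
  have hfull : ∀ w : Ω, Nat.card (stab H v w) = q ^ (n - 1) → ∀ φ, φ ⬝ᵥ v = 0 → φ ∈ stab H v w := by
    intro w hw φ hφ
    have : MulAction.stabilizer A w = ⊤ := Subgroup.eq_top_of_card_eq _ (by rw [hSeq, hw, hA])
    exact ⟨hφ, (this ▸ Subgroup.mem_top (Multiplicative.ofAdd (⟨φ, hφ⟩ : perp v)) :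
      Multiplicative.ofAdd (⟨φ, hφ⟩ : perp v) ∈ MulAction.stabilizer A w)⟩
  by_cases hreg : ∃ w₀ : Ω, stab H v w₀ = ⊥
  · left
    obtain ⟨w₀, hw₀⟩ := hreg
    intro w
    by_cases hw : w ∈ MulAction.orbit A w₀
    · exact Or.inl ((horbit hw).trans hw₀)
    · refine Or.inr (hfull w ?_)
      have h := hgen hw
      rw [hw₀, bot_inf_eq] at h
      simpa using h.symm
  push Not at hreg
  right
  -- the action of the normalizer of the transvection group
  have hmove : ∀ (w : Ω) (u ψ : Fin n → F), ψ ⬝ᵥ u = 0 → ψ ⬝ᵥ v = 0 →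
      (∀ x ∈ stab H v w, x + (x ⬝ᵥ u) • ψ ∈ stab H v w) ∨
      ∀ (D : AddSubgroup F), (∀ c ∈ D, c • ψ ∈ stab H v w) →
        q ^ (n - 1) * Nat.card D ≤ q * Nat.card (stab H v w) := by
    intro w u ψ hψu hψv
    set g := tv u ψ with hg
    have hψu' : (-ψ) ⬝ᵥ u = 0 := by rw [neg_dotProduct, hψu, neg_zero]
    have hginv : g⁻¹ = tv u (-ψ) := inv_eq_of_mul_eq_one_left (by
      rw [hg, ← tv_add hψu' hψu, neg_add_cancel, tv_zero])
    have hvm : ∀ x : Fin n → F,
        x ᵥ* ((g⁻¹ : SLn) : Matrix (Fin n) (Fin n) F) = x - (x ⬝ᵥ u) • ψ := by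
      intro x
      rw [hginv, coe_tv hψu', vecMul_add, vecMul_one, vecMul_vecMulVec, smul_neg, sub_eq_add_neg]
    have hvm' : ∀ x : Fin n → F,
        x ᵥ* (g : Matrix (Fin n) (Fin n) F) = x + (x ⬝ᵥ u) • ψ := by
      intro x
      rw [hg, coe_tv hψu, vecMul_add, vecMul_one, vecMul_vecMulVec]
    have hgv : (g : Matrix (Fin n) (Fin n) F) *ᵥ v = v := by
      rw [hg, coe_tv hψu, add_mulVec, one_mulVec, vecMulVec_mulVec, hψv]; simp
    have hgv' : ((g⁻¹ : SLn) : Matrix (Fin n) (Fin n) F) *ᵥ v = v := by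
      rw [hginv, coe_tv hψu', add_mulVec, one_mulVec, vecMulVec_mulVec, neg_dotProduct, hψv]; simp
    have hto : ∀ z ∈ stab H v (g • w), z + (z ⬝ᵥ u) • ψ ∈ stab H v w := by
      intro z hz
      have h := stab_smul H g⁻¹ hz
      rwa [inv_inv, hgv', inv_smul_smul, hvm'] at h
    have hfrom : ∀ x ∈ stab H v w, x - (x ⬝ᵥ u) • ψ ∈ stab H v (g • w) := by
      intro x hx
      have h := stab_smul H g hx
      rwa [hgv, hvm] at h
    by_cases hw : g • w ∈ MulAction.orbit A w
    · left
      intro x hx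
      refine hto x ?_
      rw [horbit hw]; exact hx
    right
    intro D hD
    have h := hgen hw
    set S := stab H v w
    set T := stab H v (g • w)
    have hcardT : Nat.card T = Nat.card S := by
      refine Nat.card_congr
        { toFun := fun z => ⟨z.1 + (z.1 ⬝ᵥ u) • ψ, hto _ z.2⟩
          invFun := fun x => ⟨x.1 - (x.1 ⬝ᵥ u) • ψ, hfrom _ x.2⟩
          left_inv := fun z => Subtype.ext ?_
          right_inv := fun x => Subtype.ext ?_ }
      · simp [add_dotProduct, smul_dotProduct, hψu]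
      · simp [sub_dotProduct, smul_dotProduct, hψu]
    let Φ : T × D →+ F :=
      { toFun := fun p => (p.1 : Fin n → F) ⬝ᵥ u + (p.2 : F)
        map_zero' := by simp
        map_add' := fun p p' => by
          simp only [Prod.fst_add, Prod.snd_add, AddSubgroup.coe_add, add_dotProduct]
          ring }
    have hker : Nat.card Φ.ker ≤ Nat.card (S ⊓ T : AddSubgroup (Fin n → F)) := by
      refine Nat.card_le_card_of_injective (fun p => ⟨(p.1.1 : Fin n → F), ?_, p.1.1.2⟩) ?_
      · have hp : (p.1.1 : Fin n → F) ⬝ᵥ u + (p.1.2 : F) = 0 := p.2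
        have h1 := hto _ p.1.1.2
        have h2 := hD _ p.1.2.2
        rw [eq_neg_of_add_eq_zero_left hp, neg_smul] at h1
        have := S.add_mem h1 h2
        rwa [← sub_eq_add_neg, sub_add_cancel] at this
      · intro p p' he
        have h1 : (p.1.1 : Fin n → F) = p'.1.1 := congrArg (fun z : (S ⊓ T : AddSubgroup _) => (z : Fin n → F)) he
        have hp : (p.1.1 : Fin n → F) ⬝ᵥ u + (p.1.2 : F) = 0 := p.2
        have hp' : (p'.1.1 : Fin n → F) ⬝ᵥ u + (p'.1.2 : F) = 0 := p'.2
        refine Subtype.ext (Prod.ext (Subtype.ext h1) (Subtype.ext ?_))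
        rw [h1] at hp
        exact add_left_cancel (hp.trans hp'.symm)
    have hrange : Nat.card Φ.range ≤ q := by
      rw [hq, ← Nat.card_eq_fintype_card]
      exact Nat.card_le_card_of_injective _ Subtype.val_injective
    have hprod : Nat.card T * Nat.card D ≤ q * Nat.card (S ⊓ T : AddSubgroup (Fin n → F)) := by
      rw [← Nat.card_prod, ← AddSubgroup.card_mul_index Φ.ker, AddSubgroup.index_ker, mul_comm]
      exact Nat.mul_le_mul hrange hker
    rw [hcardT] at hprod h
    have hpos : 0 < Nat.card S := Nat.card_pos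
    refine Nat.le_of_mul_le_mul_left ?_ hpos
    calc Nat.card S * (q ^ (n - 1) * Nat.card D) = q ^ (n - 1) * (Nat.card S * Nat.card D) := by ring
      _ ≤ q ^ (n - 1) * (q * Nat.card (S ⊓ T : AddSubgroup (Fin n → F))) := Nat.mul_le_mul_left _ hprod
      _ = q * (q ^ (n - 1) * Nat.card (S ⊓ T : AddSubgroup (Fin n → F))) := by ring
      _ = Nat.card S * (q * Nat.card S) := by rw [h]; ring
  -- every stabilizer has index at most `q`
  have hbig : ∀ w : Ω, q ^ (n - 1) ≤ q * Nat.card (stab H v w) := by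
    intro w
    by_contra hc
    have hstable : ∀ u ψ : Fin n → F, ψ ⬝ᵥ u = 0 → ψ ⬝ᵥ v = 0 →
        ∀ x ∈ stab H v w, x + (x ⬝ᵥ u) • ψ ∈ stab H v w := fun u ψ h1 h2 =>
      (hmove w u ψ h1 h2).resolve_right fun h => hc (by
        simpa using h ⊥ (fun c hc' => by rw [AddSubgroup.mem_bot.mp hc', zero_smul]; exact zero_mem _))
    obtain ⟨x, hx, hx0⟩ : ∃ x ∈ stab H v w, x ≠ 0 := by
      by_contra hcc
      push Not at hcc
      exact hreg w ((AddSubgroup.eq_bot_iff_forall _).mpr hcc)
    have hout : ∀ ψ : Fin n → F, ψ ⬝ᵥ v = 0 → (∀ c : F, ψ ≠ c • x) → ψ ∈ stab H v w := by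
      intro ψ hψ hind
      obtain ⟨u, hu1, hu2⟩ := exists_dot_pair hx0 hind 1 0
      have := (stab H v w).sub_mem (hstable u ψ hu2 hψ x hx) hx
      rwa [hu1, one_smul, add_sub_cancel_left] at this
    obtain ⟨ψ, hψ, hind⟩ : ∃ ψ : Fin n → F, ψ ⬝ᵥ v = 0 ∧ ∀ c : F, ψ ≠ c • x := by
      by_contra hcc
      push Not at hcc
      have h2 : Nat.card (perp v) ≤ q := by
        rw [hq, ← Nat.card_eq_fintype_card]
        choose! c hc' using hcc
        refine Nat.card_le_card_of_injective (fun φ : perp v => c φ.1) fun φ φ' h => Subtype.ext ?_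
        rw [hc' φ.1 φ.2, hc' φ'.1 φ'.2]
        exact congrArg (· • x) h
      rw [card_perp hv, Nat.card_eq_fintype_card, ← hq] at h2
      have : q ^ 2 ≤ q ^ (n - 1) := Nat.pow_le_pow_right (by omega) (by omega)
      nlinarith
    refine hc ?_
    have hall : ∀ φ, φ ⬝ᵥ v = 0 → φ ∈ stab H v w := by
      intro φ hφ
      by_cases hφx : ∀ c : F, φ ≠ c • x
      · exact hout φ hφ hφx
      push Not at hφx
      obtain ⟨c, rfl⟩ := hφx
      have h1 := hout (ψ + c • x) (by rw [add_dotProduct, hψ, hφ, add_zero]) (fun d hd => hind (d - c) (by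
        rw [sub_smul, ← hd, add_sub_cancel_right]))
      simpa using (stab H v w).sub_mem h1 (hout ψ hψ hind)
    have : q ^ (n - 1) ≤ Nat.card (stab H v w) := by
      rw [hq, ← Nat.card_eq_fintype_card, ← card_perp hv]
      exact Nat.card_le_card_of_injective (fun φ : perp v => (⟨φ.1, hall φ.1 φ.2⟩ : stab H v w))
        fun φ φ' h => Subtype.ext (congrArg (fun z : stab H v w => (z : Fin n → F)) h)
    calc q ^ (n - 1) ≤ 1 * Nat.card (stab H v w) := by rwa [one_mul]
      _ ≤ _ := Nat.mul_le_mul_right _ (by omega)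
  -- hence exactly `q`
  have hexact : ∀ w : Ω, q * Nat.card (stab H v w) = q ^ (n - 1) := by
    have hsum := sum_card_stabilizer_eq (A := A) (Ω := Ω)
    rw [← ha, hA] at hsum
    simp only [hSeq] at hsum
    have h1 : ∑ _w : Ω, q ^ (n - 1) = ∑ w : Ω, q * Nat.card (stab H v w) := by
      refine le_antisymm (Finset.sum_le_sum fun w _ => hbig w) ?_
      rw [← Finset.mul_sum, hsum, Finset.sum_const, Finset.card_univ, smul_eq_mul, ← Nat.card_eq_fintype_card,
        hm, ← mul_assoc]
      refine Nat.mul_le_mul_right _ ?_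
      have e2 : q ^ (n - 1) = (q - 1) * K + 1 := by omega
      obtain ⟨q', rfl⟩ := Nat.exists_eq_add_of_le hq2
      rw [show 2 + q' - 1 = 1 + q' by omega] at e2
      nlinarith
    intro w
    exact ((Finset.sum_eq_sum_iff_of_le fun w _ => hbig w).mp h1 w (Finset.mem_univ _)).symm
  intro w
  refine ⟨fun c ψ hψ => ?_, hexact w⟩
  by_cases hψ0 : ψ = 0
  · rw [hψ0, smul_zero]; exact zero_mem _
  by_cases hx : ∃ x ∈ stab H v w, ∀ d : F, x ≠ d • ψ
  · obtain ⟨x, hx, hind⟩ := hx
    obtain ⟨u, hu1, hu2⟩ := exists_dot_pair hψ0 hind 0 c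
    rcases hmove w u ψ hu1 hψ.1 with h | h
    · have := (stab H v w).sub_mem (h x hx) hx
      rwa [hu2, add_sub_cancel_left] at this
    · exfalso
      let D : AddSubgroup F := (stab H v w).comap
        { toFun := fun c => c • ψ, map_zero' := zero_smul _ _, map_add' := fun a b => add_smul a b ψ }
      have h2 := h D (fun c hc => hc)
      rw [hexact w] at h2
      have hD : 1 < Nat.card D := by
        rw [Finite.one_lt_card_iff_nontrivial]
        exact ⟨⟨1, by simpa [D] using hψ⟩, 0, fun he =>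
          one_ne_zero (congrArg (fun z : D => (z : F)) he)⟩
      nlinarith [pow_pos (show 0 < q by omega) (n - 1)]
  · push Not at hx
    choose! d hd using hx
    have hinj : Function.Injective (fun x : stab H v w => d x.1) := fun x y hxy => Subtype.ext (by
      rw [hd x.1 x.2, hd y.1 y.2]; exact congrArg (· • ψ) hxy)
    have hsurj : Function.Surjective (fun x : stab H v w => d x.1) := by
      refine ((Nat.bijective_iff_injective_and_card _).mpr ⟨hinj, le_antisymm
        (Nat.card_le_card_of_injective _ hinj) ?_⟩).2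
      rw [Nat.card_eq_fintype_card (α := F), ← hq]
      refine Nat.le_of_mul_le_mul_left ?_ (show 0 < q by omega)
      rw [hexact w, ← pow_two]
      exact Nat.pow_le_pow_right (by omega) (by omega)
    obtain ⟨x, hx'⟩ := hsurj c
    have h3 := x.2
    rw [hd x.1 x.2] at h3
    exact hx' ▸ h3

end main

end CfsgLib.Known.PSLMinIndex
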