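import Mathlib
import Cfsg.Agent.Lib.Known.SylowTwoPerm

/-!
Maximal subgroups above a Sylow 2-subgroup of a symmetric or alternating group.
-/

set_option autoImplicit false
set_option maxHeartbeats 800000

namespace CfsgLib.Known

open Equiv Equiv.Perm
open scoped Pointwise

theorem mem_stab_set {β : Type*} {s : Set β} {g : Perm β} :
    g ∈ MulAction.stabilizer (Perm β) s ↔ ∀ x, g x ∈ s ↔ x ∈ s := by
  rw [MulAction.mem_stabilizer_set]; exact Iff.rfl

/-- The group preserving the fibres of a function. -/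
def fibreStab {β γ : Type*} (f : β → γ) : Subgroup (Perm β) where
  carrier := {g | ∀ x y, f (g x) = f (g y) ↔ f x = f y}
  mul_mem' := fun {a b} ha hb x y => by rw [Perm.mul_apply, Perm.mul_apply, ha, hb]
  one_mem' := fun x y => Iff.rfl
  inv_mem' := fun {a} ha x y => by
    have := ha (a.symm x) (a.symm y)
    simpa [Perm.inv_def] using this.symm

theorem mem_fibreStab {β γ : Type*} {f : β → γ} {g : Perm β} :
    g ∈ fibreStab f ↔ ∀ x y, f (g x) = f (g y) ↔ f x = f y := Iff.rfl

/-- An even permutation moving `c` to `d` and fixing every point outside `{c, d, e}`. -/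
theorem threeCyc {β : Type*} [Fintype β] [DecidableEq β] {c d e : β} (hcd : c ≠ d) (hce : c ≠ e)
    (hde : d ≠ e) :
    IsThreeCycle (swap c e * swap c d) ∧ (swap c e * swap c d) c = d ∧
      (swap c e * swap c d) d = e := by
  refine ⟨isThreeCycle_swap_mul_swap_same hce hcd hde.symm, ?_, ?_⟩
  · simp [swap_apply_of_ne_of_ne hcd.symm hde]
  · simp

/-- Two permutations whose supports share exactly one point have a commutator which is a 3-cycle. -/
theorem isThreeCycle_commutator {β : Type*} [Fintype β] [DecidableEq β] {g h : Perm β} {a : β}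
    (hab : g a ≠ a) (hac : h a ≠ a) (hone : ∀ x, g x ≠ x → h x ≠ x → x = a) :
    IsThreeCycle (g * h * g⁻¹ * h⁻¹) := by
  have hb : h (g a) = g a := by
    by_contra hc
    exact hab (hone _ (fun e => hab (g.injective e)) hc)
  have hc : g (h a) = h a := by
    by_contra hc'
    exact hac (hone _ hc' (fun e => hac (h.injective e)))
  have hsub : (g * h * g⁻¹ * h⁻¹).support ⊆ {a, g a, h a} := by
    intro x hx
    rw [mem_support] at hx
    by_contra hne
    simp only [Finset.mem_insert, Finset.mem_singleton, not_or] at hne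
    apply hx
    show g (h (g.symm (h.symm x))) = x
    by_cases hhx : h x = x
    · rw [show h.symm x = x from h.symm_apply_eq.mpr hhx.symm]
      by_cases hgx : g x = x
      · rw [show g.symm x = x from g.symm_apply_eq.mpr hgx.symm, hhx, hgx]
      · set y := g.symm x with hy
        have hgy : g y = x := g.apply_symm_apply x
        have hyx : g y ≠ y := fun e => hgx (by rw [← hgy]; rw [e]; exact e)
        have : h y = y := by
          by_contra hc'
          exact hne.2.1 (by rw [← hgy, hone y hyx hc'])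
        rw [this, hgy]
    · have hgx : g x = x := by
        by_contra hc'
        exact hne.1 (hone x hc' hhx)
      set y := h.symm x with hy
      have hhy : h y = x := h.apply_symm_apply x
      have hyy : h y ≠ y := fun e => hhx (by rw [← hhy]; rw [e]; exact e)
      have : g y = y := by
        by_contra hc'
        exact hne.2.2 (by rw [← hhy, hone y hc' hyy])
      rw [show g.symm y = y from g.symm_apply_eq.mpr this.symm, hhy, hgx]
  have hsup : (g * h * g⁻¹ * h⁻¹).support = {a, g a, h a} := by
    refine Finset.Subset.antisymm hsub ?_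
    have hne3 : g a ≠ h a := fun e => by
      have := hb; rw [e] at this; exact hac (h.injective this)
    have e1 : (g * h * g⁻¹ * h⁻¹) a = g a := by
      show g (h (g.symm (h.symm a))) = g a
      have : g (h.symm a) = h.symm a := by
        by_contra hc'
        have hh : h (h.symm a) ≠ h.symm a := fun e => hac (by
          rw [h.apply_symm_apply] at e
          conv_lhs => rw [e]
          exact h.apply_symm_apply a)
        exact hac ((h.symm_apply_eq.mp (hone _ hc' hh)).symm)
      rw [show g.symm (h.symm a) = h.symm a from g.symm_apply_eq.mpr this.symm, h.apply_symm_apply]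
    have e2 : (g * h * g⁻¹ * h⁻¹) (g a) = h a := by
      show g (h (g.symm (h.symm (g a)))) = h a
      rw [show h.symm (g a) = g a from h.symm_apply_eq.mpr hb.symm, g.symm_apply_apply, hc]
    have e3 : (g * h * g⁻¹ * h⁻¹) (h a) ≠ h a := fun e => hne3 (by
      have := (g * h * g⁻¹ * h⁻¹).injective (e2.trans e.symm)
      exact this)
    intro x hx
    simp only [Finset.mem_insert, Finset.mem_singleton] at hx
    rw [mem_support]
    rcases hx with rfl | rfl | rfl
    · rw [e1]; exact hab
    · rw [e2]; exact hne3.symm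
    · exact e3
  rw [← card_support_eq_three_iff, hsup, Finset.card_insert_of_notMem, Finset.card_pair]
  · exact fun e => by have := hb; rw [e] at this; exact hac (h.injective this)
  · simp [Ne.symm hab, Ne.symm hac]

variable {m r : ℕ}

theorem exists_not_mem_finset {γ : Type*} [Fintype γ] (s : Finset γ)
    (h : s.card < Fintype.card γ) : ∃ x, x ∉ s := by
  by_contra hc
  push Not at hc
  exact absurd (Finset.card_le_card (fun x _ => hc x) (s := Finset.univ)) (by simpa using h)

/-- An even permutation permuting all pairs which fixes `u` and moves `c` to `d`. -/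
theorem exists_even_move (hm : 3 ≤ m) {u c d : Pts m r} {i j l : Fin m}
    (hu : lab u = some i) (hc : lab c = some j) (hd : lab d = some l) (hji : j ≠ i) (hli : l ≠ i) :
    ∃ g ∈ pairSub (r := r) (⊤ : Subgroup (Perm (Fin m))) ⊓ alternatingGroup _, g u = u ∧ g c = d := by
  obtain ⟨a, rfl⟩ := lab_eq_some_iff.mp hu
  obtain ⟨b, rfl⟩ := lab_eq_some_iff.mp hc
  obtain ⟨b', rfl⟩ := lab_eq_some_iff.mp hd
  obtain ⟨k, hk⟩ := exists_not_mem_finset ({i, l} : Finset (Fin m))
    (lt_of_le_of_lt Finset.card_le_two (by rw [Fintype.card_fin]; omega))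
  simp only [Finset.mem_insert, Finset.mem_singleton, not_or] at hk
  set s0 := liftPair (r := r) (swap j l) (fun p => decide (p = j) && xor b b')
  have h1 : s0 (.inl (i, a)) = .inl (i, a) := by
    simp [s0, liftPair, swap_apply_of_ne_of_ne (Ne.symm hji) (Ne.symm hli), Ne.symm hji]
  have h2 : s0 (.inl (j, b)) = .inl (l, b') := by
    cases b <;> cases b' <;> simp [s0, liftPair]
  rcases Int.units_eq_one_or (sign s0) with h | h
  · exact ⟨s0, ⟨liftPair_mem (Subgroup.mem_top _) _, mem_alternatingGroup.mpr h⟩, h1, h2⟩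
  · refine ⟨flipP k * s0, ⟨Subgroup.mul_mem _ (flipP_mem _ k) (liftPair_mem (Subgroup.mem_top _) _), ?_⟩, ?_, ?_⟩
    · simp [sign_flipP, h]
    · rw [Perm.mul_apply, h1, flipP_apply_ne (Ne.symm hk.1)]
    · rw [Perm.mul_apply, h2, flipP_apply_ne (Ne.symm hk.2)]

/-- A block of the even pair group meeting two pairs is everything. -/
theorem block_eq_univ (hm : 3 ≤ m) (B : Set (Pts m 0))
    (hblock : ∀ g ∈ pairSub (r := 0) (⊤ : Subgroup (Perm (Fin m))) ⊓ alternatingGroup _,
      ∀ z ∈ B, g z ∈ B → ∀ y ∈ B, g y ∈ B)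
    {a c : Pts m 0} (ha : a ∈ B) (hc : c ∈ B) (hne : lab a ≠ lab c) : B = Set.univ := by
  have hlab : ∀ x : Pts m 0, ∃ i, lab x = some i := fun x => by
    rcases x with ⟨i, b⟩ | z
    · exact ⟨i, rfl⟩
    · exact z.elim0
  have step : ∀ u v w : Pts m 0, u ∈ B → v ∈ B → lab v ≠ lab u → lab w ≠ lab u → w ∈ B := by
    intro u v w hu hv h1 h2
    obtain ⟨i, hi⟩ := hlab u
    obtain ⟨j, hj⟩ := hlab v
    obtain ⟨l, hl⟩ := hlab w
    obtain ⟨g, hg, hgu, hgv⟩ := exists_even_move hm hi hj hl
      (fun e => h1 (by rw [hi, hj, e])) (fun e => h2 (by rw [hi, hl, e]))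
    rw [← hgv]
    exact hblock g hg u hu (by rwa [hgu]) v hv
  refine Set.eq_univ_of_forall fun w => ?_
  by_cases h : lab w = lab a
  · exact step c a w hc ha hne (by rw [h]; exact hne)
  · exact step a c w ha hc (Ne.symm hne) h

/-- A Sylow 2-subgroup of `S_m`, `m` not a power of two, leaves invariant a proper nonempty set
of size different from `m/2`. -/
theorem exists_invariant_set : ∀ (m : ℕ), 1 ≤ m → (∀ k : ℕ, m ≠ 2 ^ k) →
    ∀ H : Sylow 2 (Perm (Fin m)), ∃ O : Set (Fin m), O.Nonempty ∧ Oᶜ.Nonempty ∧ m ≠ 2 * O.ncard ∧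
      ∀ σ ∈ (H : Subgroup (Perm (Fin m))), ∀ x, σ x ∈ O ↔ x ∈ O := by
  intro m
  induction m using Nat.strong_induction_on with
  | _ m ih =>
    intro h1 hpow H
    have hm3 : 3 ≤ m := by
      have := hpow 0; have := hpow 1; simp at *; omega
    obtain ⟨H'⟩ := (inferInstance : Nonempty (Sylow 2 (Perm (Fin (m / 2)))))
    have hr : m % 2 ≤ 1 := by omega
    obtain ⟨e, he⟩ := exists_equiv_pairSub (m := m / 2) (r := m % 2) (β := Fin m) hr
      (by rw [Fintype.card_fin]; omega) H H'
    have hmem : ∀ σ ∈ (H : Subgroup (Perm (Fin m))), ∃ τ ∈ (H' : Subgroup (Perm (Fin (m / 2)))),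
        ∀ x, lab (e.symm (σ x)) = (lab (e.symm x)).map τ := by
      intro σ hσ
      rw [he] at hσ
      obtain ⟨g, ⟨τ, hτ, hg⟩, rfl⟩ := hσ
      exact ⟨τ, hτ, fun x => by simpa [Equiv.permCongrHom] using hg (e.symm x)⟩
    rcases Nat.even_or_odd m with ⟨j, hj⟩ | ⟨j, hj⟩
    · obtain ⟨O', hne, hne', hcard, hO'⟩ := ih (m / 2) (by omega) (by omega) (fun k hk => hpow (k + 1)
        (by rw [pow_succ]; omega)) H'
      refine ⟨{x | ∃ i ∈ O', lab (e.symm x) = some i}, ?_, ?_, ?_, fun σ hσ x => ?_⟩
      · obtain ⟨i, hi⟩ := hne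
        exact ⟨e (.inl (i, true)), i, hi, by simp [lab]⟩
      · obtain ⟨i, hi⟩ := hne'
        refine ⟨e (.inl (i, true)), fun ⟨i', hi', h⟩ => hi ?_⟩
        simp [lab] at h
        rwa [h]
      · have hset : {x | ∃ i ∈ O', lab (e.symm x) = some i}
            = (fun p : Fin (m / 2) × Bool => e (.inl p)) '' (O' ×ˢ (Set.univ : Set Bool)) := by
          ext x
          simp only [Set.mem_ofPred_eq, Set.mem_image, Set.mem_prod, Set.mem_univ, and_true]
          constructor
          · rintro ⟨i, hi, h⟩
            obtain ⟨b, hb⟩ := lab_eq_some_iff.mp h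
            exact ⟨(i, b), hi, by rw [← hb, e.apply_symm_apply]⟩
          · rintro ⟨⟨i, b⟩, hi, rfl⟩
            exact ⟨i, hi, by simp [lab]⟩
        rw [hset, Set.ncard_image_of_injective _ (fun a b h => Sum.inl_injective (e.injective h)),
          Set.ncard_prod, Set.ncard_univ, Nat.card_eq_fintype_card, Fintype.card_bool]
        omega
      · obtain ⟨τ, hτ, hlab⟩ := hmem σ hσ
        simp only [Set.mem_ofPred_eq, hlab x]
        rcases lab (e.symm x) with _ | i
        · simp
        · simp only [Option.map_some, Option.some.injEq, exists_eq_right']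
          exact hO' τ hτ i
    · set z : Fin (m % 2) := ⟨0, by omega⟩
      refine ⟨{e (.inr z)}, Set.singleton_nonempty _, ?_, ?_, fun σ hσ x => ?_⟩
      · haveI : Nontrivial (Fin m) := Fin.nontrivial_iff_two_le.mpr (by omega)
        obtain ⟨y, hy⟩ := exists_ne (e (.inr z))
        exact ⟨y, hy⟩
      · rw [Set.ncard_singleton]; omega
      · obtain ⟨τ, -, hlab⟩ := hmem σ hσ
        haveI : Subsingleton (Fin (m % 2)) := Fin.subsingleton_iff_le_one.mpr hr
        have hiff : ∀ y, y = e (.inr z) ↔ lab (e.symm y) = none := by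
          intro y
          rw [lab_eq_none_iff]
          constructor
          · rintro rfl; exact ⟨z, e.symm_apply_apply _⟩
          · rintro ⟨z', hz'⟩
            rw [Subsingleton.elim z z', ← hz', e.apply_symm_apply]
        simp only [Set.mem_singleton_iff, hiff, hlab x, Option.map_eq_none_iff]

section Main

variable {β : Type} [Fintype β] [DecidableEq β] {G : Type*} [Group G] [Finite G]

theorem inv_lab (e : Pts m r ≃ β) (K : Subgroup (Perm (Fin m))) {g : Perm β}
    (hg : g ∈ (pairSub (r := r) K).map e.permCongrHom.toMonoidHom) :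
    ∃ σ ∈ K, ∀ x, lab (e.symm (g x)) = (lab (e.symm x)).map σ := by
  obtain ⟨y, ⟨σ, hσ, hy⟩, rfl⟩ := hg
  exact ⟨σ, hσ, fun x => by simpa [Equiv.permCongrHom] using hy (e.symm x)⟩

theorem map_alt_equiv {α : Type*} [Fintype α] [DecidableEq α] (e : α ≃ β) :
    (alternatingGroup α).map e.permCongrHom.toMonoidHom = alternatingGroup β := by
  ext x
  rw [Subgroup.mem_map_equiv]
  simp [mem_alternatingGroup, Equiv.permCongrHom]

/-- A permutation group containing the even pair stabilizer, and a 3-cycle breaking a pair,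
contains the alternating group. -/
theorem alt_le_of_pairs_and_cycle (hm : 3 ≤ m) (e : Pts m 0 ≃ β) (M : Subgroup (Perm β))
    (hA : (pairSub (r := 0) (⊤ : Subgroup (Perm (Fin m))) ⊓ alternatingGroup _).map
      e.permCongrHom.toMonoidHom ≤ M)
    {i j : Fin m} (hij : j ≠ i) {t : Perm β} (ht : t ∈ M) (ht3 : IsThreeCycle t)
    (ht1 : t (e (.inl (i, false))) = e (.inl (i, true)))
    (ht2 : t (e (.inl (i, true))) = e (.inl (j, false))) : alternatingGroup β ≤ M := by
  have hmove : ∀ g ∈ pairSub (r := 0) (⊤ : Subgroup (Perm (Fin m))) ⊓ alternatingGroup _,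
      e.permCongr g ∈ M := fun g hg => hA ⟨g, hg, rfl⟩
  set a := e (.inl (i, false))
  have ha : a ∉ MulAction.fixedPoints M β := fun h => by
    have := h ⟨t, ht⟩
    change t a = a at this
    rw [ht1] at this
    simp [a] at this
  refine alternatingGroup_le_of_isPreprimitive_of_isThreeCycle_mem ?_ ht3 ht
  refine MulAction.IsPreprimitive.of_isTrivialBlock_of_notMem_fixedPoints ha fun B haB hB => ?_
  have hbl : ∀ g ∈ M, ∀ z ∈ B, g z ∈ B → ∀ y ∈ B, g y ∈ B := by
    intro g hg z hz hgz y hy
    have := MulAction.isBlock_iff_smul_eq_of_mem.mp hB (g := (⟨g, hg⟩ : M)) hz hgz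
    rw [← this]
    exact ⟨y, hy, rfl⟩
  by_cases hsub : ∀ c ∈ B, lab (e.symm c) = some i
  · left
    intro x hx y hy
    have key : ∀ x ∈ B, x = a := by
      intro x hx
      obtain ⟨b, hb⟩ := lab_eq_some_iff.mp (hsub x hx)
      have hx' : x = e (.inl (i, b)) := by rw [← hb, e.apply_symm_apply]
      cases b
      · exact hx'
      · exfalso
        have h2 := hbl t ht a haB (by rw [ht1, ← hx']; exact hx) x hx
        rw [hx', ht2] at h2
        have := hsub _ h2
        simp [lab] at this
        exact hij this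
    rw [key x hx, key y hy]
  · right
    push Not at hsub
    obtain ⟨c, hc, hci⟩ := hsub
    have := block_eq_univ hm (e ⁻¹' B) (fun g hg z hz hgz y hy => by
      have h := hbl _ (hmove g hg) (e z) hz (by simpa [Equiv.permCongr_apply] using hgz) (e y) hy
      simpa [Equiv.permCongr_apply] using h)
      (a := .inl (i, false)) (c := e.symm c) haB (by simpa using hc)
      (by intro h; exact hci h.symm)
    exact Set.eq_univ_of_forall fun x => by
      have := Set.eq_univ_iff_forall.mp this (e.symm x)
      simpa using this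

/-- A transitive group of odd degree at least 9 containing the double transpositions of a pairing
contains a 3-cycle. -/
theorem exists_threeCycle (hm : 4 ≤ m) (e : Pts m 1 ≃ β) (M : Subgroup (Perm β))
    (hD : ∀ k l : Fin m, e.permCongr (flipP k * flipP l) ∈ M)
    (htr : ∀ x y : β, ∃ g ∈ M, g x = y) : ∃ w ∈ M, IsThreeCycle w := by
  suffices h : ∃ h ∈ M, ∃ k l : Fin m, ∃ u : Pts m 1, k ≠ l ∧ lab u = some k ∧ h (e u) ≠ e u ∧
      ∀ x : Pts m 1, (lab x = some k ∨ lab x = some l) → h (e x) ≠ e x → x = u by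
    obtain ⟨h, hh, k, l, u, hkl, hu, hmv, huniq⟩ := h
    refine ⟨_, M.mul_mem (M.mul_mem (M.mul_mem (hD k l) hh) (M.inv_mem (hD k l))) (M.inv_mem hh),
      isThreeCycle_commutator (a := e u) ?_ hmv ?_⟩
    · obtain ⟨b, rfl⟩ := lab_eq_some_iff.mp hu
      rw [Equiv.permCongr_apply, e.symm_apply_apply, Perm.mul_apply, flipP_apply_ne hkl,
        flipP_apply_self]
      simp
    · intro x hg hh'
      obtain ⟨y, rfl⟩ := e.surjective x
      rw [huniq y ?_ hh']
      rw [Equiv.permCongr_apply, e.symm_apply_apply] at hg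
      rcases y with ⟨p, b⟩ | z
      · by_contra hc
        simp only [lab, Sum.elim_inl, Option.some.injEq, not_or] at hc
        exact hg (by rw [Perm.mul_apply, flipP_apply_ne hc.2, flipP_apply_ne hc.1])
      · exact absurd (by rw [Perm.mul_apply, flipP_apply_inr, flipP_apply_inr]) hg
  set p₀ : Fin m := ⟨0, by omega⟩
  set p₁ : Fin m := ⟨1, by omega⟩
  have hne : p₀ ≠ p₁ := by simp [p₀, p₁, Fin.ext_iff]
  obtain ⟨g, hg, hgx⟩ := htr (e (.inl (p₀, false))) (e (.inr 0))
  let D : Perm (Pts m 1) := flipP p₀ * flipP p₁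
  let h : Perm β := g * e.permCongr D * g⁻¹
  have hhM : h ∈ M := M.mul_mem (M.mul_mem hg (hD p₀ p₁)) (M.inv_mem hg)
  let S0 : Finset (Pts m 1) :=
    {.inl (p₀, false), .inl (p₀, true), .inl (p₁, false), .inl (p₁, true)}
  let S : Finset (Pts m 1) := S0.image (fun y => e.symm (g (e y)))
  have hDfix : ∀ y, y ∈ S0 ↔ D y ≠ y := by
    intro y
    rcases y with ⟨p, b⟩ | z
    · by_cases h0 : p = p₀
      · subst h0
        cases b <;> simp [S0, D, flipP_apply_ne hne, flipP_apply_self]
      · by_cases h1 : p = p₁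
        · subst h1
          cases b <;> simp [S0, D, flipP_apply_ne h0, flipP_apply_self]
        · simp [S0, D, flipP_apply_ne h0, flipP_apply_ne h1, h0, h1]
    · simp [S0, D, flipP_apply_inr]
  have hS : ∀ y, y ∈ S ↔ h (e y) ≠ e y := by
    intro y
    have key : h (e y) = e y ↔ D (e.symm (g.symm (e y))) = e.symm (g.symm (e y)) := by
      simp only [h, Perm.mul_apply, Equiv.permCongr_apply, Perm.inv_def]
      constructor
      · intro hh
        have := congrArg (fun w => e.symm (g.symm w)) hh
        simpa using this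
      · intro hh; rw [hh]; simp
    rw [ne_eq, key, ← ne_eq, ← hDfix]
    simp only [S, Finset.mem_image]
    constructor
    · rintro ⟨z, hz, rfl⟩; simpa using hz
    · intro hz; exact ⟨_, hz, by simp⟩
  have hScard : S.card = 4 := by
    rw [Finset.card_image_of_injective _ (fun a b h => e.injective (g.injective (e.symm.injective h)))]
    simp [S0, hne]
  have hinf : (Sum.inr 0 : Pts m 1) ∈ S := by
    refine Finset.mem_image.mpr ⟨.inl (p₀, false), by simp [S0], ?_⟩
    rw [hgx]; simp
  set S' := S.erase (.inr 0)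
  have hS'card : S'.card = 3 := by rw [Finset.card_erase_of_mem hinf, hScard]
  have hS'lab : ∀ x ∈ S', ∃ k, lab x = some k := by
    intro x hx
    rcases x with ⟨k, b⟩ | z
    · exact ⟨k, rfl⟩
    · exact absurd (congrArg Sum.inr (Subsingleton.elim z 0)) (Finset.mem_erase.mp hx).1
  have hpick : ∃ u ∈ S', mate u ∉ S' := by
    by_contra hall
    push Not at hall
    have hev : Even S'.card := by
      have hinv : ∀ x : Pts m 1, mate (mate x) = x := by
        intro x; rcases x with ⟨k, b⟩ | z <;> simp [mate]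
      have hfix : ∀ x ∈ S', mate x ≠ x := by
        intro x hx
        obtain ⟨k, hk⟩ := hS'lab x hx
        obtain ⟨b, rfl⟩ := lab_eq_some_iff.mp hk
        simp [mate]
      have h0 : ((S'.card : ℕ) : ZMod 2) = 0 := by
        rw [Finset.card_eq_sum_ones, Nat.cast_sum]
        exact Finset.sum_involution (fun x _ => mate x) (fun x _ => by decide)
          (fun x hx _ => hfix x hx) (fun x hx => hall x hx) (fun x _ => hinv x)
      exact (ZMod.natCast_eq_zero_iff_even).mp h0
    rw [hS'card] at hev
    exact absurd hev (by decide)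
  obtain ⟨u, hu, humate⟩ := hpick
  obtain ⟨k, hk⟩ := hS'lab u hu
  obtain ⟨l, hl⟩ := exists_not_mem_finset (S'.image (fun x => (lab x).getD k))
    (lt_of_le_of_lt Finset.card_image_le (by rw [hS'card, Fintype.card_fin]; omega))
  have hkl : k ≠ l := fun e => hl (Finset.mem_image.mpr ⟨u, hu, by simp [hk, e]⟩)
  refine ⟨h, hhM, k, l, u, hkl, hk, (hS u).mp (Finset.mem_of_mem_erase hu), fun x hx hmv => ?_⟩
  have hxS : x ∈ S' := by
    refine Finset.mem_erase.mpr ⟨fun e => ?_, (hS x).mpr hmv⟩
    subst e; simp [lab] at hx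
  rcases hx with hx | hx
  · by_contra hxu
    exact humate (eq_mate_of_lab_eq hk hx (Ne.symm hxu) ▸ hxS)
  · exact absurd (Finset.mem_image.mpr ⟨x, hxS, by simp [hx]⟩) hl

theorem exists_coatom_above {A : Subgroup G} (h : A ≠ ⊤) : ∃ M, IsCoatom M ∧ A ≤ M := by
  rcases IsCoatomic.eq_top_or_exists_le_coatom A with h' | h'
  · exact absurd h' h
  · exact h'

/-- The unique-maximal-overgroup criterion, for a group `G` with an injective map to `Perm β`
whose image contains the alternating group. -/
theorem unique_max_over_sylow (ι : G →* Perm β) (hι : alternatingGroup β ≤ ι.range)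
    (hcard : Fintype.card β = 2 * m + r) (hr : r ≤ 1) (hm : 2 ≤ m) (hne6 : 2 * m + r ≠ 6)
    (hn5 : 5 ≤ 2 * m + r) (R : Subgroup G) (H : Sylow 2 (Perm (Fin m))) (e : Pts m r ≃ β)
    (hR : R.map ι ≤ (pairSub (r := r) (H : Subgroup (Perm (Fin m)))).map e.permCongrHom.toMonoidHom)
    (hR' : (pairSub (r := r) (H : Subgroup (Perm (Fin m))) ⊓ alternatingGroup _).map
      e.permCongrHom.toMonoidHom ≤ R.map ι)
    (hco : ∀ s : Set β, s.Nonempty → sᶜ.Nonempty → Fintype.card β ≠ 2 * s.ncard →
      IsCoatom ((MulAction.stabilizer (Perm β) s).comap ι))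
    (htop : ∀ M : Subgroup G, R ≤ M → alternatingGroup β ≤ M.map ι → M = ⊤)
    (hfive : ∀ M : Subgroup G, r = 1 → m = 2 → R ≤ M → (∀ x y : β, ∃ g ∈ M.map ι, g x = y) →
      M = ⊤) :
    (∃! M : Subgroup G, IsCoatom M ∧ R ≤ M) ↔ (r = 1 ∧ ∃ k : ℕ, m = 2 ^ k) := by
  set L : β → Option (Fin m) := fun x => lab (e.symm x) with hL
  have hRlab : ∀ g ∈ R, ∃ σ ∈ (H : Subgroup (Perm (Fin m))), ∀ x, L (ι g x) = (L x).map σ :=
    fun g hg => inv_lab e _ (hR ⟨g, hg, rfl⟩)
  have hlift : ∀ t ∈ pairSub (r := r) (⊤ : Subgroup (Perm (Fin m))) ⊓ alternatingGroup _,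
      ∃ g : G, ι g = e.permCongr t := fun t ht =>
    hι (by rw [mem_alternatingGroup, sign_permCongr]; exact mem_alternatingGroup.mp ht.2)
  constructor
  · rintro ⟨M₀, ⟨hM₀, hRM₀⟩, huniq⟩
    -- the pair stabilizer
    set A := (fibreStab L).comap ι
    have hRA : R ≤ A := by
      intro g hg
      obtain ⟨σ, -, hσ⟩ := hRlab g hg
      intro x y
      rw [hσ, hσ]
      exact (Option.map_injective σ.injective).eq_iff
    have hApair : ∀ t ∈ pairSub (r := r) (⊤ : Subgroup (Perm (Fin m))) ⊓ alternatingGroup _,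
        ∀ g : G, ι g = e.permCongr t → g ∈ A := by
      intro t ht g hg x y
      obtain ⟨σ, -, hσ⟩ := ht.1
      simp only [hg, Equiv.permCongr_apply, L, e.symm_apply_apply, hσ]
      exact (Option.map_injective σ.injective).eq_iff
    set i₀ : Fin m := ⟨0, by omega⟩
    set i₁ : Fin m := ⟨1, by omega⟩
    have hi01 : i₁ ≠ i₀ := by simp [i₀, i₁, Fin.ext_iff]
    obtain ⟨ht3, hta, htb⟩ := threeCyc (c := e (.inl (i₀, false))) (d := e (.inl (i₀, true)))
      (e := e (.inl (i₁, false))) (by simp) (by simp [hi01.symm]) (by simp [hi01.symm])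
    set t := swap (e (Sum.inl (i₀, false))) (e (Sum.inl (i₁, false))) *
      swap (e (Sum.inl (i₀, false))) (e (Sum.inl (i₀, true)))
    obtain ⟨gt, hgt⟩ := hι ht3.mem_alternatingGroup
    have hAtop : A ≠ ⊤ := by
      intro h
      have := ((h ▸ Subgroup.mem_top gt : gt ∈ A) (e (.inl (i₀, false))) (e (.inl (i₀, true)))).mpr
        (by simp [L, lab])
      rw [hgt, hta, htb] at this
      simp [L, lab, hi01.symm] at this
    obtain ⟨MA, hMA, hAMA⟩ := exists_coatom_above hAtop
    have hMA0 : MA = M₀ := huniq MA ⟨hMA, hRA.trans hAMA⟩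
    by_contra hcon
    by_cases hpow : ∃ k : ℕ, m = 2 ^ k
    · -- two block systems
      have hr0 : r = 0 := by
        by_contra h
        exact hcon ⟨by omega, hpow⟩
      subst hr0
      obtain ⟨k, hk⟩ := hpow
      have hk2 : 2 ≤ k := by
        by_contra h
        interval_cases k <;> simp_all
      have hm4 : 4 ≤ m := by
        rw [hk]; calc 4 = 2 ^ 2 := rfl
          _ ≤ 2 ^ k := Nat.pow_le_pow_right (by norm_num) hk2
      have hm2 : 2 * (m / 2) + 0 = m := by
        obtain ⟨j, rfl⟩ : ∃ j, k = j + 1 := ⟨k - 1, by omega⟩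
        rw [hk, pow_succ]; omega
      obtain ⟨H'⟩ := (inferInstance : Nonempty (Sylow 2 (Perm (Fin (m / 2)))))
      obtain ⟨e', he'⟩ := exists_equiv_pairSub (m := m / 2) (r := 0) (β := Fin m) (by omega)
        (by rw [Fintype.card_fin]; omega) H H'
      set f2 : β → Option (Fin (m / 2)) := fun x => (L x).bind (fun i => lab (e'.symm i))
      set B := (fibreStab f2).comap ι
      have hRB : R ≤ B := by
        intro g hg
        obtain ⟨σ, hσ, hσx⟩ := hRlab g hg
        rw [he'] at hσ
        obtain ⟨τ, -, hτ⟩ := inv_lab e' _ hσ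
        have key : ∀ x, f2 (ι g x) = (f2 x).map τ := by
          intro x
          simp only [f2, hσx x]
          rcases L x with _ | i
          · rfl
          · exact hτ i
        intro x y
        rw [key, key]
        exact (Option.map_injective τ.injective).eq_iff
      set j₀ : Fin (m / 2) := ⟨0, by omega⟩
      set j₁ : Fin (m / 2) := ⟨1, by omega⟩
      have hj01 : j₁ ≠ j₀ := by simp [j₀, j₁, Fin.ext_iff]
      set p : Fin m := e' (.inl (j₀, false))
      set p' : Fin m := e' (.inl (j₀, true))
      set p'' : Fin m := e' (.inl (j₁, false))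
      have hpp : p' ≠ p := by simp [p, p']
      have hpp'' : p'' ≠ p := by simp [p, p'', hj01]
      obtain ⟨hs3, hsa, hsb⟩ := threeCyc (c := e (.inl (p, false))) (d := e (.inl (p, true)))
        (e := e (.inl (p', false))) (by simp) (by simp [hpp.symm]) (by simp [hpp.symm])
      obtain ⟨gs, hgs⟩ := hι hs3.mem_alternatingGroup
      have hgsB : gs ∈ B := by
        have hfix : ∀ x, f2 (ι gs x) = f2 x := by
          intro x
          rw [hgs]
          have hsw : ∀ (c d : β), f2 c = f2 d → ∀ x, f2 (swap c d x) = f2 x := by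
            intro c d hcd x
            rw [swap_apply_def]
            split_ifs with h1 h2
            · rw [h1, hcd]
            · rw [h2, hcd]
            · rfl
          rw [Perm.mul_apply, hsw _ _ ?_, hsw _ _ ?_] <;> simp [f2, L, lab, p, p']
        intro x y
        rw [hfix, hfix]
      obtain ⟨hu3, hua, hub⟩ := threeCyc (c := e (.inl (p, false))) (d := e (.inl (p, true)))
        (e := e (.inl (p'', false))) (by simp) (by simp [hpp''.symm]) (by simp [hpp''.symm])
      obtain ⟨gu, hgu⟩ := hι hu3.mem_alternatingGroup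
      have hBtop : B ≠ ⊤ := by
        intro h
        have := ((h ▸ Subgroup.mem_top gu : gu ∈ B) (e (.inl (p, false))) (e (.inl (p, true)))).mpr
          (by simp [f2, L, lab, p])
        rw [hgu, hua, hub] at this
        simp [f2, L, lab, p, p'', hj01.symm] at this
      obtain ⟨MB, hMB, hBMB⟩ := exists_coatom_above hBtop
      have hMB0 : MB = M₀ := huniq MB ⟨hMB, hRB.trans hBMB⟩
      refine hM₀.1 (htop M₀ hRM₀ (alt_le_of_pairs_and_cycle (by omega) e _ ?_
        hpp (t := ι gs) ⟨gs, hMB0 ▸ hBMB hgsB, rfl⟩ (by rw [hgs]; exact hs3)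
        (by rw [hgs]; exact hsa) (by rw [hgs]; exact hsb)))
      rintro _ ⟨u, hu, rfl⟩
      obtain ⟨g, hg⟩ := hlift u hu
      exact ⟨g, hMA0 ▸ hAMA (hApair u hu g hg), hg⟩
    · -- an invariant set of pairs
      push Not at hpow
      obtain ⟨O, hne, hne', hcardO, hO⟩ := exists_invariant_set m (by omega) hpow H
      have hm3 : 3 ≤ m := by
        have := hpow 1; simp at this; omega
      set s : Set β := {x | ∃ i ∈ O, L x = some i}
      have hs_card : Fintype.card β ≠ 2 * s.ncard := by
        have hset : s = (fun p : Fin m × Bool => e (.inl p)) '' (O ×ˢ (Set.univ : Set Bool)) := by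
          ext x
          simp only [s, L, Set.mem_ofPred_eq, Set.mem_image, Set.mem_prod, Set.mem_univ, and_true]
          constructor
          · rintro ⟨i, hi, h⟩
            obtain ⟨b, hb⟩ := lab_eq_some_iff.mp h
            exact ⟨(i, b), hi, by rw [← hb, e.apply_symm_apply]⟩
          · rintro ⟨⟨i, b⟩, hi, rfl⟩
            exact ⟨i, hi, by simp [lab]⟩
        rw [hcard, hset, Set.ncard_image_of_injective _ (fun a b h => Sum.inl_injective (e.injective h)),
          Set.ncard_prod, Set.ncard_univ, Nat.card_eq_fintype_card, Fintype.card_bool]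
        omega
      obtain ⟨i, hi⟩ := hne
      obtain ⟨j, hj⟩ := hne'
      set S := (MulAction.stabilizer (Perm β) s).comap ι
      have hScoatom : IsCoatom S := by
        refine hco s ⟨e (.inl (i, true)), i, hi, by simp [L, lab]⟩ ⟨e (.inl (j, true)), ?_⟩ hs_card
        rintro ⟨j', hj', h⟩
        simp [L, lab] at h
        exact hj (h ▸ hj')
      have hRS : R ≤ S := by
        intro g hg
        obtain ⟨σ, hσ, hσx⟩ := hRlab g hg
        rw [Subgroup.mem_comap, mem_stab_set]
        intro x
        simp only [s, Set.mem_ofPred_eq, hσx x]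
        rcases L x with _ | i'
        · simp
        · simp only [Option.map_some, Option.some.injEq, exists_eq_right']
          exact hO σ hσ i'
      have hS0 : S = M₀ := huniq S ⟨hScoatom, hRS⟩
      have hij : j ≠ i := fun e => hj (e ▸ hi)
      obtain ⟨k, hk⟩ := exists_not_mem_finset ({i, j} : Finset (Fin m))
        (lt_of_le_of_lt Finset.card_le_two (by rw [Fintype.card_fin]; omega))
      simp only [Finset.mem_insert, Finset.mem_singleton, not_or] at hk
      obtain ⟨u, hu, -, huc⟩ := exists_even_move (r := r) hm3 (u := .inl (k, true))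
        (c := .inl (i, true)) (d := .inl (j, true)) rfl rfl rfl (Ne.symm hk.1) (Ne.symm hk.2)
      obtain ⟨g, hg⟩ := hlift u hu
      have hgS : g ∈ S := hS0 ▸ hMA0 ▸ hAMA (hApair u hu g hg)
      rw [Subgroup.mem_comap, mem_stab_set] at hgS
      have := (hgS (e (.inl (i, true)))).mpr ⟨i, hi, by simp [L, lab]⟩
      obtain ⟨j', hj', h⟩ := this
      simp [L, hg, Equiv.permCongr_apply, huc, lab] at h
      exact hj (h ▸ hj')
  · rintro ⟨rfl, k, hk⟩
    set x₀ := e (.inr 0)
    have hL0 : ∀ x, L x = none ↔ x = x₀ := by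
      intro x
      simp only [L, x₀, lab_eq_none_iff]
      constructor
      · rintro ⟨z, hz⟩; rw [Subsingleton.elim 0 z, ← hz, e.apply_symm_apply]
      · rintro rfl; exact ⟨0, e.symm_apply_apply _⟩
    set S := (MulAction.stabilizer (Perm β) ({x₀} : Set β)).comap ι
    haveI : Nontrivial β := Fintype.one_lt_card_iff_nontrivial.mp (by omega)
    have hS : IsCoatom S := hco {x₀} (Set.singleton_nonempty _)
      (by obtain ⟨y, hy⟩ := exists_ne x₀; exact ⟨y, hy⟩) (by rw [Set.ncard_singleton]; omega)
    have hfix : ∀ g ∈ R, ι g x₀ = x₀ := by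
      intro g hg
      obtain ⟨σ, -, hσ⟩ := hRlab g hg
      rw [← hL0, hσ, (hL0 x₀).mpr rfl]; rfl
    have hRS : R ≤ S := by
      intro g hg
      rw [Subgroup.mem_comap, mem_stab_set]
      intro x
      simp only [Set.mem_singleton_iff]
      exact ⟨fun h => (ι g).injective (h.trans (hfix g hg).symm), fun h => h ▸ hfix g hg⟩
    refine ⟨S, ⟨hS, hRS⟩, ?_⟩
    rintro M ⟨hM, hRM⟩
    by_contra hMS
    -- some element of `M` moves `x₀`
    obtain ⟨g₀, hg₀, hmove⟩ : ∃ g ∈ M, ι g x₀ ≠ x₀ := by
      by_contra h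
      push Not at h
      refine hMS (le_antisymm (fun g hg => ?_) ?_)
      · rw [Subgroup.mem_comap, mem_stab_set]
        intro x
        simp only [Set.mem_singleton_iff]
        exact ⟨fun hh => (ι g).injective (hh.trans (h g hg).symm), fun hh => hh ▸ h g hg⟩
      · have hle : M ≤ S := fun g hg => by
          rw [Subgroup.mem_comap, mem_stab_set]
          intro x
          simp only [Set.mem_singleton_iff]
          exact ⟨fun hh => (ι g).injective (hh.trans (h g hg).symm), fun hh => hh ▸ h g hg⟩
        exact (hM.le_iff.mp hle).elim (fun he => absurd he hS.1) (fun he => he.le)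
    -- the even part moves any point of a pair to any other
    have hsylow : ∀ (j : ℕ) (H : Sylow 2 (Perm (Fin (2 ^ j)))) (a b : Fin (2 ^ j)),
        ∃ σ ∈ (H : Subgroup (Perm (Fin (2 ^ j)))), σ a = b := by
      intro j
      induction j with
      | zero => exact fun H a b => ⟨1, H.one_mem, Fin.ext (by have := a.isLt; have := b.isLt; simp only [pow_zero] at *; show a.val = b.val; omega)⟩
      | succ j ihj =>
        intro H a b
        obtain ⟨H'⟩ := (inferInstance : Nonempty (Sylow 2 (Perm (Fin (2 ^ j)))))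
        obtain ⟨e', he'⟩ := exists_equiv_pairSub (m := 2 ^ j) (r := 0) (β := Fin (2 ^ (j + 1)))
          (by omega) (by rw [Fintype.card_fin, pow_succ]; omega) H H'
        obtain ⟨⟨i, c⟩, rfl⟩ : ∃ p, e' (.inl p) = a := by
          obtain ⟨y, hy⟩ := e'.surjective a
          rcases y with y | z
          · exact ⟨y, hy⟩
          · exact z.elim0
        obtain ⟨⟨i', c'⟩, rfl⟩ : ∃ p, e' (.inl p) = b := by
          obtain ⟨y, hy⟩ := e'.surjective b
          rcases y with y | z
          · exact ⟨y, hy⟩
          · exact z.elim0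
        obtain ⟨σ, hσ, hσa⟩ := ihj H' i i'
        refine ⟨e'.permCongr (liftPair (r := 0) σ (fun _ => xor c c')), ?_, ?_⟩
        · rw [he']; exact ⟨_, liftPair_mem hσ _, rfl⟩
        · rw [Equiv.permCongr_apply, e'.symm_apply_apply]
          cases c <;> cases c' <;> simp [liftPair, hσa]
    have htransR : ∀ x y : β, x ≠ x₀ → y ≠ x₀ → ∃ g ∈ R, ι g x = y := by
      intro x y hx hy
      obtain ⟨a, rfl⟩ := e.surjective x
      obtain ⟨b, rfl⟩ := e.surjective y
      rcases a with ⟨i, c⟩ | z
      swap
      · exact absurd (congrArg e (congrArg Sum.inr (Subsingleton.elim z 0))) hx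
      rcases b with ⟨i', c'⟩ | z
      swap
      · exact absurd (congrArg e (congrArg Sum.inr (Subsingleton.elim z 0))) hy
      obtain ⟨σ, hσ, hσi⟩ : ∃ σ ∈ (H : Subgroup (Perm (Fin m))), σ i = i' := by
        subst hk; exact hsylow k H i i'
      obtain ⟨s, hs, hsl⟩ := even_part_surj (r := 1) (by omega) σ hσ
      obtain ⟨c'', hc''⟩ := lab_eq_some_iff.mp
        (show lab (s (.inl (i, c))) = some i' by rw [hsl]; simp [lab, hσi])
      obtain ⟨l, hl⟩ : ∃ l : Fin m, l ≠ i' := by
        haveI : Nontrivial (Fin m) := Fin.nontrivial_iff_two_le.mpr hm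
        exact exists_ne i'
      set u : Perm (Pts m 1) := if c'' = c' then s else flipP i' * flipP l * s
      have hu : u ∈ pairSub (r := 1) (H : Subgroup (Perm (Fin m))) ⊓ alternatingGroup _ := by
        simp only [u]; split_ifs
        · exact hs
        · refine Subgroup.mul_mem _ ⟨Subgroup.mul_mem _ (flipP_mem _ _) (flipP_mem _ _), ?_⟩ hs
          simp [sign_flipP]
      have hua : u (.inl (i, c)) = .inl (i', c') := by
        simp only [u]; split_ifs with h
        · rw [hc'', h]
        · rw [Perm.mul_apply, Perm.mul_apply, hc'', flipP_apply_ne (Ne.symm hl), flipP_apply_self]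
          cases c'' <;> cases c' <;> simp_all
      obtain ⟨g, hg, hgu⟩ := hR' ⟨u, hu, rfl⟩
      exact ⟨g, hg, by rw [hgu]; simp [Equiv.permCongrHom, hua]⟩
    have htrM : ∀ x y : β, ∃ g ∈ M.map ι, g x = y := by
      have hto : ∀ x, ∃ g ∈ M.map ι, g x₀ = x := by
        intro x
        by_cases hx : x = x₀
        · exact ⟨1, Subgroup.one_mem _, by simp [hx]⟩
        · obtain ⟨g, hg, hgx⟩ := htransR (ι g₀ x₀) x hmove hx
          exact ⟨ι (g * g₀), ⟨_, M.mul_mem (hRM hg) hg₀, rfl⟩, by
            rw [map_mul, Perm.mul_apply, hgx]⟩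
      intro x y
      obtain ⟨g, hg, hgx⟩ := hto x
      obtain ⟨g', hg', hgy⟩ := hto y
      exact ⟨g' * g⁻¹, Subgroup.mul_mem _ hg' (Subgroup.inv_mem _ hg), by
        rw [Perm.mul_apply, ← hgx, Perm.inv_def, Equiv.symm_apply_apply, hgy]⟩
    apply hM.1
    rcases Nat.lt_or_ge m 4 with hm3 | hm4
    · have : m = 2 := by
        rcases k with _ | _ | k
        · simp at hk; omega
        · simpa using hk
        · rw [hk, pow_succ, pow_succ] at hm3
          have : 1 ≤ 2 ^ k := Nat.one_le_two_pow
          omega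
      exact hfive M rfl this hRM htrM
    · have hD : ∀ a b : Fin m, e.permCongr (flipP a * flipP b) ∈ M.map ι := by
        intro a b
        refine Subgroup.map_mono hRM (hR' ⟨_, ⟨?_, ?_⟩, rfl⟩)
        · exact Subgroup.mul_mem _ (flipP_mem _ _) (flipP_mem _ _)
        · simp [sign_flipP]
      obtain ⟨w, hw, hw3⟩ := exists_threeCycle hm4 e (M.map ι) hD htrM
      refine htop M hRM (alternatingGroup_le_of_isPreprimitive_of_isThreeCycle_mem ?_ hw3 hw)
      haveI : MulAction.IsPretransitive (M.map ι) β :=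
        ⟨fun x y => by obtain ⟨g, hg, h⟩ := htrM x y; exact ⟨⟨g, hg⟩, h⟩⟩
      refine MulAction.IsPreprimitive.of_isTrivialBlock_base x₀ fun {B} hx₀ hB => ?_
      by_cases hsub : ∀ y ∈ B, y = x₀
      · left
        intro a ha b hb
        rw [hsub a ha, hsub b hb]
      · right
        push Not at hsub
        obtain ⟨y, hy, hy0⟩ := hsub
        refine Set.eq_univ_of_forall fun z => ?_
        by_cases hz : z = x₀
        · rwa [hz]
        · obtain ⟨g, hg, hgz⟩ := htransR y z hy0 hz
          have h := MulAction.isBlock_iff_smul_eq_of_mem.mp hB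
            (g := (⟨ι g, ⟨g, hRM hg, rfl⟩⟩ : M.map ι)) hx₀
            (by show ι g x₀ ∈ B; rw [hfix g hg]; exact hx₀)
          rw [← h]
          exact ⟨y, hy, hgz⟩

end Main

end CfsgLib.Known
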