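import Cfsg.Agent.Lib.Known.TwAutSys
import Cfsg.Agent.Lib.Known.ChevFixedPoints

/-!
# Coefficients of a normalised automorphism, and its determination by the positive root subgroups
-/

set_option autoImplicit false
set_option linter.unusedSectionVars false

namespace CfsgLib.TwAut

open CfsgLib.Chev

/-- An additive injective map that intertwines all multiplications is semilinear. -/
theorem exists_semilinear {L : Type*} [Field L] [Finite L] {f : L → L}
    (hadd : ∀ a b, f (a + b) = f a + f b) (hinj : Function.Injective f)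
    (hmul : ∀ χ : L, χ ≠ 0 → ∃ γ : L, ∀ t, f (χ * t) = γ * f t) :
    ∃ (c : Lˣ) (σ : L ≃+* L), ∀ t, f t = (c : L) * σ t := by
  have h0 : f 0 = 0 := by simpa using hadd 0 0
  have h1 : f 1 ≠ 0 := fun e => one_ne_zero (hinj (e.trans h0.symm))
  have hm : ∀ a b, f (a * b) / f 1 = f a / f 1 * (f b / f 1) := by
    intro a b
    by_cases ha : a = 0
    · simp [ha, h0]
    obtain ⟨γ, hγ⟩ := hmul a ha
    have e : γ = f a / f 1 := by
      rw [eq_div_iff h1, ← hγ, mul_one]
    rw [hγ, e, mul_div_assoc]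
  let g : L →+* L :=
    { toFun := fun t => f t / f 1
      map_one' := div_self h1
      map_mul' := hm
      map_zero' := by rw [h0, zero_div]
      map_add' := fun a b => by rw [hadd, add_div] }
  refine ⟨Units.mk0 _ h1, RingEquiv.ofBijective g
    ⟨g.injective, Finite.surjective_of_injective g.injective⟩, fun t => ?_⟩
  show f t = f 1 * (f t / f 1)
  rw [mul_div_cancel₀ _ h1]

variable {G : Type*} [Group G] [Finite G] {ι : Type*} {P : Cfsg.BNPair G} {U : Subgroup G}
  {n : ι → G} {n0 : G} (hT : Frame P U n n0)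
include hT

/-- A normalised automorphism on a parametrised root subgroup. -/
theorem Norm.exists_coef {θ : MulAut G} (h : Norm P U n n0 θ) (o : ι) {L : Type*} [Field L]
    [Finite L] {x : L → G} (hadd : ∀ a b, x (a + b) = x a * x b) (hinj : Function.Injective x)
    (hrange : ∀ g, g ∈ rootU U n0 (n o) ↔ ∃ t, x t = g)
    (hsurj : ∀ χ : L, χ ≠ 0 → ∃ h ∈ P.B ⊓ P.N, ∀ t, h * x t * h⁻¹ = x (χ * t))
    (hmul : ∀ h ∈ P.B ⊓ P.N, ∃ μ : L, ∀ t, h * x t * h⁻¹ = x (μ * t)) :
    ∃ (c : Lˣ) (σ : L ≃+* L), ∀ t, θ (x t) = x ((c : L) * σ t) := by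
  have hf : ∀ t, ∃ u, x u = θ (x t) := fun t =>
    (hrange _).1 (h.fix_rootU hT o _ ((hrange _).2 ⟨t, rfl⟩))
  choose f hf using hf
  have fadd : ∀ a b, f (a + b) = f a + f b := fun a b => hinj (by
    rw [hadd, hf, hf, hf, hadd, map_mul])
  have finj : Function.Injective f := fun a b e => hinj (θ.injective (by rw [← hf, ← hf, e]))
  obtain ⟨c, σ, hc⟩ := exists_semilinear fadd finj fun χ hχ => by
    obtain ⟨t, ht, htx⟩ := hsurj χ hχ
    obtain ⟨μ, hμ⟩ := hmul _ (h.fixH t ht)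
    refine ⟨μ, fun s => hinj ?_⟩
    rw [hf, ← htx, map_mul, map_mul, map_inv, ← hf, hμ]
  exact ⟨c, σ, fun t => by rw [← hf, hc]⟩

/-- A normalised automorphism which is trivial on a root subgroup is trivial on the opposite
one. -/
theorem Norm.fix_neg {θ : MulAut G} (h : Norm P U n n0 θ) (o : ι)
    (hid : ∀ c ∈ rootU U n0 (n o), θ c = c) {v : G} (hv : v ∈ opU U n0)
    (hP : v ∈ P.parabolic {n o}) : θ v = v := by
  rcases hT.mem_parabolic_split hP with hb | ⟨c, hc, b, hb, e⟩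
  · rw [hT.opU_inf_B hv hb, map_one]
  have h1 : v⁻¹ * θ v ∈ P.B := by
    rw [e, map_mul, map_mul, hid c hc,
      show (c * n o * b)⁻¹ * (c * θ (n o) * θ b) = b⁻¹ * ((n o)⁻¹ * θ (n o)) * θ b by group]
    exact mul_mem (mul_mem (inv_mem hb) (h.node o).1) (hT.fixB h.fixU b hb)
  exact (inv_mul_eq_one.1 (hT.opU_inf_B (mul_mem (inv_mem hv) (h.fixV v hv)) h1)).symm

/-- A normalised automorphism trivial on the positive root subgroups is trivial, if they and
their opposites generate. -/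
theorem Norm.eq_one {θ : MulAut G} (h : Norm P U n n0 θ)
    (hgen : Subgroup.closure {g | ∃ o, g ∈ rootU U n0 (n o) ∨
      (g ∈ opU U n0 ∧ g ∈ P.parabolic {n o})} = ⊤)
    (hid : ∀ o, ∀ c ∈ rootU U n0 (n o), θ c = c) : θ = 1 := by
  refine MulEquiv.ext fun g => ?_
  have hg : g ∈ Subgroup.closure {g | ∃ o, g ∈ rootU U n0 (n o) ∨
      (g ∈ opU U n0 ∧ g ∈ P.parabolic {n o})} := hgen ▸ Subgroup.mem_top g
  induction hg using Subgroup.closure_induction with
  | mem x hx =>
    obtain ⟨o, hx | ⟨hxV, hxP⟩⟩ := hx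
    · exact hid o x hx
    · exact h.fix_neg hT o (hid o) hxV hxP
  | one => exact map_one θ
  | mul a b _ _ ha hb => rw [map_mul, ha, hb]; rfl
  | inv a _ ha => rw [map_inv, ha]; rfl

/-- An automorphism commuting with no permutation of the nodes: they have root subgroups of
different orders. -/
theorem Frame.perm_of_card (hcard : Function.Injective fun o => Nat.card ↥(rootU U n0 (n o)))
    (θ : MulAut G) (_hU : Fixes θ U) (hV : Fixes θ (opU U n0)) (o o' : ι)
    (e : (P.parabolic {n o}).map θ.toMonoidHom = P.parabolic {n o'}) : o = o' :=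
  hcard (hT.card_rootU_eq hV e)

/-- An automorphism fixing the two unipotent subgroups is normalised, if the nodes cannot be
permuted. -/
theorem Frame.norm_of_perm
    (hperm : ∀ θ : MulAut G, Fixes θ U → Fixes θ (opU U n0) → ∀ o o',
      (P.parabolic {n o}).map θ.toMonoidHom = P.parabolic {n o'} → o = o')
    {θ : MulAut G} (hU : Fixes θ U) (hV : Fixes θ (opU U n0)) : Norm P U n n0 θ :=
  hT.norm_of_fix hU hV fun o => by
    obtain ⟨o', ho'⟩ := hT.exists_parabolic_image (hT.fixB hU) o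
    rwa [← hperm θ hU hV o o' ho'] at ho'

end CfsgLib.TwAut

namespace CfsgLib.TwAut

/-- Counting the outer automorphisms by representatives. -/
theorem card_out_of {G : Type*} [Group G] {A : Type*} [Group A] (Φ : A →* MulAut G)
    (hinj : ∀ a x, Φ a = MulAut.conj x → a = 1)
    (hsurj : ∀ θ : MulAut G, ∃ a x, MulAut.conj x * θ = Φ a) :
    Nat.card (Cfsg.Out G) = Nat.card A := by
  refine (Nat.card_eq_of_bijective ((QuotientGroup.mk' (Cfsg.Inn G)).comp Φ) ⟨?_, ?_⟩).symm
  · refine (injective_iff_map_eq_one _).2 fun a h => ?_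
    obtain ⟨x, hx⟩ := (QuotientGroup.eq_one_iff (Φ a)).1 h
    exact hinj a x hx.symm
  · intro y
    induction y using QuotientGroup.induction_on with
    | H θ =>
      obtain ⟨a, x, e⟩ := hsurj θ
      refine ⟨a, ?_⟩
      show QuotientGroup.mk' (Cfsg.Inn G) (Φ a) = QuotientGroup.mk' _ θ
      rw [← e, map_mul, QuotientGroup.mk'_apply _ (MulAut.conj x),
        (QuotientGroup.eq_one_iff (MulAut.conj x)).2 (by exact ⟨x, rfl⟩), one_mul]

end CfsgLib.TwAut

namespace CfsgLib.Chev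

open Cfsg.Lie

universe v

variable {D : ChevalleyDatum} {co : ℕ → ℕ → ℤ} {K : Type v} [Field K] {P : TwPar}
  {f : K →+* K} {σ : ↥(D.group K) →* GL D.Idx K} {ι : Type} {O : ι → Orb D}
  {G : Subgroup (GL D.Idx K)} (T : TwSys D co P f σ O G)
include T

theorem TwSys.mem_posO_of_rootU {o : ι} {g : GL D.Idx K} (hg : g ∈ G)
    (h : g ∈ rootClosure D K ((O o).posO co)) [Finite K] :
    (⟨g, hg⟩ : ↥G) ∈ TwAut.rootU T.uSub T.n0G (T.nG o) := (T.mem_rootU_iff o).2 h

/-- Negative orbit elements lie in the opposite unipotent subgroup and the parabolic. -/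
theorem TwSys.mem_negO [Finite K] {o : ι} {v : GL D.Idx K} (hv : v ∈ G)
    (h : v ∈ rootClosure D K ((O o).negO co)) :
    (⟨v, hv⟩ : ↥G) ∈ TwAut.opU T.uSub T.n0G ∧
      (⟨v, hv⟩ : ↥G) ∈ T.bnPair.parabolic {T.nG o} := by
  have hF := T.sig.hF
  refine ⟨TwAut.mem_opU.2 (T.mem_uSub.2 ?_), ?_⟩
  · show T.nLong⁻¹ * v * T.nLong ∈ _
    have := hF.conj_rootClosure (hF.permAct_inv T.nLong_monomial T.nLong_perm)
      (Q := (D.nroots / 2 ≤ ·)) (fun r hr => by
        by_contra hc
        set s := (sW D T.l0)⁻¹ r with hs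
        have h1 := T.l0_long (hF.negFin s) ((hF.negFin_pos _).2 (not_le.1 hc))
        rw [hF.sW_neg, hs, Equiv.Perm.coe_inv, Equiv.apply_symm_apply] at h1
        exact absurd ((hF.negFin_pos _).2 hr.1) (not_le.2 h1)) h
    rwa [inv_inv] at this
  · have h1 : T.nO o * v * (T.nO o)⁻¹ ∈ rootClosure D K ((O o).posO co) := by
      refine hF.conj_rootClosure (T.nO_perm o) (P := (O o).negO co) (fun s hs => ?_) h
      obtain ⟨h1, h2⟩ := T.wO_inO o (r := hF.negFin s) ((hF.negFin_pos s).2 hs.1)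
        (hF.inSub_neg s.isLt hs.2)
      have e : (O o).wO (hF.negFin s) = hF.negFin ((O o).wO s) := hF.sW_neg _ s
      rw [e] at h1 h2
      refine ⟨not_lt.1 fun h => absurd ((hF.negFin_pos _).2 h) (not_le.2 h1), ?_⟩
      have h3 := hF.inSub_neg (hF.neg_lt ((O o).wO s).isLt) h2
      rwa [hF.neg_neg ((O o).wO s).isLt] at h3
    set Pa := T.bnPair.parabolic {T.nG o}
    have hn : T.nG o ∈ Pa := BN.J_subset_parabolic rfl
    have hb : T.nG o * ⟨v, hv⟩ * (T.nG o)⁻¹ ∈ Pa :=
      BN.B_le_parabolic _ (T.mem_bnB.2 (hF.pos_le_borel (rootClosure_mono (fun r _ h => h.1) h1)))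
    have := Pa.mul_mem (Pa.mul_mem (Pa.inv_mem hn) hb) hn
    rwa [show (T.nG o)⁻¹ * (T.nG o * ⟨v, hv⟩ * (T.nG o)⁻¹) * T.nG o = ⟨v, hv⟩ by group] at this

/-- The root subgroups of the orbits and their opposites generate, if the orbit elements do. -/
theorem TwSys.closure_root [Finite K] {S : Set (GL D.Idx K)} (hS : G ≤ Subgroup.closure S)
    (hmem : ∀ g ∈ S, g ∈ G ∧ ∃ o, g ∈ rootClosure D K ((O o).posO co) ∨
      g ∈ rootClosure D K ((O o).negO co)) :
    Subgroup.closure {g : ↥G | ∃ o, g ∈ TwAut.rootU T.uSub T.n0G (T.nG o) ∨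
      (g ∈ TwAut.opU T.uSub T.n0G ∧ g ∈ T.bnPair.parabolic {T.nG o})} = ⊤ := by
  set S' := {g : ↥G | ∃ o, g ∈ TwAut.rootU T.uSub T.n0G (T.nG o) ∨
    (g ∈ TwAut.opU T.uSub T.n0G ∧ g ∈ T.bnPair.parabolic {T.nG o})}
  rw [eq_top_iff]
  rintro ⟨g, hg⟩ -
  have key : Subgroup.closure S ≤ (Subgroup.closure S').map G.subtype := by
    refine (Subgroup.closure_le _).2 fun y hy => ?_
    obtain ⟨hyG, o, ho | ho⟩ := hmem y hy
    · exact ⟨⟨y, hyG⟩, Subgroup.subset_closure ⟨o, Or.inl ((T.mem_rootU_iff o).2 ho)⟩, rfl⟩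
    · exact ⟨⟨y, hyG⟩, Subgroup.subset_closure ⟨o, Or.inr (T.mem_negO hyG ho)⟩, rfl⟩
  obtain ⟨y, hy, e⟩ := key (hS hg)
  rwa [show (⟨g, hg⟩ : ↥G) = y from Subtype.ext e.symm]

omit T

/-- The automorphism of an invariant group given by a field automorphism. -/
noncomputable def fieldHom (G : Subgroup (GL D.Idx K))
    (hinv : ∀ (φ : K ≃+* K), ∀ g ∈ G, FixedPoints.gMap D (φ : K →+* K) g ∈ G) :
    (K ≃+* K) →* MulAut ↥G :=
  MonoidHom.mk' (fun φ =>
    { toFun := fun g => ⟨_, hinv φ g.1 g.2⟩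
      invFun := fun g => ⟨_, hinv φ⁻¹ g.1 g.2⟩
      left_inv := fun g => Subtype.ext (Units.ext (by
        ext a b
        exact φ.symm_apply_apply _))
      right_inv := fun g => Subtype.ext (Units.ext (by
        ext a b
        exact φ.apply_symm_apply _))
      map_mul' := fun g h => Subtype.ext (map_mul (FixedPoints.gMap D (φ : K →+* K)) g.1 h.1) })
    fun φ ψ => MulEquiv.ext fun g => Subtype.ext (Units.ext (by ext a b; rfl))

/-- A field automorphism fixes both unipotent subgroups. -/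
theorem TwSys.fieldHom_fix (T : TwSys D co P f σ O G) [Finite K]
    (hinv : ∀ (φ : K ≃+* K), ∀ g ∈ G, FixedPoints.gMap D (φ : K →+* K) g ∈ G) (φ : K ≃+* K) :
    TwAut.Fixes (fieldHom G hinv φ) T.uSub ∧
      TwAut.Fixes (fieldHom G hinv φ) (TwAut.opU T.uSub T.n0G) := by
  have hF := T.sig.hF
  refine ⟨fun g hg => T.mem_uSub.2 (FixedPoints.gMap_mem hF _ (T.mem_uSub.1 hg)), fun g hg => ?_⟩
  rw [TwAut.mem_opU, T.mem_uSub] at hg ⊢
  change T.nLong⁻¹ * (g : GL D.Idx K) * T.nLong ∈ _ at hg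
  show T.nLong⁻¹ * FixedPoints.gMap D (φ : K →+* K) (g : GL D.Idx K) * T.nLong ∈ _
  have h1 := hF.conj_rootClosure T.nLong_perm (Q := (· < D.nroots / 2))
    (fun r hr => T.l0_long r hr) hg
  rw [show T.nLong * (T.nLong⁻¹ * (g : GL D.Idx K) * T.nLong) * T.nLong⁻¹ = g by group] at h1
  have h2 := hF.conj_rootClosure (hF.permAct_inv T.nLong_monomial T.nLong_perm)
    (Q := (D.nroots / 2 ≤ ·)) (fun r hr => by
      by_contra hc
      set s := (sW D T.l0)⁻¹ r with hs
      have h1 := T.l0_long (hF.negFin s) ((hF.negFin_pos _).2 (not_le.1 hc))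
      rw [hF.sW_neg, hs, Equiv.Perm.coe_inv, Equiv.apply_symm_apply] at h1
      exact absurd ((hF.negFin_pos _).2 hr) (not_le.2 h1))
    (FixedPoints.gMap_mem hF (φ : K →+* K) h1)
  rwa [inv_inv] at h2

end CfsgLib.Chev
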