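import Cfsg.Agent.Lib.Known.TwAutCoef
import Cfsg.Agent.Lib.Chev.Twist.D4Main

/-!
# The automorphisms of the groups of type ³D₄
-/

set_option autoImplicit false
set_option maxRecDepth 20000
set_option linter.unusedSectionVars false

namespace CfsgLib.Chev.TwD4

open Cfsg.Lie

universe v

theorem long_table : ∀ r : Fin chevD4.nroots,
    [0, 2, 3, 1, 0, 2, 3, 1, 0, 2, 3, 1].foldr (fun i x => chevD4.reflectRoot i x) r.val =
      chevD4.neg r.val := by
  decide +kernel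

variable {K : Type v} [Field K] [Fintype K] {q : ℕ} (C : Ctx K q)
include C

theorem Ctx.long_comm (o : Fin spec.length) :
    sW chevD4 C.sys.l0 * (O o).wO = (O o).wO * sW chevD4 C.sys.l0 := by
  have hF := DataD4.facts
  set l : List (Fin chevD4.rank) := [⟨0, by decide⟩, ⟨2, by decide⟩, ⟨3, by decide⟩, ⟨1, by decide⟩,
    ⟨0, by decide⟩, ⟨2, by decide⟩, ⟨3, by decide⟩, ⟨1, by decide⟩,
    ⟨0, by decide⟩, ⟨2, by decide⟩, ⟨3, by decide⟩, ⟨1, by decide⟩] with hl
  have hneg : ∀ r, sW chevD4 l r = hF.negFin r := fun r => Fin.ext (by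
    rw [hF.sW_val_foldr]
    exact long_table r)
  have e : sW chevD4 C.sys.l0 = sW chevD4 l :=
    hF.long_unique C.sys.l0_long fun r hr => by
      rw [hneg]
      exact not_le.1 fun h => absurd ((hF.negFin_pos r).1 h) (not_lt.2 hr)
  refine Equiv.ext fun r => ?_
  rw [e, Equiv.Perm.mul_apply, Equiv.Perm.mul_apply, hneg, hneg, Orb.wO, hF.sW_neg]

/-- The parametrisation of the short root subgroup. -/
noncomputable def Ctx.xA (t : K) : ↥(twistedD4 K q) :=
  ⟨wU chevD4 [(d4p1, t), (d4p3, t ^ q), (d4p4, t ^ (q ^ 2))],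
    C.mem_gen (Or.inr ⟨t, (d4p1, d4p3, d4p4), by simp, rfl⟩)⟩

/-- The fixed field. -/
abbrev Ctx.fld : Subfield K := C.f.eqLocusField (RingHom.id K)

theorem Ctx.mem_fld {t : K} : t ∈ C.fld ↔ t ^ q = t := by
  show C.f t = t ↔ _
  rw [C.hf]

/-- The parametrisation of the long root subgroup. -/
noncomputable def Ctx.xB (t : C.fld) : ↥(twistedD4 K q) :=
  ⟨wU chevD4 [(d4p2, (t : K))], C.mem_gen (Or.inl ⟨t, C.mem_fld.1 t.2, d4p2, by simp, rfl⟩)⟩

theorem Ctx.xA_val (t : K) : (C.xA t : GL chevD4.Idx K) =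
    xU chevD4 d4p1 t * (xU chevD4 d4p3 (C.f t) * xU chevD4 d4p4 (C.f (C.f t))) := by
  simp [Ctx.xA, wU, C.hf, ← pow_mul, sq]

theorem Ctx.xB_val (t : C.fld) : (C.xB t : GL chevD4.Idx K) = xU chevD4 d4p2 (t : K) := by
  simp [Ctx.xB, wU]

theorem Ctx.xA_add (a b : K) : C.xA (a + b) = C.xA a * C.xA b := Subtype.ext (by
  rw [Subgroup.coe_mul, C.xA_val, C.xA_val, C.xA_val, C.triple_add, map_add, map_add])

theorem Ctx.xB_add (a b : C.fld) : C.xB (a + b) = C.xB a * C.xB b := Subtype.ext (by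
  rw [Subgroup.coe_mul, C.xB_val, C.xB_val, C.xB_val, DataD4.facts.xU_add (by decide)]
  rfl)

theorem Ctx.xA_inj : Function.Injective C.xA := fun a b e => by
  have := DataD4.facts.coords_unique C.sig.hC lists.2.2.2 (ts := [a, a ^ q, a ^ (q ^ 2)])
    (ts' := [b, b ^ q, b ^ (q ^ 2)]) rfl rfl (congrArg Subtype.val e)
  simp only [List.cons.injEq] at this
  exact this.1

theorem Ctx.xB_inj : Function.Injective C.xB := fun a b e => Subtype.ext (by
  have := DataD4.facts.coords_unique C.sig.hC lists.1.2.2 (ts := [(a : K)]) (ts' := [(b : K)]) rfl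
    rfl (congrArg Subtype.val e)
  simpa using this)

/-- The long orbit. -/
abbrev oB : Fin spec.length := ⟨0, by decide⟩
/-- The short orbit. -/
abbrev oA : Fin spec.length := ⟨1, by decide⟩

theorem Ctx.rootA (g : ↥(twistedD4 K q)) :
    g ∈ TwAut.rootU C.sys.uSub C.sys.n0G (C.sys.nG oA) ↔ ∃ t, C.xA t = g := by
  rw [C.sys.mem_rootU_iff]
  constructor
  · intro h
    obtain ⟨t, ht⟩ := C.fix_p134 (C.sys.le_fix g.2) h
    exact ⟨t, Subtype.ext ht.symm⟩
  · rintro ⟨t, rfl⟩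
    exact rootClosure_mono (fun r hr h => (posO_iff_list DataD4.chk_arrays lists.2.1 r hr).2 h)
      (Facts.wU_mem_closure (L := [d4p1, d4p3, d4p4]) (ts := [t, t ^ q, t ^ (q ^ 2)])
        (by decide +kernel))

theorem Ctx.rootB (g : ↥(twistedD4 K q)) :
    g ∈ TwAut.rootU C.sys.uSub C.sys.n0G (C.sys.nG oB) ↔ ∃ t, C.xB t = g := by
  rw [C.sys.mem_rootU_iff]
  constructor
  · intro h
    obtain ⟨t, ht, hg⟩ := C.fix_p2 (C.sys.le_fix g.2) h
    exact ⟨⟨t, C.mem_fld.2 ht⟩, Subtype.ext hg.symm⟩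
  · rintro ⟨t, rfl⟩
    exact rootClosure_mono (fun r hr h => (posO_iff_list DataD4.chk_arrays lists.1.1 r hr).2 h)
      (Facts.wU_mem_closure (L := [d4p2]) (ts := [(t : K)]) (by decide +kernel))

/-- The torus element. -/
noncomputable def Ctx.tor (a : Kˣ) {b : Kˣ} (hb : b ^ (q - 1) = 1) : ↥(twistedD4 K q) :=
  ⟨_, C.vec_mem a hb⟩

theorem Ctx.tor_mem (a : Kˣ) {b : Kˣ} (hb : b ^ (q - 1) = 1) :
    C.tor a hb ∈ C.sys.bnPair.B ⊓ C.sys.bnPair.N :=
  C.sys.mem_bnH.2 (C.diag_mem a hb).1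

theorem Ctx.exists_tor {h : ↥(twistedD4 K q)} (hh : h ∈ C.sys.bnPair.B ⊓ C.sys.bnPair.N) :
    ∃ (a b : Kˣ) (hb : b ^ (q - 1) = 1), h = C.tor a hb := by
  obtain ⟨a, b, hb, e⟩ := C.exists_vec (C.sys.mem_bnH.1 hh) (C.sys.le_fix h.2)
  exact ⟨a, b, hb, Subtype.ext e⟩

theorem Ctx.tor_conj_A (a : Kˣ) {b : Kˣ} (hb : b ^ (q - 1) = 1) (t : K) :
    C.tor a hb * C.xA t * (C.tor a hb)⁻¹ = C.xA (((a * a / b : Kˣ) : K) * t) := by
  have hF := DataD4.facts
  obtain ⟨a0, a1, a2, a3, -, -, -, -, c0, c1, c2, c3, d0, d1, d2, d3⟩ := cartan_vals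
  have h4 : chevD4.rank = 4 := tables.2.1
  have hfb := C.fu_fix hb
  refine Subtype.ext ?_
  simp only [Subgroup.coe_mul, Subgroup.coe_inv, C.xA_val, Ctx.tor]
  set h := hT chevD4 (C.vec a b)
  rw [show ∀ x y z : GL chevD4.Idx K, h * (x * (y * z)) * h⁻¹ =
      h * x * h⁻¹ * ((h * y * h⁻¹) * (h * z * h⁻¹)) from fun x y z => by group,
    hF.hT_conj_xU _ (by decide), hF.hT_conj_xU _ (by decide), hF.hT_conj_xU _ (by decide)]
  have e1 : (∏ i ∈ Finset.range chevD4.rank, C.vec a b i ^ chevD4.cartan i d4p1 : Kˣ) =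
      a * a / b := by
    simp [h4, Finset.prod_range_succ, Ctx.vec, a0, a1, a2, a3, zpow_ofNat, sq, div_eq_mul_inv]
  have e3 : (∏ i ∈ Finset.range chevD4.rank, C.vec a b i ^ chevD4.cartan i d4p3 : Kˣ) =
      C.fu (a * a / b) := by
    rw [map_div, map_mul, hfb]
    simp [h4, Finset.prod_range_succ, Ctx.vec, c0, c1, c2, c3, zpow_ofNat, sq, div_eq_mul_inv, mul_comm]
  have e4 : (∏ i ∈ Finset.range chevD4.rank, C.vec a b i ^ chevD4.cartan i d4p4 : Kˣ) =
      C.fu (C.fu (a * a / b)) := by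
    rw [map_div, map_mul, hfb, map_div, map_mul, hfb]
    simp [h4, Finset.prod_range_succ, Ctx.vec, d0, d1, d2, d3, zpow_ofNat, sq, div_eq_mul_inv, mul_comm]
  rw [e1, e3, e4, map_mul, map_mul]
  rfl

/-- The character of the torus on the long root subgroup. -/
theorem Ctx.charB_mem (a : Kˣ) {b : Kˣ} (hb : b ^ (q - 1) = 1) :
    ((b * b / (a * C.fu a * C.fu (C.fu a)) : Kˣ) : K) ∈ C.fld := by
  rw [C.mem_fld, ← C.fu_val, map_div, map_mul, map_mul, map_mul, C.fu_fix hb, C.fu_three]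
  simp [mul_comm, mul_left_comm]

theorem Ctx.tor_conj_B (a : Kˣ) {b : Kˣ} (hb : b ^ (q - 1) = 1) (t : C.fld) :
    C.tor a hb * C.xB t * (C.tor a hb)⁻¹ = C.xB (⟨_, C.charB_mem a hb⟩ * t) := by
  obtain ⟨-, -, -, -, b0, b1, b2, b3, -⟩ := cartan_vals
  refine Subtype.ext ?_
  simp only [Subgroup.coe_mul, Subgroup.coe_inv, C.xB_val, Ctx.tor]
  rw [DataD4.facts.hT_conj_xU _ (by decide)]
  congr 2
  show ((∏ i ∈ Finset.range chevD4.rank, C.vec a b i ^ chevD4.cartan i d4p2 : Kˣ) : K) =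
    ((b * b / (a * C.fu a * C.fu (C.fu a)) : Kˣ) : K)
  congr 1
  simp [show chevD4.rank = 4 from tables.2.1, Finset.prod_range_succ, Ctx.vec, b0, b1, b2, b3,
    zpow_ofNat, sq, div_eq_mul_inv, mul_comm, mul_left_comm, mul_assoc]

/-- The characters of the torus on the two root subgroups are arbitrary. -/
theorem Ctx.exists_char (c d : Kˣ) (hd : C.fu d = d) :
    ∃ (a b : Kˣ) (_hb : b ^ (q - 1) = 1), a * a / b = c ∧ b * b / (a * C.fu a * C.fu (C.fu a)) = d := by
  set x := c * C.fu c * C.fu (C.fu c) with hx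
  have hxf : C.fu x = x := by
    rw [hx, map_mul, map_mul, C.fu_three]; simp [mul_comm, mul_left_comm]
  have hq1 : ∀ u : Kˣ, C.fu u = u → u ^ (q - 1) = 1 := fun u hu => by
    refine Units.ext ?_
    have h := congrArg Units.val hu
    rw [C.fu_val] at h
    rw [Units.val_pow_eq_pow_val, Units.val_one]
    refine mul_right_cancel₀ u.ne_zero ?_
    rw [← pow_succ, Nat.sub_add_cancel C.q_gt.le, h, one_mul]
  obtain ⟨k, hk⟩ : ∃ k, 2 * k = q ^ 2 + q + 2 := by
    obtain ⟨j, hj⟩ := Nat.even_mul_succ_self q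
    exact ⟨j + 1, by rw [sq]; have : q * (q + 1) = q * q + q := by ring
                     omega⟩
  have hfn : ∀ u : Kˣ, C.fu u = u ^ q := fun u => Units.ext (by
    rw [C.fu_val, Units.val_pow_eq_pow_val])
  have hc : c ^ (2 * k) = x * c := by
    rw [hk, hx, hfn, hfn, ← pow_mul, ← sq, show q ^ 2 + q + 2 = 1 + q + q ^ 2 + 1 by ring, pow_succ,
      pow_add, pow_add, pow_one]
  set s := x ^ k / (x * x) with hsdef
  have hs : s * s = 1 := by
    have e : x ^ (2 * k) = x ^ 4 := by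
      have h1 : 2 * k = (q - 1) * (q + 2) + 4 := by
        obtain ⟨j, rfl⟩ : ∃ j, q = j + 1 := ⟨q - 1, by have := C.q_gt; omega⟩
        rw [hk, Nat.add_sub_cancel]; ring
      rw [h1, pow_add, pow_mul, hq1 x hxf, one_pow, one_mul]
    rw [hsdef, div_mul_div_comm, ← pow_add, ← two_mul, e, div_eq_one]
    rw [show (4 : ℕ) = 1 + 1 + 1 + 1 from rfl, pow_add, pow_add, pow_add, pow_one, mul_assoc, mul_assoc]
  have hsf := C.fu_of_sq hs
  set a := s * c ^ k * d with ha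
  have hxd : C.fu (x * (d * d)) = x * (d * d) := by rw [map_mul, hxf, map_mul, hd]
  refine ⟨a, x * (d * d), hq1 _ hxd, ?_, ?_⟩
  · rw [div_eq_iff_eq_mul, ha]
    calc s * c ^ k * d * (s * c ^ k * d) = s * s * (c ^ k * c ^ k) * (d * d) := by ac_rfl
      _ = _ := by rw [hs, one_mul, ← pow_add, ← two_mul, hc]; ac_rfl
  · have e : a * C.fu a * C.fu (C.fu a) = s * x ^ k * (d * d * d) := by
      rw [ha]
      simp only [map_mul, map_pow, hd, hsf]
      calc s * c ^ k * d * (s * C.fu c ^ k * d) * (s * C.fu (C.fu c) ^ k * d)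
          = (s * s) * s * (c ^ k * C.fu c ^ k * C.fu (C.fu c) ^ k) * (d * d * d) := by ac_rfl
        _ = _ := by rw [hs, one_mul, hx, mul_pow, mul_pow]
    have e2 : s * x ^ k = x * x := by
      have h2 : x ^ k = s * (x * x) := (div_mul_cancel (x ^ k) (x * x)).symm
      rw [h2, ← mul_assoc, hs, one_mul]
    rw [div_eq_iff_eq_mul, e, e2]
    ac_rfl

/-- The frame. -/
theorem Ctx.frame (p : ℕ) [Fact p.Prime] [CharP K p] :
    TwAut.Frame C.sys.bnPair C.sys.uSub C.sys.nG C.sys.n0G :=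
  C.sys.frame p (fun _ hh hc => C.sep hh hc) C.long_comm

theorem Ctx.hgen : Subgroup.closure {g : ↥(twistedD4 K q) | ∃ o,
    g ∈ TwAut.rootU C.sys.uSub C.sys.n0G (C.sys.nG o) ∨
      (g ∈ TwAut.opU C.sys.uSub C.sys.n0G ∧ g ∈ C.sys.bnPair.parabolic {C.sys.nG o})} = ⊤ := by
  refine C.sys.closure_root (S := {g | ∃ w ∈ d4Words K q, g = wU chevD4 w}) C.gen_eq.le ?_
  rintro g ⟨w, hw, rfl⟩
  refine ⟨C.mem_gen hw, ?_⟩
  rcases hw with ⟨t, -, r, hr, rfl⟩ | ⟨t, rs, hrs, rfl⟩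
  · simp only [List.mem_cons, List.not_mem_nil, or_false] at hr
    refine ⟨oB, ?_⟩
    rcases hr with rfl | rfl
    · exact Or.inl (rootClosure_mono
        (fun r hr h => (posO_iff_list DataD4.chk_arrays lists.1.1 r hr).2 h)
        (Facts.wU_mem_closure (L := [d4p2]) (ts := [t]) (by decide +kernel)))
    · exact Or.inr (rootClosure_mono
        (fun r hr h => (negO_iff_list DataD4.chk_arrays lists.1.2.1 r hr).2 h)
        (Facts.wU_mem_closure (L := [d4m2]) (ts := [t]) (by decide +kernel)))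
  · simp only [List.mem_cons, List.not_mem_nil, or_false] at hrs
    refine ⟨oA, ?_⟩
    rcases hrs with rfl | rfl
    · exact Or.inl (rootClosure_mono
        (fun r hr h => (posO_iff_list DataD4.chk_arrays lists.2.1 r hr).2 h)
        (Facts.wU_mem_closure (L := [d4p1, d4p3, d4p4]) (ts := [t, t ^ q, t ^ (q ^ 2)])
          (by decide +kernel)))
    · exact Or.inr (rootClosure_mono
        (fun r hr h => (negO_iff_list DataD4.chk_arrays lists.2.2.1 r hr).2 h)
        (Facts.wU_mem_closure (L := [d4m1, d4m3, d4m4]) (ts := [t, t ^ q, t ^ (q ^ 2)])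
          (by decide +kernel)))

theorem Ctx.gMap_inv (φ : K ≃+* K) : ∀ g ∈ twistedD4 K q,
    FixedPoints.gMap chevD4 (φ : K →+* K) g ∈ twistedD4 K q := by
  have key : twistedD4 K q ≤
      (twistedD4 K q).comap (FixedPoints.gMap chevD4 (φ : K →+* K)) := by
    conv_lhs => rw [C.gen_eq]
    refine (Subgroup.closure_le _).2 ?_
    rintro g ⟨w, hw, rfl⟩
    show FixedPoints.gMap chevD4 (φ : K →+* K) (wU chevD4 w) ∈ twistedD4 K q
    have hlt := (C.gen_fixed w hw).2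
    have e : FixedPoints.gMap chevD4 (φ : K →+* K) (wU chevD4 w) =
        wU chevD4 (w.map fun p => (p.1, φ p.2)) := by
      simp only [wU, map_list_prod, List.map_map]
      refine congrArg List.prod (List.map_congr_left fun p hp => ?_)
      exact FixedPoints.gMap_xU DataD4.facts _ (hlt p hp) p.2
    rw [e]
    refine C.mem_gen ?_
    rcases hw with ⟨t, ht, r, hr, rfl⟩ | ⟨t, rs, hrs, rfl⟩
    · exact Or.inl ⟨φ t, by rw [← map_pow, ht], r, hr, rfl⟩
    · exact Or.inr ⟨φ t, rs, hrs, by simp⟩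
  exact fun g hg => key hg

/-- The field automorphisms. -/
noncomputable def Ctx.fld' : (K ≃+* K) →* MulAut ↥(twistedD4 K q) :=
  fieldHom (twistedD4 K q) C.gMap_inv

theorem Ctx.field_A (φ : K ≃+* K) (t : K) : C.fld' φ (C.xA t) = C.xA (φ t) := Subtype.ext (by
  show FixedPoints.gMap chevD4 (φ : K →+* K) (C.xA t : GL chevD4.Idx K) = _
  rw [C.xA_val, C.xA_val, map_mul, map_mul, FixedPoints.gMap_xU DataD4.facts _ (by decide),
    FixedPoints.gMap_xU DataD4.facts _ (by decide), FixedPoints.gMap_xU DataD4.facts _ (by decide)]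
  simp only [C.hf, map_pow]
  rfl)

theorem Ctx.card_inj :
    Function.Injective fun o => Nat.card ↥(TwAut.rootU C.sys.uSub C.sys.n0G (C.sys.nG o)) := by
  have hB : Nat.card ↥(TwAut.rootU C.sys.uSub C.sys.n0G (C.sys.nG oB)) = q := by
    refine Eq.trans (Nat.card_eq_of_bijective (fun t => (⟨C.xB t, (C.rootB _).2 ⟨t, rfl⟩⟩ :
      ↥(TwAut.rootU C.sys.uSub C.sys.n0G (C.sys.nG oB)))) ⟨fun a b e => C.xB_inj
        (congrArg Subtype.val e), fun g => ?_⟩).symm ?_
    · obtain ⟨t, ht⟩ := (C.rootB g.1).1 g.2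
      exact ⟨t, Subtype.ext ht⟩
    · exact (Nat.card_congr (Equiv.subtypeEquivRight fun t => C.mem_fld)).trans
        (card_field_fix C.q_gt C.card)
  have hA : Nat.card ↥(TwAut.rootU C.sys.uSub C.sys.n0G (C.sys.nG oA)) = q ^ 3 := by
    refine Eq.trans (Nat.card_eq_of_bijective (fun t => (⟨C.xA t, (C.rootA _).2 ⟨t, rfl⟩⟩ :
      ↥(TwAut.rootU C.sys.uSub C.sys.n0G (C.sys.nG oA)))) ⟨fun a b e => C.xA_inj
        (congrArg Subtype.val e), fun g => ?_⟩).symm (Nat.card_eq_fintype_card.trans C.card)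
    obtain ⟨t, ht⟩ := (C.rootA g.1).1 g.2
    exact ⟨t, Subtype.ext ht⟩
  have hlt : q < q ^ 3 := by
    have := C.q_gt
    calc q = q ^ 1 := (pow_one q).symm
      _ < q ^ 3 := Nat.pow_lt_pow_right this (by norm_num)
  refine fun o o' e => fin_cases_spec (p := fun o => ∀ o' : Fin spec.length, Nat.card ↥(TwAut.rootU C.sys.uSub C.sys.n0G (C.sys.nG o)) = Nat.card ↥(TwAut.rootU C.sys.uSub C.sys.n0G (C.sys.nG o')) → o = o') ?_ ?_ o o' e
  · refine fin_cases_spec (fun _ => rfl) fun e => ?_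
    rw [hB, hA] at e
    omega
  · refine fin_cases_spec (fun e => ?_) fun _ => rfl
    rw [hB, hA] at e
    omega

theorem Ctx.hperm (p : ℕ) [Fact p.Prime] [CharP K p] : ∀ θ : MulAut ↥(twistedD4 K q),
    TwAut.Fixes θ C.sys.uSub → TwAut.Fixes θ (TwAut.opU C.sys.uSub C.sys.n0G) → ∀ o o',
    (C.sys.bnPair.parabolic {C.sys.nG o}).map θ.toMonoidHom = C.sys.bnPair.parabolic {C.sys.nG o'} →
      o = o' :=
  fun θ hU hV o o' e => (C.frame p).perm_of_card C.card_inj θ hU hV o o' e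

theorem Ctx.field_norm (p : ℕ) [Fact p.Prime] [CharP K p] (φ : K ≃+* K) :
    TwAut.Norm C.sys.bnPair C.sys.uSub C.sys.nG C.sys.n0G (C.fld' φ) :=
  (C.frame p).norm_of_perm (C.hperm p) (C.sys.fieldHom_fix C.gMap_inv φ).1
    (C.sys.fieldHom_fix C.gMap_inv φ).2

/-- The product of two monomial elements of the short rank one subgroup. -/
theorem Ctx.nU_mul_nU (u : Kˣ) :
    nU chevD4 d4p1 (u : K) * (nU chevD4 d4p3 (C.fu u : K) * nU chevD4 d4p4 (C.fu (C.fu u) : K)) *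
      (nU chevD4 d4p1 (-1 : K) * (nU chevD4 d4p3 (-1 : K) * nU chevD4 d4p4 (-1 : K))) =
    hT chevD4 (C.vec u 1) := by
  obtain ⟨k31, k41, k43, g31, g41, g43, l31, l41, l43, m31, m41, m43, n1, -, n3, n4⟩ :=
    cross_commutes
  have hF := DataD4.facts
  have hc : ∀ {r s : ℕ}, r < chevD4.nroots → s < chevD4.nroots →
      parD4.commB chevD4 r s = true → parD4.commB chevD4 r (chevD4.neg s) = true →
      parD4.commB chevD4 (chevD4.neg r) s = true →
      parD4.commB chevD4 (chevD4.neg r) (chevD4.neg s) = true →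
      ∀ x y : K, Commute (nU chevD4 r x) (nU chevD4 s y) := by
    intro r s hr hs h1 h2 h3 h4 x y
    have A := C.sig.commute_xU (t := x) (u := y) hr hs h1
    have B := C.sig.commute_xU (t := x) (u := -y⁻¹) hr (hF.neg_lt hs) h2
    have A' := C.sig.commute_xU (t := -x⁻¹) (u := y) (hF.neg_lt hr) hs h3
    have B' := C.sig.commute_xU (t := -x⁻¹) (u := -y⁻¹) (hF.neg_lt hr) (hF.neg_lt hs) h4
    exact ((A.mul_right B).mul_right A).mul_left ((A'.mul_right B').mul_right A') |>.mul_left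
      ((A.mul_right B).mul_right A)
  have c31 := hc (r := d4p3) (s := d4p1) (by decide) (by decide) k31 (n1 ▸ g31) (n3 ▸ l31)
    (n3 ▸ n1 ▸ m31)
  have c41 := hc (r := d4p4) (s := d4p1) (by decide) (by decide) k41 (n1 ▸ g41) (n4 ▸ l41)
    (n4 ▸ n1 ▸ m41)
  have c43 := hc (r := d4p4) (s := d4p3) (by decide) (by decide) k43 (n3 ▸ g43) (n4 ▸ l43)
    (n4 ▸ n3 ▸ m43)
  obtain ⟨s0, -, s2, s3, -⟩ := torus_tables
  have h4 : chevD4.rank = 4 := tables.2.1
  rw [((c31 _ _).mul_left (c41 _ _)).mul_mul_mul_comm, (c43 _ _).mul_mul_mul_comm]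
  show hU chevD4 d4p1 (u : K) * (hU chevD4 d4p3 (C.fu u : K) * hU chevD4 d4p4 (C.fu (C.fu u) : K)) = _
  rw [← s0, ← s2, ← s3, hF.hU_single (by omega), hF.hU_single (by omega), hF.hU_single (by omega),
    ← hF.hT_mul, ← hF.hT_mul]
  refine hF.hT_congr fun i hi => ?_
  have hi4 : i < 4 := hi
  interval_cases i <;> simp [Ctx.vec]

/-- A normalised automorphism trivial on the short root subgroup is trivial. -/
theorem Ctx.eq_one_of_A (p : ℕ) [Fact p.Prime] [CharP K p] {θ : MulAut ↥(twistedD4 K q)}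
    (h : TwAut.Norm C.sys.bnPair C.sys.uSub C.sys.nG C.sys.n0G θ) {d : C.fldˣ}
    {τ : C.fld ≃+* C.fld} (hA : ∀ t, θ (C.xA t) = C.xA t)
    (hB : ∀ t, θ (C.xB t) = C.xB ((d : C.fld) * τ t)) (hd : d = 1) : θ = 1 := by
  have hFr := C.frame p
  have hidA : ∀ g ∈ TwAut.rootU C.sys.uSub C.sys.n0G (C.sys.nG oA), θ g = g := fun g hg => by
    obtain ⟨t, rfl⟩ := (C.rootA g).1 hg
    exact hA t
  -- the torus elements of the short rank one subgroup are fixed
  have htor : ∀ u : Kˣ, θ (C.tor u (one_pow (q - 1))) = C.tor u (one_pow (q - 1)) := by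
    obtain ⟨k31, k41, k43, g31, g41, g43, l31, l41, l43, -, -, -, n1, -, n3, n4⟩ := cross_commutes
    set W : Subgroup ↥(twistedD4 K q) := Subgroup.closure {g | θ g = g} with hW
    have hfix : ∀ g ∈ W, θ g = g := fun g hg => by
      induction hg using Subgroup.closure_induction with
      | mem x hx => exact hx
      | one => exact map_one θ
      | mul a b _ _ ha hb => rw [map_mul, ha, hb]
      | inv a _ ha => rw [map_inv, ha]
    have hxm : ∀ t : K, ∃ v : ↥(twistedD4 K q), v ∈ W ∧ (v : GL chevD4.Idx K) =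
        xU chevD4 d4m1 t * (xU chevD4 d4m3 (C.f t) * xU chevD4 d4m4 (C.f (C.f t))) := fun t => by
      have hm := C.mem_gen (Or.inr ⟨t, (d4m1, d4m3, d4m4), by simp, rfl⟩)
      refine ⟨⟨_, hm⟩, Subgroup.subset_closure ?_, by simp [wU, C.hf, ← pow_mul, sq]⟩
      have hmem := C.sys.mem_negO (o := oA) hm (rootClosure_mono
          (fun r hr h => (negO_iff_list DataD4.chk_arrays lists.2.2.1 r hr).2 h)
          (Facts.wU_mem_closure (L := [d4m1, d4m3, d4m4]) (ts := [t, t ^ q, t ^ (q ^ 2)])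
            (by decide +kernel)))
      exact h.fix_neg hFr oA hidA hmem.1 hmem.2
    have hn : ∀ t : Kˣ, (⟨_, C.nU_triple t⟩ : ↥(twistedD4 K q)) ∈ W := fun t => by
      obtain ⟨v, hv, ev⟩ := hxm (-((t : K))⁻¹)
      have hA' : C.xA (t : K) ∈ W := Subgroup.subset_closure (hA _)
      have := mul_mem (mul_mem hA' hv) hA'
      refine (congrArg (· ∈ W) (Subtype.ext ?_)).mp this
      simp only [Subgroup.coe_mul, C.xA_val, ev]
      rw [sandwich₃ (C.sig.commute_xU (by decide) (by decide) k31 _ _)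
        (C.sig.commute_xU (by decide) (by decide) k41 _ _)
        (C.sig.commute_xU (by decide) (by decide) k43 _ _)
        (C.sig.commute_xU (by decide) (by decide) g31 _ _)
        (C.sig.commute_xU (by decide) (by decide) g41 _ _)
        (C.sig.commute_xU (by decide) (by decide) g43 _ _)
        (C.sig.commute_xU (by decide) (by decide) l31 _ _)
        (C.sig.commute_xU (by decide) (by decide) l41 _ _)
        (C.sig.commute_xU (by decide) (by decide) l43 _ _)]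
      simp only [nU, n1, n3, n4, map_neg, map_inv₀]
      rfl
    intro u
    refine hfix _ ?_
    have := mul_mem (hn u) (hn (-1))
    refine (congrArg (· ∈ W) (Subtype.ext ?_)).mp this
    show _ = hT chevD4 (C.vec u 1)
    rw [← C.nU_mul_nU u]
    simp
  refine h.eq_one hFr C.hgen (fin_cases_spec ?_ hidA)
  intro g hg
  obtain ⟨t, rfl⟩ := (C.rootB g).1 hg
  subst hd
  rw [hB, Units.val_one, one_mul]
  congr 1
  -- the field automorphism of the long root subgroup fixes all norms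
  have key : ∀ (u : Kˣ), ∃ ν : C.fld, (ν : K) = ((u * C.fu u * C.fu (C.fu u))⁻¹ : Kˣ) ∧ τ ν = ν := by
    intro u
    refine ⟨⟨_, C.charB_mem u (b := 1) (one_pow _)⟩, by simp, ?_⟩
    have e := congrArg θ (C.tor_conj_B u (b := 1) (one_pow _) 1)
    rw [map_mul, map_mul, map_inv, htor, hB, hB, C.tor_conj_B, map_one, map_mul, map_one] at e
    simpa using (C.xB_inj e).symm
  by_cases ht : t = 0
  · simp [ht]
  obtain ⟨u, hu⟩ : ∃ u : Kˣ, ((u * C.fu u * C.fu (C.fu u))⁻¹ : Kˣ) = ((Units.mk0 (t : K)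
      (fun e => ht (Subtype.ext e))) : Kˣ) := by
    set v := Units.mk0 (t : K) (fun e => ht (Subtype.ext e)) with hv
    obtain ⟨k, hk⟩ : ∃ k, q = k + 1 := ⟨q - 1, by have := C.q_gt; omega⟩
    have hv1 : v⁻¹ ^ k = 1 := by
      refine Units.ext ?_
      have h : (t : K) ^ k * t = t := by
        rw [← pow_succ, ← hk]
        exact C.mem_fld.1 t.2
      rw [inv_pow, Units.val_inv_eq_inv_val, Units.val_pow_eq_pow_val, hv, Units.val_mk0,
        mul_eq_right₀ (fun e => ht (Subtype.ext e)) |>.1 h, inv_one, Units.val_one]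
    obtain ⟨g, hg⟩ := IsCyclic.exists_generator (α := Kˣ)
    obtain ⟨i, hi⟩ := mem_powers_iff_mem_zpowers.2 (hg v⁻¹)
    simp only at hi
    have hord : orderOf g = k * ((k + 1) ^ 2 + (k + 1) + 1) := by
      rw [orderOf_eq_card_of_forall_mem_zpowers hg, Nat.card_units, Nat.card_eq_fintype_card,
        C.card, hk]
      have e : (k + 1) ^ 3 = k * ((k + 1) ^ 2 + (k + 1) + 1) + 1 := by ring
      rw [e, Nat.add_sub_cancel]
    rw [← hi, ← pow_mul] at hv1
    have hdvd := orderOf_dvd_of_pow_eq_one hv1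
    rw [hord, mul_comm i k] at hdvd
    obtain ⟨j, hj⟩ := Nat.dvd_of_mul_dvd_mul_left (by have := C.q_gt; omega) hdvd
    refine ⟨g ^ j, ?_⟩
    have hfn : ∀ u : Kˣ, C.fu u = u ^ q := fun u => Units.ext (by
      rw [C.fu_val, Units.val_pow_eq_pow_val])
    rw [inv_eq_iff_eq_inv, ← hi, hfn, hfn, hk, ← pow_mul, ← pow_mul, ← pow_add, ← pow_add, hj]
    congr 1
    ring
  obtain ⟨ν, hν, hτ⟩ := key u
  rwa [show ν = t from Subtype.ext (by rw [hν, hu]; rfl)] at hτ

theorem Ctx.coef_A (p : ℕ) [Fact p.Prime] [CharP K p] {θ : MulAut ↥(twistedD4 K q)}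
    (h : TwAut.Norm C.sys.bnPair C.sys.uSub C.sys.nG C.sys.n0G θ) :
    ∃ (c : Kˣ) (σ : K ≃+* K), ∀ t, θ (C.xA t) = C.xA ((c : K) * σ t) := by
  refine h.exists_coef (C.frame p) oA C.xA_add C.xA_inj C.rootA (fun χ hχ => ?_) fun g hg => ?_
  · obtain ⟨a, b, hb, h1, -⟩ := C.exists_char (Units.mk0 χ hχ) 1 (map_one _)
    exact ⟨C.tor a hb, C.tor_mem a hb, fun t => by rw [C.tor_conj_A, h1, Units.val_mk0]⟩
  · obtain ⟨a, b, hb, rfl⟩ := C.exists_tor hg
    exact ⟨_, C.tor_conj_A a hb⟩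

theorem Ctx.coef_B (p : ℕ) [Fact p.Prime] [CharP K p] {θ : MulAut ↥(twistedD4 K q)}
    (h : TwAut.Norm C.sys.bnPair C.sys.uSub C.sys.nG C.sys.n0G θ) :
    ∃ (d : C.fldˣ) (τ : C.fld ≃+* C.fld), ∀ t, θ (C.xB t) = C.xB ((d : C.fld) * τ t) := by
  refine h.exists_coef (C.frame p) oB C.xB_add C.xB_inj C.rootB (fun χ hχ => ?_) fun g hg => ?_
  · have hne : (χ : K) ≠ 0 := fun e => hχ (Subtype.ext e)
    obtain ⟨a, b, hb, -, h2⟩ := C.exists_char 1 (Units.mk0 (χ : K) hne)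
      (Units.ext (by rw [C.fu_val, Units.val_mk0]; exact C.mem_fld.1 χ.2))
    refine ⟨C.tor a hb, C.tor_mem a hb, fun t => ?_⟩
    rw [C.tor_conj_B]
    congr 2
    exact Subtype.ext (by simp only [h2, Units.val_mk0])
  · obtain ⟨a, b, hb, rfl⟩ := C.exists_tor hg
    exact ⟨_, C.tor_conj_B a hb⟩

/-- The outer automorphisms are the field automorphisms. -/
theorem Ctx.card_out (p : ℕ) [Fact p.Prime] [CharP K p] :
    Nat.card (Cfsg.Out ↥(twistedD4 K q)) = Nat.card (K ≃+* K) := by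
  have hFr := C.frame p
  refine TwAut.card_out_of C.fld' (fun φ x e => ?_) fun θ => ?_
  · obtain ⟨a, b, hb, rfl⟩ := C.exists_tor
      (TwAut.Norm.mem_H hFr (e ▸ C.field_norm p φ))
    have key : ∀ t, φ t = ((a * a / b : Kˣ) : K) * t := fun t => C.xA_inj (by
      rw [← C.field_A, e, MulAut.conj_apply, C.tor_conj_A])
    have h1 := key 1
    rw [map_one, mul_one] at h1
    exact RingEquiv.ext fun t => by rw [key, ← h1, one_mul]; rfl
  obtain ⟨x, h1⟩ := hFr.exists_norm (C.hperm p) θ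
  set θ1 := MulAut.conj x * θ
  obtain ⟨c, σ, hc⟩ := C.coef_A p h1
  obtain ⟨a, b, hb, hab, -⟩ := C.exists_char c⁻¹ 1 (map_one _)
  set θ2 := C.fld' σ⁻¹ * (MulAut.conj (C.tor a hb) * θ1) with hθ2
  have h2 : TwAut.Norm C.sys.bnPair C.sys.uSub C.sys.nG C.sys.n0G θ2 :=
    TwAut.Norm.mul hFr (C.field_norm p _)
      (TwAut.Norm.mul hFr (hFr.norm_conj (C.tor_mem a hb)) h1)
  have hA : ∀ t, θ2 (C.xA t) = C.xA t := fun t => by
    rw [hθ2, MulAut.mul_apply, MulAut.mul_apply, hc, MulAut.conj_apply, C.tor_conj_A, hab,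
      C.field_A, ← mul_assoc, Units.inv_mul, one_mul]
    exact congrArg C.xA (σ.symm_apply_apply t)
  obtain ⟨d, τ, hd⟩ := C.coef_B p h2
  have hdne : (((d⁻¹ : C.fldˣ) : C.fld) : K) ≠ 0 := fun e =>
    (d⁻¹).ne_zero (Subtype.ext e)
  obtain ⟨a', b', hb', hab1, hab2⟩ := C.exists_char 1 (Units.mk0 _ hdne) (Units.ext (by
    rw [C.fu_val, Units.val_mk0]; exact C.mem_fld.1 ((d⁻¹ : C.fldˣ) : C.fld).2))
  set θ3 := MulAut.conj (C.tor a' hb') * θ2 with hθ3
  have h3 := TwAut.Norm.mul hFr (hFr.norm_conj (C.tor_mem a' hb')) h2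
  have e3 : θ3 = 1 := C.eq_one_of_A p (τ := τ) h3 (fun t => by
      rw [hθ3, MulAut.mul_apply, hA, MulAut.conj_apply, C.tor_conj_A, hab1, Units.val_one, one_mul])
    (d := 1) (fun t => by
      rw [hθ3, MulAut.mul_apply, hd, MulAut.conj_apply, C.tor_conj_B, Units.val_one, one_mul]
      refine congrArg C.xB (Subtype.ext ?_)
      show ((b' * b' / (a' * C.fu a' * C.fu (C.fu a')) : Kˣ) : K) * (((d : C.fld) : K) * (τ t : K)) = _
      rw [hab2, Units.val_mk0, ← mul_assoc]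
      have e : (((d⁻¹ : C.fldˣ) : C.fld) : K) * ((d : C.fld) : K) = 1 :=
        congrArg Subtype.val d.inv_mul
      rw [e, one_mul]) rfl
  refine ⟨σ, (C.fld' σ (C.tor a' hb')⁻¹)⁻¹ * (C.tor a hb * x), ?_⟩
  have e4 : MulAut.conj (C.tor a hb * x) * θ =
      C.fld' σ * MulAut.conj (C.tor a' hb')⁻¹ := by
    rw [map_mul, mul_assoc]
    rw [hθ3, hθ2, map_inv C.fld', mul_eq_one_iff_eq_inv', inv_mul_eq_iff_eq_mul, ← map_inv] at e3
    exact e3
  have e5 : C.fld' σ * MulAut.conj (C.tor a' hb')⁻¹ =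
      MulAut.conj (C.fld' σ (C.tor a' hb')⁻¹) * C.fld' σ := MulEquiv.ext fun g => by
    simp [MulAut.mul_apply]
  rw [map_mul (MulAut.conj), mul_assoc, e4, e5, ← mul_assoc, map_inv, inv_mul_cancel, one_mul]

end CfsgLib.Chev.TwD4
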