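import Cfsg.Agent.Lib.Known.TwAutCoef
import Cfsg.Agent.Lib.Chev.Twist.F4Main

/-!
# The automorphisms of the groups of type ²F₄
-/

set_option autoImplicit false
set_option maxRecDepth 20000
set_option linter.unusedSectionVars false

namespace CfsgLib.Chev.TwF4

open Cfsg.Lie

universe v

theorem long_table : ∀ r : Fin chevF4.nroots,
    [0, 3, 1, 2, 1, 2, 0, 3, 1, 2, 1, 2, 0, 3, 1, 2, 1, 2, 0, 3, 1, 2, 1, 2].foldr
        (fun i x => chevF4.reflectRoot i x) r.val =
      chevF4.neg r.val := by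
  decide +kernel

variable {K : Type v} [Field K] [Fintype K] {m : ℕ} (C : Ctx K m)
include C

theorem Ctx.long_comm (o : Fin spec.length) :
    sW chevF4 C.sys.l0 * (O o).wO = (O o).wO * sW chevF4 C.sys.l0 := by
  have hF := DataF4.facts
  set l : List (Fin chevF4.rank) := [⟨0, by decide⟩, ⟨3, by decide⟩, ⟨1, by decide⟩, ⟨2, by decide⟩,
    ⟨1, by decide⟩, ⟨2, by decide⟩, ⟨0, by decide⟩, ⟨3, by decide⟩, ⟨1, by decide⟩, ⟨2, by decide⟩,
    ⟨1, by decide⟩, ⟨2, by decide⟩, ⟨0, by decide⟩, ⟨3, by decide⟩, ⟨1, by decide⟩, ⟨2, by decide⟩,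
    ⟨1, by decide⟩, ⟨2, by decide⟩, ⟨0, by decide⟩, ⟨3, by decide⟩, ⟨1, by decide⟩, ⟨2, by decide⟩,
    ⟨1, by decide⟩, ⟨2, by decide⟩] with hl
  have hneg : ∀ r, sW chevF4 l r = hF.negFin r := fun r => Fin.ext (by
    rw [hF.sW_val_foldr]
    exact long_table r)
  have e : sW chevF4 C.sys.l0 = sW chevF4 l :=
    hF.long_unique C.sys.l0_long fun r hr => by
      rw [hneg]
      exact not_le.1 fun h => absurd ((hF.negFin_pos r).1 h) (not_lt.2 hr)
  refine Equiv.ext fun r => ?_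
  rw [e, Equiv.Perm.mul_apply, Equiv.Perm.mul_apply, hneg, hneg, Orb.wO, hF.sW_neg]

/-- The frame. -/
theorem Ctx.frame (p : ℕ) [Fact p.Prime] [CharP K p] :
    TwAut.Frame C.sys.bnPair C.sys.uSub C.sys.nG C.sys.n0G :=
  C.sys.frame p (fun _ hh hc => C.sep hh hc) C.long_comm

/-- The pair orbit. -/
abbrev oP : Fin spec.length := ⟨0, by decide⟩
/-- The class orbit. -/
abbrev oC : Fin spec.length := ⟨1, by decide⟩

/-- The parametrisation of the pair root subgroup. -/
noncomputable def Ctx.xP (t : K) : ↥(twistedF4 K (2 ^ m)) :=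
  ⟨wU chevF4 [(f4p1, t ^ 2 ^ m), (f4p4, t)], C.mem_gen (Or.inl ⟨t, Or.inl rfl⟩)⟩

/-- The parametrisation of the class root subgroup. -/
noncomputable def Ctx.clG (t u : K) : ↥(twistedF4 K (2 ^ m)) := ⟨C.cl t u, (C.cl_mem t u).1⟩

/-- The torus element. -/
noncomputable def Ctx.parG (p : Kˣ × Kˣ) : ↥(twistedF4 K (2 ^ m)) :=
  ⟨C.par p, (C.range_le ⟨p, rfl⟩).2⟩

theorem Ctx.xP_val (t : K) :
    (C.xP t : GL chevF4.Idx K) = xU chevF4 f4p1 (C.f t) * xU chevF4 f4p4 t := by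
  simp [Ctx.xP, wU, C.hf]

theorem Ctx.xP_add (a b : K) : C.xP (a + b) = C.xP a * C.xP b := Subtype.ext (by
  rw [Subgroup.coe_mul, C.xP_val, C.xP_val, C.xP_val,
    (C.commute_pair.1 a (C.f b)).mul_mul_mul_comm, map_add,
    DataF4.facts.xU_add (by decide), DataF4.facts.xU_add (by decide)])

theorem Ctx.xP_inj : Function.Injective C.xP := fun a b e => by
  have := DataF4.facts.coords_unique C.sig.hC coords.1 (ts := [a ^ 2 ^ m, a]) (ts' := [b ^ 2 ^ m, b])
    rfl rfl (congrArg Subtype.val e)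
  simp only [List.cons.injEq, and_true] at this
  exact this.2

theorem Ctx.cl_mul (t u s v : K) : C.cl t u * C.cl s v = C.cl (t + s) (u + v + C.f t * s) := by
  have hF := DataF4.facts
  obtain ⟨k5, ka, kb, la, lb⟩ := C.class_commute
  obtain ⟨h1, h2⟩ := C.cl_mem t u
  obtain ⟨h3, h4⟩ := C.cl_mem s v
  obtain ⟨t', w, e⟩ := C.fix_class (C.sys.le_fix (Subgroup.mul_mem _ h1 h3))
    (Subgroup.mul_mem _ h2 h4)
  rw [C.cl_eq] at e
  rw [e]
  set P := xU chevF4 f4ab (C.f t * t + u) * xU chevF4 f4aab (C.f u ^ 2) with hP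
  set Q := xU chevF4 f4ab (C.f s * s + v) * xU chevF4 f4aab (C.f v ^ 2) with hQ
  have cP : Commute P (xU chevF4 f4a (C.f s) * xU chevF4 f4b s) :=
    ((ka _ _).mul_right (kb _ _)).mul_left ((la _ _).mul_right (lb _ _))
  have e' : C.cl t u * C.cl s v =
      xU chevF4 f4a (C.f t + C.f s) * xU chevF4 f4b (t + s) *
        (xU chevF4 f4ab (C.f s * t) * xU chevF4 f4aab (C.f s ^ 2 * t) * (P * Q)) := by
    show xU chevF4 f4a (C.f t) * xU chevF4 f4b t * P *
      (xU chevF4 f4a (C.f s) * xU chevF4 f4b s * Q) = _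
    rw [cP.mul_mul_mul_comm, ← mul_assoc (xU chevF4 f4a (C.f t) * xU chevF4 f4b t),
      mul_assoc (xU chevF4 f4a (C.f t)) (xU chevF4 f4b t) (xU chevF4 f4a (C.f s)),
      C.swap_ab (c := (f4a, f4b, f4ab, f4aab)) (by simp [classes]) (C.f s) t]
    have cs : Commute (xU chevF4 f4ab (C.f s * t) * xU chevF4 f4aab (C.f s ^ 2 * t))
        (xU chevF4 f4b s) := (kb _ _).mul_left (lb _ _)
    simp only [← mul_assoc, hF.xU_add (show f4a < chevF4.nroots by decide)]
    simp only [mul_assoc]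
    rw [← mul_assoc (xU chevF4 f4ab (C.f s * t)), ← mul_assoc (_ * _) (xU chevF4 f4b s), cs.eq]
    simp only [← mul_assoc]
    rw [mul_assoc _ (xU chevF4 f4b t) (xU chevF4 f4b s), hF.xU_add (by decide)]
  rw [e', hP, hQ, (k5 _ _).symm.mul_mul_mul_comm, hF.xU_add (by decide), hF.xU_add (by decide),
    (k5 _ _).symm.mul_mul_mul_comm, hF.xU_add (by decide), hF.xU_add (by decide)] at e
  have e2 := hF.coords_unique C.sig.hC coords.2
    (ts := [C.f t + C.f s, t + s, C.f s * t + (C.f t * t + u + (C.f s * s + v)),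
      C.f s ^ 2 * t + (C.f u ^ 2 + C.f v ^ 2)])
    (ts' := [C.f t', t', C.f t' * t' + w, C.f w ^ 2]) rfl rfl
    (by simpa [wU, Ctx.cl, mul_assoc] using e)
  simp only [List.cons.injEq, and_true] at e2
  obtain ⟨-, ht, hv, -⟩ := e2
  subst ht
  congr 1
  rw [map_add] at hv
  linear_combination -hv - (C.f t * s) * C.two_eq_zero

theorem Ctx.clG_mul (t u s v : K) :
    C.clG t u * C.clG s v = C.clG (t + s) (u + v + C.f t * s) :=
  Subtype.ext (C.cl_mul t u s v)

theorem Ctx.clG_inj {t u t' u' : K} (h : C.clG t u = C.clG t' u') : t = t' ∧ u = u' := by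
  have := DataF4.facts.coords_unique C.sig.hC coords.2
    (ts := [C.f t, t, C.f t * t + u, C.f u ^ 2])
    (ts' := [C.f t', t', C.f t' * t' + u', C.f u' ^ 2]) rfl rfl
    (by simpa [wU, Ctx.cl, Ctx.clG, mul_assoc] using congrArg Subtype.val h)
  simp only [List.cons.injEq, and_true] at this
  obtain ⟨-, rfl, h, -⟩ := this
  exact ⟨rfl, add_left_cancel h⟩

theorem Ctx.clG_zero : C.clG 0 0 = 1 := Subtype.ext (by
  show C.cl 0 0 = 1
  simp [Ctx.cl, DataF4.facts.xU_zero (show f4a < chevF4.nroots by decide),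
    DataF4.facts.xU_zero (show f4b < chevF4.nroots by decide),
    DataF4.facts.xU_zero (show f4ab < chevF4.nroots by decide),
    DataF4.facts.xU_zero (show f4aab < chevF4.nroots by decide)])

theorem Ctx.clG_sq (t u : K) : C.clG t u * C.clG t u = C.clG 0 (C.f t * t) := by
  rw [C.clG_mul, C.add_self, C.add_self, zero_add]

/-- The elements of order two in a class are its second coordinate. -/
theorem Ctx.clG_sq_eq_one {t u : K} : C.clG t u * C.clG t u = 1 ↔ t = 0 := by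
  rw [C.clG_sq, ← C.clG_zero]
  constructor
  · intro h
    rcases mul_eq_zero.1 (C.clG_inj h).2 with h | h
    · exact (map_eq_zero C.f).1 h
    · exact h
  · rintro rfl
    rw [map_zero, zero_mul]

/-- The two characters of the torus. -/
noncomputable def Ctx.chiP (_C : Ctx K m) : Kˣ × Kˣ →* Kˣ :=
  MonoidHom.mk' (fun p => p.1 * p.1 / p.2) fun x y => by
    simp only [Prod.fst_mul, Prod.snd_mul, div_mul_div_comm]
    congr 1; ac_rfl

/-- The character of the torus on the class. -/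
noncomputable def Ctx.chiC : Kˣ × Kˣ →* Kˣ :=
  MonoidHom.mk' (fun p => p.2 * p.2 / (C.fu p.2 * C.fu p.2 * p.1)) fun x y => by
    simp only [Prod.fst_mul, Prod.snd_mul, map_mul, div_mul_div_comm]
    congr 1 <;> ac_rfl

theorem Ctx.chiP_def (a b : Kˣ) : C.chiP (a, b) = a * a / b := rfl

theorem Ctx.chiC_def (a b : Kˣ) : C.chiC (a, b) = b * b / (C.fu b * C.fu b * a) := rfl

theorem Ctx.parG_mul (p p' : Kˣ × Kˣ) : C.parG (p * p') = C.parG p * C.parG p' :=
  Subtype.ext (map_mul C.par p p')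

theorem Ctx.parG_conj_P (p : Kˣ × Kˣ) (t : K) :
    C.parG p * C.xP t * (C.parG p)⁻¹ = C.xP ((C.chiP p : K) * t) := by
  obtain ⟨a, b⟩ := p
  have hF := DataF4.facts
  obtain ⟨s0, -, -, s3, -⟩ := torus_tables
  refine Subtype.ext ?_
  simp only [Subgroup.coe_mul, Subgroup.coe_inv, C.xP_val]
  show hT chevF4 (four (C.fu a) (C.fu b) b a) * _ * (hT chevF4 (four (C.fu a) (C.fu b) b a))⁻¹ = _
  rw [show ∀ h x y : GL chevF4.Idx K, h * (x * y) * h⁻¹ = h * x * h⁻¹ * (h * y * h⁻¹) from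
    fun h x y => by group, hF.hT_conj_xU _ (by decide), hF.hT_conj_xU _ (by decide)]
  have e1 : ∏ j ∈ Finset.range chevF4.rank,
      four (C.fu a) (C.fu b) b a j ^ chevF4.cartan j f4p1 = C.fu (C.chiP (a, b)) := by
    rw [← s0, (char_four _ _ _ _).1, C.chiP_def, map_div, map_mul]
  have e4 : ∏ j ∈ Finset.range chevF4.rank,
      four (C.fu a) (C.fu b) b a j ^ chevF4.cartan j f4p4 = C.chiP (a, b) := by
    rw [← s3, (char_four _ _ _ _).2.2.2, C.chiP_def]
  rw [e1, e4, map_mul]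
  rfl

theorem Ctx.parG_conj_C (p : Kˣ × Kˣ) (t u : K) :
    C.parG p * C.clG t u * (C.parG p)⁻¹ =
      C.clG ((C.chiC p : K) * t) (((C.fu (C.chiC p) * C.chiC p : Kˣ) : K) * u) := by
  obtain ⟨a, b⟩ := p
  have hF := DataF4.facts
  obtain ⟨-, s1, s2, -, -, -, -, -, h4, -⟩ := torus_tables
  set X := C.chiC (a, b) with hX
  set c := four (C.fu a) (C.fu b) b a with hc
  have cb : ∏ j ∈ Finset.range chevF4.rank, c j ^ chevF4.cartan j f4b = X := by
    rw [hc, ← s2, (char_four _ _ _ _).2.2.1, hX, C.chiC_def]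
  have ca : ∏ j ∈ Finset.range chevF4.rank, c j ^ chevF4.cartan j f4a = C.fu X := by
    rw [hc, ← s1, (char_four _ _ _ _).2.1, hX, C.chiC_def, map_div, map_mul, map_mul, map_mul,
      C.fu_theta, mul_comm b]
  have cab : ∏ j ∈ Finset.range chevF4.rank, c j ^ chevF4.cartan j f4ab = C.fu X * X := by
    rw [← ca, ← cb, ← Finset.prod_mul_distrib]
    refine Finset.prod_congr rfl fun j hj => ?_
    rw [(cart_high j (by rw [Finset.mem_range] at hj; omega)).1, zpow_add]
  have caab : ∏ j ∈ Finset.range chevF4.rank, c j ^ chevF4.cartan j f4aab =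
      C.fu X * C.fu X * X := by
    rw [← ca, ← cb, ← Finset.prod_mul_distrib, ← Finset.prod_mul_distrib]
    refine Finset.prod_congr rfl fun j hj => ?_
    rw [(cart_high j (by rw [Finset.mem_range] at hj; omega)).2, zpow_add, two_mul, zpow_add]
  refine Subtype.ext ?_
  show hT chevF4 c * C.cl t u * (hT chevF4 c)⁻¹ = C.cl _ _
  simp only [Ctx.cl]
  rw [show ∀ h a b c d : GL chevF4.Idx K, h * (a * b * (c * d)) * h⁻¹ =
      h * a * h⁻¹ * (h * b * h⁻¹) * (h * c * h⁻¹ * (h * d * h⁻¹)) from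
      fun h a b c d => by group,
    hF.hT_conj_xU _ (by decide), hF.hT_conj_xU _ (by decide), hF.hT_conj_xU _ (by decide),
    hF.hT_conj_xU _ (by decide), ca, cb, cab, caab]
  congr 2
  · rw [map_mul]; rfl
  · rw [map_mul, Units.val_mul]
    congr 1
    show _ = C.f (X : K) * C.f t * ((X : K) * t) + _
    rw [show ((C.fu X : Kˣ) : K) = C.f (X : K) from rfl]
    ring
  · congr 1
    simp only [Units.val_mul, show ((C.fu X : Kˣ) : K) = C.f (X : K) from rfl, map_mul,
      mul_pow, C.theta]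
    ring

/-- The two characters determine the torus element, and are arbitrary. -/
theorem Ctx.chi_bijective :
    Function.Bijective fun p : Kˣ × Kˣ => (C.chiP p, C.chiC p) := by
  have hinj : Function.Injective fun p : Kˣ × Kˣ => (C.chiP p, C.chiC p) := by
    refine (injective_iff_map_eq_one (C.chiP.prod C.chiC)).2 ?_
    rintro ⟨a, b⟩ h
    obtain ⟨h1, h2⟩ := Prod.ext_iff.1 h
    change a * a / b = 1 at h1
    change b * b / (C.fu b * C.fu b * a) = 1 at h2
    rw [div_eq_one] at h1 h2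
    subst h1
    rw [map_mul] at h2
    have e4 : C.fu a * C.fu a * (C.fu a * C.fu a) = a * a * a := mul_right_cancel (b := a) (by
      rw [← h2]; ac_rfl)
    have e3 : C.fu a * C.fu a * C.fu a = a * a := by
      have := congrArg C.fu e4
      simp only [map_mul, C.fu_theta] at this
      exact this.symm
    have e1 : C.fu a = a := mul_left_cancel (a := a * a) (by
      calc a * a * C.fu a = C.fu a * C.fu a * C.fu a * C.fu a := by rw [e3]
        _ = C.fu a * C.fu a * (C.fu a * C.fu a) := by rw [mul_assoc (C.fu a * C.fu a)]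
        _ = a * a * a := e4)
    have ha := C.eq_one_of_fix e1
    subst ha
    simp
  exact Finite.injective_iff_bijective.1 hinj

theorem Ctx.chi_surj (c d : Kˣ) : ∃ p, C.chiP p = c ∧ C.chiC p = d := by
  obtain ⟨p, hp⟩ := C.chi_bijective.2 (c, d)
  exact ⟨p, (Prod.ext_iff.1 hp).1, (Prod.ext_iff.1 hp).2⟩

theorem Ctx.parG_mem (p : Kˣ × Kˣ) : C.parG p ∈ C.sys.bnPair.B ⊓ C.sys.bnPair.N :=
  C.sys.mem_bnH.2 (C.range_le ⟨p, rfl⟩).1

theorem Ctx.exists_parG {h : ↥(twistedF4 K (2 ^ m))}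
    (hh : h ∈ C.sys.bnPair.B ⊓ C.sys.bnPair.N) : ∃ p, h = C.parG p := by
  obtain ⟨p, e⟩ := C.mem_range_of_fix (C.sys.mem_bnH.1 hh) (C.sys.le_fix h.2)
  exact ⟨p, Subtype.ext e.symm⟩

theorem Ctx.rootP (g : ↥(twistedF4 K (2 ^ m))) :
    g ∈ TwAut.rootU C.sys.uSub C.sys.n0G (C.sys.nG oP) ↔ ∃ t, C.xP t = g := by
  rw [C.sys.mem_rootU_iff]
  constructor
  · intro h
    obtain ⟨t, ht⟩ := C.fix_pair (C.sys.le_fix g.2)
      (rootClosure_mono (fun r hr => (posO_iff_list DataF4.chk_arrays pos_lists.1 r hr).1) h)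
    exact ⟨t, Subtype.ext ht.symm⟩
  · rintro ⟨t, rfl⟩
    exact rootClosure_mono (fun r hr h => (posO_iff_list DataF4.chk_arrays pos_lists.1 r hr).2 h)
      (Facts.wU_mem_closure (L := [f4p1, f4p4]) (ts := [t ^ 2 ^ m, t]) (by decide +kernel))

theorem Ctx.rootC (g : ↥(twistedF4 K (2 ^ m))) :
    g ∈ TwAut.rootU C.sys.uSub C.sys.n0G (C.sys.nG oC) ↔ ∃ t u, C.clG t u = g := by
  rw [C.sys.mem_rootU_iff]
  constructor
  · intro h
    obtain ⟨t, u, e⟩ := C.fix_class (C.sys.le_fix g.2)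
      (rootClosure_mono (fun r hr => (posO_iff_list DataF4.chk_arrays pos_lists.2 r hr).1) h)
    exact ⟨t, u, Subtype.ext (by rw [e, C.cl_eq]; rfl)⟩
  · rintro ⟨t, u, rfl⟩
    exact rootClosure_mono (fun r hr h => (posO_iff_list DataF4.chk_arrays pos_lists.2 r hr).2 h)
      (C.cl_mem t u).2

theorem Ctx.card_inj :
    Function.Injective fun o => Nat.card ↥(TwAut.rootU C.sys.uSub C.sys.n0G (C.sys.nG o)) := by
  have hP : Nat.card ↥(TwAut.rootU C.sys.uSub C.sys.n0G (C.sys.nG oP)) = Nat.card K :=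
    (Nat.card_eq_of_bijective (fun t => (⟨C.xP t, (C.rootP _).2 ⟨t, rfl⟩⟩ :
      ↥(TwAut.rootU C.sys.uSub C.sys.n0G (C.sys.nG oP)))) ⟨fun a b e => C.xP_inj
        (congrArg Subtype.val e), fun g => by
          obtain ⟨t, ht⟩ := (C.rootP g.1).1 g.2
          exact ⟨t, Subtype.ext ht⟩⟩).symm
  have hC : Nat.card ↥(TwAut.rootU C.sys.uSub C.sys.n0G (C.sys.nG oC)) = Nat.card (K × K) := by
    set F : K × K → ↥(TwAut.rootU C.sys.uSub C.sys.n0G (C.sys.nG oC)) :=
      fun t => ⟨C.clG t.1 t.2, (C.rootC _).2 ⟨t.1, t.2, rfl⟩⟩ with hF'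
    refine (Nat.card_eq_of_bijective F ⟨?_, ?_⟩).symm
    · rintro ⟨a, a'⟩ ⟨b, b'⟩ e
      have e' : C.clG a a' = C.clG b b' := congrArg Subtype.val e
      obtain ⟨h1, h2⟩ := C.clG_inj e'
      rw [h1, h2]
    · intro g
      obtain ⟨t, u, ht⟩ := (C.rootC g.1).1 g.2
      exact ⟨(t, u), Subtype.ext ht⟩
  have hlt : Nat.card K ≠ Nat.card (K × K) := by
    rw [Nat.card_prod]
    have := Finite.one_lt_card (α := K)
    nlinarith
  refine fun o o' e => fin_cases_spec (p := fun o => ∀ o' : Fin spec.length,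
    Nat.card ↥(TwAut.rootU C.sys.uSub C.sys.n0G (C.sys.nG o)) =
      Nat.card ↥(TwAut.rootU C.sys.uSub C.sys.n0G (C.sys.nG o')) → o = o') ?_ ?_ o o' e
  · exact fin_cases_spec (fun _ => rfl) fun e => absurd (hP.symm.trans (e.trans hC)) hlt
  · exact fin_cases_spec (fun e => absurd (hP.symm.trans (e.symm.trans hC)) hlt) fun _ => rfl

theorem Ctx.hperm (p : ℕ) [Fact p.Prime] [CharP K p] : ∀ θ : MulAut ↥(twistedF4 K (2 ^ m)),
    TwAut.Fixes θ C.sys.uSub → TwAut.Fixes θ (TwAut.opU C.sys.uSub C.sys.n0G) → ∀ o o',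
    (C.sys.bnPair.parabolic {C.sys.nG o}).map θ.toMonoidHom = C.sys.bnPair.parabolic {C.sys.nG o'} →
      o = o' :=
  fun θ hU hV o o' e => (C.frame p).perm_of_card C.card_inj θ hU hV o o' e

theorem Ctx.gMap_inv (φ : K ≃+* K) : ∀ g ∈ twistedF4 K (2 ^ m),
    FixedPoints.gMap chevF4 (φ : K →+* K) g ∈ twistedF4 K (2 ^ m) := by
  have key : twistedF4 K (2 ^ m) ≤
      (twistedF4 K (2 ^ m)).comap (FixedPoints.gMap chevF4 (φ : K →+* K)) := by
    conv_lhs => rw [C.gen_eq]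
    refine (Subgroup.closure_le _).2 ?_
    rintro g ⟨w, hw, rfl⟩
    show FixedPoints.gMap chevF4 (φ : K →+* K) (wU chevF4 w) ∈ twistedF4 K (2 ^ m)
    have hlt := (C.gen_fixed w hw).2
    have e : FixedPoints.gMap chevF4 (φ : K →+* K) (wU chevF4 w) =
        wU chevF4 (w.map fun p => (p.1, φ p.2)) := by
      simp only [wU, map_list_prod, List.map_map]
      refine congrArg List.prod (List.map_congr_left fun p hp => ?_)
      exact FixedPoints.gMap_xU DataF4.facts _ (hlt p hp) p.2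
    rw [e]
    refine C.mem_gen ?_
    rcases hw with ⟨t, rfl | rfl⟩ | ⟨t, u, rfl | rfl⟩
    · exact Or.inl ⟨φ t, Or.inl (by simp [f4PairWord])⟩
    · exact Or.inl ⟨φ t, Or.inr (by simp [f4PairWord])⟩
    · exact Or.inr ⟨φ t, φ u, Or.inl (by simp [b2ClassWord])⟩
    · exact Or.inr ⟨φ t, φ u, Or.inr (by simp [b2ClassWord])⟩
  exact fun g hg => key hg

/-- The field automorphisms. -/
noncomputable def Ctx.fld' : (K ≃+* K) →* MulAut ↥(twistedF4 K (2 ^ m)) :=
  fieldHom (twistedF4 K (2 ^ m)) C.gMap_inv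

theorem Ctx.field_P (φ : K ≃+* K) (t : K) : C.fld' φ (C.xP t) = C.xP (φ t) := Subtype.ext (by
  show FixedPoints.gMap chevF4 (φ : K →+* K) (C.xP t : GL chevF4.Idx K) = _
  rw [C.xP_val, C.xP_val, map_mul, FixedPoints.gMap_xU DataF4.facts _ (by decide),
    FixedPoints.gMap_xU DataF4.facts _ (by decide)]
  simp [C.hf])

theorem Ctx.field_C (φ : K ≃+* K) (t u : K) : C.fld' φ (C.clG t u) = C.clG (φ t) (φ u) :=
  Subtype.ext (by
  show FixedPoints.gMap chevF4 (φ : K →+* K) (C.cl t u) = C.cl (φ t) (φ u)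
  have hF := DataF4.facts
  simp only [Ctx.cl, map_mul, FixedPoints.gMap_xU hF _ (show f4a < chevF4.nroots by decide),
    FixedPoints.gMap_xU hF _ (show f4b < chevF4.nroots by decide),
    FixedPoints.gMap_xU hF _ (show f4ab < chevF4.nroots by decide),
    FixedPoints.gMap_xU hF _ (show f4aab < chevF4.nroots by decide)]
  simp [C.hf])

theorem Ctx.field_norm (p : ℕ) [Fact p.Prime] [CharP K p] (φ : K ≃+* K) :
    TwAut.Norm C.sys.bnPair C.sys.uSub C.sys.nG C.sys.n0G (C.fld' φ) :=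
  (C.frame p).norm_of_perm (C.hperm p) (C.sys.fieldHom_fix C.gMap_inv φ).1
    (C.sys.fieldHom_fix C.gMap_inv φ).2

/-- The coefficient on the pair root subgroup. -/
theorem Ctx.coef_P (p : ℕ) [Fact p.Prime] [CharP K p] {θ : MulAut ↥(twistedF4 K (2 ^ m))}
    (h : TwAut.Norm C.sys.bnPair C.sys.uSub C.sys.nG C.sys.n0G θ) :
    ∃ (c : Kˣ) (σ : K ≃+* K), ∀ t, θ (C.xP t) = C.xP ((c : K) * σ t) := by
  refine h.exists_coef (C.frame p) oP C.xP_add C.xP_inj C.rootP (fun χ hχ => ?_) fun g hg => ?_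
  · obtain ⟨q, hq, -⟩ := C.chi_surj (Units.mk0 χ hχ) 1
    exact ⟨C.parG q, C.parG_mem q, fun t => by rw [C.parG_conj_P, hq, Units.val_mk0]⟩
  · obtain ⟨q, rfl⟩ := C.exists_parG hg
    exact ⟨_, C.parG_conj_P q⟩

/-- The first coordinate on the class root subgroup. -/
theorem Ctx.coef_C (p : ℕ) [Fact p.Prime] [CharP K p] {θ : MulAut ↥(twistedF4 K (2 ^ m))}
    (h : TwAut.Norm C.sys.bnPair C.sys.uSub C.sys.nG C.sys.n0G θ) :
    ∃ (d : Kˣ) (τ : K ≃+* K), ∀ t u, ∃ u', θ (C.clG t u) = C.clG ((d : K) * τ t) u' := by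
  have himg : ∀ t u : K, ∃ t' u', θ (C.clG t u) = C.clG t' u' := fun t u => by
    obtain ⟨t', u', e⟩ := (C.rootC _).1
      (h.fix_rootU (C.frame p) oC _ ((C.rootC _).2 ⟨t, u, rfl⟩))
    exact ⟨t', u', e.symm⟩
  choose f u₁ hf using fun t => himg t 0
  have hgen : ∀ t u, ∃ u', θ (C.clG t u) = C.clG (f t) u' := fun t u => by
    obtain ⟨t', u', e⟩ := himg 0 u
    have e0 : C.clG t u = C.clG t 0 * C.clG 0 u := by
      rw [C.clG_mul]; congr 1 <;> simp
    have ht' : t' = 0 := C.clG_sq_eq_one.1 (by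
      rw [← e, ← map_mul, C.clG_sq_eq_one.2 rfl, map_one])
    subst ht'
    rw [e0, map_mul, hf, e, C.clG_mul, add_zero]
    exact ⟨_, rfl⟩
  have fadd : ∀ a b, f (a + b) = f a + f b := fun a b => by
    obtain ⟨u', e⟩ := hgen (a + b) (0 + 0 + C.f a * b)
    rw [← C.clG_mul, map_mul, hf, hf, C.clG_mul] at e
    exact (C.clG_inj e).1.symm
  have finj : Function.Injective f := by
    refine fun a b e => ?_
    have h1 : f (a + b) = 0 := by rw [fadd, e, C.add_self]
    have h2 := congrArg θ (C.clG_sq (a + b) 0)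
    rw [map_mul, hf, h1, C.clG_sq_eq_one.2 rfl, eq_comm, map_eq_one_iff θ θ.injective,
      ← C.clG_sq (a + b) 0, C.clG_sq_eq_one] at h2
    linear_combination h2 - b * C.two_eq_zero
  obtain ⟨d, τ, hd⟩ := TwAut.exists_semilinear fadd finj fun χ hχ => by
    obtain ⟨q, -, hq⟩ := C.chi_surj 1 (Units.mk0 χ hχ)
    obtain ⟨q', hq'⟩ := C.exists_parG (h.fixH _ (C.parG_mem q))
    refine ⟨(C.chiC q' : K), fun t => ?_⟩
    have e := congrArg θ (C.parG_conj_C q t 0)
    rw [map_mul, map_mul, map_inv, hq', hf, C.parG_conj_C, hq, Units.val_mk0, mul_zero, hf] at e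
    exact (C.clG_inj e).1.symm
  exact ⟨d, τ, fun t u => by rw [← hd]; exact hgen t u⟩

/-- The torus elements of the pair are fixed by an automorphism trivial on the pair. -/
theorem Ctx.fix_pair_torus (p : ℕ) [Fact p.Prime] [CharP K p]
    {θ : MulAut ↥(twistedF4 K (2 ^ m))}
    (h : TwAut.Norm C.sys.bnPair C.sys.uSub C.sys.nG C.sys.n0G θ)
    (hP : ∀ t, θ (C.xP t) = C.xP t) (a : Kˣ) : θ (C.parG (a, 1)) = C.parG (a, 1) := by
  have hF := DataF4.facts
  have hidP : ∀ g ∈ TwAut.rootU C.sys.uSub C.sys.n0G (C.sys.nG oP), θ g = g := fun g hg => by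
    obtain ⟨t, rfl⟩ := (C.rootP g).1 hg
    exact hP t
  set W : Subgroup ↥(twistedF4 K (2 ^ m)) := θ.toMonoidHom.eqLocus (MonoidHom.id _) with hW
  obtain ⟨A, B, A', -⟩ := C.commute_pair
  obtain ⟨-, -, -, -, n1, n4⟩ := pair_cross
  have hn : ∀ u : K, (⟨_, C.nU_pair u⟩ : ↥(twistedF4 K (2 ^ m))) ∈ W := fun u => by
    have hm := C.mem_gen (Or.inl ⟨-u⁻¹, Or.inr rfl⟩)
    have hmem := C.sys.mem_negO (o := oP) hm (rootClosure_mono
      (fun r hr h => (negO_iff_list DataF4.chk_arrays neg_lists.1 r hr).2 h)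
      (Facts.wU_mem_closure (L := [f4m1, f4m4]) (ts := [(-u⁻¹) ^ 2 ^ m, -u⁻¹])
        (by decide +kernel)))
    have hv : (⟨_, hm⟩ : ↥(twistedF4 K (2 ^ m))) ∈ W :=
      h.fix_neg (C.frame p) oP hidP hmem.1 hmem.2
    have := mul_mem (mul_mem (show C.xP u ∈ W from hP u) hv) (show C.xP u ∈ W from hP u)
    refine (congrArg (· ∈ W) (Subtype.ext ?_)).mp this
    simp only [Subgroup.coe_mul, C.xP_val, f4PairWord, wU, List.map_cons, List.map_nil,
      List.prod_cons, List.prod_nil, mul_one, ← C.hf, map_neg, map_inv₀, nU, n1, n4]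
    exact sandwich (A _ _) (B _ _) (A' _ _)
  have := mul_mem (hn (a : K)) (hn (-1))
  refine show C.parG (a, 1) ∈ W from (congrArg (· ∈ W) (Subtype.ext ?_)).mp this
  show _ = hT chevF4 (four (C.fu a) (C.fu 1) 1 a)
  obtain ⟨s0, -, -, s3, -, -, -, -, h4, -⟩ := torus_tables
  simp only [Subgroup.coe_mul]
  rw [map_neg C.f, map_one C.f, (C.commute_pair.2.2.2 _ _).mul_mul_mul_comm, map_one C.fu]
  show hU chevF4 f4p1 (C.f (a : K)) * hU chevF4 f4p4 (a : K) = _
  rw [show C.f (a : K) = ((C.fu a : Kˣ) : K) from rfl, ← s0, ← s3, hF.hU_single (by omega),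
    hF.hU_single (by omega), ← hF.hT_mul]
  refine hF.hT_congr fun i hi => ?_
  have : i < 4 := hi
  interval_cases i <;> simp [four]

/-- A normalised automorphism trivial on the pair and on the first coordinate of the class is
trivial. -/
theorem Ctx.eq_one_of_first (p : ℕ) [Fact p.Prime] [CharP K p] (hm : 1 ≤ m)
    {θ : MulAut ↥(twistedF4 K (2 ^ m))}
    (h : TwAut.Norm C.sys.bnPair C.sys.uSub C.sys.nG C.sys.n0G θ)
    (hP : ∀ t, θ (C.xP t) = C.xP t)
    (hC : ∀ t u, ∃ u', θ (C.clG t u) = C.clG t u') : θ = 1 := by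
  have hpar : ∀ q, θ (C.parG q) = C.parG q := fun q => by
    obtain ⟨q', hq'⟩ := C.exists_parG (h.fixH _ (C.parG_mem q))
    rw [hq']
    refine congrArg C.parG (C.chi_bijective.1 (Prod.ext (Units.ext ?_) (Units.ext ?_)))
    · have e := congrArg θ (C.parG_conj_P q 1)
      rw [map_mul, map_mul, map_inv, hq', hP, C.parG_conj_P, hP, mul_one, mul_one] at e
      exact C.xP_inj e
    · obtain ⟨u', e1⟩ := hC 1 0
      obtain ⟨u'', e2⟩ := hC (C.chiC q : K) 0
      have e := congrArg θ (C.parG_conj_C q 1 0)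
      rw [map_mul, map_mul, map_inv, hq', e1, C.parG_conj_C, mul_one, mul_zero, mul_one, e2] at e
      exact (C.clG_inj e).1
  choose δ hδ using fun t => hC t 0
  choose g hg using fun u => hC 0 u
  have hconj : ∀ q t u, θ (C.parG q * C.clG t u * (C.parG q)⁻¹) =
      C.parG q * θ (C.clG t u) * (C.parG q)⁻¹ := fun q t u => by
    rw [map_mul, map_mul, map_inv, hpar]
  -- the weights
  have hwt : ∀ Y : Kˣ, ∃ q, C.fu (C.chiC q) * C.chiC q = Y := by
    have hψ : Function.Injective fun X : Kˣ => C.fu X * X := by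
      refine (injective_iff_map_eq_one (MonoidHom.mk' (fun X : Kˣ => C.fu X * X)
        fun x y => by rw [map_mul, mul_mul_mul_comm])).2 fun X e => ?_
      exact C.eq_one_of_inv (eq_inv_of_mul_eq_one_left e)
    intro Y
    obtain ⟨X, hX⟩ := Finite.surjective_of_injective hψ Y
    obtain ⟨q, -, hq⟩ := C.chi_surj 1 X
    exact ⟨q, by rw [hq]; exact hX⟩
  have glin : ∀ u, g u = u * g 1 := fun u => by
    by_cases hu : u = 0
    · subst hu
      have e := hg 0
      rw [C.clG_zero, map_one, ← C.clG_zero] at e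
      rw [zero_mul]
      exact (C.clG_inj e).2.symm
    obtain ⟨q, hq⟩ := hwt (Units.mk0 u hu)
    have e := congrArg θ (C.parG_conj_C q 0 1)
    rw [hconj, hg, C.parG_conj_C, hq, Units.val_mk0, mul_zero, mul_one, hg] at e
    exact (C.clG_inj e).2.symm
  have hg1 : g 1 = 1 := by
    have e := congrArg θ (C.clG_sq 1 0)
    rw [map_mul, hδ, C.clG_sq, map_one, mul_one, hg] at e
    exact (C.clG_inj e).2.symm
  have hid0 : ∀ u, θ (C.clG 0 u) = C.clG 0 u := fun u => by rw [hg, glin, hg1, mul_one]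
  have hsplit : ∀ t u, θ (C.clG t u) = C.clG t (δ t + u) := fun t u => by
    have e : C.clG t u = C.clG t 0 * C.clG 0 u := by rw [C.clG_mul]; congr 1 <;> simp
    rw [e, map_mul, hδ, hid0, C.clG_mul]
    congr 1 <;> simp
  have hadd : ∀ a b, δ (a + b) = δ a + δ b := fun a b => by
    have e := congrArg θ (C.clG_mul a 0 b 0)
    rw [map_mul, hδ, hδ, C.clG_mul, hsplit] at e
    linear_combination -(C.clG_inj e).2
  have hwd : ∀ t, δ t = C.f t * t * δ 1 := fun t => by
    by_cases ht : t = 0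
    · subst ht
      have e := hadd 0 0
      rw [add_zero, C.add_self] at e
      rw [e, map_zero, zero_mul, zero_mul]
    obtain ⟨q, -, hq⟩ := C.chi_surj 1 (Units.mk0 t ht)
    have e := congrArg θ (C.parG_conj_C q 1 0)
    rw [hconj, hδ, C.parG_conj_C, hq, mul_zero, mul_one, Units.val_mk0, hδ] at e
    have e2 := (C.clG_inj e).2.symm
    rw [e2, Units.val_mul, Units.val_mk0]
    rfl
  have hδ1 : δ 1 = 0 := by
    obtain ⟨a, ha⟩ := C.exists_ne_one hm
    have e := hadd (a : K) 1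
    rw [hwd ((a : K) + 1), hwd (a : K), map_add, map_one] at e
    have e2 : (C.f (a : K) + (a : K)) * δ 1 = 0 := by linear_combination e
    rcases mul_eq_zero.1 e2 with h1 | h1
    · refine absurd (C.eq_one_of_fix (Units.ext ?_)) ha
      show C.f (a : K) = (a : K)
      linear_combination h1 - (a : K) * C.two_eq_zero
    · exact h1
  refine h.eq_one (C.frame p) (C.sys.closure_root C.gen_eq.le fun x hx => C.gen_orbit hx)
    (fin_cases_spec ?_ ?_)
  · intro x hx
    obtain ⟨t, rfl⟩ := (C.rootP x).1 hx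
    exact hP t
  · intro x hx
    obtain ⟨t, u, rfl⟩ := (C.rootC x).1 hx
    rw [hsplit, hwd, hδ1, mul_zero, zero_add]

/-- The outer automorphisms are the field automorphisms. -/
theorem Ctx.card_out (p : ℕ) [Fact p.Prime] [CharP K p] (hm : 1 ≤ m) :
    Nat.card (Cfsg.Out ↥(twistedF4 K (2 ^ m))) = Nat.card (K ≃+* K) := by
  have hFr := C.frame p
  refine TwAut.card_out_of C.fld' (fun φ x e => ?_) fun θ => ?_
  · obtain ⟨q, rfl⟩ := C.exists_parG (TwAut.Norm.mem_H hFr (e ▸ C.field_norm p φ))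
    have key : ∀ t, φ t = (C.chiP q : K) * t := fun t => C.xP_inj (by
      rw [← C.field_P, e, MulAut.conj_apply, C.parG_conj_P])
    have h1 := key 1
    rw [map_one, mul_one] at h1
    exact RingEquiv.ext fun t => by rw [key, ← h1, one_mul]; rfl
  obtain ⟨x, h1⟩ := hFr.exists_norm (C.hperm p) θ
  set θ1 := MulAut.conj x * θ
  obtain ⟨c, σ, hc⟩ := C.coef_P p h1
  obtain ⟨q, hq, -⟩ := C.chi_surj c⁻¹ 1
  set θ2 := C.fld' σ⁻¹ * (MulAut.conj (C.parG q) * θ1) with hθ2
  have h2 : TwAut.Norm C.sys.bnPair C.sys.uSub C.sys.nG C.sys.n0G θ2 :=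
    TwAut.Norm.mul hFr (C.field_norm p _)
      (TwAut.Norm.mul hFr (hFr.norm_conj (C.parG_mem q)) h1)
  have hP : ∀ t, θ2 (C.xP t) = C.xP t := fun t => by
    rw [hθ2, MulAut.mul_apply, MulAut.mul_apply, hc, MulAut.conj_apply, C.parG_conj_P, hq,
      C.field_P, ← mul_assoc, Units.inv_mul, one_mul]
    exact congrArg C.xP (σ.symm_apply_apply t)
  obtain ⟨d, τ, hd⟩ := C.coef_C p h2
  have hτ : ∀ t, τ t = t := fun t => by
    by_cases ht : t = 0
    · rw [ht, map_zero]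
    set a : Kˣ := (Units.mk0 t ht)⁻¹
    have hX : C.chiC (a, 1) = Units.mk0 t ht := by simp [C.chiC_def, a]
    obtain ⟨u', e1⟩ := hd 1 0
    obtain ⟨u'', e2⟩ := hd t 0
    have e := congrArg θ2 (C.parG_conj_C (a, 1) 1 0)
    rw [map_mul, map_mul, map_inv, C.fix_pair_torus p h2 hP, e1, C.parG_conj_C, hX, mul_one,
      mul_zero, Units.val_mk0, e2, map_one, mul_one] at e
    have := (C.clG_inj e).1
    rw [mul_comm] at this
    exact (mul_left_cancel₀ d.ne_zero this).symm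
  obtain ⟨q', hq1, hq2⟩ := C.chi_surj 1 d⁻¹
  set θ3 := MulAut.conj (C.parG q') * θ2 with hθ3
  have e3 : θ3 = 1 := by
    refine C.eq_one_of_first p hm
      (TwAut.Norm.mul hFr (hFr.norm_conj (C.parG_mem q')) h2) (fun t => ?_) fun t u => ?_
    · rw [hθ3, MulAut.mul_apply, hP, MulAut.conj_apply, C.parG_conj_P, hq1, Units.val_one, one_mul]
    · obtain ⟨u', e⟩ := hd t u
      rw [hθ3, MulAut.mul_apply, e, MulAut.conj_apply, C.parG_conj_C, hq2, ← mul_assoc,
        Units.inv_mul, one_mul, hτ]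
      exact ⟨_, rfl⟩
  refine ⟨σ, (C.fld' σ (C.parG q')⁻¹)⁻¹ * (C.parG q * x), ?_⟩
  have e4 : MulAut.conj (C.parG q * x) * θ =
      C.fld' σ * MulAut.conj (C.parG q')⁻¹ := by
    rw [map_mul, mul_assoc]
    rw [hθ3, hθ2, map_inv C.fld', mul_eq_one_iff_eq_inv', inv_mul_eq_iff_eq_mul, ← map_inv] at e3
    exact e3
  have e5 : C.fld' σ * MulAut.conj (C.parG q')⁻¹ =
      MulAut.conj (C.fld' σ (C.parG q')⁻¹) * C.fld' σ := MulEquiv.ext fun g => by
    simp [MulAut.mul_apply]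
  rw [map_mul (MulAut.conj), mul_assoc, e4, e5, ← mul_assoc, map_inv, inv_mul_cancel, one_mul]

end CfsgLib.Chev.TwF4
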