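import Mathlib
import Cfsg.Prelude.Def_KGroupFacts
import Cfsg.Agent.Lib.Chev.BNPair

/-!
# Automorphisms of a finite group with a split Tits system

An automorphism becomes, after an inner one, one that fixes the two opposite unipotent subgroups
and each distinguished representative modulo the torus; such an automorphism is trivial as soon as
it is trivial on one unipotent subgroup, because it then fixes every coset of the Borel subgroup.
-/

set_option autoImplicit false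
set_option linter.unusedSectionVars false

namespace CfsgLib.TwAut

open CfsgLib.Chev

variable {G : Type*} [Group G] {ι : Type*}

/-- A split Tits system with a chosen opposite representative `n0`. -/
structure Frame (P : Cfsg.BNPair G) (U : Subgroup G) (n : ι → G) (n0 : G) : Prop where
  U_le : U ≤ P.B
  U_normal : ∀ b ∈ P.B, ∀ u ∈ U, b * u * b⁻¹ ∈ U
  B_of_norm : ∀ g, (∀ u ∈ U, g * u * g⁻¹ ∈ U) → g ∈ P.B
  B_split : ∀ b ∈ P.B, ∃ u ∈ U, ∃ h ∈ P.B ⊓ P.N, b = u * h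
  n0_mem : n0 ∈ P.N
  n0_sq : n0 * n0 ∈ P.B
  disj : ∀ u ∈ U, n0⁻¹ * u * n0 ∈ P.B → u = 1
  opp : ∀ g, (∀ u ∈ U, g * u * g⁻¹ ∈ U → u = 1) → ∃ u ∈ U, ∃ b ∈ P.B, g = u * n0 * b
  S_eq : P.S = Set.range n
  n_inj : Function.Injective n
  star : ∀ o, (n o)⁻¹ * (n0 * n o * n0⁻¹) ∈ P.B
  split : ∀ o, ∀ u ∈ U, ∃ a ∈ U, ∃ c ∈ U, u = a * c ∧ n o * a * (n o)⁻¹ ∈ U ∧
    n0⁻¹ * (n o * c * (n o)⁻¹) * n0 ∈ U
  root_ne : ∀ o, ∃ c ∈ U, c ≠ 1 ∧ n0⁻¹ * (n o * c * (n o)⁻¹) * n0 ∈ U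
  core : P.B.normalCore = ⊥
  sylow : ∀ θ : MulAut G, ∃ g, ∀ u ∈ U, g * θ u * g⁻¹ ∈ U

variable {P : Cfsg.BNPair G} {U : Subgroup G} {n : ι → G} {n0 : G}

/-- The opposite unipotent subgroup. -/
def opU (U : Subgroup G) (n0 : G) : Subgroup G := U.map (MulAut.conj n0).toMonoidHom

theorem mem_opU {x : G} : x ∈ opU U n0 ↔ n0⁻¹ * x * n0 ∈ U := by
  constructor
  · rintro ⟨u, hu, rfl⟩
    simpa [mul_assoc] using hu
  · exact fun h => ⟨_, h, by simp [mul_assoc]⟩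

/-- The root subgroup of a node. -/
def rootU (U : Subgroup G) (n0 : G) (n : G) : Subgroup G :=
  U ⊓ (opU U n0).comap (MulAut.conj n).toMonoidHom

theorem mem_rootU {m x : G} : x ∈ rootU U n0 m ↔ x ∈ U ∧ n0⁻¹ * (m * x * m⁻¹) * n0 ∈ U := by
  simp only [rootU, Subgroup.mem_inf, Subgroup.mem_comap, mem_opU, MulEquiv.coe_toMonoidHom,
    MulAut.conj_apply]

/-- The automorphism maps the subgroup into itself. -/
def Fixes (θ : MulAut G) (S : Subgroup G) : Prop := ∀ x ∈ S, θ x ∈ S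

theorem Fixes.map_eq [Finite G] {θ : MulAut G} {S : Subgroup G} (h : Fixes θ S) :
    S.map θ.toMonoidHom = S :=
  Subgroup.eq_of_le_of_card_ge (by rintro _ ⟨x, hx, rfl⟩; exact h x hx)
    (by rw [Subgroup.card_map_of_injective θ.injective])

theorem Fixes.of_apply [Finite G] {θ : MulAut G} {S : Subgroup G} (h : Fixes θ S) {x : G}
    (hx : θ x ∈ S) : x ∈ S := by
  rw [← h.map_eq] at hx
  obtain ⟨y, hy, e⟩ := hx
  rwa [← θ.injective e]

/-- An automorphism normalised with respect to the frame. -/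
structure Norm (P : Cfsg.BNPair G) (U : Subgroup G) (n : ι → G) (n0 : G) (θ : MulAut G) :
    Prop where
  fixU : Fixes θ U
  fixV : Fixes θ (opU U n0)
  fixH : Fixes θ (P.B ⊓ P.N)
  node : ∀ o, (n o)⁻¹ * θ (n o) ∈ P.B ⊓ P.N

section

variable (hT : Frame P U n n0)
include hT

theorem Frame.n_mem_N (o : ι) : n o ∈ P.N := P.subset (hT.S_eq ▸ Set.mem_range_self o)

theorem Frame.n_mem_S (o : ι) : n o ∈ P.S := hT.S_eq ▸ Set.mem_range_self o

theorem Frame.sq_mem_H : n0 * n0 ∈ P.B ⊓ P.N := ⟨hT.n0_sq, mul_mem hT.n0_mem hT.n0_mem⟩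

theorem Frame.H_normU {h u : G} (hh : h ∈ P.B ⊓ P.N) (hu : u ∈ U) : h * u * h⁻¹ ∈ U :=
  hT.U_normal h hh.1 u hu

theorem Frame.mem_opU' {x : G} : x ∈ opU U n0 ↔ n0 * x * n0⁻¹ ∈ U := by
  rw [mem_opU]
  constructor <;> intro h
  · have := hT.H_normU hT.sq_mem_H h
    rwa [show n0 * n0 * (n0⁻¹ * x * n0) * (n0 * n0)⁻¹ = n0 * x * n0⁻¹ by group] at this
  · have := hT.H_normU (inv_mem hT.sq_mem_H) h
    rwa [show (n0 * n0)⁻¹ * (n0 * x * n0⁻¹) * (n0 * n0)⁻¹⁻¹ = n0⁻¹ * x * n0 by group] at this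

theorem Frame.conj_opU {h v : G} (hh : h ∈ P.B ⊓ P.N) (hv : v ∈ opU U n0) :
    h * v * h⁻¹ ∈ opU U n0 := by
  rw [mem_opU] at hv ⊢
  have := hT.H_normU (BN.conj_mem_H' hT.n0_mem hh) hv
  rwa [show n0⁻¹ * h * n0 * (n0⁻¹ * v * n0) * (n0⁻¹ * h * n0)⁻¹ = n0⁻¹ * (h * v * h⁻¹) * n0 by
    group] at this

theorem Frame.opU_inf_B {v : G} (hv : v ∈ opU U n0) (hb : v ∈ P.B) : v = 1 := by
  have h1 := hT.mem_opU'.1 hv
  have h2 : n0⁻¹ * (n0 * v * n0⁻¹) * n0 ∈ P.B := by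
    rwa [show n0⁻¹ * (n0 * v * n0⁻¹) * n0 = v by group]
  exact conj_eq_one_iff.1 (hT.disj _ h1 h2)

theorem Frame.inter {b : G} (hb : b ∈ P.B) (hb' : n0⁻¹ * b * n0 ∈ P.B) : b ∈ P.B ⊓ P.N := by
  obtain ⟨u, hu, h, hh, rfl⟩ := hT.B_split b hb
  have h1 : n0⁻¹ * u * n0 ∈ P.B := by
    have := mul_mem hb' (inv_mem (BN.conj_mem_H' hT.n0_mem hh).1)
    rwa [show n0⁻¹ * (u * h) * n0 * (n0⁻¹ * h * n0)⁻¹ = n0⁻¹ * u * n0 by group] at this
  rwa [hT.disj u hu h1, one_mul]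

/-- The intersection of the normalisers of the two unipotent subgroups is the torus. -/
theorem Frame.mem_H_of_norm {g : G} (hU : ∀ u ∈ U, g * u * g⁻¹ ∈ U)
    (hV : ∀ v ∈ opU U n0, g * v * g⁻¹ ∈ opU U n0) : g ∈ P.B ⊓ P.N := by
  refine hT.inter (hT.B_of_norm g hU) (hT.B_of_norm _ fun u hu => ?_)
  have := mem_opU.1 (hV _ (show n0 * u * n0⁻¹ ∈ opU U n0 by
    rw [mem_opU, show n0⁻¹ * (n0 * u * n0⁻¹) * n0 = u by group]; exact hu))
  rwa [show n0⁻¹ * (g * (n0 * u * n0⁻¹) * g⁻¹) * n0 =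
    n0⁻¹ * g * n0 * u * (n0⁻¹ * g * n0)⁻¹ by group] at this

theorem Frame.not_mem_B (o : ι) : n o ∉ P.B := BN.s_not_mem_B (hT.n_mem_S o)

theorem Frame.mem_parabolic_split {o : ι} {g : G} (hg : g ∈ P.parabolic {n o}) :
    g ∈ P.B ∨ ∃ c ∈ rootU U n0 (n o), ∃ b ∈ P.B, g = c * n o * b := by
  have hJ : ({n o} : Set G) ⊆ P.S := by rintro x rfl; exact hT.n_mem_S o
  obtain ⟨l, hl, hgl⟩ := (BN.mem_parabolic_iff hJ).1 hg
  obtain ⟨b₁, hb₁, b₂, hb₂, rfl⟩ := BN.mem_cell.1 hgl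
  have hsq := BN.sq_mem_H (hT.n_mem_S o)
  have hsh : ∀ l : List G, (∀ x ∈ l, x = n o) →
      l.prod ∈ P.B ∨ (n o)⁻¹ * l.prod ∈ P.B ⊓ P.N := by
    intro l hl
    have e : l.prod = n o ^ l.length := by
      conv_lhs => rw [List.eq_replicate_of_mem hl]
      rw [List.prod_replicate]
    rw [e]
    obtain ⟨k, hk⟩ | ⟨k, hk⟩ := Nat.even_or_odd l.length
    · left
      rw [hk, ← two_mul, pow_mul, sq]
      exact pow_mem hsq.1 k
    · right
      rw [hk, pow_succ', pow_mul, sq, inv_mul_cancel_left]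
      exact pow_mem hsq k
  rcases hsh l hl with h | h
  · exact Or.inl (mul_mem (mul_mem hb₁ h) hb₂)
  refine Or.inr ?_
  obtain ⟨u, hu, t, ht, rfl⟩ := hT.B_split b₁ hb₁
  obtain ⟨a, ha, c, hc, e, hna, hnc⟩ := hT.split o u⁻¹ (inv_mem hu)
  obtain rfl : u = c⁻¹ * a⁻¹ := by rw [← mul_inv_rev, ← e, inv_inv]
  have ha' : (n o)⁻¹ * a⁻¹ * n o ∈ P.B := by
    have := hT.H_normU (inv_mem hsq) (inv_mem hna)
    rw [show (n o * n o)⁻¹ * (n o * a * (n o)⁻¹)⁻¹ * (n o * n o)⁻¹⁻¹ =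
      (n o)⁻¹ * a⁻¹ * n o by group] at this
    exact hT.U_le this
  refine ⟨c⁻¹, mem_rootU.2 ⟨inv_mem hc, ?_⟩,
    (n o)⁻¹ * a⁻¹ * n o * ((n o)⁻¹ * t * n o) * ((n o)⁻¹ * l.prod) * b₂,
    mul_mem (mul_mem (mul_mem ha' (BN.conj_mem_H' (hT.n_mem_N o) ht).1) h.1) hb₂, by group⟩
  rw [show n0⁻¹ * (n o * c⁻¹ * (n o)⁻¹) * n0 = (n0⁻¹ * (n o * c * (n o)⁻¹) * n0)⁻¹ by group]
  exact inv_mem hnc

theorem Frame.rootU_le_parabolic (o : ι) {c : G} (hc : c ∈ rootU U n0 (n o)) :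
    n o * c * (n o)⁻¹ ∈ opU U n0 ⊓ P.parabolic {n o} := by
  have hm : n o ∈ P.parabolic {n o} := BN.J_subset_parabolic rfl
  exact ⟨mem_opU.2 (mem_rootU.1 hc).2,
    (P.parabolic {n o}).mul_mem ((P.parabolic {n o}).mul_mem hm (BN.B_le_parabolic _ (hT.U_le (mem_rootU.1 hc).1))) ((P.parabolic {n o}).inv_mem hm)⟩

/-- A parabolic element lies in `n B` or in `(V ∩ P) B`. -/
theorem Frame.parabolic_cases {o : ι} {g : G} (hg : g ∈ P.parabolic {n o}) :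
    (n o)⁻¹ * g ∈ P.B ∨
      ∃ c ∈ rootU U n0 (n o), (n o * c * (n o)⁻¹)⁻¹ * g ∈ P.B := by
  have hm : n o ∈ P.parabolic {n o} := BN.J_subset_parabolic rfl
  rcases hT.mem_parabolic_split (mul_mem (inv_mem hm) hg) with h | ⟨c, hc, b, hb, e⟩
  · exact Or.inl h
  · refine Or.inr ⟨c, hc, ?_⟩
    rw [show (n o * c * (n o)⁻¹)⁻¹ * g = n o * c⁻¹ * ((n o)⁻¹ * g) by group, e]
    rw [show n o * c⁻¹ * (c * n o * b) = n o * n o * b by group]
    exact mul_mem (BN.sq_mem_H (hT.n_mem_S o)).1 hb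

theorem Frame.conj_mem_rootU {o : ι} {v : G} (hv : v ∈ opU U n0)
    (hP : v ∈ P.parabolic {n o}) : (n o)⁻¹ * v * n o ∈ rootU U n0 (n o) := by
  rcases hT.parabolic_cases hP with h | ⟨c, hc, h⟩
  · exfalso
    set b := (n o)⁻¹ * v
    -- `n0⁻¹ v` lies in the cells of `n0⁻¹` and of `n0⁻¹ * n o`
    have h1 : n0⁻¹ * v ∈ BN.cell P n0⁻¹ :=
      BN.mem_cell.2 ⟨n0⁻¹ * v * n0, hT.U_le (mem_opU.1 hv), 1, one_mem _, by group⟩
    have h2 : n0⁻¹ * v ∈ BN.cell P (n0⁻¹ * n o) :=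
      BN.mem_cell.2 ⟨1, one_mem _, b, h, by simp only [b]; group⟩
    have h3 := BN.eqv_of_mem_cells (inv_mem hT.n0_mem)
      (mul_mem (inv_mem hT.n0_mem) (hT.n_mem_N o)) h1 h2
    refine hT.not_mem_B o ?_
    have h4 := h3.1
    rwa [show n0⁻¹⁻¹ * (n0⁻¹ * n o) = n o by group] at h4
  · have e := hT.opU_inf_B (mul_mem (inv_mem (hT.rootU_le_parabolic o hc).1) hv) h
    rw [inv_mul_eq_one] at e
    rwa [← e, show (n o)⁻¹ * (n o * c * (n o)⁻¹) * n o = c by group]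

/-- The unique fixed point of the negative root subgroup in the rank one coset space. -/
theorem Frame.eq_of_fixed {o : ι} {g : G} (hg : g ∈ P.parabolic {n o})
    (h : ∀ v ∈ opU U n0, v ∈ P.parabolic {n o} → g⁻¹ * v * g ∈ P.B) : (n o)⁻¹ * g ∈ P.B := by
  rcases hT.parabolic_cases hg with h1 | ⟨c, hc, h1⟩
  · exact h1
  exfalso
  obtain ⟨d, hd, hd1, hd'⟩ := hT.root_ne o
  have hdm := hT.rootU_le_parabolic o (mem_rootU.2 ⟨hd, hd'⟩)
  have hcm := hT.rootU_le_parabolic o hc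
  set w := n o * d * (n o)⁻¹ with hw
  set v₁ := n o * c * (n o)⁻¹
  set b := v₁⁻¹ * g
  have h2 := h (v₁ * w * v₁⁻¹) (mul_mem (mul_mem hcm.1 hdm.1) (inv_mem hcm.1))
    (mul_mem (mul_mem hcm.2 hdm.2) (inv_mem hcm.2))
  rw [show g = v₁ * b from (mul_inv_cancel_left _ _).symm,
    show (v₁ * b)⁻¹ * (v₁ * w * v₁⁻¹) * (v₁ * b) = b⁻¹ * w * b by group] at h2
  have h3 : w ∈ P.B := by
    have := mul_mem (mul_mem h1 h2) (inv_mem h1)
    rwa [show b * (b⁻¹ * w * b) * b⁻¹ = w by group] at this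
  exact hd1 (conj_eq_one_iff.1 (hT.opU_inf_B hdm.1 h3))

variable [Finite G]

theorem Frame.fixB {θ : MulAut G} (hU : Fixes θ U) : Fixes θ P.B := by
  intro b hb
  refine hT.B_of_norm _ fun u hu => ?_
  rw [← hU.map_eq] at hu
  obtain ⟨v, hv, rfl⟩ := hu
  rw [MulEquiv.coe_toMonoidHom, ← map_inv, ← map_mul, ← map_mul]
  exact hU _ (hT.U_normal b hb v hv)

/-- Moving both unipotent subgroups back. -/
theorem Frame.exists_fix (θ : MulAut G) :
    ∃ x, Fixes (MulAut.conj x * θ) U ∧ Fixes (MulAut.conj x * θ) (opU U n0) := by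
  obtain ⟨g, hg⟩ := hT.sylow θ
  set ψ := MulAut.conj g * θ
  have hU : Fixes ψ U := hg
  obtain ⟨u, hu, b, hb, e⟩ := hT.opp (ψ n0) (by
    intro u hu h
    obtain ⟨v, hv, rfl⟩ : ∃ v ∈ U, ψ v = u := by
      rw [← hU.map_eq] at hu; obtain ⟨v, hv, e⟩ := hu; exact ⟨v, hv, e⟩
    rw [← map_inv, ← map_mul, ← map_mul] at h
    have h1 : n0 * v * n0⁻¹ ∈ U := hU.of_apply h
    have h2 : n0 * v * n0⁻¹ ∈ opU U n0 := by
      rw [mem_opU, show n0⁻¹ * (n0 * v * n0⁻¹) * n0 = v by group]; exact hv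
    have h3 := hT.opU_inf_B h2 (hT.U_le h1)
    rw [conj_eq_one_iff.1 h3, map_one])
  refine ⟨u⁻¹ * g, fun x hx => ?_, fun x hx => ?_⟩
  · rw [map_mul, mul_assoc]
    show u⁻¹ * ψ x * u⁻¹⁻¹ ∈ U
    exact mul_mem (mul_mem (inv_mem hu) (hU x hx)) (inv_mem (inv_mem hu))
  · rw [map_mul, mul_assoc]
    show u⁻¹ * ψ x * u⁻¹⁻¹ ∈ opU U n0
    obtain ⟨v, hv, rfl⟩ := hx
    rw [mem_opU, MulEquiv.coe_toMonoidHom, MulAut.conj_apply, map_mul, map_mul, map_inv, e]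
    have := hT.U_normal b hb _ (hU v hv)
    rwa [show n0⁻¹ * (u⁻¹ * (u * n0 * b * ψ v * (u * n0 * b)⁻¹) * u⁻¹⁻¹) * n0 =
      b * ψ v * b⁻¹ by group]

theorem Frame.fixH {θ : MulAut G} (hU : Fixes θ U) (hV : Fixes θ (opU U n0)) :
    Fixes θ (P.B ⊓ P.N) := by
  intro h hh
  refine hT.mem_H_of_norm (fun u hu => ?_) fun v hv => ?_
  · rw [← hU.map_eq] at hu
    obtain ⟨w, hw, rfl⟩ := hu
    rw [MulEquiv.coe_toMonoidHom, ← map_inv, ← map_mul, ← map_mul]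
    exact hU _ (hT.H_normU hh hw)
  · rw [← hV.map_eq] at hv
    obtain ⟨w, hw, rfl⟩ := hv
    rw [MulEquiv.coe_toMonoidHom, ← map_inv, ← map_mul, ← map_mul]
    exact hV _ (hT.conj_opU hh hw)

theorem Frame.app_n0 {θ : MulAut G} (hU : Fixes θ U) (hV : Fixes θ (opU U n0)) :
    n0⁻¹ * θ n0 ∈ P.B ⊓ P.N := by
  refine hT.mem_H_of_norm (fun u hu => ?_) fun v hv => ?_
  · rw [← hU.map_eq] at hu
    obtain ⟨w, hw, rfl⟩ := hu
    rw [MulEquiv.coe_toMonoidHom]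
    have h1 : θ (n0 * w * n0⁻¹) ∈ opU U n0 :=
      hV _ (by rw [mem_opU, show n0⁻¹ * (n0 * w * n0⁻¹) * n0 = w by group]; exact hw)
    rw [map_mul, map_mul, map_inv, mem_opU] at h1
    rwa [show n0⁻¹ * θ n0 * θ w * (n0⁻¹ * θ n0)⁻¹ = n0⁻¹ * (θ n0 * θ w * (θ n0)⁻¹) * n0 by group]
  · rw [← hV.map_eq] at hv
    obtain ⟨w, hw, rfl⟩ := hv
    rw [MulEquiv.coe_toMonoidHom, mem_opU]
    have h1 : θ (n0 * w * n0⁻¹) ∈ U := hU _ (hT.mem_opU'.1 hw)
    rw [map_mul, map_mul, map_inv] at h1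
    have h2 := hT.H_normU (inv_mem hT.sq_mem_H) h1
    rwa [show (n0 * n0)⁻¹ * (θ n0 * θ w * (θ n0)⁻¹) * (n0 * n0)⁻¹⁻¹ =
      n0⁻¹ * (n0⁻¹ * θ n0 * θ w * (n0⁻¹ * θ n0)⁻¹) * n0 by simp [mul_assoc]] at h2

/-- An automorphism fixing `B` permutes the minimal groups above it. -/
theorem Frame.exists_parabolic_image {θ : MulAut G} (hB : Fixes θ P.B) (o : ι) :
    ∃ o', (P.parabolic {n o}).map θ.toMonoidHom = P.parabolic {n o'} := by
  have hne : ∀ i, P.parabolic {n i} ≠ P.B := fun i e => hT.not_mem_B i (by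
    rw [← e]; exact BN.J_subset_parabolic rfl)
  have key : ∀ M : Subgroup G, P.B ≤ M → M ≠ P.B → ∃ j, P.parabolic {n j} ≤ M := by
    intro M hM hMne
    by_contra h
    push Not at h
    refine hMne (le_antisymm ?_ hM)
    rw [BN.eq_parabolic hM]
    refine sup_le le_rfl ((Subgroup.closure_le _).2 ?_)
    rintro s ⟨hs, hsM⟩
    rw [hT.S_eq] at hs
    obtain ⟨j, rfl⟩ := hs
    refine absurd (sup_le hM ((Subgroup.closure_le _).2 ?_)) (h j)
    rintro x rfl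
    exact hsM
  have hBmap := hB.map_eq
  have hcomap : P.B.comap θ.toMonoidHom = P.B := by
    conv_lhs => rw [← hBmap]
    exact Subgroup.comap_map_eq_self_of_injective θ.injective _
  obtain ⟨j, hj⟩ := key ((P.parabolic {n o}).map θ.toMonoidHom)
    (hBmap ▸ Subgroup.map_mono (BN.B_le_parabolic _)) fun e => hne o
      (Subgroup.map_injective (f := θ.toMonoidHom) θ.injective (e.trans hBmap.symm))
  refine ⟨j, le_antisymm ?_ hj⟩
  have h2 : (P.parabolic {n j}).comap θ.toMonoidHom ≤ P.parabolic {n o} := by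
    have := Subgroup.comap_mono (f := θ.toMonoidHom) hj
    rwa [Subgroup.comap_map_eq_self_of_injective θ.injective] at this
  obtain ⟨k, hk⟩ := key _ (hcomap ▸ Subgroup.comap_mono (BN.B_le_parabolic {n j})) fun e => hne j (by
    have := congrArg (Subgroup.map θ.toMonoidHom) e
    rwa [Subgroup.map_comap_eq_self_of_surjective θ.surjective, hBmap] at this)
  have hko : n k ∈ ({n o} : Set G) :=
    (BN.mem_parabolic_S (by rintro x rfl; exact hT.n_mem_S o) (hT.n_mem_S k)).1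
      (h2 (hk (BN.J_subset_parabolic rfl)))
  obtain rfl := hT.n_inj hko
  exact Subgroup.map_le_iff_le_comap.2 hk

theorem Frame.rootU_conj (o : ι) :
    opU U n0 ⊓ P.parabolic {n o} = (rootU U n0 (n o)).map (MulAut.conj (n o)).toMonoidHom := by
  ext x
  constructor
  · rintro ⟨h1, h2⟩
    exact ⟨_, hT.conj_mem_rootU h1 h2, by simp [mul_assoc]⟩
  · rintro ⟨c, hc, rfl⟩
    exact hT.rootU_le_parabolic o hc

/-- Nodes exchanged by an automorphism have root subgroups of the same order. -/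
theorem Frame.card_rootU_eq {θ : MulAut G} (hV : Fixes θ (opU U n0)) {o o' : ι}
    (h : (P.parabolic {n o}).map θ.toMonoidHom = P.parabolic {n o'}) :
    Nat.card ↥(rootU U n0 (n o)) = Nat.card ↥(rootU U n0 (n o')) := by
  have e := Subgroup.map_inf (opU U n0) (P.parabolic {n o}) θ.toMonoidHom θ.injective
  rw [hV.map_eq, h, hT.rootU_conj, hT.rootU_conj] at e
  have := congrArg (fun S : Subgroup G => Nat.card ↥S) e
  rw [Subgroup.card_map_of_injective θ.injective,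
    Subgroup.card_map_of_injective (MulAut.conj (n o)).injective,
    Subgroup.card_map_of_injective (MulAut.conj (n o')).injective] at this
  exact this

/-- An automorphism fixing the unipotent subgroups and the parabolic subgroups is normalised. -/
theorem Frame.norm_of_fix {θ : MulAut G} (hU : Fixes θ U) (hV : Fixes θ (opU U n0))
    (hP : ∀ o, (P.parabolic {n o}).map θ.toMonoidHom = P.parabolic {n o}) :
    Norm P U n n0 θ := by
  have hH := hT.fixH hU hV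
  refine ⟨hU, hV, hH, fun o => ?_⟩
  set m := n o with hm
  have hmN := hT.n_mem_N o
  have h1 : m⁻¹ * θ m ∈ P.B := by
    refine hT.eq_of_fixed ?_ fun v hv hvP => ?_
    · rw [← hP o]; exact ⟨m, BN.J_subset_parabolic rfl, rfl⟩
    · rw [← hV.map_eq] at hv
      obtain ⟨w, hw, rfl⟩ := hv
      rw [← hP o] at hvP
      obtain ⟨w', hw', e⟩ := hvP
      obtain rfl := θ.injective e
      rw [MulEquiv.coe_toMonoidHom, ← map_inv, ← map_mul, ← map_mul]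
      exact hT.fixB hU _ (hT.U_le (mem_rootU.1 (hT.conj_mem_rootU hw hw')).1)
  refine hT.inter h1 ?_
  set h := m⁻¹ * (n0 * m * n0⁻¹) with hdef
  have hh : h ∈ P.B ⊓ P.N :=
    ⟨hT.star o, P.N.mul_mem (P.N.inv_mem hmN) (P.N.mul_mem (P.N.mul_mem hT.n0_mem hmN) (P.N.inv_mem hT.n0_mem))⟩
  have h0 := hT.app_n0 hU hV
  set k := n0⁻¹ * θ n0 with hk
  set b := m⁻¹ * θ m with hb
  have e : θ (n0 * m * n0⁻¹) = θ m * θ h := by
    rw [← map_mul]; congr 1; rw [hdef]; group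
  rw [map_mul, map_mul, map_inv] at e
  have hn0 : θ n0 = n0 * k := (mul_inv_cancel_left _ _).symm
  have hm' : θ m = m * b := (mul_inv_cancel_left _ _).symm
  -- `n0 m b' n0⁻¹ = m b (θ h)` with `b' ∈ B`
  have hb' : m⁻¹ * k * m * b * k⁻¹ ∈ P.B :=
    mul_mem (mul_mem (BN.conj_mem_H' hmN h0).1 h1) (inv_mem h0.1)
  have e2 : n0⁻¹ * b * n0 = n0⁻¹ * h * n0 * (m⁻¹ * k * m * b * k⁻¹) *
      (n0⁻¹ * θ h * n0)⁻¹ := by
    have e' : b = h * n0 * (m⁻¹ * k * m * b * k⁻¹) * n0⁻¹ * (θ h)⁻¹ := by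
      rw [eq_mul_inv_iff_mul_eq]
      rw [hn0, hm'] at e
      calc b * θ h = m⁻¹ * (m * b * θ h) := by group
        _ = _ := by rw [← e, hdef]; group
    conv_lhs => rw [e']
    group
  rw [e2]
  exact mul_mem (mul_mem (BN.conj_mem_H' hT.n0_mem hh).1 hb')
    (inv_mem (BN.conj_mem_H' hT.n0_mem (hH h hh)).1)

/-- Every automorphism is inner times a normalised one, if the nodes cannot be permuted. -/
theorem Frame.exists_norm
    (hperm : ∀ θ : MulAut G, Fixes θ U → Fixes θ (opU U n0) → ∀ o o',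
      (P.parabolic {n o}).map θ.toMonoidHom = P.parabolic {n o'} → o = o')
    (θ : MulAut G) : ∃ x, Norm P U n n0 (MulAut.conj x * θ) := by
  obtain ⟨x, hU, hV⟩ := hT.exists_fix θ
  refine ⟨x, hT.norm_of_fix hU hV fun o => ?_⟩
  obtain ⟨o', ho'⟩ := hT.exists_parabolic_image (hT.fixB hU) o
  rwa [← hperm _ hU hV o o' ho'] at ho'

omit [Finite G] in
theorem Norm.mul {θ ψ : MulAut G} (h : Norm P U n n0 θ) (h' : Norm P U n n0 ψ) :
    Norm P U n n0 (θ * ψ) := by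
  refine ⟨fun x hx => h.fixU _ (h'.fixU x hx), fun x hx => h.fixV _ (h'.fixV x hx),
    fun x hx => h.fixH _ (h'.fixH x hx), fun o => ?_⟩
  have := mul_mem (h.node o) (h.fixH _ (h'.node o))
  rwa [map_mul, map_inv, show (n o)⁻¹ * θ (n o) * ((θ (n o))⁻¹ * θ (ψ (n o))) =
    (n o)⁻¹ * (θ * ψ) (n o) by rw [MulAut.mul_apply]; group] at this

/-- A normalised automorphism fixes the root subgroups. -/
theorem Norm.fix_rootU {θ : MulAut G} (h : Norm P U n n0 θ) (o : ι) :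
    Fixes θ (rootU U n0 (n o)) := by
  intro c hc
  refine mem_rootU.2 ⟨h.fixU c (mem_rootU.1 hc).1, ?_⟩
  have h1 := h.fixV _ (hT.rootU_le_parabolic o hc).1
  have e : θ (n o) = n o * ((n o)⁻¹ * θ (n o)) := (mul_inv_cancel_left _ _).symm
  set t := (n o)⁻¹ * θ (n o) with ht
  have hmem : t ∈ P.B ⊓ P.N := h.node o
  rw [map_mul, map_mul, map_inv, e] at h1
  have h2 := hT.conj_opU (inv_mem (BN.conj_mem_H (hT.n_mem_N o) hmem)) h1
  rw [mem_opU] at h2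
  rwa [show n0⁻¹ * ((n o * t * (n o)⁻¹)⁻¹ * (n o * t * θ c * (n o * t)⁻¹) *
    (n o * t * (n o)⁻¹)⁻¹⁻¹) * n0 = n0⁻¹ * (n o * θ c * (n o)⁻¹) * n0 by group] at h2

omit [Finite G] in
/-- An inner automorphism which is normalised comes from the torus. -/
theorem Norm.mem_H {x : G} (h : Norm P U n n0 (MulAut.conj x)) : x ∈ P.B ⊓ P.N :=
  hT.mem_H_of_norm h.fixU h.fixV

/-- Conjugation by an element of the torus is normalised. -/
theorem Frame.norm_conj {t : G} (ht : t ∈ P.B ⊓ P.N) : Norm P U n n0 (MulAut.conj t) := by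
  refine ⟨fun u hu => hT.H_normU ht hu, fun v hv => hT.conj_opU ht hv,
    fun s hs => mul_mem (mul_mem ht hs) (inv_mem ht), fun o => ?_⟩
  rw [MulAut.conj_apply, show (n o)⁻¹ * (t * n o * t⁻¹) = (n o)⁻¹ * t * n o * t⁻¹ by group]
  exact mul_mem (BN.conj_mem_H' (hT.n_mem_N o) ht) (inv_mem ht)

omit [Finite G] in
/-- A normalised automorphism that fixes the unipotent subgroup pointwise is trivial. -/
theorem Norm.rigid {θ : MulAut G} (h : Norm P U n n0 θ) (hid : ∀ u ∈ U, θ u = u) : θ = 1 := by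
  have hN : ∀ w ∈ P.N, w⁻¹ * θ w ∈ P.B ⊓ P.N := by
    intro w hw
    rw [← P.closure_sup, hT.S_eq] at hw
    have hw' : w ∈ Subgroup.closure (Set.range n ∪ ((P.B ⊓ P.N : Subgroup G) : Set G)) := by
      rwa [Subgroup.closure_union, Subgroup.closure_eq]
    clear hw
    refine (Subgroup.closure_induction (p := fun w _ => w ∈ P.N ∧ w⁻¹ * θ w ∈ P.B ⊓ P.N)
      ?_ ?_ ?_ ?_ hw').2
    · rintro x (⟨o, rfl⟩ | hx)
      · exact ⟨hT.n_mem_N o, h.node o⟩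
      · exact ⟨hx.2, mul_mem (inv_mem hx) (h.fixH x hx)⟩
    · exact ⟨one_mem _, by simp⟩
    · rintro a b _ _ ⟨ha, ha'⟩ ⟨hb, hb'⟩
      refine ⟨mul_mem ha hb, ?_⟩
      rw [map_mul, show (a * b)⁻¹ * (θ a * θ b) = b⁻¹ * (a⁻¹ * θ a) * b * (b⁻¹ * θ b) by group]
      exact mul_mem (BN.conj_mem_H' hb ha') hb'
    · rintro a _ ⟨ha, ha'⟩
      refine ⟨inv_mem ha, ?_⟩
      rw [map_inv, show a⁻¹⁻¹ * (θ a)⁻¹ = a * (a⁻¹ * θ a)⁻¹ * a⁻¹ by group]
      exact BN.conj_mem_H ha (inv_mem ha')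
  have hfix : ∀ g, g⁻¹ * θ g ∈ P.B := by
    intro g
    obtain ⟨w, hw, hgw⟩ := BN.exists_cell (P := P) g
    obtain ⟨b₁, hb₁, b₂, hb₂, rfl⟩ := BN.mem_cell.1 hgw
    obtain ⟨u₁, hu₁, t₁, ht₁, rfl⟩ := hT.B_split b₁ hb₁
    obtain ⟨u₂, hu₂, t₂, ht₂, rfl⟩ := hT.B_split b₂ hb₂
    simp only [map_mul, hid _ hu₁, hid _ hu₂]
    rw [show (u₁ * t₁ * w * (u₂ * t₂))⁻¹ * (u₁ * θ t₁ * θ w * (u₂ * θ t₂)) =
      (u₂ * t₂)⁻¹ * (w⁻¹ * (t₁⁻¹ * θ t₁) * w * (w⁻¹ * θ w)) * (u₂ * θ t₂) by group]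
    exact mul_mem (mul_mem (inv_mem hb₂)
      (mul_mem (BN.conj_mem_H' hw (mul_mem (inv_mem ht₁) (h.fixH _ ht₁))) (hN w hw)).1)
      (mul_mem (hT.U_le hu₂) (h.fixH _ ht₂).1)
  refine MulEquiv.ext fun g => ?_
  have hcore : g⁻¹ * θ g ∈ P.B.normalCore := by
    intro x
    have h1 := hfix (g * x⁻¹)
    have h2 := hfix x⁻¹
    rw [map_mul, show (g * x⁻¹)⁻¹ * (θ g * θ x⁻¹) =
      x * (g⁻¹ * θ g) * x⁻¹ * (x⁻¹⁻¹ * θ x⁻¹) by group] at h1
    simpa using mul_mem h1 (inv_mem h2)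
  rw [hT.core, Subgroup.mem_bot, inv_mul_eq_one] at hcore
  exact hcore.symm

end

end CfsgLib.TwAut
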