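import Cfsg.Agent.Lib.Known.TwAutCoef
import Cfsg.Agent.Lib.Chev.Twist.G2Points

/-!
# The automorphisms of the groups of type ²G₂
-/

set_option autoImplicit false
set_option maxRecDepth 20000
set_option linter.unusedSectionVars false

namespace CfsgLib.Chev.TwG2

open Cfsg.Lie

universe v

variable {K : Type v} [Field K] [Fintype K] {m : ℕ} (C : Ctx K m)
include C

theorem Ctx.exists_theta_ne (hm : 1 ≤ m) : ∃ b : K, C.f b ^ 3 ≠ b := by
  by_contra h
  push Not at h
  have h1 : ∀ b : K, C.f b = b := fun b => by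
    have h2 := C.theta b
    rwa [h (C.f b)] at h2
  classical
  have hsub : (Finset.univ : Finset K) ⊆ {0, 1, -1} := fun x _ => by
    by_cases hx : x = 0
    · simp [hx]
    · have h3 := h x
      rw [h1] at h3
      have : x * x = 1 := mul_left_cancel₀ hx (by rw [mul_one, ← mul_assoc]; simpa [pow_succ] using h3)
      rcases mul_self_eq_one_iff.1 this with e | e <;> simp [e]
  have hc := (Finset.card_le_card hsub).trans Finset.card_le_three
  rw [Finset.card_univ, C.card] at hc
  have : 3 ^ 3 ≤ 3 ^ (2 * m + 1) := Nat.pow_le_pow_right (by norm_num) (by omega)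
  omega

/-- The multiplication of the unipotent elements. -/
theorem Ctx.cl_mul (a u v b u' v' : K) : C.cl a u v * C.cl b u' v' =
    C.cl (a + b) (u + u' - a * C.f b ^ 3)
      (v + v' - b * u + a * b * C.f b ^ 3 - a ^ 2 * C.f b ^ 3) := by
  have hF := DataG2.facts
  have hcl : ∀ t u v : K, C.cl t u v =
      xU chevG2 g2a (C.f t) * C.nf t (C.f t * t + C.f u) (C.f t ^ 2 * t + C.f v) u v := fun t u v => by
    rw [C.cl_val, Ctx.nf, mul_assoc]
  obtain ⟨F₁, G₁, e1⟩ := C.nf_swap (C.f b) a (C.f a * a + C.f u) (C.f a ^ 2 * a + C.f v) u v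
  obtain ⟨G₂, e2⟩ := C.nf_mul a (C.f b * a + (C.f a * a + C.f u))
    (C.f b ^ 2 * a - C.f b * (C.f a * a + C.f u) + (C.f a ^ 2 * a + C.f v)) F₁ G₁ b
    (C.f b * b + C.f u') (C.f b ^ 2 * b + C.f v') u' v'
  set X'' := C.f b * a + (C.f a * a + C.f u) + (C.f b * b + C.f u')
  set E'' := C.f b ^ 2 * a - C.f b * (C.f a * a + C.f u) + (C.f a ^ 2 * a + C.f v) +
    (C.f b ^ 2 * b + C.f v')
  have hprod : C.cl a u v * C.cl b u' v' =
      xU chevG2 g2a (C.f (a + b)) * C.nf (a + b) X'' E'' (F₁ + u') G₂ := by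
    rw [hcl, hcl, map_add, ← hF.xU_add (show g2a < chevG2.nroots by decide)]
    calc xU chevG2 g2a (C.f a) * C.nf a (C.f a * a + C.f u) (C.f a ^ 2 * a + C.f v) u v *
        (xU chevG2 g2a (C.f b) * C.nf b (C.f b * b + C.f u') (C.f b ^ 2 * b + C.f v') u' v')
        = xU chevG2 g2a (C.f a) *
          (C.nf a (C.f a * a + C.f u) (C.f a ^ 2 * a + C.f v) u v * xU chevG2 g2a (C.f b)) *
          C.nf b (C.f b * b + C.f u') (C.f b ^ 2 * b + C.f v') u' v' := by simp only [mul_assoc]
      _ = _ := by rw [e1, ← e2]; simp only [mul_assoc]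
  obtain ⟨c, x, y, e⟩ := C.fix_class
    (C.sys.le_fix (Subgroup.mul_mem _ (C.cl_mem a u v).1 (C.cl_mem b u' v').1))
    (Subgroup.mul_mem _ (C.cl_mem a u v).2 (C.cl_mem b u' v').2)
  change _ = C.cl c x y at e
  rw [e]
  have h2 := hprod.symm.trans e
  rw [hcl] at h2
  have := hF.coords_unique C.sig.hC coords
    (ts := [C.f (a + b), a + b, X'', E'', F₁ + u', G₂])
    (ts' := [C.f c, c, C.f c * c + C.f x, C.f c ^ 2 * c + C.f y, x, y]) rfl rfl
    (by simpa [Ctx.nf, wU, Cl.roots, posC, mul_assoc] using h2)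
  simp only [List.cons.injEq, and_true] at this
  obtain ⟨-, hc, hX, hE, -, -⟩ := this
  subst hc
  have hfx : C.f (u + u' - a * C.f b ^ 3) = C.f u + C.f u' - C.f a * b := by
    rw [map_sub, map_add, map_mul, C.theta']
  have hfy : C.f (v + v' - b * u + a * b * C.f b ^ 3 - a ^ 2 * C.f b ^ 3) =
      C.f v + C.f v' - C.f b * C.f u + C.f a * C.f b * b - C.f a ^ 2 * b := by
    simp only [map_sub, map_add, map_mul, C.theta']
    simp only [map_pow]
  have hx : x = u + u' - a * C.f b ^ 3 := by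
    apply C.f.injective
    rw [hfx]
    simp only [X'', map_add] at hX
    linear_combination -hX
  have hy : y = v + v' - b * u + a * b * C.f b ^ 3 - a ^ 2 * C.f b ^ 3 := by
    apply C.f.injective
    rw [hfy]
    simp only [E'', map_add] at hE
    linear_combination (-hE - (C.f a * C.f b * a + C.f a * C.f b * b) * C.three_eq_zero)
  rw [hx, hy]

/-- The parametrisation of the unipotent group. -/
noncomputable def Ctx.clAut (t u v : K) : ↥(twistedG2 K (3 ^ m)) := ⟨C.cl t u v, (C.cl_mem t u v).1⟩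

/-- The torus element. -/
noncomputable def Ctx.parAut (b : Kˣ) : ↥(twistedG2 K (3 ^ m)) :=
  ⟨C.par b, (C.range_le ⟨b, rfl⟩).2⟩

theorem Ctx.clAut_mul (a u v b u' v' : K) : C.clAut a u v * C.clAut b u' v' =
    C.clAut (a + b) (u + u' - a * C.f b ^ 3)
      (v + v' - b * u + a * b * C.f b ^ 3 - a ^ 2 * C.f b ^ 3) :=
  Subtype.ext (C.cl_mul a u v b u' v')

theorem Ctx.clAut_inj {t u v t' u' v' : K} (h : C.clAut t u v = C.clAut t' u' v') :
    t = t' ∧ u = u' ∧ v = v' := C.cl_inj (congrArg Subtype.val h)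

theorem Ctx.clAut_zero : C.clAut 0 0 0 = 1 := Subtype.ext C.cl_zero

theorem Ctx.clAut_split (t u v : K) : C.clAut t u v = C.clAut t 0 0 * (C.clAut 0 u 0 * C.clAut 0 0 v) := by
  rw [C.clAut_mul, C.clAut_mul]
  congr 1 <;> simp

theorem Ctx.parAut_conj (b : Kˣ) (t u v : K) : C.parAut b * C.clAut t u v * (C.parAut b)⁻¹ =
    C.clAut ((C.chi b : K) * t) ((C.phi (C.chi b) : K) * u)
      (((C.fu (C.chi b) ^ 3 * C.chi b ^ 2 : Kˣ) : K) * v) :=
  Subtype.ext (C.conj_cl b t u v)

theorem Ctx.chi_surj (X : Kˣ) : ∃ b, C.chi b = X := by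
  have hmul : ∀ a b : Kˣ, C.chi (a * b) = C.chi a * C.chi b := fun a b => by
    simp only [Ctx.chi, map_mul, div_mul_div_comm]
    congr 1 <;> ac_rfl
  have hinj : Function.Injective C.chi := fun a b e => by
    have h := hmul (a / b) b
    rw [div_mul_cancel, e, eq_comm, mul_eq_right] at h
    exact div_eq_one.1 (C.chi_eq_iff (Or.inl rfl) h)
  exact Finite.surjective_of_injective hinj X

theorem Ctx.chi_inj {a b : Kˣ} (e : C.chi a = C.chi b) : a = b := by
  have hmul : C.chi (a / b) * C.chi b = C.chi a := by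
    simp only [Ctx.chi, div_mul_div_comm, ← map_mul]
    rw [div_mul_cancel, div_mul_cancel]
  rw [e, mul_eq_right] at hmul
  exact div_eq_one.1 (C.chi_eq_iff (Or.inl rfl) hmul)

/-- The only orbit. -/
abbrev o₀ : Fin spec.length := ⟨0, by decide⟩

theorem Ctx.root_iff (g : ↥(twistedG2 K (3 ^ m))) :
    g ∈ TwAut.rootU C.sys.uSub C.sys.n0G (C.sys.nG o₀) ↔ ∃ t u v, C.clAut t u v = g := by
  rw [C.sys.mem_rootU_iff]
  constructor
  · intro h
    obtain ⟨t, u, v, e⟩ := C.fix_class (C.sys.le_fix g.2)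
      (rootClosure_mono (fun r hr => (posO_iff_list DataG2.chk_arrays pos_list r hr).1) h)
    exact ⟨t, u, v, Subtype.ext e.symm⟩
  · rintro ⟨t, u, v, rfl⟩
    exact rootClosure_mono (fun r hr h => (posO_iff_list DataG2.chk_arrays pos_list r hr).2 h)
      (C.cl_mem t u v).2

theorem Ctx.long_comm (o : Fin spec.length) :
    sW chevG2 C.sys.l0 * (O o).wO = (O o).wO * sW chevG2 C.sys.l0 := by
  have e : (O o).wO = sW chevG2 C.sys.l0 := by
    refine C.sys.long_of_all (l := (O o).word) rfl fun o' r hr hI => ?_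
    obtain rfl : o' = o := Fin.ext (by have := o.isLt; have := o'.isLt; simp [spec] at *; omega)
    exact (C.sys.orb.flip o' r hr).2 hI
  rw [e]

/-- The frame. -/
theorem Ctx.frame (p : ℕ) [Fact p.Prime] [CharP K p] :
    TwAut.Frame C.sys.bnPair C.sys.uSub C.sys.nG C.sys.n0G :=
  C.sys.frame p (fun _ hh hc => C.sep hh hc) C.long_comm

theorem Ctx.hperm : ∀ θ : MulAut ↥(twistedG2 K (3 ^ m)),
    TwAut.Fixes θ C.sys.uSub → TwAut.Fixes θ (TwAut.opU C.sys.uSub C.sys.n0G) → ∀ o o',
    (C.sys.bnPair.parabolic {C.sys.nG o}).map θ.toMonoidHom = C.sys.bnPair.parabolic {C.sys.nG o'} →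
      o = o' :=
  fun _ _ _ o o' _ => Fin.ext (by have := o.isLt; have := o'.isLt; simp [spec] at *; omega)

theorem Ctx.gMap_inv (φ : K ≃+* K) : ∀ g ∈ twistedG2 K (3 ^ m),
    FixedPoints.gMap chevG2 (φ : K →+* K) g ∈ twistedG2 K (3 ^ m) := by
  have key : twistedG2 K (3 ^ m) ≤
      (twistedG2 K (3 ^ m)).comap (FixedPoints.gMap chevG2 (φ : K →+* K)) := by
    conv_lhs => rw [C.gen_eq]
    refine (Subgroup.closure_le _).2 ?_
    rintro g ⟨w, hw, rfl⟩
    show FixedPoints.gMap chevG2 (φ : K →+* K) (wU chevG2 w) ∈ twistedG2 K (3 ^ m)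
    have hlt := (C.word_fixed hw).2
    have e : FixedPoints.gMap chevG2 (φ : K →+* K) (wU chevG2 w) =
        wU chevG2 (w.map fun p => (p.1, φ p.2)) := by
      simp only [wU, map_list_prod, List.map_map]
      refine congrArg List.prod (List.map_congr_left fun p hp => ?_)
      exact FixedPoints.gMap_xU DataG2.facts _ (hlt p hp) p.2
    rw [e]
    refine C.mem_gen ?_
    obtain ⟨t, u, v, rfl | rfl⟩ := hw
    · refine ⟨φ t, φ u, φ v, Or.inl ?_⟩
      simp [reeWordU]
    · refine ⟨φ t, φ u, φ v, Or.inr ?_⟩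
      simp [reeWordV, reeWordU, ChevalleyDatum.negWord]
  exact fun g hg => key hg

/-- The field automorphisms. -/
noncomputable def Ctx.fld' : (K ≃+* K) →* MulAut ↥(twistedG2 K (3 ^ m)) :=
  fieldHom (twistedG2 K (3 ^ m)) C.gMap_inv

theorem Ctx.field_cl (φ : K ≃+* K) (t u v : K) :
    C.fld' φ (C.clAut t u v) = C.clAut (φ t) (φ u) (φ v) := Subtype.ext (by
  show FixedPoints.gMap chevG2 (φ : K →+* K) (C.cl t u v) = C.cl (φ t) (φ u) (φ v)
  rw [C.cl_val, C.cl_val]
  have hF := DataG2.facts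
  simp only [map_mul, FixedPoints.gMap_xU hF _ (show g2a < chevG2.nroots by decide),
    FixedPoints.gMap_xU hF _ (show g2b < chevG2.nroots by decide),
    FixedPoints.gMap_xU hF _ (show g2ab < chevG2.nroots by decide),
    FixedPoints.gMap_xU hF _ (show g2aab < chevG2.nroots by decide),
    FixedPoints.gMap_xU hF _ (show g2aaab < chevG2.nroots by decide),
    FixedPoints.gMap_xU hF _ (show g2aaabb < chevG2.nroots by decide)]
  simp [C.hf])

theorem Ctx.field_norm (p : ℕ) [Fact p.Prime] [CharP K p] (φ : K ≃+* K) :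
    TwAut.Norm C.sys.bnPair C.sys.uSub C.sys.nG C.sys.n0G (C.fld' φ) :=
  (C.frame p).norm_of_perm C.hperm (C.sys.fieldHom_fix C.gMap_inv φ).1
    (C.sys.fieldHom_fix C.gMap_inv φ).2

theorem Ctx.exists_par {h : ↥(twistedG2 K (3 ^ m))} (hh : h ∈ C.sys.bnPair.B ⊓ C.sys.bnPair.N) :
    ∃ b, h = C.parAut b := by
  obtain ⟨b, e⟩ := C.mem_par_iff.1 ⟨C.sys.mem_bnH.1 hh, h.2⟩
  exact ⟨b, Subtype.ext e⟩

theorem Ctx.parAut_mem (b : Kˣ) : C.parAut b ∈ C.sys.bnPair.B ⊓ C.sys.bnPair.N :=
  C.sys.mem_bnH.2 (C.range_le ⟨b, rfl⟩).1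

/-- The first coordinate of a normalised automorphism. -/
theorem Ctx.coef_first (p : ℕ) [Fact p.Prime] [CharP K p] {θ : MulAut ↥(twistedG2 K (3 ^ m))}
    (h : TwAut.Norm C.sys.bnPair C.sys.uSub C.sys.nG C.sys.n0G θ) :
    ∃ (c : Kˣ) (σ : K ≃+* K), ∀ t u v, ∃ u' v', θ (C.clAut t u v) = C.clAut ((c : K) * σ t) u' v' := by
  have himg : ∀ t u v : K, ∃ t' u' v', θ (C.clAut t u v) = C.clAut t' u' v' := fun t u v => by
    obtain ⟨t', u', v', e⟩ := (C.root_iff _).1
      (h.fix_rootU (C.frame p) o₀ _ ((C.root_iff _).2 ⟨t, u, v, rfl⟩))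
    exact ⟨t', u', v', e.symm⟩
  have hlow : ∀ u v : K, ∃ u' v', θ (C.clAut 0 u v) = C.clAut 0 u' v' := fun u v => by
    obtain ⟨t', u', v', e⟩ := himg 0 u v
    by_cases ht : t' = 0
    · subst ht; exact ⟨u', v', e⟩
    · exfalso
      refine C.cube_ne_one ht u' v' ?_
      have h1 : C.clAut 0 u v ^ 3 = 1 := Subtype.ext (C.cl_cube_center u v)
      have h2 : C.clAut t' u' v' ^ 3 = 1 := by rw [← e, ← map_pow, h1, map_one]
      exact congrArg Subtype.val h2
  choose f u₁ v₁ hf using fun t => himg t 0 0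
  have hgen : ∀ t u v, ∃ u' v', θ (C.clAut t u v) = C.clAut (f t) u' v' := fun t u v => by
    obtain ⟨u', v', e⟩ := hlow u v
    have e0 : C.clAut t u v = C.clAut t 0 0 * C.clAut 0 u v := by
      rw [C.clAut_mul]; congr 1 <;> simp
    rw [e0, map_mul, hf, e, C.clAut_mul, add_zero]
    exact ⟨_, _, rfl⟩
  have fadd : ∀ a b, f (a + b) = f a + f b := fun a b => by
    obtain ⟨u', v', e⟩ := hgen (a + b) (0 + 0 - a * C.f b ^ 3)
      (0 + 0 - b * 0 + a * b * C.f b ^ 3 - a ^ 2 * C.f b ^ 3)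
    rw [← C.clAut_mul, map_mul, hf, hf, C.clAut_mul] at e
    exact (C.clAut_inj e).1.symm
  have f0 : f 0 = 0 := by simpa using fadd 0 0
  have finj : Function.Injective f := by
    refine fun a b e => by_contra fun hne => ?_
    have h1 : f (a - b) = 0 := by
      have := fadd (a - b) b
      rw [sub_add_cancel, e] at this
      linear_combination -this
    obtain ⟨u', v', e'⟩ := hgen (a - b) 0 0
    rw [h1] at e'
    refine C.cube_ne_one (sub_ne_zero.2 hne) 0 0 ?_
    have h2 : C.clAut 0 u' v' ^ 3 = 1 := Subtype.ext (C.cl_cube_center u' v')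
    rw [← e', ← map_pow, ← map_one θ] at h2
    exact congrArg Subtype.val (θ.injective h2)
  obtain ⟨c, σ, hc⟩ := TwAut.exists_semilinear fadd finj fun χ hχ => by
    obtain ⟨b, hb⟩ := C.chi_surj (Units.mk0 χ hχ)
    obtain ⟨b', hb'⟩ := C.exists_par (h.fixH _ (C.parAut_mem b))
    refine ⟨(C.chi b' : K), fun t => ?_⟩
    have e := congrArg θ (C.parAut_conj b t 0 0)
    rw [map_mul, map_mul, map_inv, hb', hf, C.parAut_conj, hb, Units.val_mk0, mul_zero, mul_zero,
      hf] at e
    exact (C.clAut_inj e).1.symm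
  exact ⟨c, σ, fun t u v => by rw [← hc]; exact hgen t u v⟩

/-- A normalised automorphism trivial on the first coordinate is trivial. -/
theorem Ctx.eq_one_of_first (p : ℕ) [Fact p.Prime] [CharP K p] (hm : 1 ≤ m)
    {θ : MulAut ↥(twistedG2 K (3 ^ m))}
    (h : TwAut.Norm C.sys.bnPair C.sys.uSub C.sys.nG C.sys.n0G θ)
    (hfirst : ∀ t u v, ∃ u' v', θ (C.clAut t u v) = C.clAut t u' v') : θ = 1 := by
  -- the torus is fixed
  have hpar : ∀ b, θ (C.parAut b) = C.parAut b := fun b => by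
    obtain ⟨b', hb'⟩ := C.exists_par (h.fixH _ (C.parAut_mem b))
    rw [hb']
    obtain ⟨u', v', e1⟩ := hfirst 1 0 0
    obtain ⟨u'', v'', e2⟩ := hfirst (C.chi b : K) 0 0
    have e := congrArg θ (C.parAut_conj b 1 0 0)
    rw [map_mul, map_mul, map_inv, hb', e1, C.parAut_conj, mul_one, mul_zero, mul_zero, mul_one,
      e2] at e
    exact congrArg C.parAut (C.chi_inj (Units.ext (C.clAut_inj e).1))
  have hconj : ∀ b t u v, θ (C.parAut b * C.clAut t u v * (C.parAut b)⁻¹) =
      C.parAut b * θ (C.clAut t u v) * (C.parAut b)⁻¹ := fun b t u v => by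
    rw [map_mul, map_mul, map_inv, hpar]
  -- the middle coordinate
  have hmid : ∀ u, ∃ u', θ (C.clAut 0 u 0) = C.clAut 0 u' 0 := fun u => by
    obtain ⟨u', v', e⟩ := hfirst 0 u 0
    refine ⟨u', ?_⟩
    have h1 : C.parAut (-1) * C.clAut 0 u 0 * (C.parAut (-1))⁻¹ = C.clAut 0 u 0 :=
      mul_inv_eq_iff_eq_mul.2 (Subtype.ext (C.neg_one_comm u))
    have h2 := congrArg θ h1
    rw [hconj, e, mul_inv_eq_iff_eq_mul] at h2
    rw [(C.neg_one_fix (congrArg Subtype.val h2)).2] at e
    exact e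
  choose g hg using hmid
  have gadd : ∀ a b, g (a + b) = g a + g b := fun a b => by
    have e : C.clAut 0 (a + b) 0 = C.clAut 0 a 0 * C.clAut 0 b 0 := by
      rw [C.clAut_mul]; congr 1 <;> simp
    have e' := congrArg θ e
    rw [map_mul, hg, hg, hg, C.clAut_mul] at e'
    simpa using (C.clAut_inj e').2.1
  have geq : ∀ (b : Kˣ) (u : K), g ((C.phi (C.chi b) : K) * u) = (C.phi (C.chi b) : K) * g u :=
    fun b u => by
    have e := congrArg θ (C.parAut_conj b 0 u 0)
    rw [hconj, hg, C.parAut_conj, mul_zero, mul_zero, hg] at e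
    exact (C.clAut_inj e).2.1.symm
  have hsign : ∀ X : Kˣ, (∃ w, C.phi w = X) ∨ ∃ w, C.phi w = -X := by
    intro X
    by_contra hX
    push Not at hX
    have hn : (-1 : Kˣ) ∉ C.phi.range := by
      rintro ⟨w, hw⟩
      rcases C.phi_fix (w := w) (by rw [hw, neg_mul_neg, one_mul]) with rfl | rfl
      · rw [map_one] at hw
        exact C.neg_one_ne hw.symm
      · refine C.neg_one_ne (hw.symm.trans ?_)
        show C.fu (-1) ^ 3 * -1 = 1
        rw [C.fu_neg_one]
        simp [pow_succ]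
    have hker : Nat.card C.phi.ker ≤ 2 := by
      classical
      rw [Nat.card_eq_fintype_card, Fintype.card_subtype]
      refine (Finset.card_le_card (t := {1, -1}) fun w hw => ?_).trans Finset.card_le_two
      have h1 : C.phi w = 1 := MonoidHom.mem_ker.1 (Finset.mem_filter.1 hw).2
      rcases C.phi_fix (w := w) (by rw [h1, one_mul]) with rfl | rfl <;> simp
    have hidx : C.phi.range.index = 2 := by
      have h1 := Subgroup.card_mul_index C.phi.range
      have h2 := Subgroup.card_mul_index C.phi.ker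
      rw [Subgroup.index_ker] at h2
      have hpos : 0 < Nat.card C.phi.range := Nat.card_pos
      have hne : C.phi.range.index ≠ 1 := fun e => by
        rw [Subgroup.index_eq_one] at e
        exact hn (e ▸ Subgroup.mem_top _)
      have h3 : C.phi.range.index = Nat.card C.phi.ker :=
        Nat.eq_of_mul_eq_mul_left hpos (h1.trans (h2.symm.trans (mul_comm _ _)))
      have h4 : C.phi.range.index ≠ 0 := Subgroup.index_ne_zero_of_finite
      omega
    obtain ⟨w, hw⟩ := (Subgroup.mul_mem_iff_of_index_two hidx (a := X) (b := -1)).2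
      (iff_of_false (fun ⟨w, hw⟩ => hX.1 w hw) hn)
    exact hX.2 w (by rw [hw, mul_neg_one])
  have glin : ∀ u, g u = u * g 1 := fun u => by
    by_cases hu : u = 0
    · subst hu
      have := gadd 0 0
      rw [add_zero] at this
      simpa using this
    have gneg : ∀ x, g (-x) = -g x := fun x => by
      have h1 := gadd (-x) x
      have h0 := gadd 0 0
      rw [add_zero] at h0
      rw [neg_add_cancel] at h1
      linear_combination -h1 - h0
    rcases hsign (Units.mk0 u hu) with ⟨w, hw⟩ | ⟨w, hw⟩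
    · obtain ⟨b, rfl⟩ := C.chi_surj w
      have := geq b 1
      rw [hw, mul_one, Units.val_mk0] at this
      exact this
    · obtain ⟨b, rfl⟩ := C.chi_surj w
      have := geq b 1
      rw [hw, mul_one, Units.val_neg, Units.val_mk0, gneg] at this
      linear_combination -this
  -- the central coordinate
  have hcen : ∀ v, ∃ v', θ (C.clAut 0 0 v) = C.clAut 0 0 v' := fun v => by
    obtain ⟨u', v', e⟩ := hfirst 0 0 v
    refine ⟨v', ?_⟩
    have hphi : ((C.phi (-1) : Kˣ) : K) = 1 := by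
      show ((C.fu (-1) ^ 3 * -1 : Kˣ) : K) = 1
      rw [C.fu_neg_one]; simp [pow_succ]
    have hpsi : ((C.fu (-1) ^ 3 * (-1) ^ 2 : Kˣ) : K) = -1 := by
      rw [C.fu_neg_one]; simp [pow_succ]
    have h1 : C.parAut (-1) * C.clAut 0 0 v * (C.parAut (-1))⁻¹ * C.clAut 0 0 v = 1 := by
      rw [C.parAut_conj, C.chi_neg_one, hphi, hpsi, C.clAut_mul, ← C.clAut_zero]
      congr 1 <;> simp
    have h2 := congrArg θ h1
    rw [map_mul, hconj, e, map_one, C.parAut_conj, C.chi_neg_one, hphi, hpsi, C.clAut_mul,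
      ← C.clAut_zero] at h2
    have h3 := (C.clAut_inj h2).2.1
    simp only [map_zero, mul_zero, one_mul, sub_zero, zero_pow, ne_eq, OfNat.ofNat_ne_zero,
      not_false_eq_true] at h3
    have : u' = 0 := by linear_combination (-h3 + u' * C.three_eq_zero)
    rw [this] at e
    exact e
  choose k hk using hcen
  have klin : ∀ v, k v = v * k 1 := by
    have keq : ∀ (b : Kˣ) (v : K), k (((C.fu (C.chi b) ^ 3 * C.chi b ^ 2 : Kˣ) : K) * v) =
        ((C.fu (C.chi b) ^ 3 * C.chi b ^ 2 : Kˣ) : K) * k v := fun b v => by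
      have e := congrArg θ (C.parAut_conj b 0 0 v)
      rw [hconj, hk, C.parAut_conj, mul_zero, mul_zero, hk] at e
      exact (C.clAut_inj e).2.2.symm
    intro v
    by_cases hv : v = 0
    · subst hv
      have e : C.clAut 0 0 (0 : K) = 1 := C.clAut_zero
      have e' := congrArg θ e
      rw [hk, map_one, ← C.clAut_zero] at e'
      simpa using (C.clAut_inj e').2.2
    let ψ : Kˣ →* Kˣ := MonoidHom.mk' (fun X => C.fu X ^ 3 * X ^ 2) fun x y => by
      rw [map_mul, mul_pow, mul_pow, mul_mul_mul_comm]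
    have hψ : Function.Injective ψ := (injective_iff_map_eq_one ψ).2 fun X e => C.psi_fix e
    obtain ⟨X, hX⟩ := Finite.surjective_of_injective hψ (Units.mk0 v hv)
    obtain ⟨b, rfl⟩ := C.chi_surj X
    have := keq b 1
    rw [show C.fu (C.chi b) ^ 3 * C.chi b ^ 2 = Units.mk0 v hv from hX, mul_one,
      Units.val_mk0] at this
    exact this
  -- the constants are one
  choose u₁ v₁ huv using fun t => hfirst t 0 0
  have himg : ∀ t u v, θ (C.clAut t u v) = C.clAut t (u₁ t + u * g 1) (v₁ t + v * k 1) := fun t u v => by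
    conv_lhs => rw [C.clAut_split]
    rw [map_mul, map_mul, huv, hg, hk, C.clAut_mul, C.clAut_mul, glin u, klin v]
    congr 1 <;> simp
  have hsum : ∀ a b : K,
      u₁ (a + b) + (-(a * C.f b ^ 3)) * g 1 = u₁ a + u₁ b - a * C.f b ^ 3 ∧
      v₁ (a + b) + (a * b * C.f b ^ 3 - a ^ 2 * C.f b ^ 3) * k 1 =
        v₁ a + v₁ b - b * u₁ a + a * b * C.f b ^ 3 - a ^ 2 * C.f b ^ 3 := fun a b => by
    have e := congrArg θ (C.clAut_mul a 0 0 b 0 0)
    rw [map_mul, himg, himg, himg, C.clAut_mul] at e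
    obtain ⟨-, e1, e2⟩ := C.clAut_inj e
    constructor
    · linear_combination -e1
    · linear_combination -e2
  obtain ⟨b₀, hb₀⟩ := C.exists_theta_ne hm
  have hc : g 1 = 1 := by
    have h1 := (hsum 1 b₀).1
    have h2 := (hsum b₀ 1).1
    rw [add_comm b₀ 1] at h2
    simp only [map_one, one_pow, mul_one, one_mul] at h1 h2
    refine sub_eq_zero.1 (((mul_eq_zero (a := b₀ - C.f b₀ ^ 3)).1 ?_).resolve_left
      (sub_ne_zero.2 (Ne.symm hb₀)))
    linear_combination h1 - h2
  have hu : ∀ t, u₁ t = 0 := by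
    have hadd : ∀ a b, u₁ (a + b) = u₁ a + u₁ b := fun a b => by
      have := (hsum a b).1
      rw [hc] at this
      linear_combination this
    intro t
    have e := congrArg θ (C.parAut_conj (-1) t 0 0)
    have hphi : ((C.phi (-1) : Kˣ) : K) = 1 := by
      show ((C.fu (-1) ^ 3 * -1 : Kˣ) : K) = 1
      rw [C.fu_neg_one]; simp [pow_succ]
    rw [hconj, huv, C.parAut_conj, C.chi_neg_one, hphi, mul_zero, mul_zero, one_mul, Units.val_neg,
      Units.val_one, neg_one_mul t, huv] at e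
    have h1 := (C.clAut_inj e).2.1
    have h2 := hadd t (-t)
    have h3 := hadd 0 0
    rw [add_zero] at h3
    rw [add_neg_cancel, ← h1] at h2
    linear_combination (u₁ t) * C.three_eq_zero + h2 + h3
  have he : k 1 = 1 := by
    have h1 := (hsum 1 (-1)).2
    have h2 := (hsum (-1) 1).2
    rw [add_comm (-1 : K) 1] at h2
    simp only [hu, map_one, map_neg, one_pow, mul_one, one_mul, mul_zero, sub_zero] at h1 h2
    linear_combination h1 - h2 + (1 - k 1) * C.three_eq_zero
  have hv : ∀ t, v₁ t = 0 := by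
    have hadd : ∀ a b, v₁ (a + b) = v₁ a + v₁ b := fun a b => by
      have := (hsum a b).2
      rw [he, hu] at this
      linear_combination this
    have hv1 : ∀ X : Kˣ, v₁ (X : K) = ((C.fu X ^ 3 * X ^ 2 : Kˣ) : K) * v₁ 1 := fun X => by
      obtain ⟨b, rfl⟩ := C.chi_surj X
      have e := congrArg θ (C.parAut_conj b 1 0 0)
      rw [hconj, huv, C.parAut_conj, mul_one, mul_zero, mul_zero, huv] at e
      exact (C.clAut_inj e).2.2.symm
    have hall : ∀ x, v₁ x = C.f x ^ 3 * x ^ 2 * v₁ 1 := fun x => by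
      by_cases hx : x = 0
      · subst hx
        have h3 := hadd 0 0
        rw [add_zero] at h3
        simpa using h3
      · simpa using hv1 (Units.mk0 x hx)
    intro t
    suffices v₁ 1 = 0 by rw [hall, this, mul_zero]
    by_contra hne
    have key : ∀ x, C.f x ^ 3 = x := fun x => by
      have e1 := hadd x 1
      have e2 := hadd (-x) 1
      rw [hall (x + 1), hall x] at e1
      rw [hall (-x + 1), hall (-x)] at e2
      simp only [map_add, map_neg, map_one, C.cube_add] at e1 e2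
      refine mul_right_cancel₀ hne ?_
      linear_combination e2 - e1 + ((C.f x ^ 3 + x) * v₁ 1) * C.three_eq_zero
    obtain ⟨b, hb⟩ := C.exists_theta_ne hm
    exact hb (key b)
  refine h.eq_one (C.frame p) (C.sys.closure_root C.gen_eq.le fun x hx => C.gen_orbit hx)
    fun o x hx => ?_
  obtain rfl : o = o₀ := Fin.ext (by have := o.isLt; simp [spec] at *; omega)
  obtain ⟨t, u, v, rfl⟩ := (C.root_iff x).1 hx
  rw [himg, hu, hv, hc, he, mul_one, mul_one, zero_add, zero_add]

/-- The outer automorphisms are the field automorphisms. -/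
theorem Ctx.card_out (p : ℕ) [Fact p.Prime] [CharP K p] (hm : 1 ≤ m) :
    Nat.card (Cfsg.Out ↥(twistedG2 K (3 ^ m))) = Nat.card (K ≃+* K) := by
  have hFr := C.frame p
  refine TwAut.card_out_of C.fld' (fun φ x e => ?_) fun θ => ?_
  · obtain ⟨b, rfl⟩ := C.exists_par (TwAut.Norm.mem_H hFr (e ▸ C.field_norm p φ))
    have key : ∀ t, φ t = (C.chi b : K) * t := fun t =>
      (C.clAut_inj ((C.field_cl φ t 0 0).symm.trans
        ((DFunLike.congr_fun e _).trans (C.parAut_conj b t 0 0)))).1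
    have h1 := key 1
    rw [map_one, mul_one] at h1
    exact RingEquiv.ext fun t => by rw [key, ← h1, one_mul]; rfl
  obtain ⟨x, h1⟩ := hFr.exists_norm C.hperm θ
  set θ1 := MulAut.conj x * θ
  obtain ⟨c, σ, hc⟩ := C.coef_first p h1
  obtain ⟨b, hb⟩ := C.chi_surj c⁻¹
  set θ2 := C.fld' σ⁻¹ * (MulAut.conj (C.parAut b) * θ1) with hθ2
  have h2 : TwAut.Norm C.sys.bnPair C.sys.uSub C.sys.nG C.sys.n0G θ2 :=
    TwAut.Norm.mul hFr (C.field_norm p _)
      (TwAut.Norm.mul hFr (hFr.norm_conj (C.parAut_mem b)) h1)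
  have e3 : θ2 = 1 := C.eq_one_of_first p hm h2 fun t u v => by
    obtain ⟨u', v', e⟩ := hc t u v
    rw [hθ2, MulAut.mul_apply, MulAut.mul_apply, e, MulAut.conj_apply, C.parAut_conj, hb,
      C.field_cl, ← mul_assoc, Units.inv_mul, one_mul]
    exact ⟨_, _, congrArg₂ (fun a b => C.clAut a b _) (σ.symm_apply_apply t) rfl⟩
  refine ⟨σ, C.parAut b * x, ?_⟩
  rw [hθ2, map_inv, inv_mul_eq_one] at e3
  rw [map_mul, mul_assoc, e3]

end CfsgLib.Chev.TwG2
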