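import Cfsg.Agent.Lib.Known.TwAutCoef
import Cfsg.Agent.Lib.Chev.Twist.Words

/-!
# Permutations of the nodes by automorphisms, and inverses of normalised automorphisms
-/

set_option autoImplicit false
set_option linter.unusedSectionVars false

namespace CfsgLib.TwAut

open CfsgLib.Chev

variable {G : Type*} [Group G] [Finite G] {ι : Type*} {P : Cfsg.BNPair G} {U : Subgroup G}
  {n : ι → G} {n0 : G} (hT : Frame P U n n0)
include hT

/-- The inverse of a normalised automorphism is normalised. -/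
theorem Norm.inv' {θ : MulAut G} (h : Norm P U n n0 θ) : Norm P U n n0 θ⁻¹ := by
  have key : ∀ S : Subgroup G, Fixes θ S → Fixes θ⁻¹ S := fun S hS x hx =>
    hS.of_apply (by rwa [← MulAut.mul_apply, mul_inv_cancel, MulAut.one_apply])
  refine ⟨key _ h.fixU, key _ h.fixV, key _ h.fixH, fun o => ?_⟩
  have h1 := key _ h.fixH _ (h.node o)
  rw [map_mul, map_inv, MulAut.inv_apply_self] at h1
  have h2 := inv_mem h1
  rwa [mul_inv_rev, inv_inv] at h2

/-- Two normalised automorphisms agreeing on the root subgroups are equal. -/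
theorem Norm.ext_root {θ ψ : MulAut G} (h : Norm P U n n0 θ) (h' : Norm P U n n0 ψ)
    (hgen : Subgroup.closure {g | ∃ o, g ∈ rootU U n0 (n o) ∨
      (g ∈ opU U n0 ∧ g ∈ P.parabolic {n o})} = ⊤)
    (he : ∀ o, ∀ c ∈ rootU U n0 (n o), θ c = ψ c) : θ = ψ := by
  have e : ψ⁻¹ * θ = 1 := (Norm.mul hT (h'.inv' hT) h).eq_one hT hgen fun o c hc => by
    rw [MulAut.mul_apply, he o c hc, ← MulAut.mul_apply, inv_mul_cancel, MulAut.one_apply]
  exact (inv_mul_eq_one.1 e).symm

theorem Frame.parabolic_inj {o o' : ι} (e : P.parabolic {n o} = P.parabolic {n o'}) : o = o' := by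
  have h : n o ∈ P.parabolic {n o'} := e ▸ BN.J_subset_parabolic rfl
  exact hT.n_inj ((BN.mem_parabolic_S (by rintro x rfl; exact hT.n_mem_S o') (hT.n_mem_S o)).1 h)

/-- A root subgroup is a conjugate of the negative one of the same node. -/
theorem Frame.conj_n0_rootU {o : ι} {c : G} (hc : c ∈ rootU U n0 (n o)) :
    n0⁻¹ * c * n0 ∈ opU U n0 ⊓ P.parabolic {n o} := by
  refine ⟨hT.mem_opU'.2 ?_, ?_⟩
  · rw [show n0 * (n0⁻¹ * c * n0) * n0⁻¹ = c by group]
    exact (mem_rootU.1 hc).1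
  · set Pa := P.parabolic {n o}
    have hm : n o ∈ Pa := BN.J_subset_parabolic rfl
    set h := (n o)⁻¹ * (n0 * n o * n0⁻¹) with hdef
    have hh : h ∈ P.B ⊓ P.N := ⟨hT.star o, P.N.mul_mem (P.N.inv_mem (hT.n_mem_N o))
      (P.N.mul_mem (P.N.mul_mem hT.n0_mem (hT.n_mem_N o)) (P.N.inv_mem hT.n0_mem))⟩
    have hk : n o * (n0⁻¹ * h * n0)⁻¹ = n0⁻¹ * n o * n0 := by rw [hdef]; group
    have hkP : n0⁻¹ * n o * n0 ∈ Pa :=
      hk ▸ Pa.mul_mem hm (Pa.inv_mem (BN.B_le_parabolic _ (BN.conj_mem_H' hT.n0_mem hh).1))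
    have hv : n0⁻¹ * (n o * c * (n o)⁻¹) * n0 ∈ Pa :=
      BN.B_le_parabolic _ (hT.U_le (mem_rootU.1 hc).2)
    have := Pa.mul_mem (Pa.mul_mem (Pa.inv_mem hkP) hv) hkP
    rwa [show (n0⁻¹ * n o * n0)⁻¹ * (n0⁻¹ * (n o * c * (n o)⁻¹) * n0) * (n0⁻¹ * n o * n0) =
      n0⁻¹ * c * n0 by group] at this

/-- If the negative root subgroups of two nodes commute, so do the root subgroups of their images. -/
theorem Frame.commute_image {θ : MulAut G} (hV : Fixes θ (opU U n0)) {o o' p p' : ι}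
    (e : (P.parabolic {n o}).map θ.toMonoidHom = P.parabolic {n p})
    (e' : (P.parabolic {n o'}).map θ.toMonoidHom = P.parabolic {n p'})
    (hc : ∀ v ∈ opU U n0 ⊓ P.parabolic {n o}, ∀ w ∈ opU U n0 ⊓ P.parabolic {n o'}, Commute v w)
    {c d : G} (hc' : c ∈ rootU U n0 (n p)) (hd : d ∈ rootU U n0 (n p')) : Commute c d := by
  have key : ∀ {o p : ι}, (P.parabolic {n o}).map θ.toMonoidHom = P.parabolic {n p} →
      ∀ {c : G}, c ∈ rootU U n0 (n p) →
        ∃ v ∈ opU U n0 ⊓ P.parabolic {n o}, θ v = n0⁻¹ * c * n0 := by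
    intro o p e c hc
    have h := hT.conj_n0_rootU hc
    rw [← hV.map_eq, ← e, ← Subgroup.map_inf _ _ _ θ.injective] at h
    obtain ⟨v, hv, e⟩ := h
    exact ⟨v, hv, e⟩
  obtain ⟨v, hv, ev⟩ := key e hc'
  obtain ⟨w, hw, ew⟩ := key e' hd
  have h := (hc v hv w hw).map θ
  rw [ev, ew] at h
  have h2 := h.map (MulAut.conj n0)
  simpa [mul_assoc] using h2

end CfsgLib.TwAut

namespace CfsgLib.Chev

open Cfsg.Lie

universe v

variable {D : ChevalleyDatum} {co : ℕ → ℕ → ℤ} {K : Type v} [Field K] {P : TwPar}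
  {f : K →+* K} {σ : ↥(D.group K) →* GL D.Idx K} {ι : Type} {O : ι → Orb D}
  {G : Subgroup (GL D.Idx K)} (T : TwSys D co P f σ O G)
include T

variable [Finite K]

/-- The negative root subgroup of a node consists of negative orbit elements. -/
theorem TwSys.mem_negO_of (o : ι)
    (hFr : TwAut.Frame T.bnPair T.uSub T.nG T.n0G) {v : ↥G}
    (h : v ∈ TwAut.opU T.uSub T.n0G ⊓ T.bnPair.parabolic {T.nG o}) :
    (v : GL D.Idx K) ∈ rootClosure D K ((O o).negO co) := by
  have h1 := (T.mem_rootU_iff o).1 (hFr.conj_mem_rootU h.1 h.2)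
  have h2 := T.neg_of_conj o h1
  rwa [show T.nO o * (((T.nG o)⁻¹ * v * T.nG o : ↥G) : GL D.Idx K) * (T.nO o)⁻¹ = v by
    simp only [Subgroup.coe_mul, Subgroup.coe_inv]
    show T.nO o * ((T.nO o)⁻¹ * (v : GL D.Idx K) * T.nO o) * (T.nO o)⁻¹ = v
    group] at h2

/-- An automorphism induced by one of the matrices which preserves the root closures fixes both
unipotent subgroups. -/
theorem TwSys.fix_of_rootClosure {θ : MulAut ↥G} (F : GL D.Idx K →* GL D.Idx K)
    (hθ : ∀ g : ↥G, ((θ g : ↥G) : GL D.Idx K) = F g)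
    (hF' : ∀ (P : ℕ → Prop), ∀ g ∈ rootClosure D K P, F g ∈ rootClosure D K P) :
    TwAut.Fixes θ T.uSub ∧ TwAut.Fixes θ (TwAut.opU T.uSub T.n0G) := by
  have hF := T.sig.hF
  refine ⟨fun g hg => T.mem_uSub.2 (by rw [hθ]; exact hF' _ _ (T.mem_uSub.1 hg)), fun g hg => ?_⟩
  rw [TwAut.mem_opU, T.mem_uSub] at hg ⊢
  change T.nLong⁻¹ * (g : GL D.Idx K) * T.nLong ∈ _ at hg
  show T.nLong⁻¹ * ((θ g : ↥G) : GL D.Idx K) * T.nLong ∈ _
  have h1 := hF.conj_rootClosure T.nLong_perm (Q := (· < D.nroots / 2))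
    (fun r hr => T.l0_long r hr) hg
  rw [show T.nLong * (T.nLong⁻¹ * (g : GL D.Idx K) * T.nLong) * T.nLong⁻¹ = g by group] at h1
  rw [hθ]
  have h2 := hF.conj_rootClosure (hF.permAct_inv T.nLong_monomial T.nLong_perm)
    (Q := (D.nroots / 2 ≤ ·)) (fun r hr => by
      by_contra hc
      set s := (sW D T.l0)⁻¹ r with hs
      have h1 := T.l0_long (hF.negFin s) ((hF.negFin_pos _).2 (not_le.1 hc))
      rw [hF.sW_neg, hs, Equiv.Perm.coe_inv, Equiv.apply_symm_apply] at h1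
      exact absurd ((hF.negFin_pos _).2 hr) (not_le.2 h1))
    (hF' _ _ h1)
  rwa [inv_inv] at h2

/-- Root closures of commuting roots commute. -/
theorem TwSys.commute_lists {L L' : List ℕ} (hlt : ∀ a ∈ L, a < D.nroots)
    (hlt' : ∀ b ∈ L', b < D.nroots) (h : ∀ a ∈ L, ∀ b ∈ L', P.commB D a b = true)
    {x y : GL D.Idx K} (hx : x ∈ rootClosure D K (· ∈ L))
    (hy : y ∈ rootClosure D K (· ∈ L')) : Commute x y := by
  have h1 : ∀ z ∈ rootClosure D K (· ∈ L'), ∀ a ∈ L, ∀ t : K, Commute (xU D a t) z := by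
    intro z hz a ha t
    induction hz using Subgroup.closure_induction with
    | mem w hw =>
      obtain ⟨r, u, hr, hrL, rfl⟩ := hw
      exact T.sig.commute_xU (hlt a ha) hr (h a ha r hrL) t u
    | one => exact Commute.one_right _
    | mul a b _ _ ha hb => exact ha.mul_right hb
    | inv a _ ha => exact ha.inv_right
  induction hx using Subgroup.closure_induction with
  | mem w hw =>
    obtain ⟨r, u, hr, hrL, rfl⟩ := hw
    exact h1 y hy r hrL u
  | one => exact Commute.one_left _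
  | mul a b _ _ ha hb => exact ha.mul_left hb
  | inv a _ ha => exact ha.inv_left

end CfsgLib.Chev
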