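import Cfsg.Agent.S0755
import Cfsg.Agent.Lib.Classical.HermOrder
import Cfsg.Agent.Lib.Known.InvolutionRank

/-!
# Involutions of unitary groups in characteristic two

An involution `A = 1 + N` preserving a Hermitian form satisfies `N v = Σ B(f i, v) f i` for a
totally isotropic frame `f` of the commutator space; Witt's theorem then gives conjugacy by rank.
-/

set_option autoImplicit false

namespace CfsgLib.Known.UnitaryInvolution

open Matrix Cfsg CfsgLib.Classical

variable {F : Type*} [Field F] [Fintype F] {n q : ℕ}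

/-- Frame data of a square-zero, form self-adjoint endomorphism. -/
theorem exists_frame (hF : Fintype.card F = q ^ 2) (N : (Fin n → F) →ₗ[F] (Fin n → F))
    (hN : ∀ x, N (N x) = 0)
    (hadj : ∀ u v, hermForm n F q v (N u) = hermForm n F q (N v) u) :
    ∃ (k : ℕ) (f : Fin k → Fin n → F), Module.finrank F (LinearMap.range N) = k ∧
      LinearIndependent F f ∧ (∀ i j, hermForm n F q (f i) (f j) = 0) ∧
      (∀ v, N v = ∑ i, hermForm n F q v (f i) • f i) ∧
      (∀ i, ∃ e, hermForm n F q e e = 0 ∧ hermForm n F q e (f i) = 1 ∧ N e = f i) := by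
  classical
  obtain ⟨σ, hσ, hσ2, hne⟩ := exists_qPow hF
  have hq := two_le_q hF
  set B := hermB n q hσ with hBdef
  have hS : ∀ u v, σ (B u v) = B v u := fun u v => by
    rw [hBdef, hermB_apply, hermB_apply, hσ, hermForm_conj hF]
  have hA : ∀ u v, B (N u) v = B u (N v) := fun u v => by
    rw [hBdef, hermB_apply, hermB_apply]; exact hadj u v
  obtain ⟨C, hC⟩ := Submodule.exists_isCompl (LinearMap.ker N)
  let B' : C →ₛₗ[σ] C →ₗ[F] F := (B.comp (N.comp C.subtype)).compl₂ C.subtype
  have hB' : ∀ u v : C, B' u v = B (N u) v := fun u v => rfl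
  have hsep : B'.SeparatingLeft := fun u hu => by
    have h0 : ∀ w, B (N u) w = 0 := by
      intro w
      obtain ⟨z, hz, c, hc, rfl⟩ := Submodule.mem_sup.1
        (hC.sup_eq_top ▸ Submodule.mem_top : w ∈ LinearMap.ker N ⊔ C)
      rw [map_add, ← hB' u ⟨c, hc⟩, hu, add_zero, hA, LinearMap.mem_ker.1 hz, map_zero]
    have hNu : N (u : Fin n → F) = 0 := hermForm_nondeg hσ (by omega) h0
    exact Subtype.ext (Submodule.disjoint_def.1 hC.disjoint _ (LinearMap.mem_ker.2 hNu) u.2)
  have hsymm : ∀ u v : C, σ (B' u v) = B' v u := fun u v => by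
    rw [hB', hB', hS, hA]
  obtain ⟨b, hb⟩ := Cfsg.Agent.S0755.result σ hne hσ2 B' ⟨hsymm⟩
    ⟨hsep, fun v hv => hsep v fun u => by rw [← hsymm, hv, map_zero]⟩
  set f : Fin (Module.finrank F C) → Fin n → F := fun i => N (b i) with hf
  have hfe : ∀ i j, B (f i) (b j) = if i = j then 1 else 0 := fun i j => hb i j
  have hff : ∀ i j, B (f i) (f j) = 0 := fun i j => by rw [hf, hA, hN, map_zero]
  have hform : ∀ v, N v = ∑ i, B (f i) v • f i := by
    intro v
    obtain ⟨z, hz, c, hc, rfl⟩ := Submodule.mem_sup.1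
      (hC.sup_eq_top ▸ Submodule.mem_top : v ∈ LinearMap.ker N ⊔ C)
    obtain ⟨a, ha⟩ : ∃ a : Fin (Module.finrank F C) → F, c = ∑ j, a j • (b j : Fin n → F) :=
      ⟨fun j => b.repr ⟨c, hc⟩ j, by
        have h := congrArg C.subtype (b.sum_repr ⟨c, hc⟩)
        simp only [map_sum, map_smul, Submodule.subtype_apply] at h
        exact h.symm⟩
    have hcoef : ∀ i, B (f i) (z + c) = a i := fun i => by
      rw [map_add, hf, hA, LinearMap.mem_ker.1 hz, map_zero, zero_add, ha, map_sum]
      simp only [map_smul, smul_eq_mul]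
      rw [Finset.sum_eq_single i]
      · rw [show B (N (b i)) (b i) = 1 from (hfe i i).trans (if_pos rfl), mul_one]
      · intro j _ hj
        rw [show B (N (b i)) (b j) = 0 from (hfe i j).trans (if_neg (Ne.symm hj)), mul_zero]
      · simp
    rw [map_add, LinearMap.mem_ker.1 hz, zero_add, ha, map_sum]
    simp only [map_smul, ← ha, hcoef]
    rfl
  refine ⟨Module.finrank F C, f, ?_, ?_, fun i j => hff j i, fun v => hform v, fun i => ?_⟩
  · have h1 := Submodule.finrank_add_eq_of_isCompl hC
    have h2 := LinearMap.finrank_range_add_finrank_ker N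
    omega
  · rw [Fintype.linearIndependent_iff]
    intro a ha j
    have h := congrArg (B (b j : Fin n → F)) ha
    have hbf : ∀ i, B (b j : Fin n → F) (f i) = if i = j then 1 else 0 := fun i => by
      rw [← hS, hfe, apply_ite σ, map_one, map_zero]
    simpa [map_sum, map_smul, hbf] using h
  · obtain ⟨θ, hθ⟩ := exists_trace_one σ hne hσ2
    set x : Fin n → F := (b i : Fin n → F) with hx
    have hfx : B (f i) x = 1 := hx ▸ (hfe i i).trans (if_pos rfl)
    have hxf : B x (f i) = 1 := by rw [← hS, hfx, map_one]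
    refine ⟨x + (-(θ * B x x)) • f i, ?_, ?_, ?_⟩
    · show B (x + (-(θ * B x x)) • f i) (x + (-(θ * B x x)) • f i) = 0
      simp only [map_add, map_smulₛₗ, LinearMap.add_apply, LinearMap.smul_apply, smul_eq_mul, hff,
        hfx, hxf, map_neg, map_mul, hS, RingHom.id_apply]
      linear_combination -(B x x) * hθ
    · show B (f i) (x + (-(θ * B x x)) • f i) = 1
      simp [-hermB_apply, hff, hfx]
    · rw [map_add, map_smul, hx]
      simp [hf, hN]

/-- Families with the same Gram matrix are related by a unitary transformation. -/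
theorem exists_gu_of_gram (hF : Fintype.card F = q ^ 2) {κ : Type*} [Fintype κ]
    {b c : κ → Fin n → F} (hb : LinearIndependent F b) (hc : LinearIndependent F c)
    (h : ∀ i j, hermForm n F q (b i) (b j) = hermForm n F q (c i) (c j)) :
    ∃ g : GU n F q, ∀ i, guApply g (b i) = c i := by
  obtain ⟨σ, hσ, hσ2, hne⟩ := exists_qPow hF
  have hq := two_le_q hF
  let bb := Module.Basis.span hb
  let φ : Submodule.span F (Set.range b) →ₗ[F] (Fin n → F) := bb.constr F c
  have hφb : ∀ i, φ (bb i) = c i := fun i => bb.constr_basis F c i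
  have hbb : ∀ i, ((bb i : Submodule.span F (Set.range b)) : Fin n → F) = b i := fun i => by
    simp [bb, Module.Basis.span_apply]
  set B := hermB n q hσ
  obtain ⟨g, hg, hga⟩ := witt_herm σ hne hσ2 B
    (fun u v => by rw [hermB_apply, hermB_apply, hσ, hermForm_conj hF])
    (fun v h => hermForm_nondeg hσ (by omega) h) (Submodule.span F (Set.range b)) φ
    (by
      rw [← LinearMap.ker_eq_bot, LinearMap.ker_eq_bot']
      intro a ha
      rw [← bb.sum_repr a, map_sum] at ha
      simp only [map_smul, hφb] at ha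
      have := Fintype.linearIndependent_iff.1 hc _ ha
      exact bb.ext_elem fun i => by simpa using this i)
    (by
      intro x y
      rw [← bb.sum_repr x, ← bb.sum_repr y]
      simp only [map_sum, map_smulₛₗ, LinearMap.sum_apply, LinearMap.smul_apply, Submodule.coe_sum,
        Submodule.coe_smul, RingHom.id_apply, hφb, hbb, hermB_apply, h, B])
  obtain ⟨G, hG⟩ := guMk_exists (q := q) g (fun u v => hg v u)
  exact ⟨G, fun i => by rw [hG, ← hbb i, hga, hφb]⟩

/-- A unitary matrix of determinant `t ^ 2` commuting with `N`. -/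
theorem exists_det_fix (hF : Fintype.card F = q ^ 2) (N : (Fin n → F) →ₗ[F] (Fin n → F))
    (hN : ∀ x, N (N x) = 0) (hadj : ∀ u v, hermForm n F q v (N u) = hermForm n F q (N v) u)
    {e f : Fin n → F} (hee : hermForm n F q e e = 0) (hef : hermForm n F q e f = 1)
    (hNe : N e = f) {t : F} (ht : t * t ^ q = 1) :
    ∃ H : Matrix (Fin n) (Fin n) F, H.det = t * t ∧
      (∀ u v, hermForm n F q (H *ᵥ u) (H *ᵥ v) = hermForm n F q u v) ∧
      ∀ x, H *ᵥ (N x) = N (H *ᵥ x) := by
  classical
  obtain ⟨σ, hσ, hσ2, hne⟩ := exists_qPow hF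
  have hq := two_le_q hF
  set B := hermB n q hσ with hBdef
  have hS : ∀ u v, σ (B u v) = B v u := fun u v => by
    rw [hBdef, hermB_apply, hermB_apply, hσ, hermForm_conj hF]
  have hA : ∀ u v, B (N u) v = B u (N v) := fun u v => by
    rw [hBdef, hermB_apply, hermB_apply]; exact hadj u v
  have hNf : N f = 0 := hNe ▸ hN e
  have Bee : B e e = 0 := hee
  have Bfe : B f e = 1 := hef
  have Bef : B e f = 1 := by rw [← hS, Bfe, map_one]
  have Bff : B f f = 0 := by rw [← hNe, hA, hN, map_zero]
  let U : Matrix (Fin n) (Fin 2) F := Matrix.of fun i j => if j = 0 then e i else f i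
  let W : Matrix (Fin 2) (Fin n) F := Matrix.of fun j i => if j = 0 then f i ^ q else e i ^ q
  refine ⟨1 + ((t - 1) • U) * W, ?_, ?_, ?_⟩
  · rw [det_one_add_mul_comm, Matrix.mul_smul]
    have hWU : W * U = 1 := by
      ext i j
      have hh : ∀ v w : Fin n → F, (∑ k, v k ^ q * w k) = B v w := fun v w => by
        rw [hBdef, hermB_apply, hermForm]
        exact Finset.sum_congr rfl fun k _ => mul_comm _ _
      fin_cases i <;> fin_cases j <;> simp [U, W, Matrix.mul_apply, hh, -hermB_apply, Bee, Bff, Bef, Bfe]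
    rw [hWU, show (1 : Matrix (Fin 2) (Fin 2) F) + (t - 1) • 1 = t • 1 by
      rw [sub_smul, one_smul, add_sub_cancel], det_smul, det_one, Fintype.card_fin, mul_one, pow_two]
  all_goals
    have hP : ∀ x, (1 + ((t - 1) • U) * W) *ᵥ x = x + (t - 1) • (B f x • e + B e x • f) := by
      intro x
      rw [add_mulVec, one_mulVec, Matrix.smul_mul, smul_mulVec]
      congr 2
      funext i
      rw [← mulVec_mulVec]
      simp [U, W, mulVec, dotProduct, Fin.sum_univ_two, hBdef, hermForm, Pi.add_apply]
      simp only [mul_comm]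
  · intro u v
    rw [hP, hP]
    show B (v + (t - 1) • (B f v • e + B e v • f)) (u + (t - 1) • (B f u • e + B e u • f)) = B v u
    simp only [map_add, map_smulₛₗ, LinearMap.add_apply, LinearMap.smul_apply, smul_eq_mul,
      RingHom.id_apply, map_sub, map_one, hS, Bee, Bef, Bfe, Bff, hσ t]
    linear_combination (B e u * B v f + B f u * B v e) * ht
  · intro x
    rw [hP, hP, map_add, map_smul, map_add, map_smul, map_smul, hNe, hNf, smul_zero, add_zero]
    rw [← hA f x, hNf, map_zero, LinearMap.zero_apply, zero_smul, zero_add, ← hA e x, hNe]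

/-- Involutions of `SU` in characteristic two with `a - 1`, `b - 1` of equal rank are conjugate. -/
theorem isConj_of_rank [CharP F 2] (hF : Fintype.card F = q ^ 2) (a b : ↥(SU n F q))
    (ha : a * a = 1) (hb : b * b = 1) (ha1 : a ≠ 1)
    (hr : (((a : SpecialLinearGroup (Fin n) F) : Matrix (Fin n) (Fin n) F) - 1).rank =
      (((b : SpecialLinearGroup (Fin n) F) : Matrix (Fin n) (Fin n) F) - 1).rank) :
    IsConj a b := by
  classical
  obtain ⟨σ, hσ, hσ2, hne⟩ := exists_qPow hF
  have hq := two_le_q hF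
  have key : ∀ x : ↥(SU n F q), x * x = 1 →
      let N := (((x : SpecialLinearGroup (Fin n) F) : Matrix (Fin n) (Fin n) F) - 1).mulVecLin
      (∀ y, N (N y) = 0) ∧ ∀ u v, hermForm n F q v (N u) = hermForm n F q (N v) u := by
    intro x hx
    set X := ((x : SpecialLinearGroup (Fin n) F) : Matrix (Fin n) (Fin n) F)
    have hXX : X * X = 1 := congrArg (fun z : ↥(SU n F q) =>
      ((z : SpecialLinearGroup (Fin n) F) : Matrix (Fin n) (Fin n) F)) hx
    have hform : ∀ u v, hermForm n F q (X *ᵥ u) (X *ᵥ v) = hermForm n F q u v := x.2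
    refine ⟨fun y => ?_, fun u v => ?_⟩
    · have h2 : (X - 1) * (X - 1) = 0 := by
        rw [sub_mul, mul_sub, hXX, one_mul, mul_one]
        ext i j
        simp only [Matrix.sub_apply, Matrix.zero_apply]
        linear_combination ((1 : Matrix (Fin n) (Fin n) F) i j - X i j) * CharTwo.two_eq_zero (R := F)
      rw [mulVecLin_apply, mulVecLin_apply, mulVec_mulVec, h2, zero_mulVec]
    · have h3 : hermForm n F q v (X *ᵥ u) = hermForm n F q (X *ᵥ v) u := by
        rw [← hform v, mulVec_mulVec, hXX, one_mulVec]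
      show hermB n q hσ _ _ = hermB n q hσ _ _
      simp only [mulVecLin_apply, sub_mulVec, one_mulVec, map_sub, LinearMap.sub_apply, hermB_apply]
      rw [h3]
  obtain ⟨hNa, hadA⟩ := key a ha
  obtain ⟨hNb, hadB⟩ := key b hb
  set A := ((a : SpecialLinearGroup (Fin n) F) : Matrix (Fin n) (Fin n) F) with hAdef
  set B' := ((b : SpecialLinearGroup (Fin n) F) : Matrix (Fin n) (Fin n) F) with hBdef
  obtain ⟨k, f, hk, hfl, hff, hfN, hfe⟩ := exists_frame hF _ hNa hadA
  obtain ⟨k', f', hk', hfl', hff', hfN', -⟩ := exists_frame hF _ hNb hadB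
  obtain rfl : k' = k := by rw [← hk, ← hk']; exact hr.symm
  obtain ⟨g, hg⟩ := exists_gu_of_gram hF hfl hfl' (fun i j => by rw [hff, hff'])
  set G := ((g : GL (Fin n) F) : Matrix (Fin n) (Fin n) F) with hGdef
  have hgN : ∀ x, G *ᵥ ((A - 1) *ᵥ x) = (B' - 1) *ᵥ (G *ᵥ x) := by
    intro x
    have h1 := hfN x
    have h2 := hfN' (G *ᵥ x)
    rw [mulVecLin_apply] at h1 h2
    rw [h1, h2, mulVec_sum]
    refine Finset.sum_congr rfl fun i _ => ?_
    rw [mulVec_smul, show G *ᵥ f i = f' i from hg i, ← hg i, guApply_form]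
  have hk0 : 0 < k' := by
    by_contra hc
    obtain rfl : k' = 0 := by omega
    refine ha1 (Subtype.ext (Subtype.ext ?_))
    show A = 1
    refine sub_eq_zero.1 (Matrix.ext_of_mulVec_single fun i => ?_)
    have h1 := hfN (Pi.single i 1)
    rw [mulVecLin_apply, Finset.univ_eq_empty, Finset.sum_empty] at h1
    rw [h1, zero_mulVec]
  obtain ⟨e, hee, hef, hNe⟩ := hfe ⟨0, hk0⟩
  have hd1 : G.det ^ (q + 1) = 1 := det_gu_pow (det_map_pow hF) (by omega) g
  have hd0 : G.det ≠ 0 := fun h => by rw [h, zero_pow (by omega)] at hd1; exact zero_ne_one hd1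
  obtain ⟨t, ht⟩ := FiniteField.isSquare_of_char_two (by rw [ringChar.eq F 2]) G.det⁻¹
  have htn : t * t ^ q = 1 := by
    rw [← pow_succ']
    refine CharTwo.sq_injective ?_
    show (t ^ (q + 1)) ^ 2 = 1 ^ 2
    rw [← pow_mul, mul_comm, pow_mul, sq, ← ht, inv_pow, hd1, inv_one, one_pow]
  obtain ⟨H, hHdet, hHform, hHN⟩ := exists_det_fix hF _ hNa hadA hee hef hNe htn
  have hdet : (G * H).det = 1 := by rw [det_mul, hHdet, ← ht, mul_inv_cancel₀ hd0]
  let K : ↥(SU n F q) := ⟨⟨G * H, hdet⟩, fun u v => by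
    show hermForm n F q ((G * H) *ᵥ u) ((G * H) *ᵥ v) = _
    rw [← mulVec_mulVec, ← mulVec_mulVec]
    exact (guApply_form g _ _).trans (hHform u v)⟩
  refine isConj_iff.mpr ⟨K, mul_inv_eq_iff_eq_mul.mpr (Subtype.ext (Subtype.ext ?_))⟩
  show G * H * A = B' * (G * H)
  have h1 : G * H * (A - 1) = (B' - 1) * (G * H) := by
    refine Matrix.ext_of_mulVec_single fun i => ?_
    simp only [← mulVec_mulVec]
    have := hHN (Pi.single i 1)
    rw [mulVecLin_apply, mulVecLin_apply] at this
    rw [this, hgN]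
  rw [mul_sub, sub_mul, mul_one, one_mul] at h1
  exact sub_left_inj.mp h1

end CfsgLib.Known.UnitaryInvolution
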